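import Mathlib

set_option autoImplicit false

namespace Groth.Agent.Helper18.FinEtSplit

open TensorProduct

universe u

/-- A finitely presented flat module becomes free after inverting one element outside a given
prime (phrased with base change). -/
lemma exists_free_away (A : Type u) (M : Type u) [CommRing A] [AddCommGroup M] [Module A M]
    [Module.FinitePresentation A M] [Module.Flat A M] (q : Ideal A) [q.IsPrime] :
    ∃ a : A, a ∉ q ∧ Module.Free (Localization.Away a) (Localization.Away a ⊗[A] M) := by
  haveI : Module.Finite A M := inferInstance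
  haveI : Module.Free (Localization.AtPrime q) (LocalizedModule q.primeCompl M) :=
    Module.free_of_flat_of_isLocalRing
  obtain ⟨r, hr, hfree, -⟩ := Module.FinitePresentation.exists_free_localizedModule_powers
    q.primeCompl (LocalizedModule.mkLinearMap q.primeCompl M) (Localization.AtPrime q)
  refine ⟨r, hr, ?_⟩
  have hbc : IsBaseChange (Localization.Away r)
      (LocalizedModule.mkLinearMap (Submonoid.powers r) M) :=
    IsLocalizedModule.isBaseChange (Submonoid.powers r) (Localization.Away r) _
  haveI := hfree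
  exact Module.Free.of_equiv hbc.equiv.symm

lemma away_prime (A : Type u) [CommRing A] (q : Ideal A) [q.IsPrime] (a : A) (ha : a ∉ q) :
    (q.map (algebraMap A (Localization.Away a))).IsPrime ∧
      (q.map (algebraMap A (Localization.Away a))).LiesOver q := by
  have hd : Disjoint (Submonoid.powers a : Set A) (q : Set A) :=
    (Ideal.disjoint_powers_iff_notMem_of_isPrime _).mpr ha
  exact ⟨IsLocalization.isPrime_of_isPrime_disjoint (Submonoid.powers a) _ _ ‹_› hd,
    IsLocalization.liesOver_map_of_isPrime_disjoint (Submonoid.powers a) _ hd⟩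

lemma away_quot {T : Type*} [CommRing T] {t : T} (ht : IsIdempotentElem t) :
    IsLocalization.Away (1 - t) (T ⧸ Ideal.span {t}) := by
  refine IsLocalization.away_of_isIdempotentElem ht.one_sub ?_ Ideal.Quotient.mk_surjective
  rw [sub_sub_cancel]
  exact Ideal.mk_ker

lemma algEquiv_of_subsingleton (R B C : Type*) [CommSemiring R] [Semiring B] [Semiring C]
    [Algebra R B] [Algebra R C] [Subsingleton B] [Subsingleton C] : Nonempty (B ≃ₐ[R] C) :=
  ⟨{ toFun := fun _ => 0
     invFun := fun _ => 0
     left_inv := fun _ => Subsingleton.elim _ _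
     right_inv := fun _ => Subsingleton.elim _ _
     map_mul' := fun _ _ => Subsingleton.elim _ _
     map_add' := fun _ _ => Subsingleton.elim _ _
     commutes' := fun _ => Subsingleton.elim _ _ }⟩

/-- The diagonal decomposition `A ⊗ A ≃ A × A''` for a finite étale algebra. -/
theorem diag (R A : Type u) [CommRing R] [CommRing A] [Algebra R A] [Algebra.Etale R A]
    [Module.Finite R A] :
    ∃ (A'' : Type u) (_ : CommRing A'') (_ : Algebra A A'') (_ : Algebra.Etale A A'')
      (_ : Module.Finite A A''), Nonempty (A ⊗[R] A ≃ₐ[A] A × A'') := by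
  classical
  let T := A ⊗[R] A
  let t : T := Algebra.FormallyUnramified.elem R A
  have ht1 : ∀ s : A, ((1 : A) ⊗ₜ[R] s - s ⊗ₜ[R] (1 : A)) * t = 0 := fun s =>
    Algebra.FormallyUnramified.one_tmul_sub_tmul_one_mul_elem s
  have ht2 : Algebra.TensorProduct.lmul' R t = 1 := Algebra.FormallyUnramified.lmul_elem
  have hker : ∀ x : T, Algebra.TensorProduct.lmul' R x = 0 → x * t = 0 := by
    intro x hx
    have hx' : x ∈ Ideal.span (Set.range fun s : A => (1 : A) ⊗ₜ[R] s - s ⊗ₜ[R] (1 : A)) := by
      rw [KaehlerDifferential.span_range_eq_ideal]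
      exact hx
    refine Submodule.span_induction (p := fun x _ => x * t = 0) ?_ ?_ ?_ ?_ hx'
    · rintro _ ⟨s, rfl⟩
      exact ht1 s
    · simp
    · intro x y _ _ hx hy
      rw [add_mul, hx, hy, add_zero]
    · intro a x _ hx
      rw [smul_eq_mul, mul_assoc, hx, mul_zero]
  have hidem : IsIdempotentElem t := by
    have h : (t - 1) * t = 0 := hker _ (by rw [map_sub, ht2, map_one, sub_self])
    show t * t = t
    linear_combination h
  let I : Ideal T := Ideal.span {t}
  let A'' := T ⧸ I
  haveI : IsLocalization.Away (1 - t) A'' := away_quot hidem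
  haveI : Algebra.Etale T A'' := Algebra.Etale.of_isLocalizationAway (1 - t)
  haveI : Algebra.Etale A A'' := Algebra.Etale.comp A T A''
  haveI : Module.Finite A T := inferInstance
  haveI : Module.Finite A A'' :=
    Module.Finite.of_surjective (Ideal.Quotient.mkₐ A I).toLinearMap
      (Ideal.Quotient.mkₐ_surjective A I)
  refine ⟨A'', inferInstance, inferInstance, inferInstance, inferInstance, ⟨?_⟩⟩
  let μ : T →ₐ[A] A := Algebra.TensorProduct.lmul'' R
  have hμ : ∀ x, μ x = Algebra.TensorProduct.lmul' R x := fun x => rfl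
  let π : T →ₐ[A] A'' := Ideal.Quotient.mkₐ A I
  have hπt : π t = 0 := Ideal.Quotient.eq_zero_iff_mem.mpr (Ideal.mem_span_singleton_self t)
  refine AlgEquiv.ofBijective (μ.prod π) ⟨?_, ?_⟩
  · rw [injective_iff_map_eq_zero]
    intro x hx
    have h1 : μ x = 0 := congrArg Prod.fst hx
    have h2 : π x = 0 := congrArg Prod.snd hx
    have h3 : x * t = 0 := hker x (by rw [← hμ]; exact h1)
    have h4 : x ∈ I := Ideal.Quotient.eq_zero_iff_mem.mp h2
    obtain ⟨y, rfl⟩ := Ideal.mem_span_singleton'.mp h4
    rw [mul_assoc, hidem.eq] at h3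
    exact h3
  · rintro ⟨a, b⟩
    obtain ⟨y, rfl⟩ := Ideal.Quotient.mk_surjective b
    refine ⟨(a ⊗ₜ[R] 1) * t + y * (1 - t), ?_⟩
    refine Prod.ext ?_ ?_
    · show μ _ = a
      rw [hμ, map_add, map_mul, map_mul, map_sub, ht2, map_one, sub_self, mul_zero, add_zero,
        mul_one, Algebra.TensorProduct.lmul'_apply_tmul, mul_one]
    · show π _ = _
      rw [map_add, map_mul, map_mul, map_sub, hπt, mul_zero, zero_add, map_one, sub_zero,
        mul_one]
      rfl

/-- Finite étale free algebras split after an étale extension. -/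
theorem split_free (n : ℕ) : ∀ (R A : Type u) [CommRing R] [CommRing A] [Algebra R A]
    [Algebra.Etale R A] [Module.Finite R A] [Module.Free R A] (_ : Module.finrank R A = n)
    (p : Ideal R) [p.IsPrime],
    ∃ (R' : Type u) (_ : CommRing R') (_ : Algebra R R') (_ : Algebra.Etale R R') (P : Ideal R')
      (_ : P.IsPrime) (_ : P.LiesOver p) (ι : Type) (_ : Finite ι),
      Nonempty (R' ⊗[R] A ≃ₐ[R'] (ι → R')) := by
  induction n with
  | zero =>
    intro R A _ _ _ _ _ _ hn p _
    haveI : Nontrivial R := by
      by_contra h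
      rw [not_nontrivial_iff_subsingleton] at h
      exact (‹p.IsPrime›).ne_top
        ((Ideal.eq_top_iff_one p).mpr (by rw [Subsingleton.elim (1 : R) 0]; exact p.zero_mem))
    haveI : Subsingleton A := (Module.finrank_eq_zero_iff_of_free R A).mp hn
    haveI : Subsingleton (R ⊗[R] A) := (Algebra.TensorProduct.lid R A).toEquiv.subsingleton
    exact ⟨R, inferInstance, inferInstance, inferInstance, p, inferInstance, ⟨rfl⟩, PEmpty,
      inferInstance, algEquiv_of_subsingleton R _ _⟩
  | succ n ih =>
    intro R A _ _ _ _ _ _ hn p _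
    haveI : Nontrivial R := by
      by_contra h
      rw [not_nontrivial_iff_subsingleton] at h
      exact (‹p.IsPrime›).ne_top
        ((Ideal.eq_top_iff_one p).mpr (by rw [Subsingleton.elim (1 : R) 0]; exact p.zero_mem))
    haveI : Nontrivial A := by
      by_contra h
      rw [not_nontrivial_iff_subsingleton] at h
      have := Module.finrank_zero_of_subsingleton (R := R) (M := A)
      omega
    haveI : Module.FaithfullyFlat R A := inferInstance
    obtain ⟨⟨q, hqp⟩, hq⟩ :=
      PrimeSpectrum.comap_surjective_of_faithfullyFlat (B := A) ⟨p, inferInstance⟩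
    haveI := hqp
    have hq' : q.comap (algebraMap R A) = p := congrArg PrimeSpectrum.asIdeal hq
    haveI : q.LiesOver p := ⟨hq'.symm⟩
    obtain ⟨A'', _, _, _, _, ⟨eD⟩⟩ := diag R A
    haveI : Module.FinitePresentation A A'' :=
      Module.FinitePresentation.of_finite_of_finitePresentation A A''
    haveI : Module.Flat A A'' := inferInstance
    obtain ⟨a, haq, hfree⟩ := exists_free_away A A'' q
    obtain ⟨hqa1, hqa2⟩ := away_prime A q a haq
    let Aa := Localization.Away a
    let B := Aa ⊗[A] A''
    let qa : Ideal Aa := q.map (algebraMap A Aa)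
    haveI : qa.IsPrime := hqa1
    haveI : qa.LiesOver q := hqa2
    haveI : Module.Free Aa B := hfree
    haveI : Nontrivial Aa :=
      ⟨⟨0, 1, fun h => hqa1.ne_top ((Ideal.eq_top_iff_one _).mpr (h ▸ qa.zero_mem))⟩⟩
    have hrank : Module.finrank Aa B = n := by
      let e1 : Aa ⊗[A] (A ⊗[R] A) ≃ₐ[Aa] Aa × B :=
        ((Algebra.TensorProduct.congr (AlgEquiv.refl : Aa ≃ₐ[Aa] Aa) eD).trans
          (Algebra.TensorProduct.prodRight A Aa Aa A A'')).trans
          (AlgEquiv.prodCongr (Algebra.TensorProduct.rid A Aa Aa) AlgEquiv.refl)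
      have h1 : Module.finrank Aa (Aa ⊗[A] (A ⊗[R] A)) = n + 1 := by
        rw [Module.finrank_baseChange, Module.finrank_baseChange, hn]
      have h2 := e1.toLinearEquiv.finrank_eq
      rw [h1, Module.finrank_prod, Module.finrank_self] at h2
      omega
    obtain ⟨R', _, _, _, P, _, _, ι, _, ⟨e⟩⟩ := ih Aa B hrank qa
    letI : Algebra A R' := ((algebraMap Aa R').comp (algebraMap A Aa)).toAlgebra
    letI : Algebra R R' := ((algebraMap A R').comp (algebraMap R A)).toAlgebra
    haveI : IsScalarTower A Aa R' := .of_algebraMap_eq' rfl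
    haveI : IsScalarTower R A R' := .of_algebraMap_eq' rfl
    haveI : Algebra.Etale A R' := Algebra.Etale.comp A Aa R'
    haveI : Algebra.Etale R R' := Algebra.Etale.comp R A R'
    haveI : P.LiesOver q := .trans P qa q
    haveI : P.LiesOver p := .trans P q p
    refine ⟨R', inferInstance, inferInstance, inferInstance, P, inferInstance, inferInstance,
      Unit ⊕ ι, inferInstance, ⟨?_⟩⟩
    exact
      ((Algebra.TensorProduct.cancelBaseChange R A R' R' A).symm).trans <|
      (Algebra.TensorProduct.congr (AlgEquiv.refl : R' ≃ₐ[R'] R') eD).trans <|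
      (Algebra.TensorProduct.prodRight A R' R' A A'').trans <|
      (AlgEquiv.prodCongr (Algebra.TensorProduct.rid A R' R')
          ((Algebra.TensorProduct.cancelBaseChange A Aa R' R' A'').symm.trans e)).trans <|
      (AlgEquiv.prodCongr (AlgEquiv.funUnique R' Unit R').symm AlgEquiv.refl).trans
      (AlgEquiv.sumArrowEquivProdArrow Unit ι R' R').symm

/-- Finite étale algebras split after an étale extension, at any prescribed prime. -/
theorem split (R A : Type u) [CommRing R] [CommRing A] [Algebra R A]
    [Algebra.Etale R A] [Module.Finite R A] (p : Ideal R) [p.IsPrime] :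
    ∃ (R' : Type u) (_ : CommRing R') (_ : Algebra R R') (_ : Algebra.Etale R R') (P : Ideal R')
      (_ : P.IsPrime) (_ : P.LiesOver p) (n : ℕ), Nonempty (R' ⊗[R] A ≃ₐ[R'] (Fin n → R')) := by
  haveI : Module.FinitePresentation R A :=
    Module.FinitePresentation.of_finite_of_finitePresentation R A
  haveI : Module.Flat R A := inferInstance
  obtain ⟨a, hap, hfree⟩ := exists_free_away R A p
  obtain ⟨hpa1, hpa2⟩ := away_prime R p a hap
  let Ra := Localization.Away a
  let B := Ra ⊗[R] A
  let pa : Ideal Ra := p.map (algebraMap R Ra)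
  haveI : pa.IsPrime := hpa1
  haveI : pa.LiesOver p := hpa2
  haveI : Module.Free Ra B := hfree
  obtain ⟨R', _, _, _, P, _, _, ι, _, ⟨e⟩⟩ := split_free (Module.finrank Ra B) Ra B rfl pa
  letI : Algebra R R' := ((algebraMap Ra R').comp (algebraMap R Ra)).toAlgebra
  haveI : IsScalarTower R Ra R' := .of_algebraMap_eq' rfl
  haveI : Algebra.Etale R R' := Algebra.Etale.comp R Ra R'
  haveI : P.LiesOver p := .trans P pa p
  refine ⟨R', inferInstance, inferInstance, inferInstance, P, inferInstance, inferInstance,
    Nat.card ι, ⟨?_⟩⟩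
  exact ((Algebra.TensorProduct.cancelBaseChange R Ra R' R' A).symm.trans e).trans
    (AlgEquiv.piCongrLeft R' (fun _ : Fin (Nat.card ι) => R') (Finite.equivFin ι))

/-- Variant with the index type lifted to the universe of the rings. -/
theorem split' (R A : Type u) [CommRing R] [CommRing A] [Algebra R A]
    [Algebra.Etale R A] [Module.Finite R A] (p : Ideal R) [p.IsPrime] :
    ∃ (R' : Type u) (_ : CommRing R') (_ : Algebra R R') (_ : Algebra.Etale R R') (P : Ideal R')
      (_ : P.IsPrime) (_ : P.LiesOver p) (n : ℕ),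
      Nonempty (R' ⊗[R] A ≃ₐ[R'] (ULift.{u} (Fin n) → R')) := by
  obtain ⟨R', i1, i2, i3, P, i4, i5, n, ⟨e⟩⟩ := split R A p
  exact ⟨R', i1, i2, i3, P, i4, i5, n,
    ⟨e.trans (AlgEquiv.piCongrLeft R' (fun _ : ULift.{u} (Fin n) => R') Equiv.ulift.symm)⟩⟩

end Groth.Agent.Helper18.FinEtSplit
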