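import Mathlib

set_option autoImplicit false
universe u

namespace Groth.Agent.Helper18

open LinearMap Submodule

variable {R : Type u} [CommRing R] (I : Ideal R)
variable {K M N : Type u} [AddCommGroup K] [Module R K] [AddCommGroup M] [Module R M]
  [AddCommGroup N] [Module R N]

/-- Injectivity on completions under an Artin-Rees type condition. -/
theorem adicCompletion_map_injective_of_AR (i : K →ₗ[R] M) (hi : Function.Injective i) (k : ℕ)
    (hAR : ∀ n, (I ^ (n + k) • ⊤ : Submodule R M) ⊓ LinearMap.range i ≤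
      Submodule.map i (I ^ n • ⊤ : Submodule R K)) :
    Function.Injective (AdicCompletion.map I i) := by
  rw [← LinearMap.ker_eq_bot, LinearMap.ker_eq_bot']
  intro x
  apply AdicCompletion.induction_on I K x (fun a ↦ ?_)
  intro hx
  refine AdicCompletion.mk_zero_of _ _ _ ⟨0, fun n _ ↦ ⟨n + k, by omega, n, le_rfl, ?_⟩⟩
  have h1 : i (a (n + k)) ∈ (I ^ (n + k) • ⊤ : Submodule R M) := by
    simpa using congrArg (fun x ↦ x.val (n + k)) hx
  obtain ⟨y, hy, hyi⟩ := hAR n ⟨h1, ⟨a (n + k), rfl⟩⟩
  rw [← hi hyi]
  exact hy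

/-- Exactness in the middle on completions under an Artin-Rees type condition. -/
theorem adicCompletion_map_exact_of_AR (i : K →ₗ[R] M) (g : M →ₗ[R] N)
    (hi : Function.Injective i) (hg : Function.Surjective g) (hig : Function.Exact i g) (k : ℕ)
    (hAR : ∀ n, (I ^ (n + k) • ⊤ : Submodule R M) ⊓ LinearMap.range i ≤
      Submodule.map i (I ^ n • ⊤ : Submodule R K)) :
    Function.Exact (AdicCompletion.map I i) (AdicCompletion.map I g) := by
  refine LinearMap.exact_of_comp_eq_zero_of_ker_le_range ?_ (fun y ↦ ?_)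
  · rw [AdicCompletion.map_comp, hig.linearMap_comp_eq_zero, AdicCompletion.map_zero]
  · apply AdicCompletion.induction_on I M y (fun b ↦ ?_)
    intro hz
    have hb (n : ℕ) : g (b n) ∈ (I ^ n • ⊤ : Submodule R N) := by
      simpa using congrArg (fun x ↦ x.val n) hz
    -- choose d n ∈ I^n M with g (b n) = g (d n)
    have h1 (n : ℕ) : ∃ d ∈ (I ^ n • ⊤ : Submodule R M), g d = g (b n) := by
      have : g (b n) ∈ Submodule.map g (I ^ n • ⊤ : Submodule R M) := by
        rw [Submodule.map_smul'', Submodule.map_top, LinearMap.range_eq_top.mpr hg]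
        exact hb n
      obtain ⟨d, hd, hgd⟩ := this
      exact ⟨d, hd, hgd⟩
    choose d hd hgd using h1
    have h2 (n : ℕ) : ∃ y : K, i y = b n - d n := by
      apply (hig (b n - d n)).mp
      rw [map_sub, hgd, sub_self]
    choose y hy using h2
    -- y (n + k) is Cauchy
    have hcauchy : ∀ n, y (n + k) ≡ y (n + 1 + k) [SMOD (I ^ n • ⊤ : Submodule R K)] := by
      intro n
      rw [SModEq.sub_mem]
      have hmem : i (y (n + k) - y (n + 1 + k)) ∈ (I ^ (n + k) • ⊤ : Submodule R M) := by
        rw [map_sub, hy, hy]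
        have e : b (n + k) - d (n + k) - (b (n + 1 + k) - d (n + 1 + k)) =
            (b (n + k) - b (n + 1 + k)) - d (n + k) + d (n + 1 + k) := by abel
        rw [e]
        refine Submodule.add_mem _ (Submodule.sub_mem _ ?_ (hd _)) ?_
        · rw [← SModEq.sub_mem]
          exact b.property (by omega)
        · exact (Submodule.smul_mono_left (Ideal.pow_le_pow_right (by omega))) (hd _)
      obtain ⟨z, hz, hzi⟩ := hAR n ⟨hmem, ⟨_, rfl⟩⟩
      rw [← hi hzi]
      exact hz
    refine ⟨AdicCompletion.mk I K (AdicCompletion.AdicCauchySequence.mk I K (fun n ↦ y (n + k)) hcauchy), ?_⟩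
    ext n
    suffices h : Submodule.Quotient.mk (p := (I ^ n • ⊤ : Submodule R M)) (i (y (n + k))) =
          Submodule.Quotient.mk (p := (I ^ n • ⊤ : Submodule R M)) (b (n + k)) by
      simp [h, AdicCompletion.AdicCauchySequence.mk_eq_mk (show n ≤ n + k by omega)]
    rw [Submodule.Quotient.eq, hy]
    have : b (n + k) - d (n + k) - b (n + k) = - d (n + k) := by abel
    rw [this]
    exact Submodule.neg_mem _
      ((Submodule.smul_mono_left (Ideal.pow_le_pow_right (by omega))) (hd _))

end Groth.Agent.Helper18
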