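import Groth.Agent.Lib.Helper18.StalkSets
import Groth.Prelude.Def_W4c5etcohweilstudentAS
import Mathlib.CategoryTheory.Sites.EpiMono
import Mathlib.RingTheory.Etale.StandardEtale
import Mathlib.RingTheory.RingHom.Etale
import Mathlib.FieldTheory.IsAlgClosed.AlgebraicClosure

/-!
# The Artin–Schreier map is an epimorphism of étale sheaves
-/

set_option autoImplicit false
open CategoryTheory CategoryTheory.Limits AlgebraicGeometry Opposite
universe u

namespace Groth.Agent.Helper18.ArtinSchreier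

open Polynomial

/-- The Artin–Schreier covering of a ring of characteristic `p`. -/
theorem exists_cover_ring (R : Type u) [CommRing R] (p : ℕ) (hp : p.Prime) (h0 : (p : R) = 0)
    (b : R) :
    ∃ (S : Type u) (_ : CommRing S) (_ : Algebra R S), Algebra.Etale R S ∧
      (∀ 𝔭 : PrimeSpectrum R, ∃ 𝔮 : PrimeSpectrum S, 𝔮.comap (algebraMap R S) = 𝔭) ∧
      ∃ s : S, s ^ p - s = algebraMap R S b := by
  have hdeg : ∀ (K : Type u) [CommRing K] [Nontrivial K] (c : K),
      degree (X + C c : K[X]) < (p : WithBot ℕ) := by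
    intro K _ _ c
    rw [degree_X_add_C]
    exact_mod_cast hp.one_lt
  rcases subsingleton_or_nontrivial R with hR | hR
  · refine ⟨R, inferInstance, inferInstance, inferInstance, fun 𝔭 => ⟨𝔭, ?_⟩, 0, Subsingleton.elim _ _⟩
    exact Subsingleton.elim _ _
  let P : StandardEtalePair R :=
    { f := X ^ p - (X + C b)
      monic_f := monic_X_pow_sub (hdeg R b)
      g := 1
      cond := ⟨-1, 0, 1, by
        have hd : derivative (X ^ p : R[X]) = 0 := by
          rw [derivative_X_pow, h0, map_zero, zero_mul]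
        simp [hd]⟩ }
  refine ⟨P.Ring, inferInstance, inferInstance, inferInstance, ?_, P.X, ?_⟩
  · intro 𝔭
    let K := AlgebraicClosure 𝔭.asIdeal.ResidueField
    have hd : degree (X ^ p - (X + C (algebraMap R K b)) : K[X]) ≠ 0 := by
      rw [degree_sub_eq_left_of_degree_lt, degree_X_pow]
      · exact_mod_cast hp.ne_zero
      · rw [degree_X_pow]
        exact hdeg K _
    obtain ⟨α, hα⟩ := IsAlgClosed.exists_root _ hd
    have hmap : P.HasMap α := by
      refine ⟨?_, ?_⟩
      · simpa [P, IsRoot.def] using hα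
      · simp [P]
    let ψ : P.Ring →ₐ[R] K := P.lift α hmap
    refine ⟨⟨RingHom.ker ψ.toRingHom, RingHom.ker_isPrime _⟩, ?_⟩
    ext r
    change ψ (algebraMap R P.Ring r) = 0 ↔ r ∈ 𝔭.asIdeal
    rw [ψ.commutes, IsScalarTower.algebraMap_apply R 𝔭.asIdeal.ResidueField K,
      map_eq_zero_iff _ (algebraMap 𝔭.asIdeal.ResidueField K).injective,
      ← RingHom.mem_ker, Ideal.ker_algebraMap_residueField]
  · have h := P.hasMap_X.1
    have h2 : P.X ^ p - (P.X + algebraMap R P.Ring b) = 0 := by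
      simpa [P] using h
    linear_combination h2

theorem exists_affine_nbhd (T : Scheme.{u}) (x : T) :
    ∃ (R : CommRingCat.{u}) (ι : Spec R ⟶ T), IsOpenImmersion ι ∧ ∃ x₀ : Spec R, ι x₀ = x := by
  obtain ⟨x₀, hx₀⟩ := T.affineCover.covers x
  exact ⟨_, T.affineCover.f (T.affineCover.idx x), T.affineCover.map_prop _, x₀, hx₀⟩

theorem isLocallySurjective (p : ℕ) (hp : p.Prime) {X : Scheme.{u}} (h0 : (p : Γ(X, ⊤)) = 0) :
    Sheaf.IsLocallySurjective (W4c5etcohweilstudent.artinSchreierEndo X p hp h0) := by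
  refine ⟨fun {U} t => ?_⟩
  refine Groth.Agent.Helper18.StalkSets.mem_smallEtaleTopology _ ?_
  intro x
  obtain ⟨R, ι, hι, x₀, hx₀⟩ := exists_affine_nbhd U.left x
  obtain ⟨t₀, ht₀⟩ : ∃ t₀ : Γ(U.left, ⊤), t₀ = ULift.down t := ⟨_, rfl⟩
  let b : R := (Scheme.ΓSpecIso R).hom.hom (ι.appTop.hom t₀)
  have h0R : (p : R) = 0 := by
    have h1 := W4c5etcohweilstudent.natCast_eq_zero_etale p h0 U
    have h2 := congrArg (fun z => (Scheme.ΓSpecIso R).hom.hom (ι.appTop.hom z)) h1
    simpa using h2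
  obtain ⟨S, _, _, hEt, hsurj, s, hs⟩ := exists_cover_ring R p hp h0R b
  let φ : R ⟶ CommRingCat.of S := CommRingCat.ofHom (algebraMap R S)
  haveI : Etale (Spec.map φ) := by
    rw [HasRingHomProperty.Spec_iff (P := @Etale)]
    exact RingHom.etale_algebraMap.2 hEt
  let V : X.Etale := Scheme.Etale.mk (Spec.map φ ≫ ι ≫ U.hom)
  let g : V ⟶ U := MorphismProperty.Over.homMk (Spec.map φ ≫ ι) (Category.assoc _ _ _) trivial
  obtain ⟨𝔮, h𝔮⟩ := hsurj x₀
  refine ⟨V, g, 𝔮, ?_, ?_⟩
  · refine ⟨ULift.up ((Scheme.ΓSpecIso (CommRingCat.of S)).inv.hom s), ?_⟩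
    apply ULift.ext
    change ((Scheme.ΓSpecIso (CommRingCat.of S)).inv.hom s) ^ p -
      (Scheme.ΓSpecIso (CommRingCat.of S)).inv.hom s = (Spec.map φ ≫ ι).appTop.hom (ULift.down t)
    rw [← ht₀, Scheme.Hom.comp_appTop, CommRingCat.comp_apply]
    have hb : ι.appTop.hom t₀ = (Scheme.ΓSpecIso R).inv.hom b := by
      change _ = ((Scheme.ΓSpecIso R).hom ≫ (Scheme.ΓSpecIso R).inv).hom (ι.appTop.hom t₀)
      rw [Iso.hom_inv_id]
      rfl
    rw [hb]
    have hn := congrArg (fun k => k.hom b) (Scheme.ΓSpecIso_inv_naturality φ)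
    simp only [CommRingCat.comp_apply] at hn
    change _ = (Spec.map φ).appTop.hom ((Scheme.ΓSpecIso R).inv.hom b)
    rw [← hn]
    change _ = (Scheme.ΓSpecIso (CommRingCat.of S)).inv.hom (algebraMap R S b)
    rw [← hs, map_sub, map_pow]
  · change ι ((Spec.map φ) 𝔮) = x
    have : (Spec.map φ) 𝔮 = x₀ := h𝔮
    rw [this, hx₀]

theorem epi (p : ℕ) (hp : p.Prime) {X : Scheme.{u}} (h0 : (p : Γ(X, ⊤)) = 0) :
    Epi (W4c5etcohweilstudent.artinSchreierEndo X p hp h0) := by
  haveI := isLocallySurjective p hp h0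
  infer_instance

end Groth.Agent.Helper18.ArtinSchreier
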