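import Groth.Agent.Lib.Helper18.StalkPull
import Groth.Prelude.Def_SGA4b

/-!
# Stalk arguments for étale sheaves of sets
-/

set_option autoImplicit false
open CategoryTheory CategoryTheory.Limits AlgebraicGeometry Opposite
universe u

namespace Groth.Agent.Helper18.StalkSets

open Groth.Agent.Helper18.StalkTest Groth.Agent.Helper18.StalkPull

variable {X : Scheme.{u}}

/-- A sieve containing an étale neighbourhood of every point is covering. -/
theorem mem_smallEtaleTopology {U : X.Etale} (R : Sieve U)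
    (hR : ∀ x : U.left, ∃ (Y : X.Etale) (f : Y ⟶ U) (y : Y.left), R f ∧ f.left y = x) :
    R ∈ X.smallEtaleTopology U := by
  have eX : X.smallEtaleTopology =
      (X.smallPretopology (P := EtCoh.etaleMP) (Q := EtCoh.etaleMP)).toGrothendieck :=
    Scheme.smallGrothendieckTopology_eq_toGrothendieck_smallPretopology X le_rfl
  rw [eX]
  refine (Scheme.mem_toGrothendieck_smallPretopology U _).2 ?_
  intro x
  obtain ⟨Y, f, y, hf, hy⟩ := hR x
  exact ⟨Y, f, y, hf, inferInstanceAs (Etale f.left), hy⟩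

/-- Sections of a sheaf of sets which agree étale-locally are equal. -/
theorem eq_of_locally_eq (F : EtDesc.Sh X) (U : X.Etale) (s t : F.obj.obj (op U))
    (h : ∀ x : U.left, ∃ (W : X.Etale) (g : W ⟶ U) (w : W.left),
      g.left w = x ∧ F.obj.map g.op s = F.obj.map g.op t) : s = t := by
  have hsep : Presieve.IsSeparated X.smallEtaleTopology F.obj :=
    Presieve.IsSheaf.isSeparated ((isSheaf_iff_isSheaf_of_type _ _).1 F.property)
  let R : Sieve U :=
    { arrows := fun W g => F.obj.map g.op s = F.obj.map g.op t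
      downward_closed := by
        intro Y Z g hg k
        change F.obj.map (k ≫ g).op s = F.obj.map (k ≫ g).op t
        rw [op_comp, Functor.map_comp]
        exact congrArg (F.obj.map k.op) hg }
  have hmem : R ∈ X.smallEtaleTopology U := by
    refine mem_smallEtaleTopology R ?_
    intro x
    obtain ⟨W, g, w, hw, hg⟩ := h x
    exact ⟨W, g, w, hg, hw⟩
  exact (hsep _ hmem).ext (fun _ _ hf => hf)

/-- Sections with the same germ at a geometric point agree on an étale neighbourhood. -/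
theorem locally_eq_of_germ_eq {Ω : Type u} [Field Ω] [IsSepClosed Ω]
    (ξ : Spec (CommRingCat.of Ω) ⟶ X) (P : X.Etaleᵒᵖ ⥤ Type (u + 1))
    (U : X.Etale) (ul : Spec (CommRingCat.of Ω) ⟶ U.left) (hul : ul ≫ U.hom = ξ)
    (s t : P.obj (op U))
    (h : (Scheme.pointSmallEtale ξ).toPresheafFiber U (Over.homMk ul hul) P s =
      (Scheme.pointSmallEtale ξ).toPresheafFiber U (Over.homMk ul hul) P t) :
    ∃ (W : X.Etale) (g : W ⟶ U) (w : W.left),
      g.left w = ul default ∧ P.map g.op s = P.map g.op t := by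
  obtain ⟨Y, f, y, hy, hf⟩ :=
    ((Scheme.pointSmallEtale ξ).toPresheafFiber_eq_iff' (P := P) U (Over.homMk ul hul) s t).mp h
  obtain ⟨yl, hyl⟩ : ∃ yl : Spec (CommRingCat.of Ω) ⟶ Y.left, yl = y.left := ⟨y.left, rfl⟩
  refine ⟨Y, f, yl default, ?_, hf⟩
  have h1 : yl ≫ f.left = ul := by
    rw [hyl]
    exact congrArg Over.Hom.left hy
  rw [← Scheme.Hom.comp_apply, h1]

/-- A geometric point of `X'` together with a lift of its image to a given point of an étale
`X`-scheme. -/
theorem exists_geom_point_over {X' : Scheme.{u}} (f : X' ⟶ X) [Surjective f] (U : X.Etale)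
    (x' : U.left) :
    ∃ (Ω : Type u) (_ : Field Ω) (_ : IsSepClosed Ω) (ξ : Spec (CommRingCat.of Ω) ⟶ X')
      (ul : Spec (CommRingCat.of Ω) ⟶ U.left), ul ≫ U.hom = ξ ≫ f ∧ ul default = x' := by
  obtain ⟨y, hy⟩ := f.surjective (U.hom x')
  obtain ⟨z, hz1, hz2⟩ := Scheme.Pullback.exists_preimage_pullback (f := U.hom) (g := f) x' y
    hy.symm
  obtain ⟨Ω, hΩ1, hΩ2, zl, hzl⟩ := exists_geom_point (pullback U.hom f) z
  refine ⟨Ω, hΩ1, hΩ2, zl ≫ pullback.snd U.hom f, zl ≫ pullback.fst U.hom f, ?_, ?_⟩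
  · rw [Category.assoc, Category.assoc, pullback.condition]
  · rw [Scheme.Hom.comp_apply, hzl, hz1]

section Main

variable {X' : Scheme.{u}} (f : X' ⟶ X)

/-- The stalk map of `a` at `ξ ≫ f` is conjugate to the stalk map of `f^* a` at `ξ`. -/
theorem stalk_map_eq {Ω : Type u} [Field Ω] [IsSepClosed Ω] (ξ : Spec (CommRingCat.of Ω) ⟶ X')
    {F G : EtDesc.Sh X} (a : F ⟶ G) :
    (Scheme.pointSmallEtale (ξ ≫ f)).sheafFiber.map a =
      (stalkPullNatIso f ξ (Type (u + 1))).inv.app F ≫
        (Scheme.pointSmallEtale ξ).sheafFiber.map ((EtDesc.pullSh f).map a) ≫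
          (stalkPullNatIso f ξ (Type (u + 1))).hom.app G := by
  have h := (stalkPullNatIso f ξ (Type (u + 1))).hom.naturality a
  have h2 : (stalkPullNatIso f ξ (Type (u + 1))).inv.app F ≫
      (stalkPullNatIso f ξ (Type (u + 1))).hom.app F = 𝟙 _ :=
    (stalkPullNatIso f ξ (Type (u + 1))).inv_hom_id_app F
  calc (Scheme.pointSmallEtale (ξ ≫ f)).sheafFiber.map a
      = ((stalkPullNatIso f ξ (Type (u + 1))).inv.app F ≫
          (stalkPullNatIso f ξ (Type (u + 1))).hom.app F) ≫
            (Scheme.pointSmallEtale (ξ ≫ f)).sheafFiber.map a := by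
        rw [h2, Category.id_comp]
    _ = _ := by
        rw [Category.assoc, ← h]
        rfl

/-- Sectionwise consequence of equal stalk maps. -/
theorem germ_map {Ω : Type u} [Field Ω] [IsSepClosed Ω] (η : Spec (CommRingCat.of Ω) ⟶ X)
    {F G : EtDesc.Sh X} (a : F ⟶ G) (U : X.Etale)
    (u : (Scheme.pointSmallEtale η).fiber.obj U) (s : F.obj.obj (op U)) :
    (Scheme.pointSmallEtale η).sheafFiber.map a
      ((Scheme.pointSmallEtale η).toPresheafFiber U u F.obj s) =
      (Scheme.pointSmallEtale η).toPresheafFiber U u G.obj (a.hom.app (op U) s) :=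
  (Scheme.pointSmallEtale η).toPresheafFiber_naturality_apply a.hom U u s

theorem faithful_pullSh [Surjective f] : (EtDesc.pullSh f).Faithful := by
  constructor
  intro F G a b hab
  have key : ∀ (U : X.Etale) (s : F.obj.obj (op U)),
      a.hom.app (op U) s = b.hom.app (op U) s := by
    intro U s
    apply eq_of_locally_eq G U
    intro x'
    obtain ⟨Ω, _, _, ξ, ul, hul, hx⟩ := exists_geom_point_over f U x'
    have hst : (Scheme.pointSmallEtale (ξ ≫ f)).sheafFiber.map a =
        (Scheme.pointSmallEtale (ξ ≫ f)).sheafFiber.map b := by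
      rw [stalk_map_eq, stalk_map_eq, hab]
    have hgerm : (Scheme.pointSmallEtale (ξ ≫ f)).toPresheafFiber U (Over.homMk ul hul) G.obj
        (a.hom.app (op U) s) =
        (Scheme.pointSmallEtale (ξ ≫ f)).toPresheafFiber U (Over.homMk ul hul) G.obj
          (b.hom.app (op U) s) := by
      rw [← germ_map, ← germ_map, hst]
    obtain ⟨W, g, w, hw, hg⟩ := locally_eq_of_germ_eq (ξ ≫ f) G.obj U ul hul _ _ hgerm
    exact ⟨W, g, w, hw.trans hx, hg⟩
  apply ObjectProperty.hom_ext
  ext U s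
  exact key U.unop s

/-- A germ in the image of the stalk map has a local preimage. -/
theorem exists_local_preimage {Ω : Type u} [Field Ω] [IsSepClosed Ω]
    (η : Spec (CommRingCat.of Ω) ⟶ X) {F G : EtDesc.Sh X} (a : F ⟶ G) (U : X.Etale)
    (ul : Spec (CommRingCat.of Ω) ⟶ U.left) (hul : ul ≫ U.hom = η) (t : G.obj.obj (op U))
    (p : (Scheme.pointSmallEtale η).sheafFiber.obj F)
    (hp : (Scheme.pointSmallEtale η).sheafFiber.map a p =
      (Scheme.pointSmallEtale η).toPresheafFiber U (Over.homMk ul hul) G.obj t) :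
    ∃ (Y : X.Etale) (g : Y ⟶ U) (y : Y.left) (s : F.obj.obj (op Y)),
      g.left y = ul default ∧ a.hom.app (op Y) s = G.obj.map g.op t := by
  let Φ := Scheme.pointSmallEtale η
  let u : Φ.fiber.obj U := Over.homMk ul hul
  obtain ⟨W, w, s', rfl⟩ := Φ.toPresheafFiber_jointly_surjective (P := F.obj) p
  rw [germ_map] at hp
  let V := IsCofiltered.min (Functor.elementsMk Φ.fiber U u) (Functor.elementsMk Φ.fiber W w)
  let gU := IsCofiltered.minToLeft (Functor.elementsMk Φ.fiber U u)
    (Functor.elementsMk Φ.fiber W w)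
  let gW := IsCofiltered.minToRight (Functor.elementsMk Φ.fiber U u)
    (Functor.elementsMk Φ.fiber W w)
  have hU : Φ.toPresheafFiber U u G.obj t =
      Φ.toPresheafFiber V.1 V.2 G.obj (G.obj.map gU.1.op t) :=
    ((congrArg (fun z => Φ.toPresheafFiber U z G.obj t) gU.2).symm).trans
      (Φ.toPresheafFiber_w_apply gU.1 V.2 G.obj t).symm
  have hW : Φ.toPresheafFiber W w G.obj (a.hom.app (op W) s') =
      Φ.toPresheafFiber V.1 V.2 G.obj (G.obj.map gW.1.op (a.hom.app (op W) s')) :=
    ((congrArg (fun z => Φ.toPresheafFiber W z G.obj (a.hom.app (op W) s')) gW.2).symm).trans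
      (Φ.toPresheafFiber_w_apply gW.1 V.2 G.obj _).symm
  have h1 : Φ.toPresheafFiber V.1 V.2 G.obj (G.obj.map gW.1.op (a.hom.app (op W) s')) =
      Φ.toPresheafFiber V.1 V.2 G.obj (G.obj.map gU.1.op t) := by
    rw [← hU, ← hW]
    exact hp
  obtain ⟨Y, g', y, hy, hg'⟩ := (Φ.toPresheafFiber_eq_iff' (P := G.obj) V.1 V.2 _ _).mp h1
  obtain ⟨yl, hyl⟩ : ∃ yl : Spec (CommRingCat.of Ω) ⟶ Y.left, yl = y.left := ⟨y.left, rfl⟩
  refine ⟨Y, g' ≫ gU.1, yl default, F.obj.map (g' ≫ gW.1).op s', ?_, ?_⟩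
  · have h2 : Φ.fiber.map (g' ≫ gU.1) y = u := by
      have e1 : Φ.fiber.map (g' ≫ gU.1) y = Φ.fiber.map gU.1 (Φ.fiber.map g' y) := by
        rw [Functor.map_comp]
        rfl
      rw [e1, hy]
      exact gU.2
    have h3 : yl ≫ (g' ≫ gU.1).left = ul := by
      rw [hyl]
      exact congrArg Over.Hom.left h2
    rw [← Scheme.Hom.comp_apply, h3]
  · have nat := fun {A B : X.Etale} (k : A ⟶ B) (z : F.obj.obj (op B)) =>
      (congrArg (fun m => m z) (a.hom.naturality k.op) :
        a.hom.app (op A) (F.obj.map k.op z) = G.obj.map k.op (a.hom.app (op B) z))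
    rw [nat]
    have e2 : ∀ z, G.obj.map (g' ≫ gW.1).op z = G.obj.map g'.op (G.obj.map gW.1.op z) := by
      intro z
      rw [op_comp, Functor.map_comp]
      rfl
    have e3 : ∀ z, G.obj.map (g' ≫ gU.1).op z = G.obj.map g'.op (G.obj.map gU.1.op z) := by
      intro z
      rw [op_comp, Functor.map_comp]
      rfl
    rw [e2, e3]
    exact hg'

theorem reflectsIso_pullSh [Surjective f] : (EtDesc.pullSh f).ReflectsIsomorphisms := by
  constructor
  intro F G a ha
  have hbij : ∀ {Ω : Type u} [Field Ω] [IsSepClosed Ω] (ξ : Spec (CommRingCat.of Ω) ⟶ X'),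
      Function.Bijective ((Scheme.pointSmallEtale (ξ ≫ f)).sheafFiber.map a) := by
    intro Ω _ _ ξ
    haveI : IsIso ((Scheme.pointSmallEtale (ξ ≫ f)).sheafFiber.map a) := by
      rw [stalk_map_eq]
      infer_instance
    exact (isIso_iff_bijective _).1 inferInstance
  have hinj : ∀ (U : X.Etale), Function.Injective (a.hom.app (op U)) := by
    intro U s t hst
    apply eq_of_locally_eq F U
    intro x'
    obtain ⟨Ω, _, _, ξ, ul, hul, hx⟩ := exists_geom_point_over f U x'
    have hgerm : (Scheme.pointSmallEtale (ξ ≫ f)).toPresheafFiber U (Over.homMk ul hul) F.obj s =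
        (Scheme.pointSmallEtale (ξ ≫ f)).toPresheafFiber U (Over.homMk ul hul) F.obj t := by
      apply (hbij ξ).1
      rw [germ_map, germ_map, hst]
    obtain ⟨W, g, w, hw, hg⟩ := locally_eq_of_germ_eq (ξ ≫ f) F.obj U ul hul _ _ hgerm
    exact ⟨W, g, w, hw.trans hx, hg⟩
  haveI : Mono a := by
    haveI : ∀ U, Mono (a.hom.app U) := fun U => (mono_iff_injective _).2 (hinj U.unop)
    haveI : Mono a.hom := NatTrans.mono_of_mono_app a.hom
    exact Sheaf.Hom.mono_of_presheaf_mono _ _ a
  haveI : Epi a := by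
    rw [← Sheaf.isLocallySurjective_iff_epi]
    refine ⟨fun {U} t => ?_⟩
    refine mem_smallEtaleTopology _ ?_
    intro x'
    obtain ⟨Ω, _, _, ξ, ul, hul, hx⟩ := exists_geom_point_over f U x'
    obtain ⟨p, hp⟩ := (hbij ξ).2
      ((Scheme.pointSmallEtale (ξ ≫ f)).toPresheafFiber U (Over.homMk ul hul) G.obj t)
    obtain ⟨Y, g, y, s, hy, hs⟩ := exists_local_preimage (ξ ≫ f) a U ul hul t p hp
    exact ⟨Y, g, y, ⟨s, hs⟩, hy.trans hx⟩
  exact isIso_of_mono_of_epi a

end Main

end Groth.Agent.Helper18.StalkSets
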