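import Groth.Agent.Lib.Helper18.StalkClosed
import Groth.Agent.Lib.Helper18.StalkSets
import Mathlib.CategoryTheory.Sites.DenseSubsite.Basic

/-!
# Base change to a closed subscheme is a cover-dense, locally full functor of small étale sites
-/

set_option autoImplicit false
open CategoryTheory CategoryTheory.Limits AlgebraicGeometry Opposite
universe u

namespace Groth.Agent.Helper18.ClosedDense

open Groth.Agent.Helper18.StalkSets (mem_smallEtaleTopology)

variable {Z X : Scheme.{u}} (i : Z ⟶ X) [IsClosedImmersion i]

instance isCoverDense : (EtCoh.bc i).IsCoverDense Z.smallEtaleTopology where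
  is_cover V := by
    refine mem_smallEtaleTopology _ ?_
    intro x
    haveI : Etale V.hom := V.prop
    obtain ⟨T, t, ht, h, hh, hoi, hx⟩ :=
      Groth.Agent.Helper18.GabberSplit.exists_local_lift i V.hom x
    let U : X.Etale := MorphismProperty.Over.mk ⊤ t ht
    let m : (EtCoh.bc i).obj U ⟶ V := MorphismProperty.Over.homMk h hh trivial
    obtain ⟨y, hy⟩ := hx
    exact ⟨(EtCoh.bc i).obj U, m, y, Presieve.in_coverByImage (EtCoh.bc i) m, hy⟩

instance isLocallyFull : (EtCoh.bc i).IsLocallyFull Z.smallEtaleTopology where
  functorPushforward_imageSieve_mem {U V} f := by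
    obtain ⟨W, a, b, ha, hab⟩ := Groth.Agent.S0660.result i U V f
    have hmem : ((EtCoh.bc i).imageSieve f).functorPushforward (EtCoh.bc i)
        ((EtCoh.bc i).map a) :=
      Sieve.image_mem_functorPushforward (EtCoh.bc i) _ ⟨b, hab.symm⟩
    have htop : ((EtCoh.bc i).imageSieve f).functorPushforward (EtCoh.bc i) = ⊤ := by
      rw [← Sieve.id_mem_iff_eq_top]
      have := (((EtCoh.bc i).imageSieve f).functorPushforward (EtCoh.bc i)).downward_closed hmem
        (inv ((EtCoh.bc i).map a))
      rwa [IsIso.inv_hom_id] at this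
    rw [htop]
    exact Z.smallEtaleTopology.top_mem _

/-- Direct image of abelian étale sheaves along a closed immersion is full. -/
theorem full_push : (EtCoh.push i).Full := by
  constructor
  intro F G φ
  let α : (EtCoh.bc i).op ⋙ F.obj ⟶ (EtCoh.bc i).op ⋙ G.obj := φ.hom
  refine ⟨⟨Functor.IsCoverDense.restrictHomEquivHom (G := EtCoh.bc i) (ℱ' := G) α⟩, ?_⟩
  apply ObjectProperty.hom_ext
  exact Functor.IsCoverDense.sheafHom_restrict_eq (G := EtCoh.bc i) (ℱ' := G) α

/-- Direct image of abelian étale sheaves along a closed immersion is faithful. -/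
theorem faithful_push : (EtCoh.push i).Faithful := by
  constructor
  intro F G a b hab
  apply ObjectProperty.hom_ext
  apply (Functor.IsCoverDense.restrictHomEquivHom (G := EtCoh.bc i) (ℱ := F.obj) (ℱ' := G)).symm.injective
  exact congrArg (fun m => m.hom) hab

end Groth.Agent.Helper18.ClosedDense
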