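import Mathlib
import Groth.Agent.H11.ProCons

set_option autoImplicit false

namespace Groth.Agent.Helper18.ConsTop

open Topology Set

variable {S S' : Type*} [TopologicalSpace S] [TopologicalSpace S']

/-- Distinct points of a spectral space are separated by a constructible set. -/
lemma exists_isConstructible_mem_not_mem [T0Space S'] [PrespectralSpace S']
    [QuasiSeparatedSpace S'] {t t' : S'} (h : t' ≠ t) :
    ∃ C : Set S', IsConstructible C ∧ t ∈ C ∧ t' ∉ C := by
  obtain ⟨O, hO, hxor⟩ := exists_isOpen_xor_mem h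
  rcases hxor with ⟨h1, h2⟩ | ⟨h1, h2⟩
  · -- t' ∈ O, t ∉ O
    obtain ⟨K, ⟨hKo, hKc⟩, hxK, hKO⟩ :=
      (PrespectralSpace.isTopologicalBasis (X := S')).mem_nhds_iff.mp (hO.mem_nhds h1)
    refine ⟨Kᶜ, (hKc.isConstructible hKo).compl, fun htK => h2 (hKO htK), fun h' => h' hxK⟩
  · -- t ∈ O, t' ∉ O
    obtain ⟨K, ⟨hKo, hKc⟩, hxK, hKO⟩ :=
      (PrespectralSpace.isTopologicalBasis (X := S')).mem_nhds_iff.mp (hO.mem_nhds h1)
    exact ⟨K, hKc.isConstructible hKo, hxK, fun h' => h2 (hKO h')⟩

/-- A point outside the image of a constructible set under a spectral map has a constructible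
neighbourhood disjoint from the image. -/
lemma exists_isConstructible_disjoint_image [CompactSpace S] [QuasiSober S] [PrespectralSpace S]
    [QuasiSeparatedSpace S] [T0Space S'] [PrespectralSpace S'] [QuasiSeparatedSpace S']
    (φ : S → S') (hφ : ∀ C : Set S', IsConstructible C → IsConstructible (φ ⁻¹' C))
    (D : Set S) (hD : IsConstructible D) (t : S') (ht : t ∉ φ '' D) :
    ∃ C : Set S', IsConstructible C ∧ t ∈ C ∧ ∀ d ∈ D, φ d ∉ C := by
  classical
  let K : {C : Set S' // IsConstructible C ∧ t ∈ C} → Set (WithConstructibleTopology S) :=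
    fun C => WithTopology.ofTopology ⁻¹' (D ∩ φ ⁻¹' C.1)
  have hKcl : ∀ C, IsClosed (K C) := fun C =>
    (H11.isClopen_cons_of_isConstructible (hD.inter (hφ C.1 C.2.1))).1
  have hempty : (Set.univ : Set (WithConstructibleTopology S)) ∩ ⋂ C, K C = ∅ := by
    ext z
    simp only [mem_inter_iff, mem_univ, true_and, mem_iInter, mem_empty_iff_false, iff_false]
    intro hz
    have hzD : WithTopology.ofTopology z ∈ D := (hz ⟨univ, IsConstructible.univ, mem_univ _⟩).1
    by_cases hφz : φ (WithTopology.ofTopology z) = t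
    · exact ht ⟨_, hzD, hφz⟩
    · obtain ⟨C, hC, htC, hzC⟩ := exists_isConstructible_mem_not_mem hφz
      exact hzC (hz ⟨C, hC, htC⟩).2
  obtain ⟨u, hu⟩ := isCompact_univ.elim_finite_subfamily_closed K hKcl hempty
  refine ⟨⋂ C ∈ u, C.1, ?_, ?_, ?_⟩
  · exact IsConstructible.biInter u.finite_toSet (fun C _ => C.2.1)
  · simp only [mem_iInter]
    exact fun C _ => C.2.2
  · intro d hd hmem
    have : (WithTopology.toTopology _ d : WithConstructibleTopology S) ∈
        (Set.univ : Set (WithConstructibleTopology S)) ∩ ⋂ C ∈ u, K C := by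
      refine ⟨mem_univ _, ?_⟩
      simp only [mem_iInter] at hmem ⊢
      intro C hC
      exact ⟨hd, hmem C hC⟩
    rw [hu] at this
    exact this

/-- A subset of a spectral space all of whose points have constructible neighbourhoods
contained in the set or in its complement is constructible. -/
lemma isConstructible_of_forall_exists [CompactSpace S] [QuasiSober S] [PrespectralSpace S]
    [QuasiSeparatedSpace S] (A : Set S)
    (h : ∀ a : S, ∃ C : Set S, IsConstructible C ∧ a ∈ C ∧ (a ∈ A → C ⊆ A) ∧ (a ∉ A → C ⊆ Aᶜ)) :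
    IsConstructible A := by
  apply H11.isConstructible_of_isClopen_cons
  constructor
  · rw [← isOpen_compl_iff, isOpen_iff_forall_mem_open]
    intro z hz
    obtain ⟨C, hC, haC, _, h2⟩ := h (WithTopology.ofTopology z)
    exact ⟨WithTopology.ofTopology ⁻¹' C, fun z' hz' => h2 hz hz',
      (H11.isClopen_cons_of_isConstructible hC).2, haC⟩
  · rw [isOpen_iff_forall_mem_open]
    intro z hz
    obtain ⟨C, hC, haC, h1, _⟩ := h (WithTopology.ofTopology z)
    exact ⟨WithTopology.ofTopology ⁻¹' C, fun z' hz' => h1 hz hz',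
      (H11.isClopen_cons_of_isConstructible hC).2, haC⟩

end Groth.Agent.Helper18.ConsTop
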