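import Mathlib

/-!
# Flatness over a Dedekind domain via torsion-freeness of sections
-/

universe u

open CategoryTheory Limits AlgebraicGeometry

namespace Groth.Agent.Helper18.DedekindFlat

variable {R : Type u} [CommRing R] {X : Scheme.{u}}

/-- The structure map `R → Γ(X, W)` of a scheme over `Spec R`. -/
noncomputable def secMap (f : X ⟶ Spec (CommRingCat.of R)) (W : X.Opens) : R →+* Γ(X, W) :=
  ((Scheme.ΓSpecIso (CommRingCat.of R)).inv ≫ f.appLE ⊤ W le_top).hom

lemma secMap_res (f : X ⟶ Spec (CommRingCat.of R)) {W₁ W₂ : X.Opens} (h : W₁ ≤ W₂) (r : R) :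
    (X.presheaf.map (homOfLE h).op).hom (secMap f W₂ r) = secMap f W₁ r := by
  simp only [secMap, CommRingCat.hom_comp, RingHom.comp_apply]
  rw [← CommRingCat.comp_apply, Scheme.Hom.appLE_map]

lemma flat_secMap (f : X ⟶ Spec (CommRingCat.of R)) [Flat f] (U : X.Opens)
    (hU : IsAffineOpen U) : (secMap f U).Flat := by
  have h1 : (f.appLE ⊤ U le_top).hom.Flat :=
    HasRingHomProperty.appLE (P := @Flat) f inferInstance ⟨⊤, isAffineOpen_top _⟩ ⟨U, hU⟩ _
  unfold secMap
  rw [CommRingCat.hom_comp]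
  exact RingHom.Flat.comp
    (RingHom.Flat.of_bijective (ConcreteCategory.bijective_of_isIso _)) h1

/-- Sections of a flat scheme over `Spec R` are torsion-free. -/
lemma regular_sections (f : X ⟶ Spec (CommRingCat.of R)) [Flat f] (W : X.Opens) (r : R)
    (hr : IsRegular r) (s₁ s₂ : Γ(X, W)) (h : secMap f W r * s₁ = secMap f W r * s₂) :
    s₁ = s₂ := by
  refine X.sheaf.eq_of_locally_eq' (fun U : {U : X.affineOpens // U.1 ≤ W} => U.1.1) W
    (fun U => homOfLE U.2) ?_ s₁ s₂ ?_
  · intro x hx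
    obtain ⟨U, hU, hxU, hUW⟩ : ∃ U : X.Opens, IsAffineOpen U ∧ x ∈ U ∧ U ≤ W :=
      (TopologicalSpace.Opens.isBasis_iff_nbhd.mp X.isBasis_affineOpens) hx
    exact TopologicalSpace.Opens.mem_iSup.mpr ⟨⟨⟨U, hU⟩, hUW⟩, hxU⟩
  · intro U
    have h2 := congrArg (X.presheaf.map (homOfLE U.2).op).hom h
    rw [map_mul, map_mul, secMap_res] at h2
    have hfl := flat_secMap f U.1.1 U.1.2
    letI := (secMap f U.1.1).toAlgebra
    haveI : Module.Flat R Γ(X, U.1.1) := hfl
    have hreg := Module.Flat.isSMulRegular_of_isRegular (M := Γ(X, U.1.1)) hr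
    apply hreg
    simp only [Algebra.smul_def]
    exact h2

end Groth.Agent.Helper18.DedekindFlat
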