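import Mathlib
import Groth.Agent.H11.HensLift
import Groth.Agent.H11.HensEtale2

set_option autoImplicit false

namespace Groth.Agent.Helper18.HensSection

open IsLocalRing

universe u

/-- Over a henselian local ring, an algebra map from a smooth algebra to the residue field lifts
to an algebra map to the ring itself. -/
theorem smooth_lift (A : Type u) [CommRing A] [HenselianLocalRing A] (B : Type u) [CommRing B]
    [Algebra A B] [Algebra.Smooth A B] (θ : B →ₐ[A] ResidueField A) :
    ∃ φ : B →ₐ[A] A, ∀ b, residue A (φ b) = θ b := by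
  classical
  obtain ⟨q, hqdef⟩ : ∃ q : Ideal B, q = RingHom.ker θ.toRingHom := ⟨_, rfl⟩
  haveI : q.IsPrime := hqdef ▸ RingHom.ker_isPrime _
  haveI : Algebra.FormallySmooth B (Localization.AtPrime q) :=
    Algebra.FormallySmooth.of_isLocalization q.primeCompl
  haveI : Algebra.IsSmoothAt A q := Algebra.FormallySmooth.comp A B (Localization.AtPrime q)
  obtain ⟨g, hgq, n, alg, tower, std⟩ :=
    Algebra.IsSmoothAt.exists_isStandardEtale_mvPolynomial (R := A) (p := q)
  letI := alg
  haveI := tower
  haveI := std
  have hunit : IsUnit (θ g) := by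
    rw [isUnit_iff_ne_zero]
    intro h
    exact hgq (hqdef ▸ (RingHom.mem_ker.mpr h))
  obtain ⟨θg, hθg⟩ : ∃ θg : Localization.Away g →ₐ[A] ResidueField A,
      ∀ b, θg (algebraMap B _ b) = θ b :=
    ⟨IsLocalization.Away.liftAlgHom g (f := θ) hunit, fun b => by
      rw [IsLocalization.Away.liftAlgHom_apply, IsLocalization.Away.lift_eq]
      rfl⟩
  have hc : ∀ i : Fin n, ∃ a : A, residue A a =
      θg (algebraMap (MvPolynomial (Fin n) A) (Localization.Away g) (MvPolynomial.X i)) :=
    fun i => residue_surjective _
  choose a ha using hc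
  obtain ⟨ev, hev⟩ : ∃ ev : MvPolynomial (Fin n) A →ₐ[A] A, ev = MvPolynomial.aeval a := ⟨_, rfl⟩
  letI : Algebra (MvPolynomial (Fin n) A) A := ev.toRingHom.toAlgebra
  have hcomm : ∀ p : MvPolynomial (Fin n) A,
      θg (algebraMap (MvPolynomial (Fin n) A) (Localization.Away g) p) = residue A (ev p) := by
    intro p
    have : (θg.comp (IsScalarTower.toAlgHom A (MvPolynomial (Fin n) A) (Localization.Away g))) =
        (IsScalarTower.toAlgHom A A (ResidueField A)).comp ev := by
      apply MvPolynomial.algHom_ext
      intro i
      simp only [AlgHom.comp_apply, IsScalarTower.coe_toAlgHom', hev, MvPolynomial.aeval_X]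
      exact (ha i).symm
    exact DFunLike.congr_fun this p
  obtain ⟨θ', hθ'⟩ : ∃ θ' : Localization.Away g →ₐ[MvPolynomial (Fin n) A] ResidueField A,
      ∀ x, θ' x = θg x :=
    ⟨{ θg.toRingHom with commutes' := fun p => hcomm p }, fun _ => rfl⟩
  obtain ⟨F, hF⟩ := Groth.Agent.H11.HensEt.exists_algHom_lift_residue
    (MvPolynomial (Fin n) A) A (Localization.Away g) θ'
  refine ⟨{ toRingHom := F.toRingHom.comp (algebraMap B (Localization.Away g)),
            commutes' := ?_ }, ?_⟩
  · intro r
    show F (algebraMap B _ (algebraMap A B r)) = r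
    rw [← IsScalarTower.algebraMap_apply A B (Localization.Away g),
      IsScalarTower.algebraMap_apply A (MvPolynomial (Fin n) A) (Localization.Away g),
      F.commutes]
    exact ev.commutes r
  · intro b
    show residue A (F (algebraMap B _ b)) = θ b
    rw [hF, hθ', hθg]

end Groth.Agent.Helper18.HensSection

namespace Groth.Agent.Helper18.HensSection

open IsLocalRing

universe u

/-- Over a strictly henselian local ring, an étale algebra has a retraction through any prime
lying over the maximal ideal. -/
theorem etale_section (A : Type u) [CommRing A] [HenselianLocalRing A]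
    [IsSepClosed (ResidueField A)] (B : Type u) [CommRing B] [Algebra A B] [Algebra.Etale A B]
    (q : Ideal B) [q.IsPrime] (hq : q.comap (algebraMap A B) = maximalIdeal A) :
    ∃ φ : B →ₐ[A] A, (maximalIdeal A).comap φ.toRingHom = q := by
  classical
  haveI hloc : IsLocalHom (algebraMap A (Localization.AtPrime q)) := by
    constructor
    intro a ha
    by_contra hna
    have ham : a ∈ maximalIdeal A := hna
    have h1 : algebraMap A B a ∈ q := by rw [← hq] at ham; exact ham
    have h2 : algebraMap B (Localization.AtPrime q) (algebraMap A B a) ∈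
        maximalIdeal (Localization.AtPrime q) :=
      (IsLocalization.AtPrime.to_map_mem_maximal_iff _ q _).mpr h1
    rw [← IsScalarTower.algebraMap_apply] at h2
    exact h2 ha
  haveI : Algebra.FormallyUnramified B (Localization.AtPrime q) :=
    Algebra.FormallyUnramified.of_isLocalization q.primeCompl
  haveI : Algebra.FormallyUnramified A (Localization.AtPrime q) :=
    Algebra.FormallyUnramified.comp A B _
  haveI : Algebra.EssFiniteType A (Localization.AtPrime q) :=
    Algebra.EssFiniteType.comp A B _
  have hbij : Function.Bijective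
      (algebraMap (ResidueField A) (ResidueField (Localization.AtPrime q))) :=
    IsSepClosed.algebraMap_bijective _ _
  obtain ⟨τ, hτ'⟩ : ∃ τ : q.ResidueField →+* ResidueField A,
      ∀ z, τ (algebraMap (ResidueField A) (ResidueField (Localization.AtPrime q)) z) = z :=
    ⟨(RingEquiv.ofBijective _ hbij).symm.toRingHom, fun z =>
      (RingEquiv.ofBijective _ hbij).symm_apply_apply z⟩
  have hτ : τ.comp (algebraMap A q.ResidueField) = (residue A).comp (algebraMap A A) := by
    ext r
    exact hτ' (residue A r)
  obtain ⟨φ, ⟨hφ, -⟩, -⟩ := Groth.Agent.H11.HensEt.existsUnique_algHom A A B q τ hτ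
  exact ⟨φ, hφ⟩

end Groth.Agent.Helper18.HensSection
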