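import Mathlib
import Groth.Prelude
import Groth.Agent.Lib.Helper18.HensSection

set_option autoImplicit false

namespace Groth.Agent.Helper18.DenseSections

open AlgebraicGeometry CategoryTheory Limits IsLocalRing

universe u

/-- Over a local ring with algebraically closed residue field, a finite type algebra with a
maximal ideal over the maximal ideal has a point with values in the residue field. -/
lemma exists_residue_point (R : Type u) [CommRing R] [IsLocalRing R]
    [IsAlgClosed (ResidueField R)] (B : Type u) [CommRing B] [Algebra R B]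
    [Algebra.FiniteType R B] (M : Ideal B) [hM : M.IsMaximal]
    (hMm : M.comap (algebraMap R B) = maximalIdeal R) :
    ∃ θ : B →ₐ[R] ResidueField R, RingHom.ker θ.toRingHom = M := by
  letI : Field (B ⧸ M) := Ideal.Quotient.field M
  haveI : M.LiesOver (maximalIdeal R) := ⟨hMm.symm⟩
  letI : Field (R ⧸ maximalIdeal R) := Ideal.Quotient.field (maximalIdeal R)
  haveI : IsAlgClosed (R ⧸ maximalIdeal R) := ‹IsAlgClosed (ResidueField R)›
  haveI : Algebra.FiniteType R (B ⧸ M) :=
    Algebra.FiniteType.of_surjective (Ideal.Quotient.mkₐ R M) (Ideal.Quotient.mkₐ_surjective R M)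
  haveI : Algebra.FiniteType (R ⧸ maximalIdeal R) (B ⧸ M) :=
    Algebra.FiniteType.of_restrictScalars_finiteType R (R ⧸ maximalIdeal R) (B ⧸ M)
  haveI : Module.Finite (R ⧸ maximalIdeal R) (B ⧸ M) :=
    finite_of_finite_type_of_isJacobsonRing (R ⧸ maximalIdeal R) (B ⧸ M)
  have hbij : Function.Bijective (algebraMap (R ⧸ maximalIdeal R) (B ⧸ M)) :=
    IsAlgClosed.algebraMap_bijective_of_isIntegral
  let e : (R ⧸ maximalIdeal R) ≃ₐ[R ⧸ maximalIdeal R] (B ⧸ M) :=
    AlgEquiv.ofBijective (Algebra.ofId (R ⧸ maximalIdeal R) (B ⧸ M)) hbij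
  refine ⟨((e.symm : (B ⧸ M) →ₐ[R ⧸ maximalIdeal R] (R ⧸ maximalIdeal R)).restrictScalars R).comp
    (Ideal.Quotient.mkₐ R M), ?_⟩
  ext b
  rw [RingHom.mem_ker]
  change e.symm (Ideal.Quotient.mk M b) = 0 ↔ _
  rw [map_eq_zero_iff _ e.symm.injective, Ideal.Quotient.eq_zero_iff_mem]

/-- Sections of a smooth morphism over a strictly henselian local ring reduce to a dense subset
of the closed fibre. -/
theorem main (R : Type u) [CommRing R] [HenselianLocalRing R]
    [IsAlgClosed (IsLocalRing.ResidueField R)]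
    {X : Scheme.{u}} (p : X ⟶ Spec (CommRingCat.of R)) [Smooth p]
    (x : X) (hx : p x = IsLocalRing.closedPoint R) :
    x ∈ closure {y : X | ∃ s : Spec (CommRingCat.of R) ⟶ X, s ≫ p = 𝟙 _ ∧
      s (IsLocalRing.closedPoint R) = y} := by
  rw [mem_closure_iff]
  intro U hUo hxU
  obtain ⟨_, ⟨V, (hV : IsAffineOpen V), rfl⟩, hxV, hVU⟩ :=
    X.isBasis_affineOpens.exists_subset_of_mem_open hxU hUo
  obtain ⟨ψ, hψ⟩ := Spec.map_surjective (hV.fromSpec ≫ p)
  have hsm : ψ.hom.Smooth := by
    have : Smooth (Spec.map ψ) := by rw [hψ]; infer_instance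
    exact (HasRingHomProperty.Spec_iff (P := @Smooth)).mp this
  algebraize [ψ.hom]
  obtain ⟨x', hx'⟩ : x ∈ Set.range hV.fromSpec := by
    rw [hV.range_fromSpec]; exact hxV
  have hx'm : (Spec.map ψ) x' = IsLocalRing.closedPoint R := by
    rw [hψ, Scheme.Hom.comp_apply, hx', hx]
  have hq : x'.asIdeal.comap (algebraMap R Γ(X, V)) = maximalIdeal R :=
    congrArg PrimeSpectrum.asIdeal hx'm
  obtain ⟨M, hM, hqM⟩ := Ideal.exists_le_maximal x'.asIdeal x'.2.ne_top
  haveI := hM
  have hMm : M.comap (algebraMap R Γ(X, V)) = maximalIdeal R := by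
    refine ((IsLocalRing.maximalIdeal.isMaximal R).eq_of_le ?_ ?_).symm
    · exact (Ideal.comap_ne_top _ hM.ne_top)
    · rw [← hq]; exact Ideal.comap_mono hqM
  obtain ⟨θ, -⟩ := exists_residue_point R Γ(X, V) M hMm
  obtain ⟨φ, -⟩ := HensSection.smooth_lift R Γ(X, V) θ
  refine ⟨(Spec.map (CommRingCat.ofHom φ.toRingHom) ≫ hV.fromSpec) (IsLocalRing.closedPoint R),
    hVU ?_, Spec.map (CommRingCat.ofHom φ.toRingHom) ≫ hV.fromSpec, ?_, rfl⟩
  · rw [Scheme.Hom.comp_apply]
    have : hV.fromSpec ((Spec.map (CommRingCat.ofHom φ.toRingHom)) (IsLocalRing.closedPoint R)) ∈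
        Set.range hV.fromSpec := ⟨_, rfl⟩
    rw [hV.range_fromSpec] at this
    exact this
  · rw [Category.assoc, ← hψ, ← Spec.map_comp]
    have : ψ ≫ CommRingCat.ofHom φ.toRingHom = 𝟙 _ := by
      ext a
      exact φ.commutes a
    rw [this, Spec.map_id]

end Groth.Agent.Helper18.DenseSections
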