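import Mathlib
import Groth.Prelude.Def_SGA3b

/-!
Rigidity of homomorphisms into diagonalisable groups modulo a nilpotent ideal
(Hopf-algebra form), and descent tools for groups of multiplicative type.
-/

set_option autoImplicit false
set_option linter.unusedSectionVars false

namespace Groth.Agent.Helper18.DiagRigid

open TensorProduct Coalgebra WithConv

section Core

variable {R : Type*} [CommRing R] {M : Type*} [Monoid M]

/-- coefficient functional -/
noncomputable def cf (m : M) : MonoidAlgebra R M →ₗ[R] R :=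
  (Finsupp.lapply m) ∘ₗ (MonoidAlgebra.coeffLinearEquiv R).toLinearMap

theorem cf_single [DecidableEq M] (m x : M) (r : R) :
    cf m (MonoidAlgebra.single x r) = if x = m then r else 0 := by
  simp [cf, Finsupp.single_apply]

theorem cf_one [DecidableEq M] (m : M) :
    cf (R := R) m 1 = if (1 : M) = m then 1 else 0 := by
  rw [MonoidAlgebra.one_def, cf_single]

theorem ext_cf {x y : MonoidAlgebra R M} (h : ∀ m, cf m x = cf m y) : x = y := by
  apply (MonoidAlgebra.coeffLinearEquiv R).injective
  ext m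
  exact h m

theorem cf_comul [DecidableEq M] (m m' : M) (b : MonoidAlgebra R M) :
    LinearMap.mul' R R (TensorProduct.map (cf m) (cf m') (comul b))
      = if m = m' then cf m b else 0 := by
  induction b using MonoidAlgebra.induction_linear with
  | zero => simp
  | add x y hx hy =>
    rw [map_add, map_add, map_add, hx, hy, map_add]
    split_ifs <;> simp
  | single x r =>
    rw [MonoidAlgebra.comul_single, CommSemiring.comul_apply, TensorProduct.map_tmul,
      TensorProduct.map_tmul, MonoidAlgebra.lsingle_apply, MonoidAlgebra.lsingle_apply,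
      LinearMap.mul'_apply, cf_single, cf_single, cf_single]
    by_cases h3 : m = m'
    · subst h3
      rw [if_pos rfl]
      by_cases h1 : x = m
      · rw [if_pos h1, if_pos h1, one_mul]
      · rw [if_neg h1, if_neg h1, zero_mul]
    · rw [if_neg h3]
      by_cases h1 : x = m
      · have h2 : x ≠ m' := fun h => h3 (h1.symm.trans h)
        rw [if_neg h2, mul_zero]
      · rw [if_neg h1, zero_mul]

variable {C : Type*} [AddCommGroup C] [Module R C] [Coalgebra R C]

/-- coefficient functional composed with a coalgebra map, in the convolution ring -/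
noncomputable def Psi (ψ : C →ₗc[R] MonoidAlgebra R M) (m : M) : WithConv (C →ₗ[R] R) :=
  toConv ((cf m) ∘ₗ ψ.toLinearMap)

theorem Psi_apply (ψ : C →ₗc[R] MonoidAlgebra R M) (m : M) (c : C) :
    (Psi ψ m).ofConv c = cf m (ψ c) := rfl

theorem Psi_mul [DecidableEq M] (ψ : C →ₗc[R] MonoidAlgebra R M) (m m' : M) :
    Psi ψ m * Psi ψ m' = if m = m' then Psi ψ m else 0 := by
  apply WithConv.ofConv_injective
  apply LinearMap.ext
  intro c
  have h1 : (Psi ψ m * Psi ψ m').ofConv c
      = LinearMap.mul' R R (TensorProduct.map (cf m) (cf m') (comul (ψ c))) := by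
    rw [← CoalgHomClass.map_comp_comul_apply ψ c]
    show LinearMap.mul' R R (TensorProduct.map ((cf m) ∘ₗ ψ.toLinearMap)
      ((cf m') ∘ₗ ψ.toLinearMap) (comul c)) = _
    rw [TensorProduct.map_comp, LinearMap.comp_apply]
    rfl
  rw [h1, cf_comul]
  split_ifs
  · rfl
  · rfl

theorem conv_mem_mul (J₁ J₂ : Ideal R) (f g : WithConv (C →ₗ[R] R))
    (hf : ∀ c, f.ofConv c ∈ J₁) (hg : ∀ c, g.ofConv c ∈ J₂) (c : C) :
    (f * g).ofConv c ∈ J₁ * J₂ := by
  show LinearMap.mul' R R (TensorProduct.map f.ofConv g.ofConv (comul c)) ∈ J₁ * J₂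
  generalize (comul c : C ⊗[R] C) = t
  induction t using TensorProduct.induction_on with
  | zero => simp
  | tmul x y =>
    rw [TensorProduct.map_tmul, LinearMap.mul'_apply]
    exact Ideal.mul_mem_mul (hf x) (hg y)
  | add x y hx hy =>
    rw [map_add, map_add]
    exact Ideal.add_mem _ hx hy

theorem idem_mem_pow (J : Ideal R) (e : WithConv (C →ₗ[R] R)) (he : e * e = e)
    (hJ : ∀ c, e.ofConv c ∈ J) : ∀ n : ℕ, ∀ c, e.ofConv c ∈ J ^ (n + 1)
  | 0, c => by rw [zero_add, pow_one]; exact hJ c
  | n + 1, c => by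
    rw [← he, pow_succ]
    exact conv_mem_mul _ _ e e (idem_mem_pow J e he hJ n) hJ c

theorem cube_mem_pow (J : Ideal R) (d : WithConv (C →ₗ[R] R)) (hd : d * (d * d) = d)
    (hJ : ∀ c, d.ofConv c ∈ J) : ∀ n : ℕ, ∀ c, d.ofConv c ∈ J ^ (n + 1)
  | 0, c => by rw [zero_add, pow_one]; exact hJ c
  | n + 1, c => by
    rw [← hd, pow_succ]
    have := conv_mem_mul (J ^ (n + 1)) (J * J) d (d * d) (cube_mem_pow J d hd hJ n)
      (conv_mem_mul J J d d hJ hJ) c
    exact Ideal.mul_mono_right Ideal.mul_le_right this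

theorem cf_mem_of_mem_smul (I : Ideal R) (m : M) (x : MonoidAlgebra R M)
    (hx : x ∈ (I • ⊤ : Submodule R (MonoidAlgebra R M))) : cf m x ∈ I := by
  induction hx using Submodule.smul_induction_on' with
  | smul r hr y _ =>
    rw [map_smul, smul_eq_mul]
    exact Ideal.mul_mem_right _ _ hr
  | add x _ y _ hx hy =>
    rw [map_add]
    exact Ideal.add_mem _ hx hy

theorem eq_zero_of_mem_pow (I : Ideal R) (hI : IsNilpotent I) (r : R)
    (h : ∀ n : ℕ, r ∈ I ^ (n + 1)) : r = 0 := by
  obtain ⟨N, hN⟩ := hI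
  have h1 := h N
  have hle : I ^ (N + 1) ≤ I ^ N := Ideal.pow_le_pow_right (Nat.le_succ N)
  have h2 := hle h1
  rw [hN] at h2
  exact h2

/-- rigidity: a coalgebra map to a group algebra that is trivial modulo a nilpotent ideal
is trivial -/
theorem core_trivial (I : Ideal R) (hI : IsNilpotent I) (ψ : C →ₗc[R] MonoidAlgebra R M)
    (h : ∀ c, ψ c - (counit c : R) • (1 : MonoidAlgebra R M)
      ∈ (I • ⊤ : Submodule R (MonoidAlgebra R M))) :
    ∀ c, ψ c = (counit c : R) • (1 : MonoidAlgebra R M) := by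
  classical
  have hΨI : ∀ m : M, m ≠ 1 → ∀ c, (Psi ψ m).ofConv c ∈ I := by
    intro m hm c
    have := cf_mem_of_mem_smul I m _ (h c)
    rw [map_sub, map_smul, cf_one, if_neg (Ne.symm hm), smul_zero, sub_zero] at this
    exact this
  have hΨ0 : ∀ m : M, m ≠ 1 → ∀ c, cf m (ψ c) = 0 := by
    intro m hm c
    apply eq_zero_of_mem_pow I hI
    intro n
    exact idem_mem_pow I (Psi ψ m) (by rw [Psi_mul, if_pos rfl]) (hΨI m hm) n c
  intro c
  have hsingle : ψ c = MonoidAlgebra.single 1 (cf 1 (ψ c)) := by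
    apply ext_cf
    intro m'
    rw [cf_single]
    by_cases h' : (1 : M) = m'
    · rw [if_pos h', h']
    · rw [if_neg h', hΨ0 m' (Ne.symm h') c]
  have hcount : (counit (ψ c) : R) = counit c := CoalgHomClass.counit_comp_apply ψ c
  have hc1 : cf 1 (ψ c) = counit c := by
    rw [← hcount]
    conv_rhs => rw [hsingle]
    rw [MonoidAlgebra.counit_single, CommSemiring.counit_apply]
  apply ext_cf
  intro m
  by_cases hm : m = 1
  · subst hm
    rw [hc1, map_smul, cf_one, if_pos rfl, smul_eq_mul, mul_one]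
  · rw [hΨ0 m hm c, map_smul, cf_one, if_neg (Ne.symm hm), smul_zero]

/-- rigidity: two coalgebra maps from a cocommutative coalgebra to a group algebra that agree
modulo a nilpotent ideal are equal -/
theorem core_eq [IsCocomm R C] (I : Ideal R) (hI : IsNilpotent I)
    (φ ψ : C →ₗc[R] MonoidAlgebra R M)
    (h : ∀ c, φ c - ψ c ∈ (I • ⊤ : Submodule R (MonoidAlgebra R M))) :
    ∀ c, φ c = ψ c := by
  classical
  intro c
  apply ext_cf
  intro m
  have ha : Psi φ m * Psi φ m = Psi φ m := by rw [Psi_mul, if_pos rfl]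
  have hb : Psi ψ m * Psi ψ m = Psi ψ m := by rw [Psi_mul, if_pos rfl]
  have hd : (Psi φ m - Psi ψ m) * ((Psi φ m - Psi ψ m) * (Psi φ m - Psi ψ m))
      = Psi φ m - Psi ψ m := by
    linear_combination (Psi φ m + 1 - 3 * Psi ψ m) * ha + (3 * Psi φ m - Psi ψ m - 1) * hb
  have hJ : ∀ c, (Psi φ m - Psi ψ m).ofConv c ∈ I := by
    intro c
    have := cf_mem_of_mem_smul I m _ (h c)
    rw [map_sub] at this
    exact this
  have h0 : (Psi φ m - Psi ψ m).ofConv c = 0 :=
    eq_zero_of_mem_pow I hI _ (fun n => cube_mem_pow I _ hd hJ n c)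
  have h1 : (Psi φ m - Psi ψ m).ofConv c = cf m (φ c) - cf m (ψ c) := rfl
  rw [h1] at h0
  exact sub_eq_zero.mp h0

end Core

section BaseChange

variable {R : Type*} [CommRing R] {A : Type*} [CommRing A] [Bialgebra R A]
  {C : Type*} [CommRing C] [Bialgebra R C]
  (S : Type*) [CommRing S] [Algebra R S]

/-- base change of a bialgebra map -/
noncomputable def bc (φ : C →ₐc[R] A) : S ⊗[R] C →ₐc[S] S ⊗[R] A :=
  Bialgebra.TensorProduct.map (BialgHom.id S S) φ

theorem bc_tmul (φ : C →ₐc[R] A) (s : S) (c : C) : bc S φ (s ⊗ₜ c) = s ⊗ₜ φ c := by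
  simp [bc]

theorem tmul_mem_smul (I : Ideal R) (s : S) (y : A) (hy : y ∈ (I • ⊤ : Submodule R A)) :
    s ⊗ₜ[R] y ∈ ((I.map (algebraMap R S)) • ⊤ : Submodule S (S ⊗[R] A)) := by
  induction hy using Submodule.smul_induction_on' with
  | smul i hi a _ =>
    rw [TensorProduct.tmul_smul, ← algebraMap_smul S i (s ⊗ₜ[R] a)]
    exact Submodule.smul_mem_smul (Ideal.mem_map_of_mem _ hi) Submodule.mem_top
  | add x _ y _ hx hy =>
    rw [TensorProduct.tmul_add]
    exact Submodule.add_mem _ hx hy

theorem counit_tmul_eq (s : S) (c : C) :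
    algebraMap S (S ⊗[R] A) (counit (s ⊗ₜ[R] c)) = s ⊗ₜ[R] algebraMap R A (counit c) := by
  rw [TensorProduct.counit_tmul, CommSemiring.counit_apply,
    Algebra.TensorProduct.algebraMap_apply, Algebra.algebraMap_self_apply,
    TensorProduct.smul_tmul, Algebra.algebraMap_eq_smul_one]

theorem diff_tmul (φ : C →ₐc[R] A) (s : S) (c : C) :
    bc S φ (s ⊗ₜ c) - algebraMap S (S ⊗[R] A) (counit (s ⊗ₜ[R] c))
      = s ⊗ₜ[R] (φ c - algebraMap R A (counit c)) := by
  rw [bc_tmul, counit_tmul_eq, TensorProduct.tmul_sub]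

theorem bc_hyp (I : Ideal R) (φ : C →ₐc[R] A)
    (h : ∀ c, φ c - algebraMap R A (counit c) ∈ (I • ⊤ : Submodule R A)) :
    ∀ x : S ⊗[R] C, bc S φ x - algebraMap S (S ⊗[R] A) (counit x)
      ∈ ((I.map (algebraMap R S)) • ⊤ : Submodule S (S ⊗[R] A)) := by
  intro x
  induction x using TensorProduct.induction_on with
  | zero => simp
  | tmul s c =>
    rw [diff_tmul]
    exact tmul_mem_smul S I s _ (h c)
  | add x y hx hy =>
    have : bc S φ (x + y) - algebraMap S (S ⊗[R] A) (counit (x + y))
        = (bc S φ x - algebraMap S (S ⊗[R] A) (counit x))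
          + (bc S φ y - algebraMap S (S ⊗[R] A) (counit y)) := by
      rw [map_add, map_add, map_add]; abel
    rw [this]
    exact Submodule.add_mem _ hx hy

theorem bc_hyp_eq (I : Ideal R) (φ ψ : C →ₐc[R] A)
    (h : ∀ c, φ c - ψ c ∈ (I • ⊤ : Submodule R A)) :
    ∀ x : S ⊗[R] C, bc S φ x - bc S ψ x
      ∈ ((I.map (algebraMap R S)) • ⊤ : Submodule S (S ⊗[R] A)) := by
  intro x
  induction x using TensorProduct.induction_on with
  | zero => simp
  | tmul s c =>
    rw [bc_tmul, bc_tmul, ← TensorProduct.tmul_sub]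
    exact tmul_mem_smul S I s _ (h c)
  | add x y hx hy =>
    have : bc S φ (x + y) - bc S ψ (x + y)
        = (bc S φ x - bc S ψ x) + (bc S φ y - bc S ψ y) := by
      rw [map_add, map_add]; abel
    rw [this]
    exact Submodule.add_mem _ hx hy

end BaseChange

section Misc

theorem isNilpotent_map {R S : Type*} [CommRing R] [CommRing S] (f : R →+* S) (I : Ideal R)
    (h : IsNilpotent I) : IsNilpotent (I.map f) := by
  obtain ⟨n, hn⟩ := h
  exact ⟨n, by rw [← Ideal.map_pow, hn, Ideal.zero_eq_bot, Ideal.map_bot]; rfl⟩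

theorem map_mem_smul_top {S A B : Type*} [CommRing S] [AddCommGroup A] [Module S A]
    [AddCommGroup B] [Module S B] (f : A →ₗ[S] B) (J : Ideal S) (x : A)
    (hx : x ∈ (J • ⊤ : Submodule S A)) : f x ∈ (J • ⊤ : Submodule S B) := by
  induction hx using Submodule.smul_induction_on' with
  | smul i hi a _ =>
    rw [map_smul]
    exact Submodule.smul_mem_smul hi Submodule.mem_top
  | add x _ y _ hx hy =>
    rw [map_add]
    exact Submodule.add_mem _ hx hy

theorem eq_zero_of_charts {R : Type*} [CommRing R] {A : Type*} [AddCommGroup A] [Module R A]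
    (s : Set R) (hs : Ideal.span s = ⊤) (a : A)
    (h : ∀ f ∈ s, (1 : Localization.Away f) ⊗ₜ[R] a = 0) : a = 0 := by
  by_contra ha
  obtain ⟨ann, hann⟩ : ∃ ann : Ideal R, ann = LinearMap.ker (LinearMap.toSpanSingleton R A a) :=
    ⟨_, rfl⟩
  have hmem : ∀ r : R, r ∈ ann ↔ r • a = 0 := by
    intro r
    rw [hann, LinearMap.mem_ker, LinearMap.toSpanSingleton_apply]
  have hne : ann ≠ ⊤ := by
    intro htop
    have h1 : (1 : R) ∈ ann := by rw [htop]; trivial
    rw [hmem, one_smul] at h1
    exact ha h1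
  obtain ⟨P, hP, hle⟩ := Ideal.exists_le_maximal ann hne
  have hsp : Ideal.span s ≤ P := by
    rw [Ideal.span_le]
    intro f hf
    obtain ⟨⟨_, n, rfl⟩, hn⟩ := (IsLocalizedModule.eq_zero_iff (Submonoid.powers f)
      (TensorProduct.mk R (Localization.Away f) A 1)).mp (h f hf)
    have hfn : f ^ n ∈ ann := by
      rw [hmem]
      exact hn
    exact hP.isPrime.mem_of_pow_mem n (hle hfn)
  rw [hs] at hsp
  exact hP.ne_top (top_le_iff.mp hsp)

end Misc

universe u

section Assembly

open SGA3b

theorem sub_mem_of_tmul_eq {R : Type*} [CommRing R] {A : Type*} [AddCommGroup A] [Module R A]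
    (I : Ideal R) (x y : A) (h : (1 : R ⧸ I) ⊗ₜ[R] x = (1 : R ⧸ I) ⊗ₜ[R] y) :
    x - y ∈ (I • ⊤ : Submodule R A) := by
  have := congrArg (TensorProduct.quotTensorEquivQuotSMul A I) h
  rw [TensorProduct.quotTensorEquivQuotSMul_mk_one_tmul,
    TensorProduct.quotTensorEquivQuotSMul_mk_one_tmul] at this
  exact (Submodule.Quotient.eq _).mp this

theorem main_trivial (R : Type u) [CommRing R] (I : Ideal R) (hI : IsNilpotent I)
    (A : Type u) [CommRing A] [HopfAlgebra R A] (hH : IsMultType R A)
    (C : Type u) [CommRing C] [HopfAlgebra R C] (φ : C →ₐc[R] A)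
    (h : ∀ c, φ c - algebraMap R A (counit c) ∈ (I • ⊤ : Submodule R A)) :
    ∀ c, φ c = algebraMap R A (counit c) := by
  obtain ⟨s, hs, hloc⟩ := hH
  intro c
  rw [← sub_eq_zero]
  apply eq_zero_of_charts s hs
  intro f hf
  obtain ⟨R', _, _, hff, M, _, ⟨e⟩⟩ := hloc f hf
  have h1 := bc_hyp (Localization.Away f) I φ h
  have h2 := bc_hyp R' (I.map (algebraMap R (Localization.Away f)))
    (bc (Localization.Away f) φ) h1
  have hnil : IsNilpotent ((I.map (algebraMap R (Localization.Away f))).map
      (algebraMap (Localization.Away f) R')) :=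
    isNilpotent_map _ _ (isNilpotent_map _ _ hI)
  have key := core_trivial _ hnil
    ((e.toBialgHom.comp (bc R' (bc (Localization.Away f) φ))).toCoalgHom) (by
      intro x
      have hx := map_mem_smul_top (e.toBialgHom.toCoalgHom.toLinearMap) _ _ (h2 x)
      have he : e.toBialgHom.toCoalgHom.toLinearMap
          (bc R' (bc (Localization.Away f) φ) x - algebraMap R' _ (counit x))
          = e (bc R' (bc (Localization.Away f) φ) x)
            - (counit x : R') • (1 : MonoidAlgebra R' M) := by
        show e (_ - _) = _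
        rw [map_sub, AlgHomClass.commutes, Algebra.algebraMap_eq_smul_one]
      rw [he] at hx
      exact hx)
  have key2 := key ((1 : R') ⊗ₜ[Localization.Away f] ((1 : Localization.Away f) ⊗ₜ[R] c))
  have h3 : bc R' (bc (Localization.Away f) φ)
      ((1 : R') ⊗ₜ[Localization.Away f] ((1 : Localization.Away f) ⊗ₜ[R] c))
      = algebraMap R' _ (counit
        ((1 : R') ⊗ₜ[Localization.Away f] ((1 : Localization.Away f) ⊗ₜ[R] c))) := by
    have he2 : e (bc R' (bc (Localization.Away f) φ)
        ((1 : R') ⊗ₜ[Localization.Away f] ((1 : Localization.Away f) ⊗ₜ[R] c)))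
        = e (algebraMap R' _ (counit
          ((1 : R') ⊗ₜ[Localization.Away f] ((1 : Localization.Away f) ⊗ₜ[R] c)))) := by
      rw [AlgHomClass.commutes, Algebra.algebraMap_eq_smul_one]
      exact key2
    exact EquivLike.injective e he2
  rw [← sub_eq_zero, diff_tmul, diff_tmul] at h3
  have hinj := Module.FaithfullyFlat.tensorProduct_mk_injective (A := Localization.Away f)
    (B := R') (Localization.Away f ⊗[R] A)
  exact hinj (by rw [TensorProduct.mk_apply, map_zero]; exact h3)

theorem main_eq (R : Type u) [CommRing R] (I : Ideal R) (hI : IsNilpotent I)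
    (A : Type u) [CommRing A] [HopfAlgebra R A] (hH : IsMultType R A)
    (C : Type u) [CommRing C] [HopfAlgebra R C] [Coalgebra.IsCocomm R C] (φ ψ : C →ₐc[R] A)
    (h : ∀ c, φ c - ψ c ∈ (I • ⊤ : Submodule R A)) :
    ∀ c, φ c = ψ c := by
  obtain ⟨s, hs, hloc⟩ := hH
  intro c
  rw [← sub_eq_zero]
  apply eq_zero_of_charts s hs
  intro f hf
  obtain ⟨R', _, _, hff, M, _, ⟨e⟩⟩ := hloc f hf
  have h1 := bc_hyp_eq (Localization.Away f) I φ ψ h
  have h2 := bc_hyp_eq R' (I.map (algebraMap R (Localization.Away f)))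
    (bc (Localization.Away f) φ) (bc (Localization.Away f) ψ) h1
  have hnil : IsNilpotent ((I.map (algebraMap R (Localization.Away f))).map
      (algebraMap (Localization.Away f) R')) :=
    isNilpotent_map _ _ (isNilpotent_map _ _ hI)
  have key := core_eq _ hnil
    ((e.toBialgHom.comp (bc R' (bc (Localization.Away f) φ))).toCoalgHom)
    ((e.toBialgHom.comp (bc R' (bc (Localization.Away f) ψ))).toCoalgHom) (by
      intro x
      have hx := map_mem_smul_top (e.toBialgHom.toCoalgHom.toLinearMap) _ _ (h2 x)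
      have he : e.toBialgHom.toCoalgHom.toLinearMap
          (bc R' (bc (Localization.Away f) φ) x - bc R' (bc (Localization.Away f) ψ) x)
          = e (bc R' (bc (Localization.Away f) φ) x)
            - e (bc R' (bc (Localization.Away f) ψ) x) := by
        show e (_ - _) = _
        rw [map_sub]
      rw [he] at hx
      exact hx)
  have key2 := key ((1 : R') ⊗ₜ[Localization.Away f] ((1 : Localization.Away f) ⊗ₜ[R] c))
  have h3 : bc R' (bc (Localization.Away f) φ)
      ((1 : R') ⊗ₜ[Localization.Away f] ((1 : Localization.Away f) ⊗ₜ[R] c))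
      = bc R' (bc (Localization.Away f) ψ)
      ((1 : R') ⊗ₜ[Localization.Away f] ((1 : Localization.Away f) ⊗ₜ[R] c)) :=
    EquivLike.injective e key2
  rw [bc_tmul, bc_tmul, bc_tmul, bc_tmul, ← sub_eq_zero, ← TensorProduct.tmul_sub,
    ← TensorProduct.tmul_sub] at h3
  have hinj := Module.FaithfullyFlat.tensorProduct_mk_injective (A := Localization.Away f)
    (B := R') (Localization.Away f ⊗[R] A)
  exact hinj (by rw [TensorProduct.mk_apply, map_zero]; exact h3)

end Assembly

end Groth.Agent.Helper18.DiagRigid
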