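import Mathlib
import Groth.Prelude.Def_SGA3b
import Groth.Agent.Lib.Helper18.DiagRigid

/-!
Semilinear base change of bialgebras preserves group-like elements; a commutative Hopf
algebra over a field spanned by group-like elements is diagonalisable; quotients of
diagonalisable Hopf algebras after base change to a field.
-/

set_option autoImplicit false
set_option linter.unusedSectionVars false

namespace Groth.Agent.Helper18.DiagSub

open TensorProduct Coalgebra Groth.Agent.Helper18.DiagRigid

section BC

variable {R S T X Y : Type*} [CommRing R] [CommRing S] [CommRing T] [Algebra R S] [Algebra R T]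
  [Algebra S T] [IsScalarTower R S T]
  [CommRing X] [CommRing Y] [Bialgebra R X] [Bialgebra R Y] (φ : X →ₐc[R] Y)

/-- the semilinear base change map `S ⊗ X → T ⊗ Y` -/
noncomputable def Psi : S ⊗[R] X →ₐ[S] T ⊗[R] Y :=
  Algebra.TensorProduct.map (Algebra.ofId S T) (φ : X →ₐ[R] Y)

theorem psi_tmul (s : S) (x : X) :
    Psi (S := S) (T := T) φ (s ⊗ₜ x) = algebraMap S T s ⊗ₜ φ x := by
  simp [Psi, Algebra.ofId_apply]

theorem counit_psi (u : S ⊗[R] X) :
    counit (R := T) (Psi (S := S) (T := T) φ u) = algebraMap S T (counit (R := S) u) := by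
  induction u using TensorProduct.induction_on with
  | zero => simp
  | tmul s x =>
    rw [psi_tmul, TensorProduct.counit_tmul, TensorProduct.counit_tmul, CommSemiring.counit_apply,
      CommSemiring.counit_apply, CoalgHomClass.counit_comp_apply]
    rw [Algebra.smul_def, Algebra.smul_def, map_mul, ← IsScalarTower.algebraMap_apply R S T]
  | add a b ha hb => simp only [map_add, ha, hb]

theorem psi_comp : (Psi (S := S) (T := T) φ).toRingHom.comp (algebraMap S (S ⊗[R] X)) =
    (algebraMap T (T ⊗[R] Y)).comp (algebraMap S T) := by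
  ext s
  show Psi (S := S) (T := T) φ (algebraMap S (S ⊗[R] X) s)
    = algebraMap T (T ⊗[R] Y) (algebraMap S T s)
  rw [AlgHom.commutes, ← IsScalarTower.algebraMap_apply S T (T ⊗[R] Y)]

/-- the induced map on double tensor products -/
noncomputable def Psi2 : (S ⊗[R] X) ⊗[S] (S ⊗[R] X) →+* (T ⊗[R] Y) ⊗[T] (T ⊗[R] Y) :=
  Algebra.TensorProduct.mapRingHom (algebraMap S T) (Psi (S := S) (T := T) φ).toRingHom
    (Psi (S := S) (T := T) φ).toRingHom (psi_comp φ) (psi_comp φ)

theorem psi2_tmul (a b : S ⊗[R] X) :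
    Psi2 (S := S) (T := T) φ (a ⊗ₜ[S] b)
      = Psi (S := S) (T := T) φ a ⊗ₜ[T] Psi (S := S) (T := T) φ b := by
  rw [Psi2, Algebra.TensorProduct.mapRingHom_tmul]
  rfl

theorem psi2_ttt (s : S) (w : X ⊗[R] X) :
    Psi2 (S := S) (T := T) φ
      (AlgebraTensorModule.tensorTensorTensorComm R S R S S S X X ((1 ⊗ₜ[S] s) ⊗ₜ[R] w)) =
    AlgebraTensorModule.tensorTensorTensorComm R T R T T T Y Y
      ((1 ⊗ₜ[T] algebraMap S T s) ⊗ₜ[R]
        TensorProduct.map (φ : X →ₗ[R] Y) (φ : X →ₗ[R] Y) w) := by
  induction w using TensorProduct.induction_on with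
  | zero => simp
  | tmul x₁ x₂ =>
    rw [AlgebraTensorModule.tensorTensorTensorComm_tmul, TensorProduct.map_tmul,
      AlgebraTensorModule.tensorTensorTensorComm_tmul, psi2_tmul, psi_tmul, psi_tmul, map_one]
    rfl
  | add a b ha hb =>
    rw [TensorProduct.tmul_add, map_add, map_add, ha, hb, map_add, TensorProduct.tmul_add,
      map_add]

theorem comul_psi (u : S ⊗[R] X) :
    comul (R := T) (Psi (S := S) (T := T) φ u)
      = Psi2 (S := S) (T := T) φ (comul (R := S) u) := by
  induction u using TensorProduct.induction_on with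
  | zero => simp
  | tmul s x =>
    rw [psi_tmul, TensorProduct.comul_tmul, TensorProduct.comul_tmul, CommSemiring.comul_apply,
      CommSemiring.comul_apply, psi2_ttt]
    congr 2
    exact (CoalgHomClass.map_comp_comul_apply φ x).symm
  | add a b ha hb => rw [map_add, map_add, ha, hb, map_add, map_add]

theorem groupLike_psi {u : S ⊗[R] X} (hu : IsGroupLikeElem S u) :
    IsGroupLikeElem T (Psi (S := S) (T := T) φ u) where
  counit_eq_one := by rw [counit_psi, hu.counit_eq_one, map_one]
  comul_eq_tmul_self := by rw [comul_psi, hu.comul_eq_tmul_self, psi2_tmul]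

end BC

section Decomp

variable {R : Type*} [CommRing R] {M : Type*} [Monoid M]

theorem alg_decomp (b : MonoidAlgebra R M) :
    ∃ F : Finset M, b = ∑ m ∈ F, cf m b • MonoidAlgebra.single m (1 : R) := by
  classical
  refine ⟨(MonoidAlgebra.coeffLinearEquiv R b).support, ?_⟩
  apply ext_cf
  intro m'
  rw [map_sum]
  simp only [map_smul, cf_single, smul_eq_mul, mul_ite, mul_one, mul_zero]
  rw [Finset.sum_ite_eq' _ m' (fun m => cf m b)]
  by_cases h : m' ∈ (MonoidAlgebra.coeffLinearEquiv R b).support
  · rw [if_pos h]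
  · rw [if_neg h]
    exact Finsupp.notMem_support_iff.mp h

end Decomp

section Span

variable {R S T X Y : Type*} [CommRing R] [CommRing S] [CommRing T] [Algebra R S] [Algebra R T]
  [Algebra S T] [IsScalarTower R S T]
  [CommRing X] [CommRing Y] [Bialgebra R X] [Bialgebra R Y] (φ : X →ₐc[R] Y)
  {M : Type*} [Monoid M]

theorem psi_mem_span (e : S ⊗[R] X ≃ₐc[S] MonoidAlgebra S M) (v : S ⊗[R] X) :
    Psi (S := S) (T := T) φ v ∈
      Submodule.span T {a : T ⊗[R] Y | IsGroupLikeElem T a} := by
  obtain ⟨F, hF⟩ := alg_decomp (e v)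
  have hv : v = ∑ m ∈ F, cf m (e v) • e.symm (MonoidAlgebra.single m (1 : S)) := by
    apply EquivLike.injective e
    rw [map_sum]
    simp_rw [map_smul, BialgEquiv.apply_symm_apply]
    exact hF
  rw [hv, map_sum]
  apply Submodule.sum_mem
  intro m _
  rw [map_smul, ← algebraMap_smul T (cf m (e v))
    (Psi (S := S) (T := T) φ (e.symm (MonoidAlgebra.single m (1 : S))))]
  apply Submodule.smul_mem
  apply Submodule.subset_span
  apply groupLike_psi
  exact (MonoidAlgebra.isGroupLikeElem_single_one (R := S) (A := S) m).map e.symm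

theorem span_groupLike (e : S ⊗[R] X ≃ₐc[S] MonoidAlgebra S M) (hφ : Function.Surjective φ) :
    Submodule.span T {a : T ⊗[R] Y | IsGroupLikeElem T a} = ⊤ := by
  rw [eq_top_iff]
  intro d _
  induction d using TensorProduct.induction_on with
  | zero => exact Submodule.zero_mem _
  | add a b ha hb => exact Submodule.add_mem _ (ha trivial) (hb trivial)
  | tmul t y =>
    obtain ⟨x, rfl⟩ := hφ y
    have h1 : t ⊗ₜ[R] φ x = t • Psi (S := S) (T := T) φ (1 ⊗ₜ x) := by
      rw [psi_tmul, map_one, TensorProduct.smul_tmul', smul_eq_mul, mul_one]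
    rw [h1]
    exact Submodule.smul_mem _ _ (psi_mem_span φ e _)

end Span

section Diag

universe u

theorem diag_of_span (K D : Type u) [Field K] [CommRing D] [HopfAlgebra K D]
    (hspan : Submodule.span K {a : D | IsGroupLikeElem K a} = ⊤) :
    SGA3b.IsDiag K D := by
  classical
  have hL1 : ∀ g : GroupLike K D,
      MonoidAlgebra.liftGroupLikeBialgHom (R := K) (A := D) (MonoidAlgebra.single g (1 : K))
        = g.val := by
    intro g
    simp [MonoidAlgebra.liftGroupLikeBialgHom]
  refine ⟨GroupLike K D, inferInstance,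
    ⟨(BialgEquiv.ofBijective (MonoidAlgebra.liftGroupLikeBialgHom (R := K) (A := D))
      ⟨?_, ?_⟩).symm⟩⟩
  · rw [injective_iff_map_eq_zero]
    intro x hx
    obtain ⟨F, hF⟩ := alg_decomp x
    rw [hF, map_sum] at hx
    simp_rw [map_smul, hL1] at hx
    have hli := (linearIndependent_iff'.mp (linearIndep_groupLikeVal (R := K) (A := D)))
      F (fun m => cf m x) hx
    rw [hF]
    apply Finset.sum_eq_zero
    intro m hm
    rw [hli m hm, zero_smul]
  · intro d
    have hd : d ∈ Submodule.span K {a : D | IsGroupLikeElem K a} := by rw [hspan]; trivial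
    induction hd using Submodule.span_induction with
    | mem a ha => exact ⟨MonoidAlgebra.single ⟨a, ha⟩ 1, hL1 ⟨a, ha⟩⟩
    | zero => exact ⟨0, map_zero _⟩
    | add a b _ _ ha hb =>
      obtain ⟨a', rfl⟩ := ha
      obtain ⟨b', rfl⟩ := hb
      exact ⟨a' + b', map_add _ _ _⟩
    | smul c a _ ha =>
      obtain ⟨a', rfl⟩ := ha
      exact ⟨c • a', map_smul _ _ _⟩

end Diag

end Groth.Agent.Helper18.DiagSub
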