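import Groth.Agent.Lib.Helper18.StalkSets

/-!
# Inverse image of abelian étale sheaves along a surjective morphism is faithful
-/

set_option autoImplicit false
open CategoryTheory CategoryTheory.Limits AlgebraicGeometry Opposite
universe u

namespace Groth.Agent.Helper18.StalkAb

open Groth.Agent.Helper18.StalkTest Groth.Agent.Helper18.StalkPull Groth.Agent.Helper18.SectSupp
open Groth.Agent.Helper18.StalkSets (exists_geom_point_over)

variable {X : Scheme.{u}}

/-- Sections with the same germ at a geometric point agree on an étale neighbourhood. -/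
theorem locally_eq_of_germ_eq {Ω : Type u} [Field Ω] [IsSepClosed Ω]
    (ξ : Spec (CommRingCat.of Ω) ⟶ X) (P : X.Etaleᵒᵖ ⥤ AddCommGrpCat.{u + 1})
    (U : X.Etale) (ul : Spec (CommRingCat.of Ω) ⟶ U.left) (hul : ul ≫ U.hom = ξ)
    (s t : P.obj (op U))
    (h : (Scheme.pointSmallEtale ξ).toPresheafFiber U (Over.homMk ul hul) P s =
      (Scheme.pointSmallEtale ξ).toPresheafFiber U (Over.homMk ul hul) P t) :
    ∃ (W : X.Etale) (g : W ⟶ U) (w : W.left),
      g.left w = ul default ∧ P.map g.op s = P.map g.op t := by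
  obtain ⟨Y, f, y, hy, hf⟩ :=
    ((Scheme.pointSmallEtale ξ).toPresheafFiber_eq_iff' (P := P) U (Over.homMk ul hul) s t).mp h
  obtain ⟨yl, hyl⟩ : ∃ yl : Spec (CommRingCat.of Ω) ⟶ Y.left, yl = y.left := ⟨y.left, rfl⟩
  refine ⟨Y, f, yl default, ?_, hf⟩
  have h1 : yl ≫ f.left = ul := by
    rw [hyl]
    exact congrArg Over.Hom.left hy
  rw [← Scheme.Hom.comp_apply, h1]

variable {X' : Scheme.{u}} (f : X' ⟶ X)

/-- The stalk map of `a` at `ξ ≫ f` is conjugate to the stalk map of `f⁻¹ a` at `ξ`. -/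
theorem stalk_map_eq {Ω : Type u} [Field Ω] [IsSepClosed Ω] (ξ : Spec (CommRingCat.of Ω) ⟶ X')
    {F G : EtCoh.Ab X} (a : F ⟶ G) :
    (Scheme.pointSmallEtale (ξ ≫ f)).sheafFiber.map a =
      (stalkPullNatIso f ξ AddCommGrpCat.{u + 1}).inv.app F ≫
        (Scheme.pointSmallEtale ξ).sheafFiber.map ((EtCoh.pull f).map a) ≫
          (stalkPullNatIso f ξ AddCommGrpCat.{u + 1}).hom.app G := by
  have h := (stalkPullNatIso f ξ AddCommGrpCat.{u + 1}).hom.naturality a
  have h2 : (stalkPullNatIso f ξ AddCommGrpCat.{u + 1}).inv.app F ≫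
      (stalkPullNatIso f ξ AddCommGrpCat.{u + 1}).hom.app F = 𝟙 _ :=
    (stalkPullNatIso f ξ AddCommGrpCat.{u + 1}).inv_hom_id_app F
  calc (Scheme.pointSmallEtale (ξ ≫ f)).sheafFiber.map a
      = ((stalkPullNatIso f ξ AddCommGrpCat.{u + 1}).inv.app F ≫
          (stalkPullNatIso f ξ AddCommGrpCat.{u + 1}).hom.app F) ≫
            (Scheme.pointSmallEtale (ξ ≫ f)).sheafFiber.map a := by
        rw [h2, Category.id_comp]
    _ = _ := by
        rw [Category.assoc, ← h]
        rfl

theorem germ_map {Ω : Type u} [Field Ω] [IsSepClosed Ω] (η : Spec (CommRingCat.of Ω) ⟶ X)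
    {F G : EtCoh.Ab X} (a : F ⟶ G) (U : X.Etale)
    (u : (Scheme.pointSmallEtale η).fiber.obj U) (s : F.obj.obj (op U)) :
    (Scheme.pointSmallEtale η).sheafFiber.map a
      ((Scheme.pointSmallEtale η).toPresheafFiber U u F.obj s) =
      (Scheme.pointSmallEtale η).toPresheafFiber U u G.obj (a.hom.app (op U) s) :=
  (Scheme.pointSmallEtale η).toPresheafFiber_naturality_apply a.hom U u s

theorem faithful_pull [Surjective f] : (EtCoh.pull f).Faithful := by
  constructor
  intro F G a b hab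
  have key : ∀ (U : X.Etale) (s : F.obj.obj (op U)),
      a.hom.app (op U) s = b.hom.app (op U) s := by
    intro U s
    apply eq_of_locally_eq G U
    intro x'
    obtain ⟨Ω, _, _, ξ, ul, hul, hx⟩ := exists_geom_point_over f U x'
    have hst : (Scheme.pointSmallEtale (ξ ≫ f)).sheafFiber.map a =
        (Scheme.pointSmallEtale (ξ ≫ f)).sheafFiber.map b := by
      rw [stalk_map_eq, stalk_map_eq, hab]
    have hgerm : (Scheme.pointSmallEtale (ξ ≫ f)).toPresheafFiber U (Over.homMk ul hul) G.obj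
        (a.hom.app (op U) s) =
        (Scheme.pointSmallEtale (ξ ≫ f)).toPresheafFiber U (Over.homMk ul hul) G.obj
          (b.hom.app (op U) s) := by
      rw [← germ_map, ← germ_map, hst]
    obtain ⟨W, g, w, hw, hg⟩ := locally_eq_of_germ_eq (ξ ≫ f) G.obj U ul hul _ _ hgerm
    exact ⟨W, g, w, hw.trans hx, hg⟩
  apply ObjectProperty.hom_ext
  ext U s
  exact key U.unop s

/-- The unit `F → f_* f⁻¹ F` is a monomorphism for surjective `f`. -/
theorem mono_unit [Surjective f] (F : EtCoh.Ab X) : Mono ((EtCoh.pullPushAdj f).unit.app F) := by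
  haveI := faithful_pull f
  exact Adjunction.unit_mono_of_L_faithful (EtCoh.pullPushAdj f) F

end Groth.Agent.Helper18.StalkAb
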