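import Groth.Agent.Lib.Helper18.StalkTest

/-!
# Geometric stalks of direct images along closed immersions
-/

set_option autoImplicit false
open CategoryTheory CategoryTheory.Limits AlgebraicGeometry Opposite
universe u

namespace Groth.Agent.Helper18.StalkPush

open Groth.Agent.Helper18.StalkTest Groth.Agent.Helper18.SectSupp

variable {X Z : Scheme.{u}}

/-- Sections of an abelian étale sheaf over an empty étale scheme vanish. -/
theorem subsingleton_of_isEmpty (G : EtCoh.Ab Z) (V : Z.Etale) [IsEmpty V.left] :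
    Subsingleton (EtCoh.sect G V) :=
  ⟨fun s t => eq_of_locally_eq G V s t (fun x => isEmptyElim x)⟩

/-- The direct image along a closed immersion has zero stalks outside the closed subscheme. -/
theorem stalk_push_isZero (i : Z ⟶ X) [IsClosedImmersion i] (G : EtCoh.Ab Z)
    {Ω : Type u} [Field Ω] [IsSepClosed Ω] (ξ : Spec (CommRingCat.of Ω) ⟶ X)
    (hξ : Disjoint (Set.range ξ.base) (Set.range i.base)) :
    IsZero ((EtCoh.stalk ξ).obj ((EtCoh.push i).obj G)) := by
  haveI : Subsingleton ((EtCoh.stalk ξ).obj ((EtCoh.push i).obj G)) := by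
    suffices h0 : ∀ p : ((EtCoh.stalk ξ).obj ((EtCoh.push i).obj G)), p = 0 from
      ⟨fun p q => (h0 p).trans (h0 q).symm⟩
    intro p
    obtain ⟨U, u, z, rfl⟩ := (Scheme.pointSmallEtale ξ).toPresheafFiber_jointly_surjective
      (P := ((EtCoh.push i).obj G).obj) p
    obtain ⟨ul, hul⟩ : ∃ ul : Spec (CommRingCat.of Ω) ⟶ U.left, ul = u.left := ⟨u.left, rfl⟩
    have hu : ul ≫ U.hom = ξ := by
      rw [hul]
      exact Over.w u
    let W : U.left.Opens := ⟨(U.hom.base ⁻¹' Set.range i.base)ᶜ,
      (i.isClosedEmbedding.isClosed_range.preimage U.hom.continuous).isOpen_compl⟩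
    let U' : X.Etale := Scheme.Etale.mk (W.ι ≫ U.hom)
    let g : U' ⟶ U := MorphismProperty.Over.homMk W.ι rfl trivial
    have hmem : ∀ a, ul a ∈ W := by
      intro a
      change ¬ (U.hom (ul a) ∈ Set.range i.base)
      rw [← Scheme.Hom.comp_apply, hu]
      intro hc
      exact Set.disjoint_left.1 hξ ⟨a, rfl⟩ hc
    have hr : Set.range ul ⊆ Set.range W.ι := by
      rintro _ ⟨a, rfl⟩
      rw [Scheme.Opens.range_ι]
      exact hmem a
    let l₀ : Spec (CommRingCat.of Ω) ⟶ (W : Scheme.{u}) := IsOpenImmersion.lift W.ι ul hr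
    have hl₀ : l₀ ≫ W.ι = ul := IsOpenImmersion.lift_fac _ _ _
    obtain ⟨l, hl⟩ : ∃ l : Spec (CommRingCat.of Ω) ⟶ U'.left, l ≫ g.left = ul := ⟨l₀, hl₀⟩
    have hlW : l ≫ U'.hom = ξ := by
      have hg : g.left ≫ U.hom = U'.hom := Over.w g.hom
      rw [← hg, ← Category.assoc, hl, hu]
    let y : (Scheme.pointSmallEtale ξ).fiber.obj U' := Over.homMk l hlW
    have hy : (Scheme.pointSmallEtale ξ).fiber.map g y = u := by
      apply Over.OverMorphism.ext
      exact hl.trans hul
    have hw := (Scheme.pointSmallEtale ξ).toPresheafFiber_w_apply g y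
      ((EtCoh.push i).obj G).obj z
    rw [hy] at hw
    rw [← hw]
    haveI : IsEmpty ((EtCoh.bc i).obj U').left := by
      refine ⟨fun t => ?_⟩
      have hc := congrArg (fun φ => φ.base t) (pullback.condition (f := U'.hom) (g := i))
      have h1 : (pullback.fst U'.hom i t : U'.left).1 ∈ W := (pullback.fst U'.hom i t : W).2
      apply h1
      refine ⟨pullback.snd U'.hom i t, ?_⟩
      exact hc.symm
    haveI : Subsingleton (EtCoh.sect G ((EtCoh.bc i).obj U')) := subsingleton_of_isEmpty G _
    have hz : ((EtCoh.push i).obj G).obj.map g.op z = 0 :=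
      Subsingleton.elim (α := EtCoh.sect G ((EtCoh.bc i).obj U')) _ _
    rw [hz, map_zero]
    rfl
  exact AddCommGrpCat.isZero_of_subsingleton _

end Groth.Agent.Helper18.StalkPush
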