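import Groth.Agent.Lib.Helper18.ClosedDense
import Groth.Agent.Lib.Helper18.StalkAb
import Groth.Agent.Lib.Helper18.StalkPush

/-!
# The essential image of the direct image along a closed immersion
-/

set_option autoImplicit false
open CategoryTheory CategoryTheory.Limits AlgebraicGeometry Opposite
universe u

namespace Groth.Agent.Helper18.EssImageClosed

open Groth.Agent.Helper18.StalkTest Groth.Agent.Helper18.SectSupp

variable {Z X : Scheme.{u}} (i : Z ⟶ X) [IsClosedImmersion i]

/-- A field-valued point of `X` lying in a closed subscheme factors through it. -/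
theorem exists_factor {Ω : Type u} [Field Ω] (η : Spec (CommRingCat.of Ω) ⟶ X)
    (h : η default ∈ Set.range i) : ∃ ζ : Spec (CommRingCat.of Ω) ⟶ Z, ζ ≫ i = η := by
  obtain ⟨z, hz⟩ := h
  obtain ⟨p, hp1, hp2⟩ := Scheme.Pullback.exists_preimage_pullback (f := η) (g := i) default z
    hz.symm
  haveI : Surjective (pullback.fst η i) := ⟨fun a => ⟨p, Subsingleton.elim _ _⟩⟩
  haveI : IsIso (pullback.fst η i) := isIso_of_isClosedImmersion_of_surjective _
  refine ⟨inv (pullback.fst η i) ≫ pullback.snd η i, ?_⟩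
  rw [Category.assoc, ← pullback.condition, IsIso.inv_hom_id_assoc]

/-- A sheaf vanishing on étale schemes away from `Z` has zero stalks away from `Z`. -/
theorem stalk_isZero_of_vanish (F : EtCoh.Ab X)
    (hF : ∀ U : X.Etale, Disjoint (Set.range U.hom.base) (Set.range i.base) →
      IsZero (F.obj.obj (op U)))
    {Ω : Type u} [Field Ω] [IsSepClosed Ω] (ξ : Spec (CommRingCat.of Ω) ⟶ X)
    (hξ : Disjoint (Set.range ξ.base) (Set.range i.base)) :
    IsZero ((EtCoh.stalk ξ).obj F) := by
  haveI : Subsingleton ((EtCoh.stalk ξ).obj F) := by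
    suffices h0 : ∀ p : ((EtCoh.stalk ξ).obj F), p = 0 from
      ⟨fun p q => (h0 p).trans (h0 q).symm⟩
    intro p
    obtain ⟨U, u, z, rfl⟩ := (Scheme.pointSmallEtale ξ).toPresheafFiber_jointly_surjective
      (P := F.obj) p
    obtain ⟨ul, hul⟩ : ∃ ul : Spec (CommRingCat.of Ω) ⟶ U.left, ul = u.left := ⟨u.left, rfl⟩
    have hu : ul ≫ U.hom = ξ := by
      rw [hul]
      exact Over.w u
    let W : U.left.Opens := ⟨(U.hom.base ⁻¹' Set.range i.base)ᶜ,
      (i.isClosedEmbedding.isClosed_range.preimage U.hom.continuous).isOpen_compl⟩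
    let U' : X.Etale := Scheme.Etale.mk (W.ι ≫ U.hom)
    let g : U' ⟶ U := MorphismProperty.Over.homMk W.ι rfl trivial
    have hmem : ∀ a, ul a ∈ W := by
      intro a
      change ¬ (U.hom (ul a) ∈ Set.range i.base)
      rw [← Scheme.Hom.comp_apply, hu]
      intro hc
      exact Set.disjoint_left.1 hξ ⟨a, rfl⟩ hc
    have hr : Set.range ul ⊆ Set.range W.ι := by
      rintro _ ⟨a, rfl⟩
      rw [Scheme.Opens.range_ι]
      exact hmem a
    let l₀ : Spec (CommRingCat.of Ω) ⟶ (W : Scheme.{u}) := IsOpenImmersion.lift W.ι ul hr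
    have hl₀ : l₀ ≫ W.ι = ul := IsOpenImmersion.lift_fac _ _ _
    obtain ⟨l, hl⟩ : ∃ l : Spec (CommRingCat.of Ω) ⟶ U'.left, l ≫ g.left = ul := ⟨l₀, hl₀⟩
    have hlW : l ≫ U'.hom = ξ := by
      have hg : g.left ≫ U.hom = U'.hom := Over.w g.hom
      rw [← hg, ← Category.assoc, hl, hu]
    let y : (Scheme.pointSmallEtale ξ).fiber.obj U' := Over.homMk l hlW
    have hy : (Scheme.pointSmallEtale ξ).fiber.map g y = u := by
      apply Over.OverMorphism.ext
      exact hl.trans hul
    have hw := (Scheme.pointSmallEtale ξ).toPresheafFiber_w_apply g y F.obj z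
    rw [hy] at hw
    rw [← hw]
    have hdisj : Disjoint (Set.range U'.hom.base) (Set.range i.base) := by
      rw [Set.disjoint_left]
      rintro _ ⟨t, rfl⟩ hc
      exact (t : W).2 hc
    haveI : Subsingleton (F.obj.obj (op U')) := AddCommGrpCat.subsingleton_of_isZero (hF U' hdisj)
    have hz : F.obj.map g.op z = 0 := Subsingleton.elim (α := F.obj.obj (op U')) _ _
    rw [hz, map_zero]
    rfl
  exact AddCommGrpCat.isZero_of_subsingleton _

/-- An abelian étale sheaf is a direct image from the closed subscheme `Z` exactly when its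
sections vanish over étale schemes missing `Z`. -/
theorem essImage_iff (F : EtCoh.Ab X) :
    (EtCoh.push i).essImage F ↔
      ∀ U : X.Etale, Disjoint (Set.range U.hom.base) (Set.range i.base) →
        IsZero (F.obj.obj (op U)) := by
  constructor
  · rintro ⟨G, ⟨e⟩⟩ U hU
    haveI : IsEmpty ((EtCoh.bc i).obj U).left := by
      refine ⟨fun t => ?_⟩
      have hc := congrArg (fun φ => φ.base t) (pullback.condition (f := U.hom) (g := i))
      exact Set.disjoint_left.1 hU ⟨pullback.fst U.hom i t, rfl⟩
        ⟨pullback.snd U.hom i t, hc.symm⟩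
    haveI : Subsingleton (EtCoh.sect G ((EtCoh.bc i).obj U)) :=
      Groth.Agent.Helper18.StalkPush.subsingleton_of_isEmpty G _
    have hz : IsZero (((EtCoh.push i).obj G).obj.obj (op U)) :=
      AddCommGrpCat.isZero_of_subsingleton (G.obj.obj (op ((EtCoh.bc i).obj U)))
    exact IsZero.of_iso hz
      (((sheafToPresheaf _ _ ⋙ (evaluation _ _).obj (op U)).mapIso e).symm)
  · intro hF
    haveI := Groth.Agent.Helper18.ClosedDense.full_push i
    haveI := Groth.Agent.Helper18.ClosedDense.faithful_push i
    obtain ⟨ηF, hηF⟩ : ∃ ηF : F ⟶ (EtCoh.push i).obj ((EtCoh.pull i).obj F),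
        ηF = (EtCoh.pullPushAdj i).unit.app F := ⟨_, rfl⟩
    haveI : IsIso ((EtCoh.pull i).map ηF) := by
      have h := (EtCoh.pullPushAdj i).left_triangle_components F
      rw [← hηF] at h
      haveI : IsIso ((EtCoh.pullPushAdj i).counit.app ((EtCoh.pull i).obj F)) := inferInstance
      have h2 : (EtCoh.pull i).map ηF =
          inv ((EtCoh.pullPushAdj i).counit.app ((EtCoh.pull i).obj F)) := by
        rw [← cancel_mono ((EtCoh.pullPushAdj i).counit.app ((EtCoh.pull i).obj F)),
          IsIso.inv_hom_id]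
        exact h
      rw [h2]
      infer_instance
    have hb : ∀ (Ω : Type u) [Field Ω] [IsSepClosed Ω] (η : Spec (CommRingCat.of Ω) ⟶ X),
        Function.Bijective ((EtCoh.stalk η).map ηF) := by
      intro Ω _ _ η
      by_cases hη : η default ∈ Set.range i
      · obtain ⟨ζ, rfl⟩ := exists_factor i η hη
        haveI : IsIso ((Scheme.pointSmallEtale (ζ ≫ i)).sheafFiber.map ηF) := by
          rw [Groth.Agent.Helper18.StalkAb.stalk_map_eq]
          infer_instance
        exact (ConcreteCategory.isIso_iff_bijective _).1 inferInstance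
      · have hd : Disjoint (Set.range η.base) (Set.range i.base) := by
          rw [Set.disjoint_left]
          rintro _ ⟨a, rfl⟩ hc
          apply hη
          rwa [Subsingleton.elim a default] at hc
        have h1 := stalk_isZero_of_vanish i F hF η hd
        have h2 := Groth.Agent.Helper18.StalkPush.stalk_push_isZero i ((EtCoh.pull i).obj F) η hd
        haveI := AddCommGrpCat.subsingleton_of_isZero h1
        haveI := AddCommGrpCat.subsingleton_of_isZero h2
        exact ⟨fun a b _ => Subsingleton.elim _ _, fun b => ⟨0, Subsingleton.elim _ _⟩⟩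
    haveI : Mono ηF := (mono_iff ηF).2 (fun Ω _ _ η => (hb Ω η).1)
    haveI : Epi ηF := (epi_iff ηF).2 (fun Ω _ _ η => (hb Ω η).2)
    haveI : IsIso ηF := isIso_of_mono_of_epi ηF
    exact ⟨(EtCoh.pull i).obj F, ⟨(asIso ηF).symm⟩⟩

end Groth.Agent.Helper18.EssImageClosed
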