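import Groth.Agent.Lib.Helper18.OpenDense
import Groth.Agent.Lib.Helper18.EssImageClosed

/-!
# Sheaves of sets: the essential image of the direct image along a closed immersion
-/

set_option autoImplicit false
open CategoryTheory CategoryTheory.Limits AlgebraicGeometry Opposite
universe u

namespace Groth.Agent.Helper18.EssImageSets

open Groth.Agent.Helper18.StalkSets Groth.Agent.Helper18.StalkPull
open Groth.Agent.Helper18.StalkTest (exists_geom_point)

instance ab5T : AB5OfSize.{u, u} (Type (u + 1)) := AB5OfSize_of_univLE.{u, u, u + 1, u + 1} _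

variable {X : Scheme.{u}}

/-- A morphism of sheaves of sets which is bijective on all geometric stalks is an isomorphism. -/
theorem isIso_of_stalks_bijective {F G : EtDesc.Sh X} (a : F ⟶ G)
    (hbij : ∀ (Ω : Type u) [Field Ω] [IsSepClosed Ω] (ξ : Spec (CommRingCat.of Ω) ⟶ X),
      Function.Bijective ((Scheme.pointSmallEtale ξ).sheafFiber.map a)) : IsIso a := by
  have hinj : ∀ (U : X.Etale), Function.Injective (a.hom.app (op U)) := by
    intro U s t hst
    apply eq_of_locally_eq F U
    intro x'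
    obtain ⟨Ω, _, _, ul, hx⟩ := exists_geom_point U.left x'
    have hgerm : (Scheme.pointSmallEtale (ul ≫ U.hom)).toPresheafFiber U (Over.homMk ul rfl) F.obj s =
        (Scheme.pointSmallEtale (ul ≫ U.hom)).toPresheafFiber U (Over.homMk ul rfl) F.obj t := by
      apply (hbij Ω (ul ≫ U.hom)).1
      rw [germ_map, germ_map, hst]
    obtain ⟨W, g, w, hw, hg⟩ := locally_eq_of_germ_eq (ul ≫ U.hom) F.obj U ul rfl _ _ hgerm
    exact ⟨W, g, w, hw.trans hx, hg⟩
  haveI : Mono a := by
    haveI : ∀ U, Mono (a.hom.app U) := fun U => (mono_iff_injective _).2 (hinj U.unop)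
    haveI : Mono a.hom := NatTrans.mono_of_mono_app a.hom
    exact Sheaf.Hom.mono_of_presheaf_mono _ _ a
  haveI : Epi a := by
    rw [← Sheaf.isLocallySurjective_iff_epi]
    refine ⟨fun {U} t => ?_⟩
    refine mem_smallEtaleTopology _ ?_
    intro x'
    obtain ⟨Ω, _, _, ul, hx⟩ := exists_geom_point U.left x'
    obtain ⟨p, hp⟩ := (hbij Ω (ul ≫ U.hom)).2
      ((Scheme.pointSmallEtale (ul ≫ U.hom)).toPresheafFiber U (Over.homMk ul rfl) G.obj t)
    obtain ⟨Y, g, y, s, hy, hs⟩ := exists_local_preimage (ul ≫ U.hom) a U ul rfl t p hp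
    exact ⟨Y, g, y, ⟨s, hs⟩, hy.trans hx⟩
  exact isIso_of_mono_of_epi a

/-- The stalks of a terminal sheaf of sets are singletons. -/
theorem bijective_of_terminal {H H' : EtDesc.Sh X} (hH : IsIso (terminal.from H))
    (hH' : IsIso (terminal.from H')) (a : H ⟶ H')
    {Ω : Type u} [Field Ω] [IsSepClosed Ω] (ξ : Spec (CommRingCat.of Ω) ⟶ X) :
    Function.Bijective ((Scheme.pointSmallEtale ξ).sheafFiber.map a) := by
  haveI : IsIso a := by
    have h : a ≫ terminal.from H' = terminal.from H := Subsingleton.elim _ _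
    exact IsIso.of_isIso_fac_right h
  exact (isIso_iff_bijective _).1 inferInstance

/-- The stalk of a terminal sheaf of sets is a singleton. -/
theorem bijective_of_terminal' {H : EtDesc.Sh X} (hH : IsIso (terminal.from H))
    {Ω : Type u} [Field Ω] [IsSepClosed Ω] (ξ : Spec (CommRingCat.of Ω) ⟶ X) :
    Nonempty (Unique ((Scheme.pointSmallEtale ξ).sheafFiber.obj H)) := by
  have hT : IsTerminal H := terminalIsTerminal.ofIso (asIso (terminal.from H)).symm
  have h2 := IsTerminal.isTerminalObj (Scheme.pointSmallEtale ξ).sheafFiber H hT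
  exact ⟨Types.isTerminalEquivUnique _ h2⟩

section Away

variable {Z : Scheme.{u}} (i : Z ⟶ X) [IsClosedImmersion i]

/-- Étale neighbourhoods of a geometric point away from `Z` can be refined to miss `Z`. -/
theorem exists_refine_away {Ω : Type u} [Field Ω] [IsSepClosed Ω]
    (ξ : Spec (CommRingCat.of Ω) ⟶ X)
    (hξ : Disjoint (Set.range ξ.base) (Set.range i.base))
    (U : X.Etale) (u : (Scheme.pointSmallEtale ξ).fiber.obj U) :
    ∃ (U' : X.Etale) (g : U' ⟶ U) (y : (Scheme.pointSmallEtale ξ).fiber.obj U'),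
      (Scheme.pointSmallEtale ξ).fiber.map g y = u ∧ IsEmpty ((EtCoh.bc i).obj U').left := by
  obtain ⟨ul, hul⟩ : ∃ ul : Spec (CommRingCat.of Ω) ⟶ U.left, ul = u.left := ⟨u.left, rfl⟩
  have hu : ul ≫ U.hom = ξ := by
    rw [hul]
    exact Over.w u
  let W : U.left.Opens := ⟨(U.hom.base ⁻¹' Set.range i.base)ᶜ,
    (i.isClosedEmbedding.isClosed_range.preimage U.hom.continuous).isOpen_compl⟩
  let U' : X.Etale := Scheme.Etale.mk (W.ι ≫ U.hom)
  let g : U' ⟶ U := MorphismProperty.Over.homMk W.ι rfl trivial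
  have hmem : ∀ a, ul a ∈ W := by
    intro a
    change ¬ (U.hom (ul a) ∈ Set.range i.base)
    rw [← Scheme.Hom.comp_apply, hu]
    intro hc
    exact Set.disjoint_left.1 hξ ⟨a, rfl⟩ hc
  have hr : Set.range ul ⊆ Set.range W.ι := by
    rintro _ ⟨a, rfl⟩
    rw [Scheme.Opens.range_ι]
    exact hmem a
  let l₀ : Spec (CommRingCat.of Ω) ⟶ (W : Scheme.{u}) := IsOpenImmersion.lift W.ι ul hr
  have hl₀ : l₀ ≫ W.ι = ul := IsOpenImmersion.lift_fac _ _ _
  obtain ⟨l, hl⟩ : ∃ l : Spec (CommRingCat.of Ω) ⟶ U'.left, l ≫ g.left = ul := ⟨l₀, hl₀⟩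
  have hlW : l ≫ U'.hom = ξ := by
    have hg : g.left ≫ U.hom = U'.hom := Over.w g.hom
    rw [← hg, ← Category.assoc, hl, hu]
  refine ⟨U', g, Over.homMk l hlW, ?_, ?_⟩
  · apply Over.OverMorphism.ext
    exact hl.trans hul
  · refine ⟨fun t => ?_⟩
    have hc := congrArg (fun φ => φ.base t) (pullback.condition (f := U'.hom) (g := i))
    have h1 : (pullback.fst U'.hom i t : U'.left).1 ∈ W := (pullback.fst U'.hom i t : W).2
    apply h1
    refine ⟨pullback.snd U'.hom i t, ?_⟩
    exact hc.symm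

/-- Sections of a sheaf of sets over an empty étale scheme form a singleton. -/
theorem unique_of_isEmpty (G : EtDesc.Sh Z) (V : Z.Etale) [IsEmpty V.left] :
    Nonempty (Unique (G.obj.obj (op V))) := by
  have hsh : Presieve.IsSheaf Z.smallEtaleTopology G.obj :=
    (isSheaf_iff_isSheaf_of_type _ _).1 G.property
  have hmem : (⊥ : Sieve V) ∈ Z.smallEtaleTopology V :=
    mem_smallEtaleTopology _ (fun x => isEmptyElim x)
  let fam : Presieve.FamilyOfElements G.obj (⊥ : Sieve V).arrows := fun _ _ h => False.elim h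
  have hc : fam.Compatible := fun _ _ _ _ _ _ _ h => False.elim h
  refine ⟨⟨⟨(hsh _ hmem).amalgamate fam hc⟩, fun s => ?_⟩⟩
  exact eq_of_locally_eq G V _ _ (fun x => isEmptyElim x)

/-- The stalk of `i_* G` at a geometric point away from `Z` is a singleton. -/
theorem unique_stalk_push_away (G : EtDesc.Sh Z)
    {Ω : Type u} [Field Ω] [IsSepClosed Ω] (ξ : Spec (CommRingCat.of Ω) ⟶ X)
    (hξ : Disjoint (Set.range ξ.base) (Set.range i.base)) :
    Nonempty (Unique ((Scheme.pointSmallEtale ξ).sheafFiber.obj ((EtDesc.pushSh i).obj G))) := by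
  have hsub : ∀ p q : (Scheme.pointSmallEtale ξ).sheafFiber.obj ((EtDesc.pushSh i).obj G),
      p = q := by
    intro p q
    obtain ⟨U, u, z₁, z₂, rfl, rfl⟩ :=
      (Scheme.pointSmallEtale ξ).toPresheafFiber_jointly_surjective₂
        (P := ((EtDesc.pushSh i).obj G).obj) p q
    obtain ⟨U', g, y, hy, hE⟩ := exists_refine_away i ξ hξ U u
    have hw₁ := (Scheme.pointSmallEtale ξ).toPresheafFiber_w_apply g y
      ((EtDesc.pushSh i).obj G).obj z₁
    have hw₂ := (Scheme.pointSmallEtale ξ).toPresheafFiber_w_apply g y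
      ((EtDesc.pushSh i).obj G).obj z₂
    rw [hy] at hw₁ hw₂
    rw [← hw₁, ← hw₂]
    obtain ⟨hun⟩ := unique_of_isEmpty G ((EtCoh.bc i).obj U')
    have hz : ((EtDesc.pushSh i).obj G).obj.map g.op z₁ =
        ((EtDesc.pushSh i).obj G).obj.map g.op z₂ :=
      (hun.uniq _).trans (hun.uniq _).symm
    rw [hz]
  let U₀ : X.Etale := Scheme.Etale.mk (𝟙 X)
  let u₀ : (Scheme.pointSmallEtale ξ).fiber.obj U₀ := Over.homMk ξ (Category.comp_id ξ)
  obtain ⟨U', g, y, hy, hE⟩ := exists_refine_away i ξ hξ U₀ u₀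
  obtain ⟨hun⟩ := unique_of_isEmpty G ((EtCoh.bc i).obj U')
  exact ⟨⟨⟨(Scheme.pointSmallEtale ξ).toPresheafFiber U' y ((EtDesc.pushSh i).obj G).obj
    hun.default⟩, fun a => hsub _ _⟩⟩

end Away

theorem bijective_of_unique {A B : Type (u + 1)} (f : A → B) (hA : Nonempty (Unique A))
    (hB : Nonempty (Unique B)) : Function.Bijective f := by
  obtain ⟨hA⟩ := hA
  obtain ⟨hB⟩ := hB
  exact ⟨fun a b _ => (hA.uniq a).trans (hA.uniq b).symm,
    fun b => ⟨hA.default, (hB.uniq _).trans (hB.uniq _).symm⟩⟩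

theorem unique_of_iso {A B : Type (u + 1)} (e : A ≅ B) (hB : Nonempty (Unique B)) :
    Nonempty (Unique A) := by
  obtain ⟨hB⟩ := hB
  exact ⟨Equiv.unique e.toEquiv⟩

theorem main {Y U : Scheme.{u}} (i : Y ⟶ X) [IsClosedImmersion i] (j : U ⟶ X)
    [IsOpenImmersion j] (hU : Set.range j.base = (Set.range i.base)ᶜ) (F : EtDesc.Sh X) :
    (EtDesc.pushSh i).essImage F ↔ IsIso (terminal.from ((EtDesc.pullSh j).obj F)) := by
  have hdisj : ∀ {Ω : Type u} [Field Ω] (ζ : Spec (CommRingCat.of Ω) ⟶ U),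
      Disjoint (Set.range (ζ ≫ j).base) (Set.range i.base) := by
    intro Ω _ ζ
    rw [Set.disjoint_left]
    rintro _ ⟨a, rfl⟩ hc
    have h1 : (ζ ≫ j).base a ∈ Set.range j.base := ⟨ζ.base a, rfl⟩
    rw [hU] at h1
    exact h1 hc
  constructor
  · rintro ⟨G, ⟨e⟩⟩
    apply isIso_of_stalks_bijective
    intro Ω _ _ ζ
    apply bijective_of_unique
    · have e1 := (stalkPullNatIso j ζ (Type (u + 1))).app F
      have e2 := (Scheme.pointSmallEtale (ζ ≫ j)).sheafFiber.mapIso e.symm
      exact unique_of_iso (e1 ≪≫ e2) (unique_stalk_push_away i G (ζ ≫ j) (hdisj ζ))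
    · apply bijective_of_terminal'
      have h : terminal.from (⊤_ (EtDesc.Sh U)) = 𝟙 _ := Subsingleton.elim _ _
      rw [h]
      infer_instance
  · intro hT
    haveI := Groth.Agent.Helper18.OpenDense.full_pushSh i
    haveI := Groth.Agent.Helper18.OpenDense.faithful_pushSh i
    obtain ⟨ηF, hηF⟩ : ∃ ηF : F ⟶ (EtDesc.pushSh i).obj ((EtDesc.pullSh i).obj F),
        ηF = (EtDesc.adjSh i).unit.app F := ⟨_, rfl⟩
    haveI : IsIso ((EtDesc.pullSh i).map ηF) := by
      have h := (EtDesc.adjSh i).left_triangle_components F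
      rw [← hηF] at h
      haveI : IsIso ((EtDesc.adjSh i).counit.app ((EtDesc.pullSh i).obj F)) := inferInstance
      have h2 : (EtDesc.pullSh i).map ηF =
          inv ((EtDesc.adjSh i).counit.app ((EtDesc.pullSh i).obj F)) := by
        rw [← cancel_mono ((EtDesc.adjSh i).counit.app ((EtDesc.pullSh i).obj F)),
          IsIso.inv_hom_id]
        exact h
      rw [h2]
      infer_instance
    haveI : IsIso ηF := by
      apply isIso_of_stalks_bijective
      intro Ω _ _ η
      by_cases hη : η default ∈ Set.range i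
      · obtain ⟨ζ, rfl⟩ := Groth.Agent.Helper18.EssImageClosed.exists_factor i η hη
        haveI : IsIso ((Scheme.pointSmallEtale (ζ ≫ i)).sheafFiber.map ηF) := by
          rw [stalk_map_eq]
          infer_instance
        exact (isIso_iff_bijective _).1 inferInstance
      · have hr : Set.range η ⊆ Set.range j := by
          rintro _ ⟨a, rfl⟩
          rw [Subsingleton.elim a default]
          change η default ∈ Set.range j.base
          rw [hU]
          exact hη
        obtain ⟨ζ, rfl⟩ : ∃ ζ : Spec (CommRingCat.of Ω) ⟶ U, ζ ≫ j = η :=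
          ⟨IsOpenImmersion.lift j η hr, IsOpenImmersion.lift_fac _ _ _⟩
        apply bijective_of_unique
        · have e1 := (stalkPullNatIso j ζ (Type (u + 1))).app F
          exact unique_of_iso e1.symm (bijective_of_terminal' hT ζ)
        · exact unique_stalk_push_away i _ (ζ ≫ j) (hdisj ζ)
    exact ⟨(EtDesc.pullSh i).obj F, ⟨(asIso ηF).symm⟩⟩

end Groth.Agent.Helper18.EssImageSets
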