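import Mathlib

set_option autoImplicit false

namespace Groth.Agent.Helper18.EtLoc

open AlgebraicGeometry CategoryTheory Limits

universe u

/-- A finite family of opens of `Y`, each satisfying `P` over `U`, covering the points over `u`
whose image in `X` lies in `T`. -/
def SplitSq (P : MorphismProperty Scheme.{u}) {Y X U : Scheme.{u}} (a : Y ⟶ X) (b : Y ⟶ U)
    (u : U) (T : Set X) : Prop :=
  ∃ (K : Type) (_ : Finite K) (V : K → Y.Opens),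
    (∀ k, P ((V k).ι ≫ b)) ∧ ∀ w : Y, b w = u → a w ∈ T → ∃ k, w ∈ V k

lemma SplitSq.empty (P : MorphismProperty Scheme.{u}) {Y X U : Scheme.{u}} (a : Y ⟶ X)
    (b : Y ⟶ U) (u : U) : SplitSq P a b u ∅ :=
  ⟨PEmpty, inferInstance, PEmpty.elim, fun k => k.elim, fun _ _ hw => hw.elim⟩

lemma SplitSq.mono {P : MorphismProperty Scheme.{u}} {Y X U : Scheme.{u}} {a : Y ⟶ X}
    {b : Y ⟶ U} {u : U} {T T' : Set X} (hT : T' ⊆ T) (h : SplitSq P a b u T) :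
    SplitSq P a b u T' := by
  obtain ⟨K, hK, V, hV, hc⟩ := h
  exact ⟨K, hK, V, hV, fun w hw ht => hc w hw (hT ht)⟩

lemma SplitSq.union {P : MorphismProperty Scheme.{u}} {Y X U : Scheme.{u}} {a : Y ⟶ X}
    {b : Y ⟶ U} {u : U} {T₁ T₂ : Set X} (h₁ : SplitSq P a b u T₁) (h₂ : SplitSq P a b u T₂) :
    SplitSq P a b u (T₁ ∪ T₂) := by
  obtain ⟨K₁, hK₁, V₁, hV₁, hc₁⟩ := h₁
  obtain ⟨K₂, hK₂, V₂, hV₂, hc₂⟩ := h₂
  refine ⟨K₁ ⊕ K₂, inferInstance, Sum.elim V₁ V₂, ?_, ?_⟩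
  · rintro (k | k)
    · exact hV₁ k
    · exact hV₂ k
  · rintro w hw (ht | ht)
    · obtain ⟨k, hk⟩ := hc₁ w hw ht
      exact ⟨Sum.inl k, hk⟩
    · obtain ⟨k, hk⟩ := hc₂ w hw ht
      exact ⟨Sum.inr k, hk⟩

lemma SplitSq.bc (P : MorphismProperty Scheme.{u}) [P.IsStableUnderBaseChange]
    {Y Y' X U U' : Scheme.{u}} (a : Y ⟶ X) (b : Y ⟶ U) (m : Y' ⟶ Y) (b' : Y' ⟶ U') (h : U' ⟶ U)
    (hpb : IsPullback m b' b h) (u' : U') (u : U) (hu : h u' = u) (T : Set X)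
    (hs : SplitSq P a b u T) : SplitSq P (m ≫ a) b' u' T := by
  obtain ⟨K, hK, V, hV, hc⟩ := hs
  refine ⟨K, hK, fun k => m ⁻¹ᵁ V k, fun k => ?_, fun w hw ht => ?_⟩
  · have h1 : IsPullback (m ∣_ V k) (m ⁻¹ᵁ V k).ι (V k).ι m := isPullback_morphismRestrict m (V k)
    exact MorphismProperty.of_isPullback (h1.paste_vert hpb) (hV k)
  · have hw' : b (m w) = u := by
      rw [← Scheme.Hom.comp_apply, hpb.w, Scheme.Hom.comp_apply, hw, hu]
    obtain ⟨k, hk⟩ := hc (m w) hw' ht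
    exact ⟨k, hk⟩

lemma SplitSq.of_isOpenImmersion (P : MorphismProperty Scheme.{u}) [P.RespectsIso]
    {Y Y' X X' U : Scheme.{u}} (a : Y ⟶ X) (b : Y ⟶ U) (a' : Y' ⟶ X') (m : Y' ⟶ Y)
    [IsOpenImmersion m] (u : U) (T : Set X) (T' : Set X')
    (hr : ∀ w : Y, b w = u → a w ∈ T → ∃ w' : Y', m w' = w ∧ a' w' ∈ T')
    (h : SplitSq P a' (m ≫ b) u T') : SplitSq P a b u T := by
  obtain ⟨K, hK, V, hV, hc⟩ := h
  refine ⟨K, hK, fun k => m ''ᵁ V k, fun k => ?_, fun w hw ht => ?_⟩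
  · have e : (m ''ᵁ V k).ι ≫ b = (m.isoImage (V k)).inv ≫ ((V k).ι ≫ m ≫ b) := by
      rw [← Scheme.Hom.isoImage_inv_ι]
      simp only [Category.assoc]
    rw [e]
    exact (P.cancel_left_of_respectsIso _ _).mpr (hV k)
  · obtain ⟨w', rfl, hw'⟩ := hr w hw ht
    obtain ⟨k, hk⟩ := hc w' (by rw [Scheme.Hom.comp_apply]; exact hw) hw'
    exact ⟨k, ⟨w', hk, rfl⟩⟩

lemma SplitSq.of_isClosedImmersion {Y Y' X X' U : Scheme.{u}} (a : Y ⟶ X) (b : Y ⟶ U)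
    (a' : Y' ⟶ X') (j : X' ⟶ X) (m : Y' ⟶ Y) [IsClosedImmersion m] (hc : m ≫ a = a' ≫ j)
    (u : U) (T : Set X) (h : SplitSq (MorphismProperty.isomorphisms Scheme.{u}) a b u T) :
    SplitSq @IsClosedImmersion a' (m ≫ b) u (j ⁻¹' T) := by
  obtain ⟨K, hK, V, hV, hcov⟩ := h
  refine ⟨K, hK, fun k => m ⁻¹ᵁ V k, fun k => ?_, fun w hw ht => ?_⟩
  · have e : (m ⁻¹ᵁ V k).ι ≫ m ≫ b = (m ∣_ V k) ≫ ((V k).ι ≫ b) := by
      rw [← Category.assoc, ← morphismRestrict_ι, Category.assoc]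
    rw [e]
    haveI : IsClosedImmersion (m ∣_ V k) :=
      MorphismProperty.of_isPullback (P := @IsClosedImmersion)
        (isPullback_morphismRestrict m (V k)).flip inferInstance
    haveI : IsIso ((V k).ι ≫ b) := hV k
    infer_instance
  · have h1 : a (m w) = j (a' w) := by
      rw [← Scheme.Hom.comp_apply, hc, Scheme.Hom.comp_apply]
    obtain ⟨k, hk⟩ := hcov (m w) (by rw [← Scheme.Hom.comp_apply]; exact hw)
      (by rw [h1]; exact ht)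
    exact ⟨k, hk⟩

lemma SplitSq.of_sigma {Y X U : Scheme.{u}} {n : ℕ} (V : Fin n → Scheme.{u}) (c : ∀ j, V j ⟶ U)
    (hc : ∀ j, IsIso (c j)) (e : (∐ V) ≅ Y) (a : Y ⟶ X) (b : Y ⟶ U)
    (he : ∀ j, Sigma.ι V j ≫ e.hom ≫ b = c j) (u : U) (T : Set X) :
    SplitSq (MorphismProperty.isomorphisms Scheme.{u}) a b u T := by
  haveI : ∀ j, IsOpenImmersion (Sigma.ι V j) := fun j => (sigmaOpenCover V).map_prop j
  refine ⟨Fin n, inferInstance, fun j => (Sigma.ι V j ≫ e.hom).opensRange, fun j => ?_,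
    fun w _ _ => ?_⟩
  · show IsIso _
    have e1 : (Sigma.ι V j ≫ e.hom).opensRange.ι ≫ b =
        (Sigma.ι V j ≫ e.hom).isoOpensRange.inv ≫ c j := by
      rw [← he j, ← Scheme.Hom.isoOpensRange_inv_comp]
      simp only [Category.assoc]
    rw [e1]
    haveI := hc j
    infer_instance
  · obtain ⟨j, y, hy⟩ := (sigmaOpenCover V).exists_eq (e.inv w)
    refine ⟨j, y, ?_⟩
    have hy' : Sigma.ι V j y = e.inv w := hy
    rw [Scheme.Hom.comp_apply, hy', ← Scheme.Hom.comp_apply, e.inv_hom_id]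
    rfl

lemma exists_point_of_isPullback {P X Y Z : Scheme.{u}} {fst : P ⟶ X} {snd : P ⟶ Y}
    {f : X ⟶ Z} {g : Y ⟶ Z} (h : IsPullback fst snd f g) (x : X) (y : Y) (hxy : f x = g y) :
    ∃ z : P, fst z = x ∧ snd z = y := by
  obtain ⟨z, hz1, hz2⟩ := Scheme.Pullback.exists_preimage_pullback x y hxy
  refine ⟨h.isoPullback.inv z, ?_, ?_⟩
  · rw [← Scheme.Hom.comp_apply, h.isoPullback_inv_fst]
    exact hz1
  · rw [← Scheme.Hom.comp_apply, h.isoPullback_inv_snd]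
    exact hz2

lemma SplitSq.openBase (P : MorphismProperty Scheme.{u}) [P.RespectsIso]
    {X X' S S' U : Scheme.{u}} (f : X ⟶ S) (f' : X' ⟶ S') (j : X' ⟶ X) [IsOpenImmersion j]
    (i : S' ⟶ S) [Mono i] (comm : f' ≫ i = j ≫ f) (g₁ : U ⟶ S') (u : U) (T' : Set X')
    (h : SplitSq P (pullback.fst f' g₁) (pullback.snd f' g₁) u T') :
    SplitSq P (pullback.fst f (g₁ ≫ i)) (pullback.snd f (g₁ ≫ i)) u (j '' T') := by
  let m : pullback f' g₁ ⟶ pullback f (g₁ ≫ i) :=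
    pullback.map f' g₁ f (g₁ ≫ i) j (𝟙 U) i comm (by simp)
  have hm1 : m ≫ pullback.fst f (g₁ ≫ i) = pullback.fst f' g₁ ≫ j := pullback.lift_fst _ _ _
  have hm2 : m ≫ pullback.snd f (g₁ ≫ i) = pullback.snd f' g₁ :=
    (pullback.lift_snd _ _ _).trans (Category.comp_id _)
  refine SplitSq.of_isOpenImmersion P _ _ (pullback.fst f' g₁) m u _ T' ?_ (by rw [hm2]; exact h)
  intro w hw ht
  obtain ⟨t', ht', htw⟩ := ht
  have hrange : w ∈ Set.range m := by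
    rw [Scheme.Pullback.range_map]
    exact ⟨⟨t', htw⟩, ⟨(pullback.snd f (g₁ ≫ i)) w, rfl⟩⟩
  obtain ⟨w', rfl⟩ := hrange
  refine ⟨w', rfl, ?_⟩
  have h3 : j (pullback.fst f' g₁ w') = j t' := by
    rw [← Scheme.Hom.comp_apply, ← hm1, Scheme.Hom.comp_apply]
    exact htw.symm
  rw [j.isOpenEmbedding.injective h3]
  exact ht'

end Groth.Agent.Helper18.EtLoc
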