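import Mathlib

set_option autoImplicit false

namespace Groth.Agent.Helper18.EtLoc

open Polynomial
open scoped IntermediateField

universe u

/-- (after helper11's EtRetr2) -/
lemma scaleRoots_comp' {R : Type*} [CommRing R] (p : R[X]) (s : R) :
    (scaleRoots p s).comp (C s * X) = C (s ^ p.natDegree) * p := by
  ext i
  rw [comp_C_mul_X_coeff, coeff_scaleRoots, coeff_C_mul]
  by_cases hi : i ≤ p.natDegree
  · rw [mul_assoc, ← pow_add, Nat.sub_add_cancel hi, mul_comm]
  · rw [coeff_eq_zero_of_natDegree_lt (not_le.1 hi)]; simp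

lemma scaleRoots_derivative_eval' {R : Type*} [CommRing R] (p : R[X]) (s r : R) :
    s * (derivative (scaleRoots p s)).eval (s * r) = s ^ p.natDegree * (derivative p).eval r := by
  have h := congrArg (fun q => (derivative q).eval r) (scaleRoots_comp' p s)
  simp only [derivative_comp, derivative_mul, derivative_C, derivative_X, zero_mul, zero_add,
    mul_one, eval_mul, eval_C, eval_comp, eval_X] at h
  simpa using h

/-- An etale neighbourhood of a prime realizing a given finite separable residue field
extension. -/
theorem exists_etale_residueField_ext {R : Type u} [CommRing R] (p : Ideal R) [p.IsPrime]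
    (K' : Type u) [Field K'] [Algebra p.ResidueField K'] [FiniteDimensional p.ResidueField K']
    [Algebra.IsSeparable p.ResidueField K'] :
    ∃ (R' : Type u) (_ : CommRing R') (_ : Algebra R R') (_ : Algebra.Etale R R') (P : Ideal R')
      (_ : P.IsPrime) (hP : p = P.comap (algebraMap R R')) (ψ : K' →+* P.ResidueField),
      ψ.comp (algebraMap p.ResidueField K') =
        Ideal.ResidueField.map p P (algebraMap R R') hP := by
  classical
  letI : Algebra R K' := ((algebraMap p.ResidueField K').comp (algebraMap R p.ResidueField)).toAlgebra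
  haveI : IsScalarTower R p.ResidueField K' := IsScalarTower.of_algebraMap_eq' rfl
  obtain ⟨β, hβ⟩ := Field.exists_primitive_element p.ResidueField K'
  have hβint : IsIntegral p.ResidueField β := Algebra.IsIntegral.isIntegral β
  set m := minpoly p.ResidueField β with hm
  have hmmonic : m.Monic := minpoly.monic hβint
  have hmsep : m.Separable := Algebra.IsSeparable.isSeparable p.ResidueField β
  obtain ⟨b, hb⟩ := IsLocalization.exist_integer_multiples_of_finset (nonZeroDivisors (R ⧸ p))
    (S := p.ResidueField) ((Finset.range (m.natDegree + 1)).image m.coeff)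
  obtain ⟨b₁, hb₁⟩ := Ideal.Quotient.mk_surjective (b : R ⧸ p)
  have hb₁p : b₁ ∉ p := by
    intro h
    have : (b : R ⧸ p) = 0 := by rw [← hb₁]; exact Ideal.Quotient.eq_zero_iff_mem.mpr h
    exact nonZeroDivisors.coe_ne_zero b this
  set bκ : p.ResidueField := algebraMap R p.ResidueField b₁ with hbκdef
  have hbκ : bκ ≠ 0 := fun h => hb₁p (Ideal.algebraMap_residueField_eq_zero.mp h)
  have hbκ' : algebraMap (R ⧸ p) p.ResidueField (b : R ⧸ p) = bκ := by rw [← hb₁]; rfl
  set F := scaleRoots m bκ with hF
  have hFmonic : F.Monic := (monic_scaleRoots_iff bκ).mpr hmmonic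
  have hFlifts : F ∈ Polynomial.lifts (algebraMap R p.ResidueField) := by
    rw [Polynomial.lifts_iff_coeff_lifts]
    intro i
    rw [hF, coeff_scaleRoots]
    rcases lt_trichotomy i m.natDegree with hi | hi | hi
    · have hmem : m.coeff i ∈ (Finset.range (m.natDegree + 1)).image m.coeff :=
        Finset.mem_image.mpr ⟨i, Finset.mem_range.mpr (by omega), rfl⟩
      obtain ⟨r, hr⟩ := hb _ hmem
      obtain ⟨r₁, rfl⟩ := Ideal.Quotient.mk_surjective r
      refine ⟨r₁ * b₁ ^ (m.natDegree - i - 1), ?_⟩
      have h1 : algebraMap R p.ResidueField r₁ = bκ * m.coeff i := by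
        have h2 : algebraMap (R ⧸ p) p.ResidueField (Ideal.Quotient.mk p r₁) =
            (b : R ⧸ p) • m.coeff i := hr
        rw [Algebra.smul_def, hbκ'] at h2
        exact h2
      have hpow : bκ ^ (m.natDegree - i) = bκ ^ (m.natDegree - i - 1) * bκ := by
        rw [← pow_succ]; congr 1; omega
      rw [map_mul, map_pow, h1, hpow, ← hbκdef]
      ring
    · subst hi
      refine ⟨1, ?_⟩
      rw [map_one, Nat.sub_self, pow_zero, mul_one]
      exact hmmonic.coeff_natDegree.symm
    · refine ⟨0, ?_⟩
      rw [map_zero, coeff_eq_zero_of_natDegree_lt hi, zero_mul]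
  obtain ⟨f, hfF, -, hfmonic⟩ := Polynomial.lifts_and_degree_eq_and_monic hFlifts hFmonic
  set bK : K' := algebraMap p.ResidueField K' bκ with hbKdef
  have hbK : bK ≠ 0 := (_root_.map_ne_zero _).mpr hbκ
  set β' : K' := bK * β with hβ'
  have hmapf : f.map (algebraMap R K') =
      scaleRoots (m.map (algebraMap p.ResidueField K')) bK := by
    rw [IsScalarTower.algebraMap_eq R p.ResidueField K', ← Polynomial.map_map, hfF, hF,
      map_scaleRoots]
    rw [hmmonic.leadingCoeff, map_one]
    exact one_ne_zero
  have hroot : aeval β' f = 0 := by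
    have : aeval β' f = aeval β' F := by
      rw [← hfF, aeval_map_algebraMap]
    rw [this]
    exact scaleRoots_aeval_eq_zero (minpoly.aeval p.ResidueField β)
  have hder : aeval β' (derivative f) ≠ 0 := by
    have h1 : aeval β' (derivative f) =
        (derivative (scaleRoots (m.map (algebraMap p.ResidueField K')) bK)).eval (bK * β) := by
      rw [← hmapf, ← eval_map_algebraMap, derivative_map]
    rw [h1]
    intro h0
    have h2 := scaleRoots_derivative_eval' (m.map (algebraMap p.ResidueField K')) bK β
    rw [h0, mul_zero] at h2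
    have h3 : (derivative (m.map (algebraMap p.ResidueField K'))).eval β ≠ 0 := by
      have hroot' : (m.map (algebraMap p.ResidueField K')).eval β = 0 := by
        rw [eval_map_algebraMap]; exact minpoly.aeval p.ResidueField β
      intro hd
      obtain ⟨a, c, hac⟩ := hmsep.map (f := algebraMap p.ResidueField K')
      have := congrArg (eval β) hac
      rw [eval_add, eval_mul, eval_mul, hroot', hd, mul_zero, mul_zero, add_zero, eval_one] at this
      exact zero_ne_one this
    exact (mul_ne_zero (pow_ne_zero _ hbK) h3) h2.symm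
  let Pr : StandardEtalePair R := ⟨f, hfmonic, derivative f, ⟨1, 0, 1, by simp⟩⟩
  have hmap : Pr.HasMap β' := ⟨hroot, isUnit_iff_ne_zero.mpr hder⟩
  let χ : Pr.Ring →ₐ[R] K' := Pr.lift β' hmap
  have hχX : χ Pr.X = β' := Pr.lift_X β' hmap
  let P : Ideal Pr.Ring := RingHom.ker χ.toRingHom
  haveI : P.IsPrime := RingHom.ker_isPrime _
  have hP : p = P.comap (algebraMap R Pr.Ring) := by
    ext a
    simp only [Ideal.mem_comap, P, RingHom.mem_ker]
    rw [show χ.toRingHom (algebraMap R Pr.Ring a) = algebraMap R K' a from χ.commutes a,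
      IsScalarTower.algebraMap_apply R p.ResidueField K', map_eq_zero,
      Ideal.algebraMap_residueField_eq_zero]
  let ι : P.ResidueField →+* K' := Ideal.ResidueField.lift P χ.toRingHom le_rfl (by
    intro x hx
    show IsUnit (χ.toRingHom x)
    exact isUnit_iff_ne_zero.mpr (fun h => hx (RingHom.mem_ker.mpr h)))
  have hι : ∀ r, ι (algebraMap Pr.Ring P.ResidueField r) = χ r := fun r =>
    Ideal.ResidueField.lift_algebraMap _ _ _ _ r
  have hιmap : ι.comp (Ideal.ResidueField.map p P (algebraMap R Pr.Ring) hP) =
      algebraMap p.ResidueField K' := by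
    apply Ideal.ResidueField.ringHom_ext
    refine RingHom.ext fun a => ?_
    simp only [RingHom.comp_apply]
    rw [Ideal.ResidueField.map_algebraMap, hι]
    exact χ.commutes a
  have hsurj : Function.Surjective ι := by
    let L : IntermediateField p.ResidueField K' :=
      ι.fieldRange.toIntermediateField (fun c =>
        ⟨Ideal.ResidueField.map p P (algebraMap R Pr.Ring) hP c, by
          rw [← RingHom.comp_apply, hιmap]⟩)
    have hβ'L : β' ∈ L := ⟨algebraMap Pr.Ring P.ResidueField Pr.X, by rw [hι, hχX]⟩
    have hβL : β ∈ L := by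
      have : β = bK⁻¹ * β' := by rw [hβ', ← mul_assoc, inv_mul_cancel₀ hbK, one_mul]
      rw [this]
      exact L.mul_mem (L.inv_mem (L.algebraMap_mem bκ)) hβ'L
    have hL : L = ⊤ := by
      rw [eq_top_iff, ← hβ]
      exact IntermediateField.adjoin_simple_le_iff.mpr hβL
    intro z
    have hz : z ∈ L := hL ▸ IntermediateField.mem_top
    exact hz
  let e : P.ResidueField ≃+* K' := RingEquiv.ofBijective ι ⟨ι.injective, hsurj⟩
  refine ⟨Pr.Ring, inferInstance, inferInstance, inferInstance, P, inferInstance, hP,
    e.symm.toRingHom, ?_⟩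
  rw [← hιmap]
  refine RingHom.ext fun c => ?_
  show e.symm (ι (Ideal.ResidueField.map p P (algebraMap R Pr.Ring) hP c)) = _
  exact e.symm_apply_apply _

/-- Primitive element of the separable part of a finite field extension. -/
theorem exists_sep_primitive {K L : Type u} [Field K] [Field L] (ρ : K →+* L) (hρ : ρ.Finite)
    (q : ℕ) [ExpChar K q] :
    ∃ (b₀ : L) (m : K[X]), m.Separable ∧ Polynomial.eval₂ ρ b₀ m = 0 ∧
      ∀ z : L, ∃ n : ℕ, z ^ q ^ n ∈ Subfield.closure (Set.range ρ ∪ {b₀}) := by
  letI := ρ.toAlgebra
  haveI : FiniteDimensional K L := hρ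
  haveI : ExpChar L q := expChar_of_injective_algebraMap (algebraMap K L).injective q
  obtain ⟨β, hβ⟩ := Field.exists_primitive_element K (separableClosure K L)
  refine ⟨(β : L), minpoly K (β : L), mem_separableClosure_iff.mp β.2, minpoly.aeval K (β : L),
    fun z => ?_⟩
  haveI : ExpChar (separableClosure K L) q :=
    expChar_of_injective_algebraMap (algebraMap K (separableClosure K L)).injective q
  obtain ⟨n, e, he⟩ := IsPurelyInseparable.pow_mem (separableClosure K L) q z
  refine ⟨n, ?_⟩
  rw [← he]
  have he' : e ∈ K⟮β⟯ := hβ ▸ IntermediateField.mem_top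
  have he'' : e ∈ K⟮β⟯.toSubalgebra := he'
  rw [IntermediateField.adjoin_simple_toSubalgebra_of_isAlgebraic
    (Algebra.IsAlgebraic.isAlgebraic β), Algebra.adjoin_singleton_eq_range_aeval] at he''
  obtain ⟨Q, rfl⟩ := he''
  have h1 : algebraMap (separableClosure K L) L (aeval β Q) = aeval (β : L) Q :=
    (aeval_algebraMap_apply L β Q).symm
  have h2 : aeval (β : L) Q ∈ K⟮(β : L)⟯ :=
    IntermediateField.algebra_adjoin_le_adjoin K _ (aeval_mem_adjoin_singleton K (β : L))
  have h3 : algebraMap (separableClosure K L) L (aeval β Q) ∈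
      Subfield.closure (Set.range ρ ∪ {(β : L)}) := by
    rw [h1]; exact h2
  exact h3

/-- A finite separable extension splitting finitely many separable polynomials. -/
theorem exists_splitting {K : Type u} [Field K] {ι : Type*} [Finite ι] (M : ι → K[X])
    (hM : ∀ i, (M i).Separable) :
    ∃ (K' : Type u) (_ : Field K') (_ : Algebra K K') (_ : FiniteDimensional K K')
      (_ : Algebra.IsSeparable K K'), ∀ i, ((M i).map (algebraMap K K')).Splits := by
  have hsplit : ∀ i, ((M i).map (algebraMap K (SeparableClosure K))).Splits := fun i =>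
    IsSepClosed.splits_codomain (M i) (hM i)
  have hTfin : (⋃ i, (M i).rootSet (SeparableClosure K)).Finite :=
    Set.finite_iUnion fun i => (M i).rootSet_finite (SeparableClosure K)
  haveI := hTfin.to_subtype
  refine ⟨IntermediateField.adjoin K (⋃ i, (M i).rootSet (SeparableClosure K)), inferInstance,
    inferInstance, ?_, inferInstance, fun i => ?_⟩
  · exact IntermediateField.finiteDimensional_adjoin
      (fun x _ => Algebra.IsIntegral.isIntegral x)
  · exact IntermediateField.splits_of_splits (hsplit i) (fun x hx =>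
      IntermediateField.subset_adjoin K _ (Set.mem_iUnion.mpr ⟨i, hx⟩))

end Groth.Agent.Helper18.EtLoc
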