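import Mathlib

set_option autoImplicit false

namespace Groth.Agent.Helper18.EtLoc

open AlgebraicGeometry CategoryTheory Limits

universe u

/-- If `Spec κ(t) ⟶ P` factors through `Spec.map ψ` for `ψ : K ⟶ κ(t)`, then `ψ` is surjective. -/
lemma surjective_of_section {P : Scheme.{u}} (t : P) {K : Type u} [Field K]
    (ψ : CommRingCat.of K ⟶ P.residueField t) (τ : Spec (CommRingCat.of K) ⟶ P)
    (h : Spec.map ψ ≫ τ = P.fromSpecResidueField t) : Function.Surjective ψ.hom := by
  let τ' : Spec (CommRingCat.of K) ⟶ P := τ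
  have hτ : Spec.map ((Scheme.SpecToEquivOfField K P) τ').2 ≫
      P.fromSpecResidueField ((Scheme.SpecToEquivOfField K P) τ').1 = τ' :=
    (Scheme.SpecToEquivOfField K P).left_inv τ'
  set t' := ((Scheme.SpecToEquivOfField K P) τ').1 with ht'
  set ρ : P.residueField t' ⟶ CommRingCat.of K := ((Scheme.SpecToEquivOfField K P) τ').2 with hρ
  let ψ' : CommRingCat.of K ⟶ CommRingCat.of ↑(P.residueField t) := ψ
  have h1 : (Scheme.SpecToEquivOfField ↑(P.residueField t) P).symm ⟨t', ρ ≫ ψ'⟩ =
      (Scheme.SpecToEquivOfField ↑(P.residueField t) P).symm ⟨t, 𝟙 _⟩ := by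
    show Spec.map (ρ ≫ ψ') ≫ P.fromSpecResidueField t' =
      Spec.map (𝟙 _) ≫ P.fromSpecResidueField t
    rw [Spec.map_comp, Category.assoc, hτ, Spec.map_id, Category.id_comp]
    exact h
  have h2 := (Scheme.SpecToEquivOfField ↑(P.residueField t) P).symm.injective h1
  obtain ⟨e, he⟩ := Scheme.SpecToEquivOfField_eq_iff.mp h2
  intro z
  refine ⟨ρ.hom ((P.residueFieldCongr e).inv.hom z), ?_⟩
  have h3 := congrArg (fun φ => φ.hom ((P.residueFieldCongr e).inv.hom z)) he
  simp only [Category.comp_id, CommRingCat.hom_comp, RingHom.coe_comp, Function.comp_apply] at h3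
  rw [show ψ.hom (ρ.hom ((P.residueFieldCongr e).inv.hom z)) =
    (P.residueFieldCongr e).hom.hom ((P.residueFieldCongr e).inv.hom z) from h3]
  rw [← CommRingCat.comp_apply, Iso.inv_hom_id]
  rfl

lemma isIso_tensorInl {X Y S : Scheme.{u}} {f : X ⟶ S} {g : Y ⟶ S}
    (T : Scheme.Pullback.Triplet f g)
    (hb : Function.Bijective (g.residueFieldMap T.y).hom) : IsIso T.tensorInl := by
  haveI : IsIso (g.residueFieldMap T.y) := (ConcreteCategory.isIso_iff_bijective _).mpr hb
  exact inferInstanceAs (IsIso (pushout.inl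
    ((S.residueFieldCongr T.hx).inv ≫ f.residueFieldMap T.x)
    ((S.residueFieldCongr T.hy).inv ≫ g.residueFieldMap T.y)))

/-- In a fibre product, if the residue field extension on one side is trivial, so is the one
on the opposite side. -/
lemma bijective_residueFieldMap_fst {X Y S : Scheme.{u}} (f : X ⟶ S) (g : Y ⟶ S)
    (t : ↑(pullback f g))
    (hb : Function.Bijective (g.residueFieldMap (pullback.snd f g t)).hom) :
    Function.Bijective ((pullback.fst f g).residueFieldMap t).hom := by
  haveI hiso : IsIso (Scheme.Pullback.Triplet.ofPoint t).tensorInl :=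
    isIso_tensorInl (Scheme.Pullback.Triplet.ofPoint t) hb
  refine ⟨RingHom.injective _, ?_⟩
  have hψ : (Scheme.Pullback.Triplet.ofPoint t).tensorInl ≫ Scheme.Pullback.ofPointTensor t =
      (pullback.fst f g).residueFieldMap t := pushout.inl_desc _ _ _
  have key : Spec.map ((Scheme.Pullback.Triplet.ofPoint t).tensorInl ≫
      Scheme.Pullback.ofPointTensor t) ≫
      (Spec.map (inv (Scheme.Pullback.Triplet.ofPoint t).tensorInl) ≫
        (Scheme.Pullback.Triplet.ofPoint t).SpecTensorTo) =
      (pullback f g).fromSpecResidueField t := by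
    rw [Spec.map_comp, Category.assoc, ← Spec.map_comp_assoc (inv _), IsIso.inv_hom_id,
      Spec.map_id, Category.id_comp]
    exact Scheme.Pullback.ofPointTensor_SpecTensorTo t
  rw [hψ] at key
  exact surjective_of_section t (K := ↑(X.residueField (pullback.fst f g t))) _ _ key

/-- In a fibre product, a point is determined by its projections if the residue field extension
on one side is trivial. -/
lemma eq_of_fst_snd_eq {X Y S : Scheme.{u}} (f : X ⟶ S) (g : Y ⟶ S) (t₁ t₂ : ↑(pullback f g))
    (h1 : pullback.fst f g t₁ = pullback.fst f g t₂)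
    (h2 : pullback.snd f g t₁ = pullback.snd f g t₂)
    (hb : Function.Bijective (g.residueFieldMap (pullback.snd f g t₂)).hom) : t₁ = t₂ := by
  apply Scheme.Pullback.carrierEquiv.injective
  rw [Scheme.Pullback.carrierEquiv_eq_iff]
  have hT : Scheme.Pullback.Triplet.ofPoint t₁ = Scheme.Pullback.Triplet.ofPoint t₂ :=
    Scheme.Pullback.Triplet.ext h1 h2
  refine ⟨hT, ?_⟩
  haveI hiso : IsIso (Scheme.Pullback.Triplet.ofPoint t₂).tensorInl :=
    isIso_tensorInl (Scheme.Pullback.Triplet.ofPoint t₂) hb
  have hsub : Subsingleton ↥(Spec (Scheme.Pullback.Triplet.ofPoint t₂).tensor) :=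
    (Spec.map (Scheme.Pullback.Triplet.ofPoint t₂).tensorInl).homeomorph.injective.subsingleton
  exact @Subsingleton.elim _ hsub _ _

/-- Translation of residue field maps of `Spec.map` into `Ideal.ResidueField.map`. -/
lemma bijective_residueFieldMap_SpecMap {R R' : Type u} [CommRing R] [CommRing R'] [Algebra R R']
    (p : Ideal R) [p.IsPrime] (P : Ideal R') [hP : P.IsPrime] [P.LiesOver p]
    (hbij : Function.Bijective
      (Ideal.ResidueField.mapₐ p P (Algebra.ofId R R') (P.over_def p))) :
    Function.Bijective ((Spec.map (CommRingCat.ofHom (algebraMap R R'))).residueFieldMap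
      (⟨P, hP⟩ : Spec (CommRingCat.of R'))).hom := by
  obtain rfl : p = P.under R := P.over_def p
  let g := Spec.map (CommRingCat.ofHom (algebraMap R R'))
  let x : Spec (CommRingCat.of R') := ⟨P, hP⟩
  let y : Spec (CommRingCat.of R) := g x
  let iR := Scheme.Spec.residueFieldIso (CommRingCat.of R) y
  let iR' := Scheme.Spec.residueFieldIso (CommRingCat.of R') x
  have key : CommRingCat.ofHom (algebraMap R y.asIdeal.ResidueField) ≫ iR.inv ≫
      g.residueFieldMap x =
      CommRingCat.ofHom (algebraMap R R') ≫
        CommRingCat.ofHom (algebraMap R' x.asIdeal.ResidueField) ≫ iR'.inv := by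
    apply Spec.map_injective
    simp only [Spec.map_comp, Category.assoc]
    rw [Scheme.Spec.map_residueFieldIso_inv_eq_fromSpecResidueField,
      Scheme.Hom.SpecMap_residueFieldMap_fromSpecResidueField,
      ← Category.assoc, Scheme.Spec.map_residueFieldIso_inv_eq_fromSpecResidueField]
  let θ : CommRingCat.of y.asIdeal.ResidueField ⟶ CommRingCat.of x.asIdeal.ResidueField :=
    iR.inv ≫ g.residueFieldMap x ≫ iR'.hom
  have hθ : θ.hom = Ideal.ResidueField.map (P.under R) P (algebraMap R R') rfl := by
    apply Ideal.ResidueField.ringHom_ext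
    ext r
    have h1 := congrArg (fun φ => (φ ≫ iR'.hom).hom r) key
    simp only [Category.assoc, Iso.inv_hom_id, Category.comp_id] at h1
    refine Eq.trans ?_
      (Ideal.ResidueField.map_algebraMap (P.under R) P (algebraMap R R') rfl r).symm
    exact h1
  have hθbij : Function.Bijective θ.hom := by
    rw [hθ]
    exact hbij
  have hg : g.residueFieldMap x = iR.hom ≫ θ ≫ iR'.inv := by
    simp only [θ, Category.assoc, Iso.hom_inv_id, Category.comp_id, Iso.hom_inv_id_assoc]
  rw [hg]
  have e1 : Function.Bijective iR.hom.hom := (ConcreteCategory.isIso_iff_bijective iR.hom).mp inferInstance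
  have e2 : Function.Bijective iR'.inv.hom := (ConcreteCategory.isIso_iff_bijective iR'.inv).mp inferInstance
  exact (e2.comp hθbij).comp e1

end Groth.Agent.Helper18.EtLoc
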