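import Mathlib
import Groth.Agent.Lib.Helper18.EtLoc6
import Groth.Agent.Lib.Helper18.EtLoc10

set_option autoImplicit false

namespace Groth.Agent.Helper18.EtLoc

open AlgebraicGeometry CategoryTheory Limits

universe u

/-- The residue field of a point of a fibre product is generated (as a field) by the residue
fields of its two projections. -/
lemma subfield_eq_top {X Y S : Scheme.{u}} (f : X ⟶ S) (g : Y ⟶ S) (t : ↑(pullback f g))
    (F₀ : Subfield ↑((pullback f g).residueField t))
    (h1 : ∀ a, ((pullback.fst f g).residueFieldMap t).hom a ∈ F₀)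
    (h2 : ∀ b, ((pullback.snd f g).residueFieldMap t).hom b ∈ F₀) : F₀ = ⊤ := by
  let incl : CommRingCat.of ↥F₀ ⟶ (pullback f g).residueField t := CommRingCat.ofHom F₀.subtype
  let a' : X.residueField (Scheme.Pullback.Triplet.ofPoint t).x ⟶ CommRingCat.of ↥F₀ :=
    CommRingCat.ofHom (((pullback.fst f g).residueFieldMap t).hom.codRestrict F₀ h1)
  let b' : Y.residueField (Scheme.Pullback.Triplet.ofPoint t).y ⟶ CommRingCat.of ↥F₀ :=
    CommRingCat.ofHom (((pullback.snd f g).residueFieldMap t).hom.codRestrict F₀ h2)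
  have ha : a' ≫ incl = (pullback.fst f g).residueFieldMap t :=
    CommRingCat.hom_ext (RingHom.ext fun _ => rfl)
  have hb : b' ≫ incl = (pullback.snd f g).residueFieldMap t :=
    CommRingCat.hom_ext (RingHom.ext fun _ => rfl)
  haveI : Mono incl := ConcreteCategory.mono_of_injective _ Subtype.val_injective
  have hc : ((S.residueFieldCongr (Scheme.Pullback.Triplet.ofPoint t).hx).inv ≫
      f.residueFieldMap (Scheme.Pullback.Triplet.ofPoint t).x) ≫ a' =
      ((S.residueFieldCongr (Scheme.Pullback.Triplet.ofPoint t).hy).inv ≫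
      g.residueFieldMap (Scheme.Pullback.Triplet.ofPoint t).y) ≫ b' := by
    rw [← cancel_mono incl]
    simp only [Category.assoc]
    rw [ha, hb]
    simpa only [Category.assoc] using
      Scheme.Pullback.residueFieldCongr_inv_residueFieldMap_ofPoint t
  have hci : pushout.desc a' b' hc ≫ incl = Scheme.Pullback.ofPointTensor t := by
    apply pushout.hom_ext
    · rw [pushout.inl_desc_assoc, ha]; exact (pushout.inl_desc _ _ _).symm
    · rw [pushout.inr_desc_assoc, hb]; exact (pushout.inr_desc _ _ _).symm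
  have key : Spec.map incl ≫ (Spec.map (pushout.desc a' b' hc) ≫
      (Scheme.Pullback.Triplet.ofPoint t).SpecTensorTo) =
      (pullback f g).fromSpecResidueField t := by
    rw [← Category.assoc, ← Spec.map_comp, hci]
    exact Scheme.Pullback.ofPointTensor_SpecTensorTo t
  have hsurj := surjective_of_section t (K := ↥F₀) incl _ key
  rw [eq_top_iff]
  intro z _
  obtain ⟨y, hy⟩ := hsurj z
  rw [← hy]
  exact y.2

/-- Purely inseparable residue field extension at a point of a fibre product. -/
lemma purelyInseparable_of_triplet {X Y S : Scheme.{u}} (f : X ⟶ S) (g : Y ⟶ S)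
    (T : Scheme.Pullback.Triplet f g) (q : ℕ) [ExpChar ↑(S.residueField T.s) q]
    (b₀ : ↑(X.residueField T.x)) (m : Polynomial ↑(S.residueField T.s)) (hm0 : m ≠ 0)
    (hmb : Polynomial.eval₂ ((S.residueFieldCongr T.hx).inv ≫ f.residueFieldMap T.x).hom b₀ m = 0)
    (hms : (m.map ((S.residueFieldCongr T.hy).inv ≫ g.residueFieldMap T.y).hom).Splits)
    (hz : ∀ z : ↑(X.residueField T.x), ∃ n : ℕ, z ^ q ^ n ∈ Subfield.closure
      (Set.range ((S.residueFieldCongr T.hx).inv ≫ f.residueFieldMap T.x).hom ∪ {b₀}))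
    (w : ↑(pullback f g)) (hw : Scheme.Pullback.Triplet.ofPoint w = T) :
    letI := ((pullback.snd f g).residueFieldMap w).hom.toAlgebra
    IsPurelyInseparable ↑(Y.residueField (pullback.snd f g w))
      ↑((pullback f g).residueField w) := by
  subst hw
  letI := ((pullback.snd f g).residueFieldMap w).hom.toAlgebra
  set ρx := ((S.residueFieldCongr (Scheme.Pullback.Triplet.ofPoint w).hx).inv ≫
    f.residueFieldMap (Scheme.Pullback.Triplet.ofPoint w).x).hom with hρx
  set ρy := ((S.residueFieldCongr (Scheme.Pullback.Triplet.ofPoint w).hy).inv ≫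
    g.residueFieldMap (Scheme.Pullback.Triplet.ofPoint w).y).hom with hρy
  set α : ↑(X.residueField (Scheme.Pullback.Triplet.ofPoint w).x) →+*
    ↑((pullback f g).residueField w) := ((pullback.fst f g).residueFieldMap w).hom with hα
  set γ : ↑(Y.residueField (Scheme.Pullback.Triplet.ofPoint w).y) →+*
    ↑((pullback f g).residueField w) := ((pullback.snd f g).residueFieldMap w).hom with hγ
  have hcomm : α.comp ρx = γ.comp ρy :=
    congrArg CommRingCat.Hom.hom
      (Scheme.Pullback.residueFieldCongr_inv_residueFieldMap_ofPoint w)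
  haveI : ExpChar ↑(Y.residueField (pullback.snd f g w)) q :=
    expChar_of_injective_ringHom ρy.injective q
  rw [isPurelyInseparable_iff_perfectClosure_eq_top]
  set PC := perfectClosure ↑(Y.residueField (pullback.snd f g w))
    ↑((pullback f g).residueField w) with hPC
  have hmem : ∀ {x : ↑((pullback f g).residueField w)},
      x ∈ PC ↔ ∃ n : ℕ, x ^ q ^ n ∈ γ.range := mem_perfectClosure_iff_pow_mem q
  have htop := subfield_eq_top f g w PC.toSubfield ?_ ?_
  · rw [eq_top_iff]
    intro z _
    have : z ∈ PC.toSubfield := htop ▸ Subfield.mem_top z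
    exact this
  · intro (a : ↑(X.residueField (Scheme.Pullback.Triplet.ofPoint w).x))
    show α a ∈ PC
    have hG1 : Set.range ρx ∪ {b₀} ⊆ (PC.toSubfield.comap α : Set _) := by
      rintro _ (⟨c, rfl⟩ | hb)
      · show α (ρx c) ∈ PC
        have : α (ρx c) = γ (ρy c) := RingHom.congr_fun hcomm c
        rw [this]
        exact PC.algebraMap_mem (ρy c)
      · rw [Set.mem_singleton_iff] at hb
        rw [hb]
        show α b₀ ∈ PC
        have hroot : ((m.map ρy).map γ).IsRoot (α b₀) := by
          rw [Polynomial.IsRoot, Polynomial.map_map, ← hcomm, Polynomial.eval_map,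
            ← Polynomial.hom_eval₂, hmb, map_zero]
        have hm0' : m.map ρy ≠ 0 := (Polynomial.map_ne_zero_iff ρy.injective).mpr hm0
        obtain ⟨y, hy⟩ := hms.mem_range_of_isRoot hm0' hroot
        rw [← hy]
        exact PC.algebraMap_mem y
    have hG : Subfield.closure (Set.range ρx ∪ {b₀}) ≤ PC.toSubfield.comap α :=
      Subfield.closure_le.mpr hG1
    obtain ⟨n, hn⟩ := hz a
    have h3 : α (a ^ q ^ n) ∈ PC := hG hn
    rw [map_pow] at h3
    obtain ⟨k, hk⟩ := hmem.mp h3
    refine hmem.mpr ⟨n + k, ?_⟩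
    rwa [pow_add, pow_mul]
  · intro b
    exact PC.algebraMap_mem b

/-- The residue field map of `Spec.map` in terms of `Ideal.ResidueField.map`. -/
lemma residueFieldMap_SpecMap_eq {R R' : Type u} [CommRing R] [CommRing R'] [Algebra R R']
    (x : Spec (CommRingCat.of R')) :
    (Spec.map (CommRingCat.ofHom (algebraMap R R'))).residueFieldMap x =
      (Scheme.Spec.residueFieldIso (CommRingCat.of R)
        (Spec.map (CommRingCat.ofHom (algebraMap R R')) x)).hom ≫
      CommRingCat.ofHom (Ideal.ResidueField.map (x.asIdeal.under R) x.asIdeal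
        (algebraMap R R') rfl) ≫
      (Scheme.Spec.residueFieldIso (CommRingCat.of R') x).inv := by
  let g := Spec.map (CommRingCat.ofHom (algebraMap R R'))
  let y : Spec (CommRingCat.of R) := g x
  let iR := Scheme.Spec.residueFieldIso (CommRingCat.of R) y
  let iR' := Scheme.Spec.residueFieldIso (CommRingCat.of R') x
  have key : CommRingCat.ofHom (algebraMap R y.asIdeal.ResidueField) ≫ iR.inv ≫
      g.residueFieldMap x =
      CommRingCat.ofHom (algebraMap R R') ≫
        CommRingCat.ofHom (algebraMap R' x.asIdeal.ResidueField) ≫ iR'.inv := by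
    apply Spec.map_injective
    simp only [Spec.map_comp, Category.assoc]
    rw [Scheme.Spec.map_residueFieldIso_inv_eq_fromSpecResidueField,
      Scheme.Hom.SpecMap_residueFieldMap_fromSpecResidueField,
      ← Category.assoc, Scheme.Spec.map_residueFieldIso_inv_eq_fromSpecResidueField]
  let θ : CommRingCat.of y.asIdeal.ResidueField ⟶ CommRingCat.of x.asIdeal.ResidueField :=
    iR.inv ≫ g.residueFieldMap x ≫ iR'.hom
  have hθ : θ = CommRingCat.ofHom (Ideal.ResidueField.map (x.asIdeal.under R) x.asIdeal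
      (algebraMap R R') rfl) := by
    apply CommRingCat.hom_ext
    apply Ideal.ResidueField.ringHom_ext
    ext r
    have h1 := congrArg (fun φ => (φ ≫ iR'.hom).hom r) key
    simp only [Category.assoc, Iso.inv_hom_id, Category.comp_id] at h1
    refine Eq.trans ?_
      (Ideal.ResidueField.map_algebraMap (x.asIdeal.under R) x.asIdeal (algebraMap R R') rfl r).symm
    exact h1
  have hg : g.residueFieldMap x = iR.hom ≫ θ ≫ iR'.inv := by
    simp only [θ, Category.assoc, Iso.hom_inv_id, Category.comp_id, Iso.hom_inv_id_assoc]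
  exact hg.trans (congrArg (fun t => iR.hom ≫ t ≫ iR'.inv) hθ)

lemma finite_hom_of_iso_comp {A B C D : CommRingCat.{u}} (F : B ⟶ C) (M : A ⟶ D) (i : B ⟶ A)
    (j : D ⟶ C) [IsIso i] [IsIso j] (h : F = i ≫ M ≫ j) (hM : M.hom.Finite) :
    F.hom.Finite := by
  subst h
  have hi : i.hom.Finite :=
    RingHom.Finite.of_surjective _ ((ConcreteCategory.isIso_iff_bijective i).mp inferInstance).2
  have hj : j.hom.Finite :=
    RingHom.Finite.of_surjective _ ((ConcreteCategory.isIso_iff_bijective j).mp inferInstance).2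
  exact hj.comp (hM.comp hi)

set_option backward.defeqAttrib.useBackward true in
set_option backward.isDefEq.respectTransparency false in
/-- Quasi-finite at `x` implies finite residue field extension at `x`. -/
theorem finite_residueFieldMap_of_quasiFiniteAt {X S : Scheme.{u}} (f : X ⟶ S)
    [LocallyOfFiniteType f] (x : X) (hx : f.QuasiFiniteAt x) :
    (f.residueFieldMap x).hom.Finite := by
  obtain ⟨_, ⟨U, hU, rfl⟩, hxU, -⟩ := S.isBasis_affineOpens.exists_subset_of_mem_open
    (Set.mem_univ (f x)) isOpen_univ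
  obtain ⟨_, ⟨V, hV, rfl⟩, hxV, hUV : V ≤ f ⁻¹ᵁ U⟩ :=
    X.isBasis_affineOpens.exists_subset_of_mem_open hxU (f ⁻¹ᵁ U).2
  have : (f.appLE U V hUV).hom.FiniteType := f.finiteType_appLE hU hV hUV
  algebraize [(f.appLE U V hUV).hom]
  have : Algebra.QuasiFiniteAt Γ(S, U) (hV.primeIdealOf ⟨x, hxV⟩).asIdeal :=
    hx.quasiFiniteAt hV hU hUV hxV
  set x₀ := hV.primeIdealOf ⟨x, hxV⟩ with hx₀
  have hfin : (Ideal.ResidueField.map (x₀.asIdeal.under Γ(S, U)) x₀.asIdeal
      (algebraMap Γ(S, U) Γ(X, V)) rfl).Finite := by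
    haveI : x₀.asIdeal.LiesOver (x₀.asIdeal.under Γ(S, U)) := ⟨rfl⟩
    letI := Localization.AtPrime.algebraOfLiesOver (x₀.asIdeal.under Γ(S, U)) x₀.asIdeal
    have hfm : Module.Finite (x₀.asIdeal.under Γ(S, U)).ResidueField x₀.asIdeal.ResidueField :=
      inferInstance
    have hal : algebraMap (x₀.asIdeal.under Γ(S, U)).ResidueField x₀.asIdeal.ResidueField =
        Ideal.ResidueField.map (x₀.asIdeal.under Γ(S, U)) x₀.asIdeal
          (algebraMap Γ(S, U) Γ(X, V)) rfl := by
      refine RingHom.ext fun z => ?_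
      obtain ⟨z, rfl⟩ := IsLocalRing.residue_surjective z
      rfl
    rw [← hal]
    exact RingHom.finite_algebraMap.mpr hfm
  have hφ : f.appLE U V hUV = CommRingCat.ofHom (algebraMap Γ(S, U) Γ(X, V)) := by
    apply CommRingCat.hom_ext
    rfl
  have h1 := residueFieldMap_SpecMap_eq (R := Γ(S, U)) (R' := Γ(X, V)) x₀
  have hE : Spec.map (CommRingCat.ofHom (algebraMap Γ(S, U) Γ(X, V))) ≫ hU.fromSpec =
      hV.fromSpec ≫ f := by
    rw [← hφ]
    exact IsAffineOpen.SpecMap_appLE_fromSpec f hU hV hUV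
  have hpt : hU.fromSpec (Spec.map (CommRingCat.ofHom (algebraMap Γ(S, U) Γ(X, V))) x₀) =
      f (hV.fromSpec x₀) := by
    have := congrArg (fun φ : Spec (CommRingCat.of ↑Γ(X, V)) ⟶ S => (φ x₀ : S)) hE
    exact this
  have h2 := Scheme.Hom.residueFieldMap_congr hE x₀
  rw [Scheme.residueFieldMap_comp, Scheme.residueFieldMap_comp] at h2
  have h2' : hU.fromSpec.residueFieldMap
        (Spec.map (CommRingCat.ofHom (algebraMap Γ(S, U) Γ(X, V))) x₀) ≫
        (Spec.map (CommRingCat.ofHom (algebraMap Γ(S, U) Γ(X, V)))).residueFieldMap x₀ =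
      (S.residueFieldCongr hpt).hom ≫ f.residueFieldMap (hV.fromSpec x₀) ≫
        hV.fromSpec.residueFieldMap x₀ := h2
  have h3 : f.residueFieldMap (hV.fromSpec x₀) =
      (S.residueFieldCongr hpt).inv ≫ (hU.fromSpec.residueFieldMap
        (Spec.map (CommRingCat.ofHom (algebraMap Γ(S, U) Γ(X, V))) x₀) ≫
        (Spec.map (CommRingCat.ofHom (algebraMap Γ(S, U) Γ(X, V)))).residueFieldMap x₀) ≫
        inv (hV.fromSpec.residueFieldMap x₀) := by
    rw [h2']
    simp only [Category.assoc, IsIso.hom_inv_id, Category.comp_id, Iso.inv_hom_id_assoc]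
  rw [h1] at h3
  have H : ∀ z, z = hV.fromSpec x₀ → (f.residueFieldMap z).hom.Finite := by
    rintro z rfl
    refine finite_hom_of_iso_comp _ (CommRingCat.ofHom (Ideal.ResidueField.map
        (x₀.asIdeal.under Γ(S, U)) x₀.asIdeal (algebraMap Γ(S, U) Γ(X, V)) rfl))
      ((S.residueFieldCongr hpt).inv ≫ hU.fromSpec.residueFieldMap
        (Spec.map (CommRingCat.ofHom (algebraMap Γ(S, U) Γ(X, V))) x₀) ≫
        (Scheme.Spec.residueFieldIso (CommRingCat.of Γ(S, U))
          (Spec.map (CommRingCat.ofHom (algebraMap Γ(S, U) Γ(X, V))) x₀)).hom)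
      ((Scheme.Spec.residueFieldIso (CommRingCat.of Γ(X, V)) x₀).inv ≫
        inv (hV.fromSpec.residueFieldMap x₀)) ?_ hfin
    simpa only [Category.assoc] using h3
  exact H x (hV.fromSpec_primeIdealOf ⟨x, hxV⟩).symm

/-- `κ(u)` splits the polynomials `M i` over `κ(s)`. -/
def Good {U S : Scheme.{u}} (g : U ⟶ S) (u : U) (s : S) {ι : Type}
    (M : ι → Polynomial ↑(S.residueField s)) : Prop :=
  ∃ hu : g u = s, ∀ i,
    ((M i).map ((S.residueFieldCongr hu).inv ≫ g.residueFieldMap u).hom).Splits

lemma good_comp {U U' S : Scheme.{u}} (g : U ⟶ S) (u : U) (s : S) {ι : Type}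
    (M : ι → Polynomial ↑(S.residueField s)) (hG : Good g u s M) (h : U' ⟶ U) (u' : U')
    (hu' : h u' = u) : Good (h ≫ g) u' s M := by
  obtain ⟨hu, H⟩ := hG
  subst hu'
  subst hu
  refine ⟨rfl, fun i => ?_⟩
  have Hi := H i
  simp only [Scheme.residueFieldCongr_refl, Iso.refl_inv, Category.id_comp] at Hi
  show ((M i).map ((S.residueFieldCongr (rfl : g (h u') = g (h u'))).inv ≫
    (h ≫ g).residueFieldMap u').hom).Splits
  rw [Scheme.residueFieldCongr_refl, Iso.refl_inv, Category.id_comp,
    Scheme.residueFieldMap_comp, CommRingCat.hom_comp, ← Polynomial.map_map]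
  exact Hi.map _

set_option backward.defeqAttrib.useBackward true in
set_option backward.isDefEq.respectTransparency false in
/-- An etale neighbourhood whose residue field splits finitely many separable polynomials. -/
theorem good_exists {S : Scheme.{u}} (s : S) {ι : Type} [Finite ι]
    (M : ι → Polynomial ↑(S.residueField s)) (hM : ∀ i, (M i).Separable) :
    ∃ (U : Scheme.{u}) (g : U ⟶ S) (u : U), Etale g ∧ Good g u s M := by
  obtain ⟨_, ⟨W, hW, rfl⟩, hsW, -⟩ := S.isBasis_affineOpens.exists_subset_of_mem_open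
    (Set.mem_univ s) isOpen_univ
  set x₀ := hW.primeIdealOf ⟨s, hsW⟩ with hx₀
  have h₀ : hW.fromSpec x₀ = s := hW.fromSpec_primeIdealOf ⟨s, hsW⟩
  let j : S.residueField s ≅ CommRingCat.of x₀.asIdeal.ResidueField :=
    S.residueFieldCongr h₀.symm ≪≫ asIso (hW.fromSpec.residueFieldMap x₀) ≪≫
      Scheme.Spec.residueFieldIso Γ(S, W) x₀
  have hJ : Spec.map j.hom ≫ S.fromSpecResidueField s =
      Spec.map (CommRingCat.ofHom (algebraMap Γ(S, W) x₀.asIdeal.ResidueField)) ≫
        hW.fromSpec := by
    have e1 : Spec.map (Scheme.Spec.residueFieldIso Γ(S, W) x₀).hom ≫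
        (Spec Γ(S, W)).fromSpecResidueField x₀ =
        Spec.map (CommRingCat.ofHom (algebraMap Γ(S, W) x₀.asIdeal.ResidueField)) := by
      rw [← Scheme.Spec.map_residueFieldIso_inv_eq_fromSpecResidueField, ← Category.assoc,
        ← Spec.map_comp, Iso.inv_hom_id, Spec.map_id, Category.id_comp]
    simp only [j, Iso.trans_hom, asIso_hom, Spec.map_comp, Category.assoc]
    rw [Scheme.residueFieldCongr_fromSpecResidueField,
      Scheme.Hom.SpecMap_residueFieldMap_fromSpecResidueField, ← Category.assoc, e1]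
  have hM' : ∀ i, ((M i).map j.hom.hom).Separable := fun i => (hM i).map
  obtain ⟨K', _, _, _, _, hK'⟩ := exists_splitting (fun i => (M i).map j.hom.hom) hM'
  obtain ⟨R', _, _, _, P, _, hP, ψ, hψ⟩ := exists_etale_residueField_ext x₀.asIdeal K'
  let φ : Γ(S, W) ⟶ CommRingCat.of R' := CommRingCat.ofHom (algebraMap Γ(S, W) R')
  have hφ : φ.hom.Etale := RingHom.etale_algebraMap.mpr ‹_›
  haveI : Etale (Spec.map φ) := HasRingHomProperty.Spec_iff.mpr hφ
  let u : Spec (CommRingCat.of R') := ⟨P, ‹_›⟩
  have hψx : Spec.map φ u = x₀ := PrimeSpectrum.ext hP.symm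
  have hu : (Spec.map φ ≫ hW.fromSpec) u = s := by
    rw [Scheme.Hom.comp_apply, hψx, h₀]
  refine ⟨Spec (CommRingCat.of R'), Spec.map φ ≫ hW.fromSpec, u, inferInstance, hu, fun i => ?_⟩
  have hstar : (S.residueFieldCongr hu).inv ≫ (Spec.map φ ≫ hW.fromSpec).residueFieldMap u =
      j.hom ≫ CommRingCat.ofHom (Ideal.ResidueField.map x₀.asIdeal P (algebraMap Γ(S, W) R') hP) ≫
        (Scheme.Spec.residueFieldIso (CommRingCat.of R') u).inv := by
    apply Spec.map_injective
    rw [← cancel_mono (S.fromSpecResidueField s)]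
    have e2 : Spec.map (CommRingCat.ofHom (Ideal.ResidueField.map x₀.asIdeal P
        (algebraMap Γ(S, W) R') hP)) ≫
        Spec.map (CommRingCat.ofHom (algebraMap Γ(S, W) x₀.asIdeal.ResidueField)) =
        Spec.map (CommRingCat.ofHom (algebraMap R' P.ResidueField)) ≫ Spec.map φ := by
      rw [← Spec.map_comp, ← Spec.map_comp]
      refine congrArg Spec.map (CommRingCat.hom_ext (RingHom.ext fun r => ?_))
      exact Ideal.ResidueField.map_algebraMap x₀.asIdeal P (algebraMap Γ(S, W) R') hP r
    simp only [Spec.map_comp, Category.assoc, Scheme.residueFieldCongr_inv]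
    rw [Scheme.residueFieldCongr_fromSpecResidueField,
      Scheme.Hom.SpecMap_residueFieldMap_fromSpecResidueField, hJ, reassoc_of% e2,
      ← Category.assoc (Spec.map (Scheme.Spec.residueFieldIso (CommRingCat.of R') u).inv),
      Scheme.Spec.map_residueFieldIso_inv_eq_fromSpecResidueField]
  rw [hstar]
  simp only [CommRingCat.hom_comp, CommRingCat.hom_ofHom, ← Polynomial.map_map]
  refine Polynomial.Splits.map ?_ _
  rw [← hψ, ← Polynomial.map_map]
  exact (hK' i).map ψ

end Groth.Agent.Helper18.EtLoc
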