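import Mathlib
import Groth.Prelude
import Groth.Agent.Lib.Helper18.EtLoc6

set_option autoImplicit false

namespace Groth.Agent.Helper18.EtLoc

open AlgebraicGeometry CategoryTheory Limits

universe u

set_option backward.defeqAttrib.useBackward true in
set_option backward.isDefEq.respectTransparency false in
open TensorProduct in
/-- Quasi-finite at `x`: after an elementary etale neighbourhood, an open finite over the base with a
unique point over `u`, which lies over `x` with trivial residue field extension. -/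
theorem qf_core {X S : Scheme.{u}} (f : X ⟶ S) [LocallyOfFiniteType f] (x : X)
    (hx : f.QuasiFiniteAt x) :
    ∃ (U : Scheme.{u}) (g : U ⟶ S) (u : U), Hens2.IsEtaleNbhd g u (f x) ∧
      ∃ (V : (pullback f g).Opens) (v : ↑(pullback f g)), v ∈ V ∧
        IsFinite (V.ι ≫ pullback.snd f g) ∧
        pullback.snd f g v = u ∧
        (∀ w : ↑(pullback f g), w ∈ V → pullback.snd f g w = u → w = v) ∧
        pullback.fst f g v = x ∧
        Function.Bijective ((pullback.fst f g).residueFieldMap v) := by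
  obtain ⟨_, ⟨U, hU, rfl⟩, hxU, -⟩ := S.isBasis_affineOpens.exists_subset_of_mem_open
    (Set.mem_univ (f x)) isOpen_univ
  obtain ⟨_, ⟨V, hV, rfl⟩, hxV, hUV : V ≤ f ⁻¹ᵁ U⟩ :=
    X.isBasis_affineOpens.exists_subset_of_mem_open hxU (f ⁻¹ᵁ U).2
  have : (f.appLE U V hUV).hom.FiniteType := f.finiteType_appLE hU hV hUV
  algebraize [(f.appLE U V hUV).hom]
  have : (hV.primeIdealOf ⟨x, hxV⟩).asIdeal.LiesOver (hU.primeIdealOf ⟨f x, hxU⟩).asIdeal := by
    suffices hU.primeIdealOf ⟨f x, hxU⟩ = Spec.map (f.appLE U V hUV) (hV.primeIdealOf ⟨x, hxV⟩) from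
      ⟨congr(($this).1)⟩
    apply hU.isoSpec.inv.homeomorph.injective
    apply Subtype.ext
    simp only [IsAffineOpen.primeIdealOf, Scheme.Hom.homeomorph_apply,
      ← Scheme.Hom.comp_apply, ← Scheme.Opens.ι_apply, IsAffineOpen.isoSpec_hom]
    simp
  have : Algebra.QuasiFiniteAt Γ(S, U) (hV.primeIdealOf ⟨x, hxV⟩).asIdeal :=
    hx.quasiFiniteAt hV hU hUV hxV
  obtain ⟨R, _, _, _, P, _, _, e, _, P', _, _, hP', heP', hbij, _, huniq⟩ :=
    Algebra.exists_etale_isIdempotentElem_forall_liesOver_eq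
    (hU.primeIdealOf ⟨f x, hxU⟩).asIdeal (hV.primeIdealOf ⟨x, hxV⟩).asIdeal
  have : (algebraMap R (Localization.Away e)).Finite := RingHom.finite_algebraMap.mpr ‹_›
  let φ : Γ(S, U) ⟶ .of R := CommRingCat.ofHom <| algebraMap Γ(S, U) R
  have hφ : φ.hom.Etale := RingHom.etale_algebraMap.mpr ‹_›
  have : Etale (Spec.map φ) := HasRingHomProperty.Spec_iff.mpr hφ
  let e₁ : Spec (.of (R ⊗ Γ(X, V))) ≅ pullback (Spec.map (f.appLE U V hUV)) (Spec.map φ) :=
    (pullbackSpecIso _ _ _).symm ≪≫ pullbackSymmetry _ _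
  have he₁ : e₁.hom ≫ pullback.fst _ _ =
      Spec.map (CommRingCat.ofHom Algebra.TensorProduct.includeRight.toRingHom) := by
    dsimp [e₁, RingHom.algebraMap_toAlgebra]
    rw [Category.assoc, pullbackSymmetry_hom_comp_fst]
    exact pullbackSpecIso_inv_snd ..
  have he₁' : e₁.hom ≫ pullback.snd _ _ =
      Spec.map (CommRingCat.ofHom (algebraMap R (R ⊗[Γ(S, U)] Γ(X, V)))) := by
    dsimp [e₁, RingHom.algebraMap_toAlgebra]
    rw [Category.assoc, pullbackSymmetry_hom_comp_snd]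
    exact pullbackSpecIso_inv_fst ..
  let g : Spec (.of (R ⊗[Γ(S, U)] Γ(X, V))) ⟶ pullback f (Spec.map φ ≫ hU.fromSpec) :=
    e₁.hom ≫ pullback.map _ _ _ _ hV.fromSpec (𝟙 _) hU.fromSpec
      (IsAffineOpen.SpecMap_appLE_fromSpec ..) (by simp)
  let W₁ := g ''ᵁ PrimeSpectrum.basicOpen e
  have hfinW : IsFinite (W₁.ι ≫ pullback.snd f _) := by
    let ι : Spec (.of (Localization.Away e)) ⟶ pullback f (Spec.map φ ≫ hU.fromSpec) :=
      Spec.map (CommRingCat.ofHom <| algebraMap _ _) ≫ g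
    have : ι.opensRange = W₁ := by
      simp only [Scheme.Hom.opensRange_comp, ι, W₁]
      congr 1
      exact TopologicalSpace.Opens.ext <| PrimeSpectrum.localization_away_comap_range _ _
    rw [← this, ← MorphismProperty.cancel_left_of_respectsIso @IsFinite
      (Scheme.Hom.isoOpensRange _).hom]
    have H : (pullbackSpecIso _ R _).inv ≫ pullback.fst _ (Spec.map (f.appLE U V hUV)) = _ :=
      pullbackSpecIso_inv_fst ..
    simpa [Scheme.Hom.isoOpensRange, ι, g, e₁, RingHom.algebraMap_toAlgebra, φ, H,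
      ← Spec.map_comp, IsFinite.SpecMap_iff]
  have hgsnd : g ≫ pullback.snd f (Spec.map φ ≫ hU.fromSpec) =
      Spec.map (CommRingCat.ofHom (algebraMap R (R ⊗[Γ(S, U)] Γ(X, V)))) := by
    rw [← he₁']
    simp [g]
  let u : Spec (.of R) := ⟨P, ‹_›⟩
  have hgu : (Spec.map φ ≫ hU.fromSpec) u = f x := by
    have h1 : Spec.map φ u = hU.primeIdealOf ⟨f x, hxU⟩ :=
      PrimeSpectrum.ext (Ideal.over_def P _).symm
    rw [Scheme.Hom.comp_apply, h1]
    exact hU.fromSpec_primeIdealOf ⟨f x, hxU⟩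
  have hres : Function.Bijective ((Spec.map φ ≫ hU.fromSpec).residueFieldMap u).hom := by
    rw [Scheme.residueFieldMap_comp]
    have h1 : Function.Bijective ((Spec.map φ).residueFieldMap u).hom :=
      bijective_residueFieldMap_SpecMap (hU.primeIdealOf ⟨f x, hxU⟩).asIdeal P hbij
    have h2 : Function.Bijective (hU.fromSpec.residueFieldMap (Spec.map φ u)).hom :=
      (ConcreteCategory.isIso_iff_bijective _).mp inferInstance
    exact h1.comp h2
  let v₀ : Spec (.of (R ⊗[Γ(S, U)] Γ(X, V))) := ⟨P', ‹_›⟩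
  have hsndv : pullback.snd f (Spec.map φ ≫ hU.fromSpec) (g v₀) = u := by
    rw [← Scheme.Hom.comp_apply, hgsnd]
    exact PrimeSpectrum.ext (Ideal.over_def P' P).symm
  have huq : ∀ w : ↑(pullback f (Spec.map φ ≫ hU.fromSpec)), w ∈ W₁ →
      pullback.snd f (Spec.map φ ≫ hU.fromSpec) w = u → w = g v₀ := by
    intro w hw hwu
    obtain ⟨w₀, hw₀, rfl⟩ := hw
    have h1 : Spec.map (CommRingCat.ofHom (algebraMap R (R ⊗[Γ(S, U)] Γ(X, V)))) w₀ = u := by
      rw [← hgsnd, Scheme.Hom.comp_apply]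
      exact hwu
    haveI : w₀.asIdeal.LiesOver P := ⟨(congrArg PrimeSpectrum.asIdeal h1).symm⟩
    have h2 := huniq w₀.asIdeal w₀.isPrime inferInstance hw₀
    exact congrArg g (PrimeSpectrum.ext h2)
  have hfstv : pullback.fst f (Spec.map φ ≫ hU.fromSpec) (g v₀) = x := by
    trans hV.fromSpec ⟨P'.comap Algebra.TensorProduct.includeRight.toRingHom, inferInstance⟩
    · simp [← Scheme.Hom.comp_apply, -Scheme.Hom.comp_base, g, reassoc_of% he₁]; rfl
    convert! hV.fromSpec_primeIdealOf ⟨x, hxV⟩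
  have hbv : Function.Bijective ((Spec.map φ ≫ hU.fromSpec).residueFieldMap
      (pullback.snd f (Spec.map φ ≫ hU.fromSpec) (g v₀))).hom := by
    have : ∀ z, z = u →
        Function.Bijective ((Spec.map φ ≫ hU.fromSpec).residueFieldMap z).hom := by
      rintro z rfl; exact hres
    exact this _ hsndv
  exact ⟨Spec (.of R), Spec.map φ ≫ hU.fromSpec, u, ⟨inferInstance, hgu, hres⟩, W₁, g v₀,
    ⟨v₀, heP', rfl⟩, hfinW, hsndv, huq, hfstv,
    bijective_residueFieldMap_fst f (Spec.map φ ≫ hU.fromSpec) (g v₀) hbv⟩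

end Groth.Agent.Helper18.EtLoc
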