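import Mathlib
import Groth.Prelude
import Groth.Agent.Lib.Helper18.EtLoc1
import Groth.Agent.Lib.Helper18.EtLoc7

set_option autoImplicit false

namespace Groth.Agent.Helper18.EtLoc

open AlgebraicGeometry CategoryTheory Limits

universe u

/-- Bijectivity of residue field maps along an `IsPullback` square. -/
lemma isPullback_bijective_residueFieldMap {P X Y S : Scheme.{u}} {a : P ⟶ X} {b : P ⟶ Y}
    {c : X ⟶ S} {d : Y ⟶ S} (h : IsPullback a b c d) (t : P)
    (hb : Function.Bijective (d.residueFieldMap (b t)).hom) :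
    Function.Bijective (a.residueFieldMap t).hom := by
  have ha : h.isoPullback.hom ≫ pullback.fst c d = a := h.isoPullback_hom_fst
  have hpt : pullback.snd c d (h.isoPullback.hom t) = b t := by
    rw [← Scheme.Hom.comp_apply, h.isoPullback_hom_snd]
  have hb' : Function.Bijective
      (d.residueFieldMap (pullback.snd c d (h.isoPullback.hom t))).hom := by
    have : ∀ z, z = b t → Function.Bijective (d.residueFieldMap z).hom := by
      rintro z rfl; exact hb
    exact this _ hpt
  have h1 := bijective_residueFieldMap_fst c d (h.isoPullback.hom t) hb'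
  have h2 : Function.Bijective (h.isoPullback.hom.residueFieldMap t).hom :=
    (ConcreteCategory.isIso_iff_bijective _).mp inferInstance
  have h3 : Function.Bijective
      ((h.isoPullback.hom ≫ pullback.fst c d).residueFieldMap t).hom := by
    rw [Scheme.residueFieldMap_comp]
    exact h2.comp h1
  have : ∀ a' : P ⟶ X, h.isoPullback.hom ≫ pullback.fst c d = a' →
      Function.Bijective (a'.residueFieldMap t).hom := by
    rintro a' rfl; exact h3
  exact this a ha

/-- Points of an `IsPullback` square are determined by their projections when one residue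
field extension is trivial. -/
lemma isPullback_eq_of_eq {P X Y S : Scheme.{u}} {a : P ⟶ X} {b : P ⟶ Y}
    {c : X ⟶ S} {d : Y ⟶ S} (h : IsPullback a b c d) (t₁ t₂ : P)
    (h1 : a t₁ = a t₂) (h2 : b t₁ = b t₂)
    (hb : Function.Bijective (d.residueFieldMap (b t₂)).hom) : t₁ = t₂ := by
  apply h.isoPullback.hom.isOpenEmbedding.injective
  have e1 : ∀ t, pullback.fst c d (h.isoPullback.hom t) = a t := fun t => by
    rw [← Scheme.Hom.comp_apply, h.isoPullback_hom_fst]
  have e2 : ∀ t, pullback.snd c d (h.isoPullback.hom t) = b t := fun t => by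
    rw [← Scheme.Hom.comp_apply, h.isoPullback_hom_snd]
  refine eq_of_fst_snd_eq c d _ _ (by rw [e1, e1, h1]) (by rw [e2, e2, h2]) ?_
  have : ∀ z, z = b t₂ → Function.Bijective (d.residueFieldMap z).hom := by
    rintro z rfl; exact hb
  exact this _ (e2 t₂)

/-- Transfer of the quasi-finite localization data along a further elementary neighbourhood. -/
lemma transfer {X S U₁ U : Scheme.{u}} (f : X ⟶ S) (g₁ : U₁ ⟶ S) (h : U ⟶ U₁) (g : U ⟶ S)
    (hg : h ≫ g₁ = g) (u : U) (hb : Function.Bijective (h.residueFieldMap u).hom) (x : X)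
    (V₁ : (pullback f g₁).Opens) (v₁ : ↑(pullback f g₁)) (hv₁ : v₁ ∈ V₁)
    (hfin : IsFinite (V₁.ι ≫ pullback.snd f g₁)) (hs : pullback.snd f g₁ v₁ = h u)
    (huq : ∀ w : ↑(pullback f g₁), w ∈ V₁ → pullback.snd f g₁ w = h u → w = v₁)
    (hf : pullback.fst f g₁ v₁ = x)
    (hbij : Function.Bijective ((pullback.fst f g₁).residueFieldMap v₁).hom) :
    ∃ (V : (pullback f g).Opens) (v : ↑(pullback f g)), v ∈ V ∧
        IsFinite (V.ι ≫ pullback.snd f g) ∧ pullback.snd f g v = u ∧
        (∀ w : ↑(pullback f g), w ∈ V → pullback.snd f g w = u → w = v) ∧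
        pullback.fst f g v = x ∧
        Function.Bijective ((pullback.fst f g).residueFieldMap v).hom := by
  subst hg
  let q : pullback f (h ≫ g₁) ⟶ pullback f g₁ :=
    pullback.lift (pullback.fst f (h ≫ g₁)) (pullback.snd f (h ≫ g₁) ≫ h)
      (by rw [pullback.condition, Category.assoc])
  have hq1 : q ≫ pullback.fst f g₁ = pullback.fst f (h ≫ g₁) := pullback.lift_fst _ _ _
  have hq2 : q ≫ pullback.snd f g₁ = pullback.snd f (h ≫ g₁) ≫ h := pullback.lift_snd _ _ _
  have hsq : IsPullback q (pullback.snd f (h ≫ g₁)) (pullback.snd f g₁) h := by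
    refine IsPullback.of_right ?_ hq2 (IsPullback.of_hasPullback f g₁)
    rw [hq1]
    exact IsPullback.of_hasPullback f (h ≫ g₁)
  obtain ⟨v, hqv, hsv⟩ := exists_point_of_isPullback hsq v₁ u hs
  have hbu : ∀ z, z = u → Function.Bijective (h.residueFieldMap z).hom := by
    rintro z rfl; exact hb
  refine ⟨q ⁻¹ᵁ V₁, v, ?_, ?_, hsv, ?_, ?_, ?_⟩
  · show q v ∈ V₁
    rw [hqv]; exact hv₁
  · have hsq2 := (isPullback_morphismRestrict q V₁).paste_vert hsq
    exact MorphismProperty.of_isPullback (P := @IsFinite) hsq2 hfin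
  · intro w hw hwu
    have hqw : q w = v₁ := by
      apply huq _ hw
      rw [← Scheme.Hom.comp_apply, hq2, Scheme.Hom.comp_apply, hwu]
    exact isPullback_eq_of_eq hsq w v (hqw.trans hqv.symm) (hwu.trans hsv.symm) (hbu _ hsv)
  · have : pullback.fst f (h ≫ g₁) v = pullback.fst f g₁ (q v) := by
      rw [← Scheme.Hom.comp_apply, hq1]
    rw [this, hqv, hf]
  · have h1 : Function.Bijective (q.residueFieldMap v).hom :=
      isPullback_bijective_residueFieldMap hsq v (hbu _ hsv)
    have h2 : Function.Bijective ((pullback.fst f g₁).residueFieldMap (q v)).hom := by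
      have : ∀ z, z = v₁ →
          Function.Bijective ((pullback.fst f g₁).residueFieldMap z).hom := by
        rintro z rfl; exact hbij
      exact this _ hqv
    have h3 : Function.Bijective ((q ≫ pullback.fst f g₁).residueFieldMap v).hom := by
      rw [Scheme.residueFieldMap_comp]; exact h1.comp h2
    have : ∀ a' : pullback f (h ≫ g₁) ⟶ X, q ≫ pullback.fst f g₁ = a' →
        Function.Bijective (a'.residueFieldMap v).hom := by
      rintro a' rfl; exact h3
    exact this _ hq1

/-- Several points over `s`: common elementary etale neighbourhood. -/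
theorem multi {X S : Scheme.{u}} (f : X ⟶ S) [LocallyOfFiniteType f] (s : S) (ι : Type)
    [Finite ι] :
    ∀ (x : ι → ↑X) (_ : ∀ i, f (x i) = s) (_ : ∀ i, f.QuasiFiniteAt (x i)),
    ∃ (U : Scheme.{u}) (g : U ⟶ S) (u : U), Hens2.IsEtaleNbhd g u s ∧
      ∃ (V : ι → (pullback f g).Opens) (v : ι → ↑(pullback f g)), ∀ i, v i ∈ V i ∧
        IsFinite ((V i).ι ≫ pullback.snd f g) ∧
        pullback.snd f g (v i) = u ∧
        (∀ w : ↑(pullback f g), w ∈ V i → pullback.snd f g w = u → w = v i) ∧
        pullback.fst f g (v i) = x i ∧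
        Function.Bijective ((pullback.fst f g).residueFieldMap (v i)) := by
  induction ι using Finite.induction_empty_option with
  | of_equiv e ih =>
    intro x hs hx
    obtain ⟨U, g, u, hnb, V, v, H⟩ := ih (x ∘ e) (fun i => hs _) (fun i => hx _)
    refine ⟨U, g, u, hnb, V ∘ e.symm, v ∘ e.symm, fun i => ?_⟩
    have := H (e.symm i)
    simpa only [Function.comp_apply, Equiv.apply_symm_apply] using this
  | h_empty =>
    intro x hs hx
    refine ⟨S, 𝟙 S, s, ⟨inferInstance, rfl, ?_⟩, fun i => i.elim, fun i => i.elim,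
      fun i => i.elim⟩
    rw [Scheme.residueFieldMap_id]
    exact Function.bijective_id
  | h_option ih =>
    intro x hs hx
    obtain ⟨U₀, g₀, u₀, hnb₀, V, v, H⟩ := ih (fun a => x (some a)) (fun a => hs _)
      (fun a => hx _)
    obtain ⟨U₁, g₁, u₁, hnb₁, V₁, v₁, hv₁, hfin₁, hs₁, huq₁, hf₁, hbij₁⟩ :=
      qf_core f (x none) (hx none)
    haveI := hnb₀.etale
    haveI := hnb₁.etale
    have hu₀ : g₀ u₀ = s := hnb₀.base_eq
    have hu₁ : g₁ u₁ = s := hnb₁.base_eq.trans (hs none)
    obtain ⟨u, hu0, hu1⟩ := Scheme.Pullback.exists_preimage_pullback (f := g₀) (g := g₁)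
      u₀ u₁ (hu₀.trans hu₁.symm)
    have hb₀ : Function.Bijective (g₀.residueFieldMap u₀).hom := hnb₀.residue_bijective
    have hb₁ : Function.Bijective (g₁.residueFieldMap u₁).hom := hnb₁.residue_bijective
    have hr₀ : Function.Bijective ((pullback.fst g₀ g₁).residueFieldMap u).hom := by
      refine bijective_residueFieldMap_fst g₀ g₁ u ?_
      have : ∀ z, z = u₁ → Function.Bijective (g₁.residueFieldMap z).hom := by
        rintro z rfl; exact hb₁
      exact this _ hu1
    have hr₁ : Function.Bijective ((pullback.snd g₀ g₁).residueFieldMap u).hom := by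
      refine isPullback_bijective_residueFieldMap (IsPullback.of_hasPullback g₀ g₁).flip u ?_
      have : ∀ z, z = u₀ → Function.Bijective (g₀.residueFieldMap z).hom := by
        rintro z rfl; exact hb₀
      exact this _ hu0
    have hnb : Hens2.IsEtaleNbhd (pullback.fst g₀ g₁ ≫ g₀) u s := by
      refine ⟨inferInstance, ?_, ?_⟩
      · show (pullback.fst g₀ g₁ ≫ g₀) u = s
        rw [Scheme.Hom.comp_apply, hu0, hu₀]
      · rw [Scheme.residueFieldMap_comp]
        have : ∀ z, z = u₀ → Function.Bijective (g₀.residueFieldMap z).hom := by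
          rintro z rfl; exact hb₀
        exact hr₀.comp (this _ hu0)
    have Hsome : ∀ a, ∃ (V' : (pullback f (pullback.fst g₀ g₁ ≫ g₀)).Opens)
        (v' : ↑(pullback f (pullback.fst g₀ g₁ ≫ g₀))), v' ∈ V' ∧
        IsFinite (V'.ι ≫ pullback.snd f (pullback.fst g₀ g₁ ≫ g₀)) ∧
        pullback.snd f (pullback.fst g₀ g₁ ≫ g₀) v' = u ∧
        (∀ w : ↑(pullback f (pullback.fst g₀ g₁ ≫ g₀)), w ∈ V' →
          pullback.snd f (pullback.fst g₀ g₁ ≫ g₀) w = u → w = v') ∧
        pullback.fst f (pullback.fst g₀ g₁ ≫ g₀) v' = x (some a) ∧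
        Function.Bijective
          ((pullback.fst f (pullback.fst g₀ g₁ ≫ g₀)).residueFieldMap v').hom := by
      intro a
      obtain ⟨h1, h2, h3, h4, h5, h6⟩ := H a
      exact transfer f g₀ (pullback.fst g₀ g₁) _ rfl u hr₀ (x (some a)) (V a) (v a) h1 h2
        (h3.trans hu0.symm) (fun w hw hwu => h4 w hw (hwu.trans hu0)) h5 h6
    obtain ⟨Vn, vn, HN⟩ := transfer f g₁ (pullback.snd g₀ g₁) (pullback.fst g₀ g₁ ≫ g₀)
      pullback.condition.symm u hr₁ (x none) V₁ v₁ hv₁ hfin₁
      (hs₁.trans hu1.symm) (fun w hw hwu => huq₁ w hw (hwu.trans hu1)) hf₁ hbij₁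
    choose Vs vs HS using Hsome
    refine ⟨pullback g₀ g₁, pullback.fst g₀ g₁ ≫ g₀, u, hnb, fun o => o.elim Vn Vs,
      fun o => o.elim vn vs, ?_⟩
    rintro (_ | a)
    · exact HN
    · exact HS a

end Groth.Agent.Helper18.EtLoc
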