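import Mathlib
import Groth.Prelude
import Groth.Agent.Lib.Helper18.EtLoc8

set_option autoImplicit false

namespace Groth.Agent.Helper18.EtLoc

open AlgebraicGeometry CategoryTheory Limits

universe u

/-- Binary union of opens finite over the base is finite over the base (separated case). -/
lemma isFinite_sup {P U : Scheme.{u}} (p : P ⟶ U) [IsSeparated p] [LocallyOfFiniteType p]
    (V₁ V₂ : P.Opens) (h₁ : IsFinite (V₁.ι ≫ p)) (h₂ : IsFinite (V₂.ι ≫ p)) :
    IsFinite ((V₁ ⊔ V₂).ι ≫ p) := by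
  let j₁ : V₁.toScheme ⟶ (V₁ ⊔ V₂).toScheme := P.homOfLE le_sup_left
  let j₂ : V₂.toScheme ⟶ (V₁ ⊔ V₂).toScheme := P.homOfLE le_sup_right
  have hj₁ : j₁ ≫ (V₁ ⊔ V₂).ι = V₁.ι := P.homOfLE_ι _
  have hj₂ : j₂ ≫ (V₁ ⊔ V₂).ι = V₂.ι := P.homOfLE_ι _
  let c : V₁.toScheme ⨿ V₂.toScheme ⟶ (V₁ ⊔ V₂).toScheme := coprod.desc j₁ j₂
  have hc : c ≫ (V₁ ⊔ V₂).ι ≫ p = coprod.desc (V₁.ι ≫ p) (V₂.ι ≫ p) := by
    apply coprod.hom_ext
    · rw [coprod.inl_desc, ← Category.assoc, coprod.inl_desc, ← Category.assoc, hj₁]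
    · rw [coprod.inr_desc, ← Category.assoc, coprod.inr_desc, ← Category.assoc, hj₂]
  haveI : IsFinite (c ≫ (V₁ ⊔ V₂).ι ≫ p) := by rw [hc]; infer_instance
  haveI : Surjective c := by
    refine ⟨fun w => ?_⟩
    have hw : (V₁ ⊔ V₂).ι w ∈ V₁ ⊔ V₂ := w.2
    rcases hw with h | h
    · refine ⟨(coprod.inl : V₁.toScheme ⟶ V₁.toScheme ⨿ V₂.toScheme) ⟨(V₁ ⊔ V₂).ι w, h⟩, ?_⟩
      rw [← Scheme.Hom.comp_apply, coprod.inl_desc]
      apply (V₁ ⊔ V₂).ι.isOpenEmbedding.injective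
      rw [← Scheme.Hom.comp_apply, hj₁]
      rfl
    · refine ⟨(coprod.inr : V₂.toScheme ⟶ V₁.toScheme ⨿ V₂.toScheme) ⟨(V₁ ⊔ V₂).ι w, h⟩, ?_⟩
      rw [← Scheme.Hom.comp_apply, coprod.inr_desc]
      apply (V₁ ⊔ V₂).ι.isOpenEmbedding.injective
      rw [← Scheme.Hom.comp_apply, hj₂]
      rfl
  haveI : UniversallyClosed ((V₁ ⊔ V₂).ι ≫ p) :=
    UniversallyClosed.of_comp_surjective c ((V₁ ⊔ V₂).ι ≫ p)
  haveI : IsProper ((V₁ ⊔ V₂).ι ≫ p) := ⟨⟩
  have key : ∀ (V : P.Opens), IsFinite (V.ι ≫ p) → ∀ y : P, y ∈ V → p.QuasiFiniteAt y := by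
    intro V hV y hy
    haveI := hV
    have := (V.ι ≫ p).quasiFiniteAt ⟨y, hy⟩
    rwa [Scheme.Hom.quasiFiniteAt_comp_iff_of_isOpenImmersion] at this
  haveI : LocallyQuasiFinite ((V₁ ⊔ V₂).ι ≫ p) := by
    rw [← Scheme.Hom.quasiFiniteLocus_eq_top_iff]
    ext w
    simp only [Scheme.Hom.mem_quasiFiniteLocus, TopologicalSpace.Opens.coe_top, Set.mem_univ,
      iff_true, SetLike.mem_coe]
    rw [Scheme.Hom.quasiFiniteAt_comp_iff_of_isOpenImmersion]
    have hw : (V₁ ⊔ V₂).ι w ∈ V₁ ⊔ V₂ := w.2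
    rcases hw with h | h
    · exact key V₁ h₁ _ h
    · exact key V₂ h₂ _ h
  exact IsFinite.of_isProper_of_locallyQuasiFinite _

/-- Finite unions of opens finite over the base are finite over the base (separated case). -/
lemma isFinite_iSup {P U : Scheme.{u}} (p : P ⟶ U) [IsSeparated p] [LocallyOfFiniteType p]
    {ι : Type*} [Finite ι] (V : ι → P.Opens) (h : ∀ i, IsFinite ((V i).ι ≫ p)) :
    IsFinite ((⨆ i, V i).ι ≫ p) := by
  classical
  haveI := Fintype.ofFinite ι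
  rw [← Finset.sup_univ_eq_iSup]
  refine Finset.sup_induction (p := fun W : P.Opens => IsFinite (W.ι ≫ p)) ?_ ?_
    (fun i _ => h i)
  · haveI : IsEmpty ↥((⊥ : P.Opens).toScheme) := ⟨fun x => x.2⟩
    infer_instance
  · intro W₁ hW₁ W₂ hW₂
    exact isFinite_sup p W₁ W₂ hW₁ hW₂

/-- The fibre of the base change over `u` is the fibre over `s` when `κ(s) = κ(u)`. -/
lemma exists_fiber_iso {X S U : Scheme.{u}} (f : X ⟶ S) (g : U ⟶ S) (u : U) (s : S)
    (hs : g u = s) (hb : Function.Bijective (g.residueFieldMap u).hom) :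
    ∃ θ : (pullback.snd f g).fiber u ⟶ f.fiber s, IsIso θ ∧
      θ ≫ f.fiberι s = (pullback.snd f g).fiberι u ≫ pullback.fst f g := by
  subst hs
  haveI : IsIso (g.residueFieldMap u) := (ConcreteCategory.isIso_iff_bijective _).mpr hb
  have hσ : Spec.map (g.residueFieldMap u) ≫ S.fromSpecResidueField (g u) =
      U.fromSpecResidueField u ≫ g :=
    Scheme.Hom.SpecMap_residueFieldMap_fromSpecResidueField g u
  have h1 : IsPullback ((pullback.snd f g).fiberι u)
      ((pullback.snd f g).fiberToSpecResidueField u) (pullback.snd f g)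
      (U.fromSpecResidueField u) := IsPullback.of_hasPullback _ _
  have h2 : IsPullback (pullback.fst f g) (pullback.snd f g) f g := IsPullback.of_hasPullback f g
  have h3 := h1.paste_horiz h2
  rw [← hσ] at h3
  have h4 : IsPullback (f.fiberι (g u)) (f.fiberToSpecResidueField (g u)) f
      (S.fromSpecResidueField (g u)) := IsPullback.of_hasPullback _ _
  let θ : (pullback.snd f g).fiber u ⟶ f.fiber (g u) :=
    h4.lift ((pullback.snd f g).fiberι u ≫ pullback.fst f g)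
      ((pullback.snd f g).fiberToSpecResidueField u ≫ Spec.map (g.residueFieldMap u))
      (by simpa only [Category.assoc] using h3.w)
  have hθ1 : θ ≫ f.fiberι (g u) = (pullback.snd f g).fiberι u ≫ pullback.fst f g :=
    h4.lift_fst _ _ _
  have hθ2 : θ ≫ f.fiberToSpecResidueField (g u) =
      (pullback.snd f g).fiberToSpecResidueField u ≫ Spec.map (g.residueFieldMap u) :=
    h4.lift_snd _ _ _
  have h5 : IsPullback θ ((pullback.snd f g).fiberToSpecResidueField u)
      (f.fiberToSpecResidueField (g u)) (Spec.map (g.residueFieldMap u)) := by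
    refine IsPullback.of_right ?_ hθ2 h4
    rw [hθ1]
    exact h3
  exact ⟨θ, h5.isIso_fst_of_isIso, hθ1⟩

/-- Topological form of quasi-finiteness at a point. -/
lemma quasiFiniteAt_iff_isOpen_singleton {X S : Scheme.{u}} (f : X ⟶ S) [LocallyOfFiniteType f]
    (x : X) (s : S) (hx : f x = s) :
    f.QuasiFiniteAt x ↔ IsOpen ({⟨x, hx⟩} : Set ↥(f ⁻¹' {s})) := by
  subst hx
  rw [Scheme.Hom.quasiFiniteAt_iff_isOpen_singleton_asFiber,
    ← (f.fiberHomeo (f x)).isOpen_image]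
  simp only [Set.image_singleton, Scheme.Hom.asFiber, Homeomorph.apply_symm_apply]

theorem main9762 {X S : Scheme.{u}} (f : X ⟶ S) [LocallyOfFiniteType f] [IsSeparated f] (s : S)
    (hfin : {x : ↑(f.fiber s) | IsOpen ({x} : Set ↑(f.fiber s))}.Finite) :
    ∃ (U : Scheme.{u}) (g : U ⟶ S) (u : U), Hens2.IsEtaleNbhd g u s ∧
      ∃ V : (pullback f g).Opens, IsClopen (V : Set ↑(pullback f g)) ∧
        IsFinite (V.ι ≫ pullback.snd f g) ∧
        ∀ w : ↑((pullback.snd f g).fiber u), (pullback.snd f g).fiberι u w ∉ V →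
          ¬ IsOpen ({w} : Set ↑((pullback.snd f g).fiber u)) := by
  haveI := hfin.to_subtype
  let e : ↥{x : ↑(f.fiber s) | IsOpen ({x} : Set ↑(f.fiber s))} ≃
      Fin (Nat.card ↥{x : ↑(f.fiber s) | IsOpen ({x} : Set ↑(f.fiber s))}) := Finite.equivFin _
  let x : Fin (Nat.card ↥{x : ↑(f.fiber s) | IsOpen ({x} : Set ↑(f.fiber s))}) → X :=
    fun i => f.fiberι s (e.symm i).1
  have hs : ∀ i, f (x i) = s := fun i => (f.fiberHomeo s (e.symm i).1).2
  have hx : ∀ i, f.QuasiFiniteAt (x i) := by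
    intro i
    refine (quasiFiniteAt_iff_isOpen_singleton f (x i) s (hs i)).mpr ?_
    have := (f.fiberHomeo s).isOpen_image.mpr (e.symm i).2
    rw [Set.image_singleton] at this
    exact this
  obtain ⟨U, g, u, hnb, V, v, H⟩ := multi f s _ x hs hx
  have hbu : ∀ z, z = u → Function.Bijective (g.residueFieldMap z).hom := by
    rintro z rfl; exact hnb.residue_bijective
  refine ⟨U, g, u, hnb, ⨆ i, V i, ⟨?_, (⨆ i, V i).2⟩,
    isFinite_iSup (pullback.snd f g) V (fun i => (H i).2.1), ?_⟩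
  · rw [TopologicalSpace.Opens.coe_iSup]
    refine isClosed_iUnion_of_finite fun i => ?_
    haveI := (H i).2.1
    haveI : IsFinite (V i).ι := IsFinite.of_comp _ (pullback.snd f g)
    have := (V i).ι.isClosedMap.isClosed_range
    rwa [Scheme.Opens.range_ι] at this
  · intro w hw hopen
    apply hw
    have hsw : pullback.snd f g ((pullback.snd f g).fiberι u w) = u :=
      ((pullback.snd f g).fiberHomeo u w).2
    obtain ⟨θ, hθiso, hθ⟩ := exists_fiber_iso f g u s hnb.base_eq hnb.residue_bijective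
    haveI := hθiso
    have hz : IsOpen ({θ w} : Set ↑(f.fiber s)) := by
      have := θ.homeomorph.isOpen_image.mpr hopen
      rw [Set.image_singleton] at this
      exact this
    obtain ⟨i, hi⟩ : ∃ i, e.symm i = ⟨θ w, hz⟩ := ⟨e ⟨θ w, hz⟩, e.symm_apply_apply _⟩
    have hxi : x i = pullback.fst f g ((pullback.snd f g).fiberι u w) := by
      show f.fiberι s (e.symm i).1 = _
      rw [hi, ← Scheme.Hom.comp_apply, hθ, Scheme.Hom.comp_apply]
    obtain ⟨h1, h2, h3, h4, h5, h6⟩ := H i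
    have : (pullback.snd f g).fiberι u w = v i :=
      eq_of_fst_snd_eq f g _ _ (hxi.symm.trans h5.symm) (hsw.trans h3.symm) (hbu _ h3)
    rw [this]
    exact TopologicalSpace.Opens.mem_iSup.mpr ⟨i, h1⟩

end Groth.Agent.Helper18.EtLoc
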