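import Mathlib
import Groth.Prelude
import Groth.Agent.Lib.Helper18.EtLoc9
import Groth.Agent.Lib.Helper18.EtLoc11

set_option autoImplicit false

namespace Groth.Agent.Helper18.EtLoc

open AlgebraicGeometry CategoryTheory Limits

universe u

/-- The canonical map `X ×_S U₃ ⟶ X ×_S U₂` for `h₃ : U₃ ⟶ U₂`. -/
noncomputable def qmap {X S U₂ U₃ : Scheme.{u}} (f : X ⟶ S) (g₂ : U₂ ⟶ S) (h₃ : U₃ ⟶ U₂) :
    pullback f (h₃ ≫ g₂) ⟶ pullback f g₂ :=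
  pullback.lift (pullback.fst f (h₃ ≫ g₂)) (pullback.snd f (h₃ ≫ g₂) ≫ h₃)
    (by rw [pullback.condition, Category.assoc])

lemma qmap_fst {X S U₂ U₃ : Scheme.{u}} (f : X ⟶ S) (g₂ : U₂ ⟶ S) (h₃ : U₃ ⟶ U₂) :
    qmap f g₂ h₃ ≫ pullback.fst f g₂ = pullback.fst f (h₃ ≫ g₂) := pullback.lift_fst _ _ _

lemma qmap_snd {X S U₂ U₃ : Scheme.{u}} (f : X ⟶ S) (g₂ : U₂ ⟶ S) (h₃ : U₃ ⟶ U₂) :
    qmap f g₂ h₃ ≫ pullback.snd f g₂ = pullback.snd f (h₃ ≫ g₂) ≫ h₃ := pullback.lift_snd _ _ _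

lemma isPullback_qmap {X S U₂ U₃ : Scheme.{u}} (f : X ⟶ S) (g₂ : U₂ ⟶ S) (h₃ : U₃ ⟶ U₂) :
    IsPullback (qmap f g₂ h₃) (pullback.snd f (h₃ ≫ g₂)) (pullback.snd f g₂) h₃ := by
  refine IsPullback.of_right ?_ (qmap_snd f g₂ h₃) (IsPullback.of_hasPullback f g₂)
  rw [qmap_fst]
  exact IsPullback.of_hasPullback f (h₃ ≫ g₂)

lemma qmap_fst_apply {X S U₂ U₃ : Scheme.{u}} (f : X ⟶ S) (g₂ : U₂ ⟶ S) (h₃ : U₃ ⟶ U₂)
    (z : ↑(pullback f (h₃ ≫ g₂))) :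
    pullback.fst f g₂ (qmap f g₂ h₃ z) = pullback.fst f (h₃ ≫ g₂) z := by
  rw [← Scheme.Hom.comp_apply, qmap_fst]

lemma qmap_snd_apply {X S U₂ U₃ : Scheme.{u}} (f : X ⟶ S) (g₂ : U₂ ⟶ S) (h₃ : U₃ ⟶ U₂)
    (z : ↑(pullback f (h₃ ≫ g₂))) :
    pullback.snd f g₂ (qmap f g₂ h₃ z) = h₃ (pullback.snd f (h₃ ≫ g₂) z) := by
  rw [← Scheme.Hom.comp_apply, qmap_snd, Scheme.Hom.comp_apply]

/-- An open finite over the base is quasi-finite at its points. -/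
lemma quasiFiniteAt_of_isFinite_opens {P U : Scheme.{u}} (p : P ⟶ U) (V : P.Opens)
    (hV : IsFinite (V.ι ≫ p)) (y : P) (hy : y ∈ V) : p.QuasiFiniteAt y := by
  haveI := hV
  have := (V.ι ≫ p).quasiFiniteAt ⟨y, hy⟩
  rwa [Scheme.Hom.quasiFiniteAt_comp_iff_of_isOpenImmersion] at this

/-- `multi` for points of a base change, with the conclusion expressed in `X ×_S U₃`. -/
theorem multi' {X S U₂ : Scheme.{u}} (f : X ⟶ S) [LocallyOfFiniteType f] (g₂ : U₂ ⟶ S) (u₂ : U₂)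
    (ι : Type) [Finite ι] (w : ι → ↑(pullback f g₂))
    (hw : ∀ k, pullback.snd f g₂ (w k) = u₂)
    (hq : ∀ k, (pullback.snd f g₂).QuasiFiniteAt (w k)) :
    ∃ (U₃ : Scheme.{u}) (h₃ : U₃ ⟶ U₂) (u₃ : U₃), Hens2.IsEtaleNbhd h₃ u₃ u₂ ∧
      ∃ (V : ι → (pullback f (h₃ ≫ g₂)).Opens) (v : ι → ↑(pullback f (h₃ ≫ g₂))), ∀ k,
        v k ∈ V k ∧ IsFinite ((V k).ι ≫ pullback.snd f (h₃ ≫ g₂)) ∧
        pullback.snd f (h₃ ≫ g₂) (v k) = u₃ ∧
        (∀ z, z ∈ V k → pullback.snd f (h₃ ≫ g₂) z = u₃ → z = v k) ∧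
        qmap f g₂ h₃ (v k) = w k ∧
        (∀ z, pullback.snd f (h₃ ≫ g₂) z = u₃ → qmap f g₂ h₃ z = w k → z = v k) := by
  obtain ⟨U₃, h₃, u₃, hnb, V', v', H'⟩ := multi (pullback.snd f g₂) u₂ ι w hw hq
  have hsq := isPullback_qmap f g₂ h₃
  have e1 : ∀ z, pullback.fst (pullback.snd f g₂) h₃ (hsq.isoPullback.hom z) =
      qmap f g₂ h₃ z := fun z => by
    rw [← Scheme.Hom.comp_apply, hsq.isoPullback_hom_fst]
  have e2 : ∀ z, pullback.snd (pullback.snd f g₂) h₃ (hsq.isoPullback.hom z) =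
      pullback.snd f (h₃ ≫ g₂) z := fun z => by
    rw [← Scheme.Hom.comp_apply, hsq.isoPullback_hom_snd]
  have e3 : ∀ y, hsq.isoPullback.hom (hsq.isoPullback.inv y) = y := fun y => by
    rw [← Scheme.Hom.comp_apply, Iso.inv_hom_id]; rfl
  have hinj : Function.Injective hsq.isoPullback.hom := hsq.isoPullback.hom.isOpenEmbedding.injective
  have hbu : ∀ z, z = u₃ → Function.Bijective (h₃.residueFieldMap z).hom := by
    rintro z rfl; exact hnb.residue_bijective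
  refine ⟨U₃, h₃, u₃, hnb, fun k => hsq.isoPullback.hom ⁻¹ᵁ V' k,
    fun k => hsq.isoPullback.inv (v' k), fun k => ?_⟩
  obtain ⟨h1, h2, h3, h4, h5, h6⟩ := H' k
  refine ⟨?_, ?_, ?_, ?_, ?_, ?_⟩
  · show hsq.isoPullback.hom (hsq.isoPullback.inv (v' k)) ∈ V' k
    rw [e3]; exact h1
  · have heq : (hsq.isoPullback.hom ⁻¹ᵁ V' k).ι ≫ pullback.snd f (h₃ ≫ g₂) =
        (hsq.isoPullback.hom ∣_ V' k) ≫ ((V' k).ι ≫ pullback.snd (pullback.snd f g₂) h₃) := by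
      rw [← Category.assoc, morphismRestrict_ι, Category.assoc, hsq.isoPullback_hom_snd]
    rw [heq]
    haveI := h2
    infer_instance
  · rw [← e2, e3]; exact h3
  · intro z hz hzu
    apply hinj
    rw [e3]
    exact h4 _ hz ((e2 z).trans hzu)
  · rw [← e1, e3]; exact h5
  · intro z hzu hzw
    apply hinj
    rw [e3]
    exact eq_of_fst_snd_eq (pullback.snd f g₂) h₃ _ _ ((e1 z).trans (hzw.trans h5.symm))
      ((e2 z).trans (hzu.trans h3.symm)) (hbu _ h3)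

/-- The purely inseparable version of the etale localization of quasi-finite points. -/
theorem pi_core {X S : Scheme.{u}} (f : X ⟶ S) [LocallyOfFiniteType f] (s : S) {ι : Type}
    [Finite ι] (x : ι → ↑X) (hs : ∀ i, f (x i) = s) (hx : ∀ i, f.QuasiFiniteAt (x i)) :
    ∃ (U : Scheme.{u}) (g : U ⟶ S) (u : U), Etale g ∧ g u = s ∧
      ∃ (n : ι → ℕ) (V : ∀ i, Fin (n i) → (pullback f g).Opens)
        (v : ∀ i, Fin (n i) → ↑(pullback f g)),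
        (∀ i j, v i j ∈ V i j ∧ IsFinite ((V i j).ι ≫ pullback.snd f g) ∧
          pullback.snd f g (v i j) = u ∧
          (∀ w : ↑(pullback f g), w ∈ V i j → pullback.snd f g w = u → w = v i j) ∧
          (letI := ((pullback.snd f g).residueFieldMap (v i j)).hom.toAlgebra
           Module.Finite ↑(U.residueField (pullback.snd f g (v i j)))
              ↑((pullback f g).residueField (v i j)) ∧
           IsPurelyInseparable ↑(U.residueField (pullback.snd f g (v i j)))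
              ↑((pullback f g).residueField (v i j))) ∧
          pullback.fst f g (v i j) = x i) ∧
        (∀ i, Function.Injective (v i)) ∧
        (∀ (w : ↑(pullback f g)) (i : ι), pullback.snd f g w = u → pullback.fst f g w = x i →
          ∃ j, w = v i j) := by
  classical
  -- field data
  have hρfin : ∀ i, ((S.residueFieldCongr (hs i)).inv ≫ f.residueFieldMap (x i)).hom.Finite := by
    intro i
    rw [CommRingCat.hom_comp]
    refine (finite_residueFieldMap_of_quasiFiniteAt f (x i) (hx i)).comp ?_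
    exact RingHom.Finite.of_surjective _
      ((ConcreteCategory.isIso_iff_bijective (S.residueFieldCongr (hs i)).inv).mp inferInstance).2
  obtain ⟨q, hq⟩ := ExpChar.exists ↑(S.residueField s)
  haveI := hq
  choose b₀ M hMsep hMb hMz using fun i =>
    exists_sep_primitive ((S.residueFieldCongr (hs i)).inv ≫ f.residueFieldMap (x i)).hom
      (hρfin i) q
  obtain ⟨U₀, g₀, u₀, het₀, hgood₀⟩ := good_exists s M hMsep
  obtain ⟨U₁, g₁, u₁, hnb₁, Va, va, Ha⟩ := multi f s ι x hs hx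
  haveI := het₀
  haveI := hnb₁.etale
  have hu₁ : g₁ u₁ = s := hnb₁.base_eq
  obtain ⟨hu₀, -⟩ := id hgood₀
  obtain ⟨u₂, hu21, hu20⟩ := Scheme.Pullback.exists_preimage_pullback (f := g₁) (g := g₀)
    u₁ u₀ (hu₁.trans hu₀.symm)
  have hgood₂ : Good (pullback.fst g₁ g₀ ≫ g₁) u₂ s M := by
    rw [pullback.condition]
    exact good_comp g₀ u₀ s M hgood₀ (pullback.snd g₁ g₀) u₂ hu20
  have hbu₁ : ∀ z, z = u₁ → Function.Bijective (g₁.residueFieldMap z).hom := by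
    rintro z rfl; exact hnb₁.residue_bijective
  -- the finite opens in `X ×_S U₂`
  have hWfin : ∀ i, IsFinite ((qmap f g₁ (pullback.fst g₁ g₀) ⁻¹ᵁ Va i).ι ≫
      pullback.snd f (pullback.fst g₁ g₀ ≫ g₁)) := fun i =>
    MorphismProperty.of_isPullback (P := @IsFinite)
      ((isPullback_morphismRestrict (qmap f g₁ (pullback.fst g₁ g₀)) (Va i)).paste_vert
        (isPullback_qmap f g₁ (pullback.fst g₁ g₀))) (Ha i).2.1
  have hFW : ∀ i (w : ↑(pullback f (pullback.fst g₁ g₀ ≫ g₁))),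
      pullback.snd f (pullback.fst g₁ g₀ ≫ g₁) w = u₂ →
      pullback.fst f (pullback.fst g₁ g₀ ≫ g₁) w = x i →
      w ∈ qmap f g₁ (pullback.fst g₁ g₀) ⁻¹ᵁ Va i := by
    intro i w hw1 hw2
    obtain ⟨h1, h2, h3, h4, h5, h6⟩ := Ha i
    have : qmap f g₁ (pullback.fst g₁ g₀) w = va i := by
      refine eq_of_fst_snd_eq f g₁ _ _ ?_ ?_ (hbu₁ _ h3)
      · rw [qmap_fst_apply, hw2, h5]
      · rw [qmap_snd_apply, hw1, hu21, h3]
    show qmap f g₁ (pullback.fst g₁ g₀) w ∈ Va i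
    rw [this]; exact h1
  have hFfin : ∀ i, {w : ↑(pullback f (pullback.fst g₁ g₀ ≫ g₁)) |
      pullback.snd f (pullback.fst g₁ g₀ ≫ g₁) w = u₂ ∧
      pullback.fst f (pullback.fst g₁ g₀ ≫ g₁) w = x i}.Finite := by
    intro i
    haveI := hWfin i
    refine ((((qmap f g₁ (pullback.fst g₁ g₀) ⁻¹ᵁ Va i).ι ≫
      pullback.snd f (pullback.fst g₁ g₀ ≫ g₁)).finite_preimage_singleton u₂).image
      (qmap f g₁ (pullback.fst g₁ g₀) ⁻¹ᵁ Va i).ι).subset ?_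
    rintro w ⟨hw1, hw2⟩
    exact ⟨⟨w, hFW i w hw1 hw2⟩, hw1, rfl⟩
  haveI : ∀ i, Finite ↥{w : ↑(pullback f (pullback.fst g₁ g₀ ≫ g₁)) |
      pullback.snd f (pullback.fst g₁ g₀ ≫ g₁) w = u₂ ∧
      pullback.fst f (pullback.fst g₁ g₀ ≫ g₁) w = x i} := fun i => (hFfin i).to_subtype
  let e : ∀ i, ↥{w : ↑(pullback f (pullback.fst g₁ g₀ ≫ g₁)) |
      pullback.snd f (pullback.fst g₁ g₀ ≫ g₁) w = u₂ ∧
      pullback.fst f (pullback.fst g₁ g₀ ≫ g₁) w = x i} ≃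
      Fin (Nat.card ↥{w : ↑(pullback f (pullback.fst g₁ g₀ ≫ g₁)) |
      pullback.snd f (pullback.fst g₁ g₀ ≫ g₁) w = u₂ ∧
      pullback.fst f (pullback.fst g₁ g₀ ≫ g₁) w = x i}) := fun i => Finite.equivFin _
  let w : (Σ i, Fin (Nat.card ↥{w : ↑(pullback f (pullback.fst g₁ g₀ ≫ g₁)) |
      pullback.snd f (pullback.fst g₁ g₀ ≫ g₁) w = u₂ ∧
      pullback.fst f (pullback.fst g₁ g₀ ≫ g₁) w = x i})) →
      ↑(pullback f (pullback.fst g₁ g₀ ≫ g₁)) := fun k => ((e k.1).symm k.2).1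
  have hw1 : ∀ k, pullback.snd f (pullback.fst g₁ g₀ ≫ g₁) (w k) = u₂ :=
    fun k => ((e k.1).symm k.2).2.1
  have hw2 : ∀ k, pullback.fst f (pullback.fst g₁ g₀ ≫ g₁) (w k) = x k.1 :=
    fun k => ((e k.1).symm k.2).2.2
  have hwq : ∀ k, (pullback.snd f (pullback.fst g₁ g₀ ≫ g₁)).QuasiFiniteAt (w k) := fun k =>
    quasiFiniteAt_of_isFinite_opens _ _ (hWfin k.1) (w k) (hFW k.1 (w k) (hw1 k) (hw2 k))
  obtain ⟨U₃, h₃, u₃, hnb₃, V, v, H⟩ := multi' f (pullback.fst g₁ g₀ ≫ g₁) u₂ _ w hw1 hwq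
  haveI := hnb₃.etale
  have hgood₃ := good_comp _ u₂ s M hgood₂ h₃ u₃ hnb₃.base_eq
  obtain ⟨hu₃, hsp⟩ := id hgood₃
  refine ⟨U₃, h₃ ≫ pullback.fst g₁ g₀ ≫ g₁, u₃, inferInstance, hu₃, _, fun i j => V ⟨i, j⟩,
    fun i j => v ⟨i, j⟩, ?_, ?_, ?_⟩
  · intro i j
    obtain ⟨h1, h2, h3, h4, h5, h6⟩ := H ⟨i, j⟩
    have hfst : pullback.fst f (h₃ ≫ pullback.fst g₁ g₀ ≫ g₁) (v ⟨i, j⟩) = x i := by
      rw [← qmap_fst_apply f (pullback.fst g₁ g₀ ≫ g₁) h₃, h5]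
      exact hw2 ⟨i, j⟩
    refine ⟨h1, h2, h3, h4, ⟨?_, ?_⟩, hfst⟩
    · exact finite_residueFieldMap_of_quasiFiniteAt _ _
        (quasiFiniteAt_of_isFinite_opens _ _ h2 _ h1)
    · exact purelyInseparable_of_triplet f (h₃ ≫ pullback.fst g₁ g₀ ≫ g₁)
        ⟨x i, u₃, s, hs i, hu₃⟩ q (b₀ i) (M i) (hMsep i).ne_zero (hMb i) (hsp i) (hMz i)
        (v ⟨i, j⟩) (Scheme.Pullback.Triplet.ext hfst h3)
  · intro i j j' hjj
    have h5 := (H ⟨i, j⟩).2.2.2.2.1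
    have h5' := (H ⟨i, j'⟩).2.2.2.2.1
    have hjj' : v ⟨i, j⟩ = v ⟨i, j'⟩ := hjj
    have : w ⟨i, j⟩ = w ⟨i, j'⟩ := by rw [← h5, ← h5', hjj']
    exact (e i).symm.injective (Subtype.ext this)
  · intro z i hz1 hz2
    have hy1 : pullback.snd f (pullback.fst g₁ g₀ ≫ g₁)
        (qmap f (pullback.fst g₁ g₀ ≫ g₁) h₃ z) = u₂ := by
      rw [qmap_snd_apply, hz1]; exact hnb₃.base_eq
    have hy2 : pullback.fst f (pullback.fst g₁ g₀ ≫ g₁)
        (qmap f (pullback.fst g₁ g₀ ≫ g₁) h₃ z) = x i := by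
      rw [qmap_fst_apply, hz2]
    refine ⟨e i ⟨_, hy1, hy2⟩, ?_⟩
    refine (H ⟨i, e i ⟨_, hy1, hy2⟩⟩).2.2.2.2.2 z hz1 ?_
    show _ = (((e i).symm (e i ⟨_, hy1, hy2⟩)).1)
    rw [Equiv.symm_apply_apply]

end Groth.Agent.Helper18.EtLoc
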