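import Mathlib
import Groth.Agent.Lib.Helper18.FinEtSplit

set_option autoImplicit false

namespace Groth.Agent.Helper18.FinEtSplitSch

open AlgebraicGeometry CategoryTheory Limits TensorProduct

universe u

/-- The conclusion: `f` is split by an étale neighbourhood of `s`. -/
def SplitAt {X S : Scheme.{u}} (f : X ⟶ S) (s : S) : Prop :=
  ∃ (U : Scheme.{u}) (g : U ⟶ S) (_ : AlgebraicGeometry.Etale g) (u : U) (_ : g.base u = s)
      (n : ℕ) (V : Fin n → Scheme.{u}) (c : ∀ j, V j ⟶ U) (_ : ∀ j, IsIso (c j))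
      (e : (∐ V) ≅ pullback f g), ∀ j, Sigma.ι V j ≫ e.hom ≫ pullback.snd f g = c j

lemma SplitAt.of_base_change {X S S' : Scheme.{u}} (f : X ⟶ S) (j : S' ⟶ S) [Etale j] (s' : S')
    (s : S) (hs : j.base s' = s) (h : SplitAt (pullback.snd f j) s') : SplitAt f s := by
  obtain ⟨U, g', hg', u, hu, n, V, c, hc, e, he⟩ := h
  haveI := hg'
  refine ⟨U, g' ≫ j, inferInstance, u, ?_, n, V, c, hc,
    e ≪≫ pullbackLeftPullbackSndIso f j g', fun k => ?_⟩
  · show j.base (g'.base u) = s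
    rw [hu, hs]
  · rw [Iso.trans_hom, Category.assoc, pullbackLeftPullbackSndIso_hom_snd]
    exact he k

theorem splitAt_of_isAffine {X S : Scheme.{u}} [IsAffine S] (f : X ⟶ S) [IsFinite f] [Etale f]
    (s : S) : SplitAt f s := by
  haveI : IsAffine X := isAffine_of_isAffineHom f
  letI : Algebra Γ(S, ⊤) Γ(X, ⊤) := f.appTop.hom.toAlgebra
  haveI : Module.Finite Γ(S, ⊤) Γ(X, ⊤) := f.finite_appTop
  haveI : Algebra.Etale Γ(S, ⊤) Γ(X, ⊤) := by
    have h := (HasRingHomProperty.iff_of_isAffine (P := @Etale)).mp ‹Etale f›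
    exact RingHom.etale_algebraMap.mp h
  let p : Ideal Γ(S, ⊤) := (S.isoSpec.hom.base s).asIdeal
  haveI : p.IsPrime := (S.isoSpec.hom.base s).isPrime
  obtain ⟨R', _, _, _, P, _, hPp, n, ⟨e⟩⟩ := FinEtSplit.split' Γ(S, ⊤) Γ(X, ⊤) p
  let U := Spec (CommRingCat.of R')
  let g₀ : U ⟶ Spec Γ(S, ⊤) := Spec.map (CommRingCat.ofHom (algebraMap Γ(S, ⊤) R'))
  let g : U ⟶ S := g₀ ≫ S.isoSpec.inv
  haveI : Etale g₀ := by
    rw [HasRingHomProperty.Spec_iff (P := @Etale)]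
    exact RingHom.etale_algebraMap.mpr inferInstance
  haveI : Etale g := inferInstance
  let u : U := ⟨P, inferInstance⟩
  have hu : g.base u = s := by
    have h1 : g₀.base u = S.isoSpec.hom.base s := by
      apply PrimeSpectrum.ext
      show P.comap (algebraMap Γ(S, ⊤) R') = p
      exact (hPp.over).symm
    show S.isoSpec.inv.base (g₀.base u) = s
    rw [h1]
    show (S.isoSpec.hom ≫ S.isoSpec.inv).base s = s
    rw [Iso.hom_inv_id]
    rfl
  let inl : CommRingCat.of R' ⟶ CommRingCat.of (R' ⊗[Γ(S, ⊤)] Γ(X, ⊤)) :=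
    CommRingCat.ofHom Algebra.TensorProduct.includeLeftRingHom
  let inr : Γ(X, ⊤) ⟶ CommRingCat.of (R' ⊗[Γ(S, ⊤)] Γ(X, ⊤)) :=
    CommRingCat.ofHom Algebra.TensorProduct.includeRight.toRingHom
  have hpo : IsPushout (CommRingCat.ofHom (algebraMap Γ(S, ⊤) R'))
      (CommRingCat.ofHom (algebraMap Γ(S, ⊤) Γ(X, ⊤))) inl inr :=
    CommRingCat.isPushout_tensorProduct Γ(S, ⊤) R' Γ(X, ⊤)
  have hpb := (isPullback_SpecMap_of_isPushout _ _ _ _ hpo).flip
  have hpb' : IsPullback (Spec.map inr ≫ X.isoSpec.inv) (Spec.map inl) f g := by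
    refine hpb.of_iso (Iso.refl _) X.isoSpec.symm (Iso.refl _) S.isoSpec.symm ?_ ?_ ?_ ?_
    · simp
    · simp
    · exact Scheme.isoSpec_inv_naturality f
    · simp [g, g₀]
  let φ : CommRingCat.of (R' ⊗[Γ(S, ⊤)] Γ(X, ⊤)) ≅ CommRingCat.of (ULift.{u} (Fin n) → R') :=
    e.toRingEquiv.toCommRingCatIso
  let V : Fin n → Scheme.{u} := fun _ => U
  let eqv : ULift.{u} (Fin n) ≃ Fin n := Equiv.ulift
  let σ : (∐ (V ∘ eqv)) ⟶ Spec (CommRingCat.of (ULift.{u} (Fin n) → R')) :=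
    sigmaSpec (fun _ : ULift.{u} (Fin n) => CommRingCat.of R')
  haveI : IsIso σ := by
    show IsIso (sigmaSpec (fun _ : ULift.{u} (Fin n) => CommRingCat.of R'))
    infer_instance
  let θ : (∐ V) ≅ Spec (CommRingCat.of (R' ⊗[Γ(S, ⊤)] Γ(X, ⊤))) :=
    (Sigma.reindex eqv V).symm ≪≫ asIso σ ≪≫ asIso (Spec.map φ.hom)
  refine ⟨U, g, inferInstance, u, hu, n, V, fun _ => 𝟙 U, fun _ => inferInstance,
    θ ≪≫ hpb'.isoPullback, fun k => ?_⟩
  rw [Iso.trans_hom, Category.assoc, IsPullback.isoPullback_hom_snd]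
  show Sigma.ι V k ≫ ((Sigma.reindex eqv V).inv ≫ σ ≫ Spec.map φ.hom) ≫ Spec.map inl = 𝟙 U
  have h0 : Sigma.ι V k ≫ (Sigma.reindex eqv V).inv = Sigma.ι (V ∘ eqv) ⟨k⟩ :=
    Sigma.ι_reindex_inv eqv V ⟨k⟩
  have h1 : Sigma.ι (V ∘ eqv) ⟨k⟩ ≫ σ = Spec.map (CommRingCat.ofHom (Pi.evalRingHom _ ⟨k⟩)) :=
    ι_sigmaSpec (fun _ : ULift.{u} (Fin n) => CommRingCat.of R') ⟨k⟩
  rw [Category.assoc, reassoc_of% h0, Category.assoc, reassoc_of% h1, ← Spec.map_comp,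
    ← Spec.map_comp]
  have h2 : inl ≫ φ.hom ≫
      CommRingCat.ofHom (Pi.evalRingHom (fun _ : ULift.{u} (Fin n) => R') ⟨k⟩) =
      𝟙 (CommRingCat.of R') := by
    ext r
    have h := congrFun (e.commutes r) ⟨k⟩
    rw [Algebra.TensorProduct.algebraMap_apply] at h
    exact h
  rw [Category.assoc, h2, Spec.map_id]

theorem main {X S : Scheme.{u}} (f : X ⟶ S) [IsFinite f] [Etale f] (s : S) : SplitAt f s := by
  obtain ⟨W, hW, hsW⟩ : ∃ W : S.Opens, IsAffineOpen W ∧ s ∈ W := by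
    obtain ⟨_, ⟨W, hW, rfl⟩, hsW, -⟩ :=
      S.isBasis_affineOpens.exists_subset_of_mem_open (Set.mem_univ s) isOpen_univ
    exact ⟨W, hW, hsW⟩
  haveI : IsAffine ↑W := hW
  exact SplitAt.of_base_change f W.ι ⟨s, hsW⟩ s rfl
    (splitAt_of_isAffine (pullback.snd f W.ι) ⟨s, hsW⟩)

end Groth.Agent.Helper18.FinEtSplitSch
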