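import Mathlib
import Groth.Agent.Lib.Helper18.EtLoc1
import Groth.Agent.Lib.Helper18.FinEtSplitSch

set_option autoImplicit false

namespace Groth.Agent.Helper18.EtLoc

open AlgebraicGeometry CategoryTheory Limits TensorProduct

universe u

/-- Affine-local form of the splitting statement at every prime of `A`. -/
def Aff (P : MorphismProperty Scheme.{u}) (R A : Type u) [CommRing R] [CommRing A]
    [Algebra R A] : Prop :=
  ∀ q : PrimeSpectrum A, ∃ (U : Scheme.{u}) (g : U ⟶ Spec (CommRingCat.of R)) (u : U), Etale g ∧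
    g u = (Spec.map (CommRingCat.ofHom (algebraMap R A))) q ∧
    SplitSq P (pullback.fst (Spec.map (CommRingCat.ofHom (algebraMap R A))) g)
      (pullback.snd (Spec.map (CommRingCat.ofHom (algebraMap R A))) g) u {q}

lemma SplitSq.pullback_congr (P : MorphismProperty Scheme.{u}) {X S U : Scheme.{u}} (f : X ⟶ S)
    {g g' : U ⟶ S} (h : g = g') {u : U} {T : Set X}
    (hs : SplitSq P (pullback.fst f g) (pullback.snd f g) u T) :
    SplitSq P (pullback.fst f g') (pullback.snd f g') u T := by
  subst h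
  exact hs

theorem aff_etale (R A : Type u) [CommRing R] [CommRing A] [Algebra R A] [Algebra.Etale R A] :
    Aff (MorphismProperty.isomorphisms Scheme.{u}) R A := by
  intro q
  let p : Ideal R := q.asIdeal.comap (algebraMap R A)
  haveI : p.IsPrime := inferInstance
  haveI : q.asIdeal.LiesOver p := ⟨rfl⟩
  obtain ⟨R₁, _, _, _, P₁, _, hP₁p, e, he, P', _, _, hP'q, heP', hbij, hfin, huniq⟩ :=
    Algebra.exists_etale_isIdempotentElem_forall_liesOver_eq p q.asIdeal
  let B := R₁ ⊗[R] A
  let Be := Localization.Away e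
  let fA := Spec.map (CommRingCat.ofHom (algebraMap R A))
  let U₁ := Spec (CommRingCat.of R₁)
  let g₁ : U₁ ⟶ Spec (CommRingCat.of R) := Spec.map (CommRingCat.ofHom (algebraMap R R₁))
  let u₁ : U₁ := ⟨P₁, inferInstance⟩
  let inl : CommRingCat.of R₁ ⟶ CommRingCat.of B :=
    CommRingCat.ofHom Algebra.TensorProduct.includeLeftRingHom
  let inr : CommRingCat.of A ⟶ CommRingCat.of B :=
    CommRingCat.ofHom Algebra.TensorProduct.includeRight.toRingHom
  let a : Spec (CommRingCat.of B) ⟶ Spec (CommRingCat.of A) := Spec.map inr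
  let b : Spec (CommRingCat.of B) ⟶ U₁ := Spec.map inl
  have hpb : IsPullback a b fA g₁ :=
    (isPullback_SpecMap_of_isPushout _ _ _ _ (CommRingCat.isPushout_tensorProduct R R₁ A)).flip
  let m₁ : Spec (CommRingCat.of Be) ⟶ Spec (CommRingCat.of B) :=
    Spec.map (CommRingCat.ofHom (algebraMap B Be))
  haveI : IsOpenImmersion m₁ := IsOpenImmersion.of_isLocalization e
  let c : Spec (CommRingCat.of Be) ⟶ U₁ := Spec.map (CommRingCat.ofHom (algebraMap R₁ Be))
  have hc : c = m₁ ≫ b := by
    rw [← Spec.map_comp]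
    exact congrArg Spec.map (CommRingCat.hom_ext
      (RingHom.ext fun r => IsScalarTower.algebraMap_apply R₁ B Be r))
  haveI : IsFinite c := by
    rw [IsFinite.SpecMap_iff]
    exact RingHom.finite_algebraMap.mpr hfin
  haveI : Etale c := by
    rw [HasRingHomProperty.Spec_iff (P := @Etale)]
    exact RingHom.etale_algebraMap.mpr inferInstance
  obtain ⟨U₂, g₂, hg₂, u₂, hu₂, n, V, cj, hcj, e₂, he₂⟩ := FinEtSplitSch.main c u₁
  haveI := hg₂
  haveI : Etale g₁ := by
    rw [HasRingHomProperty.Spec_iff (P := @Etale)]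
    exact RingHom.etale_algebraMap.mpr inferInstance
  refine ⟨U₂, g₂ ≫ g₁, u₂, inferInstance, ?_, ?_⟩
  · rw [Scheme.Hom.comp_apply, show g₂ u₂ = u₁ from hu₂]
    apply PrimeSpectrum.ext
    show P₁.comap (algebraMap R R₁) = q.asIdeal.comap (algebraMap R A)
    exact (hP₁p.over).symm
  · have hA : SplitSq (MorphismProperty.isomorphisms Scheme.{u}) (pullback.fst c g₂ ≫ m₁ ≫ a)
        (pullback.snd c g₂) u₂ {q} :=
      SplitSq.of_sigma V cj hcj e₂ _ _ he₂ u₂ _
    let m₂ : pullback c g₂ ⟶ pullback b g₂ :=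
      pullback.map c g₂ b g₂ m₁ (𝟙 U₂) (𝟙 U₁) (by rw [hc]; simp) (by simp)
    have hm21 : m₂ ≫ pullback.fst b g₂ = pullback.fst c g₂ ≫ m₁ := pullback.lift_fst _ _ _
    have hm22 : m₂ ≫ pullback.snd b g₂ = pullback.snd c g₂ :=
      (pullback.lift_snd _ _ _).trans (Category.comp_id _)
    have hB : SplitSq (MorphismProperty.isomorphisms Scheme.{u}) (pullback.fst b g₂ ≫ a)
        (pullback.snd b g₂) u₂ {q} := by
      refine SplitSq.of_isOpenImmersion _ _ _ (pullback.fst c g₂ ≫ m₁ ≫ a) m₂ u₂ _ {q} ?_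
        (by rw [hm22]; exact hA)
      intro w hw ht
      let y : Spec (CommRingCat.of B) := (pullback.fst b g₂) w
      have hy1 : b y = u₁ := by
        show b ((pullback.fst b g₂) w) = u₁
        rw [← Scheme.Hom.comp_apply, pullback.condition, Scheme.Hom.comp_apply, hw]
        exact hu₂
      have hy2 : a y = q := ht
      haveI : y.asIdeal.LiesOver P₁ := ⟨(congrArg PrimeSpectrum.asIdeal hy1).symm⟩
      have hy3 : y.asIdeal.comap Algebra.TensorProduct.includeRight.toRingHom =
          P'.comap Algebra.TensorProduct.includeRight.toRingHom := by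
        rw [hP'q]
        exact congrArg PrimeSpectrum.asIdeal hy2
      have hyP : y.asIdeal = P' :=
        Ideal.eq_of_comap_eq_comap_of_bijective_residueFieldMap hbij y.asIdeal P' hy3
      have hye : y ∈ Set.range m₁ := by
        have h1 : Set.range m₁ = (PrimeSpectrum.basicOpen e : Set (PrimeSpectrum B)) :=
          PrimeSpectrum.localization_away_comap_range Be e
        rw [h1]
        show e ∉ y.asIdeal
        rw [hyP]
        exact heP'
      have hrange : w ∈ Set.range m₂ := by
        rw [Scheme.Pullback.range_map]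
        exact ⟨hye, ⟨(pullback.snd b g₂) w, rfl⟩⟩
      obtain ⟨w', rfl⟩ := hrange
      refine ⟨w', rfl, ?_⟩
      have h2 : (pullback.fst c g₂ ≫ m₁ ≫ a) w' = (pullback.fst b g₂ ≫ a) (m₂ w') := by
        rw [← Scheme.Hom.comp_apply, ← Category.assoc, ← Category.assoc, hm21]
      rw [h2]
      exact ht
    have hpb2 : IsPullback (pullback.fst b g₂ ≫ a) (pullback.snd b g₂) fA (g₂ ≫ g₁) :=
      (IsPullback.of_hasPullback b g₂).paste_horiz hpb
    have hC := SplitSq.bc (MorphismProperty.isomorphisms Scheme.{u}) (pullback.fst b g₂ ≫ a)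
      (pullback.snd b g₂) hpb2.isoPullback.inv (pullback.snd fA (g₂ ≫ g₁)) (𝟙 U₂)
      (IsPullback.of_horiz_isIso ⟨by simp⟩) u₂ u₂ rfl {q} hB
    have hε : hpb2.isoPullback.inv ≫ pullback.fst b g₂ ≫ a = pullback.fst fA (g₂ ≫ g₁) :=
      hpb2.isoPullback_inv_fst
    rw [hε] at hC
    exact hC

theorem aff_unramified (R A : Type u) [CommRing R] [CommRing A] [Algebra R A]
    [Algebra.FiniteType R A] [Algebra.FormallyUnramified R A] :
    Aff @IsClosedImmersion R A := by
  intro q
  haveI : Algebra.IsUnramifiedAt R q.asIdeal :=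
    Algebra.formallyUnramified_iff_forall.mp inferInstance q
  obtain ⟨a₀, ha₀, Pr, φ, hφ⟩ :=
    Algebra.IsUnramifiedAt.exists_hasStandardEtaleSurjectionOn (R := R) q.asIdeal
  let E := Pr.Ring
  let Aa := Localization.Away a₀
  obtain ⟨hq1, hq2⟩ := FinEtSplit.away_prime A q.asIdeal a₀ ha₀
  let q' : PrimeSpectrum Aa := ⟨q.asIdeal.map (algebraMap A Aa), hq1⟩
  have hq'q : q'.asIdeal.comap (algebraMap A Aa) = q.asIdeal := (hq2.over).symm
  let i : Spec (CommRingCat.of Aa) ⟶ Spec (CommRingCat.of E) :=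
    Spec.map (CommRingCat.ofHom φ.toRingHom)
  haveI : IsClosedImmersion i := IsClosedImmersion.spec_of_surjective _ hφ
  let qE : PrimeSpectrum E := i q'
  obtain ⟨U, g, u, hg, hgu, hs⟩ := aff_etale R E qE
  let fE := Spec.map (CommRingCat.ofHom (algebraMap R E))
  let fAa := Spec.map (CommRingCat.ofHom (algebraMap R Aa))
  let fA := Spec.map (CommRingCat.ofHom (algebraMap R A))
  have hfi : fAa = i ≫ fE := by
    rw [← Spec.map_comp]
    exact congrArg Spec.map (CommRingCat.hom_ext
      (RingHom.ext fun r => (φ.commutes r).symm))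
  let ja : Spec (CommRingCat.of Aa) ⟶ Spec (CommRingCat.of A) :=
    Spec.map (CommRingCat.ofHom (algebraMap A Aa))
  haveI : IsOpenImmersion ja := IsOpenImmersion.of_isLocalization a₀
  have hfj : fAa = ja ≫ fA := by
    rw [← Spec.map_comp]
    exact congrArg Spec.map (CommRingCat.hom_ext
      (RingHom.ext fun r => IsScalarTower.algebraMap_apply R A Aa r))
  have hjq : ja q' = q := PrimeSpectrum.ext hq'q
  refine ⟨U, g, u, hg, ?_, ?_⟩
  · rw [hgu]
    show fE (i q') = fA q
    rw [← Scheme.Hom.comp_apply, ← hfi, hfj, Scheme.Hom.comp_apply, hjq]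
  · let mc : pullback fAa g ⟶ pullback fE g :=
      pullback.map fAa g fE g i (𝟙 U) (𝟙 _) ((Category.comp_id _).trans hfi)
        ((Category.comp_id _).trans (Category.id_comp g).symm)
    haveI : IsClosedImmersion mc :=
      MorphismProperty.pullbackMap (P := @IsClosedImmersion) ‹IsClosedImmersion i›
        (inferInstance : IsClosedImmersion (𝟙 U)) hfi (Category.id_comp g).symm
    have hmc1 : mc ≫ pullback.fst fE g = pullback.fst fAa g ≫ i := pullback.lift_fst _ _ _
    have hmc2 : mc ≫ pullback.snd fE g = pullback.snd fAa g :=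
      (pullback.lift_snd _ _ _).trans (Category.comp_id _)
    have h1 := SplitSq.of_isClosedImmersion (pullback.fst fE g) (pullback.snd fE g)
      (pullback.fst fAa g) i mc hmc1 u {qE} hs
    rw [hmc2] at h1
    have h2 : SplitSq @IsClosedImmersion (pullback.fst fAa g) (pullback.snd fAa g) u {q'} :=
      h1.mono (by rintro _ rfl; rfl)
    have h3 := SplitSq.openBase @IsClosedImmersion fA fAa ja (𝟙 _)
      (by rw [Category.comp_id]; exact hfj) g u {q'} h2
    have h4 := SplitSq.pullback_congr @IsClosedImmersion fA (Category.comp_id g) h3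
    refine h4.mono ?_
    rintro _ rfl
    exact ⟨q', rfl, hjq⟩

end Groth.Agent.Helper18.EtLoc
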