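import Mathlib
import Groth.Agent.Lib.Helper18.EtLoc2

set_option autoImplicit false

namespace Groth.Agent.Helper18.EtLoc

open AlgebraicGeometry CategoryTheory Limits TensorProduct

universe u

/-- Base change of a splitting along a map of étale neighbourhoods. -/
lemma SplitSq.bcPullback (P : MorphismProperty Scheme.{u}) [P.IsStableUnderBaseChange]
    {X S U U' : Scheme.{u}} (f : X ⟶ S) (g : U ⟶ S) (h : U' ⟶ U) (u' : U') (u : U)
    (hu : h u' = u) (T : Set X)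
    (hs : SplitSq P (pullback.fst f g) (pullback.snd f g) u T) :
    SplitSq P (pullback.fst f (h ≫ g)) (pullback.snd f (h ≫ g)) u' T := by
  let m : pullback f (h ≫ g) ⟶ pullback f g :=
    pullback.map f (h ≫ g) f g (𝟙 X) h (𝟙 S) (by simp) (by simp)
  have hm1 : m ≫ pullback.fst f g = pullback.fst f (h ≫ g) :=
    (pullback.lift_fst _ _ _).trans (Category.comp_id _)
  have hm2 : m ≫ pullback.snd f g = pullback.snd f (h ≫ g) ≫ h := pullback.lift_snd _ _ _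
  have hpb : IsPullback m (pullback.snd f (h ≫ g)) (pullback.snd f g) h :=
    IsPullback.of_right (by rw [hm1]; exact IsPullback.of_hasPullback f (h ≫ g)) hm2
      (IsPullback.of_hasPullback f g)
  have := SplitSq.bc P (pullback.fst f g) (pullback.snd f g) m (pullback.snd f (h ≫ g)) h hpb
    u' u hu T hs
  rw [hm1] at this
  exact this

/-- From single points to finite sets of points. -/
theorem core (P : MorphismProperty Scheme.{u}) [P.IsStableUnderBaseChange]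
    {X S : Scheme.{u}} (f : X ⟶ S) (s : S) (T : Set X) (hT : T.Finite)
    (hsingle : ∀ t ∈ T, ∃ (U : Scheme.{u}) (g : U ⟶ S) (u : U), Etale g ∧ g u = s ∧
      SplitSq P (pullback.fst f g) (pullback.snd f g) u {t}) :
    ∃ (U : Scheme.{u}) (g : U ⟶ S) (u : U), Etale g ∧ g u = s ∧
      SplitSq P (pullback.fst f g) (pullback.snd f g) u T := by
  induction T, hT using Set.Finite.induction_on with
  | empty => exact ⟨S, 𝟙 S, s, inferInstance, rfl, SplitSq.empty P _ _ _⟩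
  | @insert t T' ht hT' ih =>
    obtain ⟨U₁, g₁, u₁, hg₁, hgu₁, hs₁⟩ := ih (fun t' ht' => hsingle t' (Set.mem_insert_of_mem _ ht'))
    obtain ⟨U₂, g₂, u₂, hg₂, hgu₂, hs₂⟩ := hsingle t (Set.mem_insert _ _)
    haveI := hg₁
    haveI := hg₂
    obtain ⟨z, hz1, hz2⟩ := Scheme.Pullback.exists_preimage_pullback (f := g₁) (g := g₂) u₁ u₂
      (hgu₁.trans hgu₂.symm)
    refine ⟨pullback g₁ g₂, pullback.fst g₁ g₂ ≫ g₁, z, inferInstance, ?_, ?_⟩
    · rw [Scheme.Hom.comp_apply, hz1, hgu₁]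
    · have h1 := SplitSq.bcPullback P f g₁ (pullback.fst g₁ g₂) z u₁ hz1 T' hs₁
      have h2 := SplitSq.bcPullback P f g₂ (pullback.snd g₁ g₂) z u₂ hz2 {t} hs₂
      have h3 := SplitSq.pullback_congr P f (pullback.condition (f := g₁) (g := g₂)).symm h2
      have h4 := h3.union h1
      rw [Set.singleton_union] at h4
      exact h4

/-- Affine-local statement for a ring map. -/
def AffC (P : MorphismProperty Scheme.{u}) {R A : CommRingCat.{u}} (φ : R ⟶ A) : Prop :=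
  ∀ q : Spec A, ∃ (U : Scheme.{u}) (g : U ⟶ Spec R) (u : U), Etale g ∧
    g u = (Spec.map φ) q ∧
    SplitSq P (pullback.fst (Spec.map φ) g) (pullback.snd (Spec.map φ) g) u {q}

theorem single_of_aff (P : MorphismProperty Scheme.{u}) [P.RespectsIso] {X S : Scheme.{u}}
    (f : X ⟶ S) (t : X) (S₀ : S.Opens) (hS₀ : IsAffineOpen S₀) (X₀ : X.Opens)
    (hX₀ : IsAffineOpen X₀) (htX : t ∈ X₀) (hle : X₀ ≤ f ⁻¹ᵁ S₀)
    (haff : AffC P (f.resLE S₀ X₀ hle).appTop) :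
    ∃ (U : Scheme.{u}) (g : U ⟶ S) (u : U), Etale g ∧ g u = f t ∧
      SplitSq P (pullback.fst f g) (pullback.snd f g) u {t} := by
  haveI : IsAffine ↑S₀ := hS₀
  haveI : IsAffine ↑X₀ := hX₀
  let f₀ := f.resLE S₀ X₀ hle
  let j : Spec Γ(↑X₀, ⊤) ⟶ X := X₀.toScheme.isoSpec.inv ≫ X₀.ι
  let i : Spec Γ(↑S₀, ⊤) ⟶ S := S₀.toScheme.isoSpec.inv ≫ S₀.ι
  have comm : Spec.map f₀.appTop ≫ i = j ≫ f := by
    simp only [i, j, Category.assoc]
    rw [← Scheme.Hom.resLE_comp_ι f hle, Scheme.isoSpec_inv_naturality_assoc]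
  let q : Spec Γ(↑X₀, ⊤) := X₀.toScheme.isoSpec.hom ⟨t, htX⟩
  have hjq : j q = t := by
    show (X₀.toScheme.isoSpec.inv ≫ X₀.ι) (X₀.toScheme.isoSpec.hom ⟨t, htX⟩) = t
    rw [← Scheme.Hom.comp_apply, Iso.hom_inv_id_assoc]
    rfl
  obtain ⟨U, g₁, u, hg₁, hgu, hs⟩ := haff q
  haveI := hg₁
  refine ⟨U, g₁ ≫ i, u, inferInstance, ?_, ?_⟩
  · rw [Scheme.Hom.comp_apply, hgu, ← Scheme.Hom.comp_apply, comm, Scheme.Hom.comp_apply, hjq]
  · have := SplitSq.openBase P f (Spec.map f₀.appTop) j i comm g₁ u {q} hs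
    refine this.mono ?_
    rintro _ rfl
    exact ⟨q, rfl, hjq⟩

lemma exists_affine_nbhds {X S : Scheme.{u}} (f : X ⟶ S) (t : X) (W : X.Opens) (htW : t ∈ W) :
    ∃ (S₀ : S.Opens) (_ : IsAffineOpen S₀) (X₀ : X.Opens) (_ : IsAffineOpen X₀),
      t ∈ X₀ ∧ X₀ ≤ W ∧ X₀ ≤ f ⁻¹ᵁ S₀ := by
  obtain ⟨_, ⟨S₀, hS₀, rfl⟩, hsS₀, -⟩ :=
    S.isBasis_affineOpens.exists_subset_of_mem_open (Set.mem_univ (f t)) isOpen_univ
  have hmem : t ∈ ((W ⊓ f ⁻¹ᵁ S₀ : X.Opens) : Set X) := ⟨htW, hsS₀⟩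
  obtain ⟨_, ⟨X₀, hX₀, rfl⟩, htX₀, hX₀le⟩ :=
    X.isBasis_affineOpens.exists_subset_of_mem_open hmem (W ⊓ f ⁻¹ᵁ S₀).isOpen
  exact ⟨S₀, hS₀, X₀, hX₀, htX₀, fun z hz => (hX₀le hz).1, fun z hz => (hX₀le hz).2⟩

theorem single_etale {X S : Scheme.{u}} (f : X ⟶ S) (t : X) (W : X.Opens) (htW : t ∈ W)
    (hW : Etale (W.ι ≫ f)) :
    ∃ (U : Scheme.{u}) (g : U ⟶ S) (u : U), Etale g ∧ g u = f t ∧
      SplitSq (MorphismProperty.isomorphisms Scheme.{u}) (pullback.fst f g) (pullback.snd f g)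
        u {t} := by
  obtain ⟨S₀, hS₀, X₀, hX₀, htX₀, hX₀W, hle⟩ := exists_affine_nbhds f t W htW
  refine single_of_aff _ f t S₀ hS₀ X₀ hX₀ htX₀ hle ?_
  haveI : IsAffine ↑S₀ := hS₀
  haveI : IsAffine ↑X₀ := hX₀
  let f₀ := f.resLE S₀ X₀ hle
  haveI : Etale (X₀.ι ≫ f) := by
    rw [← X.homOfLE_ι hX₀W, Category.assoc]
    infer_instance
  haveI : Etale (f₀ ≫ S₀.ι) := by
    rw [Scheme.Hom.resLE_comp_ι]
    infer_instance
  have hf₀ : Etale f₀ :=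
    MorphismProperty.of_postcomp (W := @Etale) (W' := @Etale) f₀ S₀.ι inferInstance inferInstance
  have hφ : RingHom.Etale f₀.appTop.hom := (HasRingHomProperty.iff_of_isAffine (P := @Etale)).mp hf₀
  letI : Algebra Γ(↑S₀, ⊤) Γ(↑X₀, ⊤) := f₀.appTop.hom.toAlgebra
  haveI : Algebra.Etale Γ(↑S₀, ⊤) Γ(↑X₀, ⊤) := hφ
  exact aff_etale Γ(↑S₀, ⊤) Γ(↑X₀, ⊤)

theorem single_unramified {X S : Scheme.{u}} (f : X ⟶ S) (t : X) (W : X.Opens) (htW : t ∈ W)
    (hW1 : LocallyOfFiniteType (W.ι ≫ f)) (hW2 : FormallyUnramified (W.ι ≫ f)) :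
    ∃ (U : Scheme.{u}) (g : U ⟶ S) (u : U), Etale g ∧ g u = f t ∧
      SplitSq @IsClosedImmersion (pullback.fst f g) (pullback.snd f g) u {t} := by
  obtain ⟨S₀, hS₀, X₀, hX₀, htX₀, hX₀W, hle⟩ := exists_affine_nbhds f t W htW
  refine single_of_aff _ f t S₀ hS₀ X₀ hX₀ htX₀ hle ?_
  haveI : IsAffine ↑S₀ := hS₀
  haveI : IsAffine ↑X₀ := hX₀
  let f₀ := f.resLE S₀ X₀ hle
  haveI : LocallyOfFiniteType (X₀.ι ≫ f) := by
    rw [← X.homOfLE_ι hX₀W, Category.assoc]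
    infer_instance
  haveI : FormallyUnramified (X₀.ι ≫ f) := by
    rw [← X.homOfLE_ι hX₀W, Category.assoc]
    haveI : FormallyUnramified (X.homOfLE hX₀W) := inferInstance
    exact MorphismProperty.comp_mem (W := @FormallyUnramified) _ _ inferInstance hW2
  haveI : LocallyOfFiniteType (f₀ ≫ S₀.ι) := by
    rw [Scheme.Hom.resLE_comp_ι]
    infer_instance
  haveI : FormallyUnramified (f₀ ≫ S₀.ι) := by
    rw [Scheme.Hom.resLE_comp_ι]
    infer_instance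
  have hf₁ : LocallyOfFiniteType f₀ := locallyOfFiniteType_of_comp f₀ S₀.ι
  have hf₂ : FormallyUnramified f₀ := FormallyUnramified.of_comp f₀ S₀.ι
  have hφ1 : RingHom.FiniteType f₀.appTop.hom :=
    (HasRingHomProperty.iff_of_isAffine (P := @LocallyOfFiniteType)).mp hf₁
  have hφ2 : RingHom.FormallyUnramified f₀.appTop.hom :=
    (HasRingHomProperty.iff_of_isAffine (P := @FormallyUnramified)).mp hf₂
  letI : Algebra Γ(↑S₀, ⊤) Γ(↑X₀, ⊤) := f₀.appTop.hom.toAlgebra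
  haveI : Algebra.FiniteType Γ(↑S₀, ⊤) Γ(↑X₀, ⊤) := hφ1
  haveI : Algebra.FormallyUnramified Γ(↑S₀, ⊤) Γ(↑X₀, ⊤) := hφ2
  exact aff_unramified Γ(↑S₀, ⊤) Γ(↑X₀, ⊤)

end Groth.Agent.Helper18.EtLoc
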