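import Mathlib
import Groth.Agent.Lib.Helper18.EtLoc3

set_option autoImplicit false

namespace Groth.Agent.Helper18.EtLoc

open AlgebraicGeometry CategoryTheory Limits TensorProduct

universe u

theorem post (P : MorphismProperty Scheme.{u})
    (hinj : ∀ {A B : Scheme.{u}} (φ : A ⟶ B), P φ → Function.Injective φ)
    {X S U : Scheme.{u}} (f : X ⟶ S) (g : U ⟶ S) (u : U) {ι : Type} [Finite ι] (x : ι → X)
    (hx : Function.Injective x)
    (hs : SplitSq P (pullback.fst f g) (pullback.snd f g) u (Set.range x)) :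
    ∃ (K : Type) (_ : Finite K) (lab : K → ι) (V : K → (pullback f g).Opens),
      (∀ k, P ((V k).ι ≫ pullback.snd f g) ∧
        ∃ w : ↑(pullback f g), w ∈ V k ∧ pullback.snd f g w = u) ∧
      (∀ (k k' : K) (w : ↑(pullback f g)), w ∈ V k → w ∈ V k' → pullback.snd f g w = u →
        k = k') ∧
      (∀ (w : ↑(pullback f g)) (i : ι), pullback.snd f g w = u → pullback.fst f g w = x i →
        ∃ k, lab k = i ∧ w ∈ V k) := by
  obtain ⟨K₀, hK₀, V₀, hV₀, hc⟩ := hs
  have huniq : ∀ (k : K₀) (w w' : ↑(pullback f g)), w ∈ V₀ k → w' ∈ V₀ k →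
      pullback.snd f g w = u → pullback.snd f g w' = u → w = w' := by
    intro k w w' hw hw' h1 h2
    have h3 : ((V₀ k).ι ≫ pullback.snd f g) ⟨w, hw⟩ =
        ((V₀ k).ι ≫ pullback.snd f g) ⟨w', hw'⟩ := by
      rw [Scheme.Hom.comp_apply, Scheme.Hom.comp_apply]
      exact h1.trans h2.symm
    have h4 := hinj _ (hV₀ k) h3
    exact congrArg Subtype.val h4
  let Wset : Set ↑(pullback f g) :=
    {w | pullback.snd f g w = u ∧ pullback.fst f g w ∈ Set.range x ∧ ∃ k, w ∈ V₀ k}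
  have hfin : Wset.Finite := by
    have hsub : Wset ⊆ ⋃ k : K₀, {w | w ∈ V₀ k ∧ pullback.snd f g w = u} := by
      rintro w ⟨h1, -, k, hk⟩
      exact Set.mem_iUnion.mpr ⟨k, hk, h1⟩
    refine Set.Finite.subset (Set.finite_iUnion fun k => Set.Subsingleton.finite ?_) hsub
    rintro w ⟨hw, h1⟩ w' ⟨hw', h2⟩
    exact huniq k w w' hw hw' h1 h2
  haveI : Finite Wset := hfin.to_subtype
  let ek : Fin (Nat.card Wset) ≃ Wset := (Finite.equivFin Wset).symm
  have hspec : ∀ κ, ∃ (k : K₀) (i : ι), (ek κ).1 ∈ V₀ k ∧ x i = pullback.fst f g (ek κ).1 := by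
    intro κ
    obtain ⟨-, ⟨i, hi⟩, k, hk⟩ := (ek κ).2
    exact ⟨k, i, hk, hi⟩
  choose kk lab hkk hlab using hspec
  refine ⟨Fin (Nat.card Wset), inferInstance, lab, fun κ => V₀ (kk κ),
    fun κ => ⟨hV₀ _, (ek κ).1, hkk κ, (ek κ).2.1⟩, ?_, ?_⟩
  · intro κ κ' w hw hw' hwu
    have e1 : w = (ek κ).1 := huniq _ w _ hw (hkk κ) hwu (ek κ).2.1
    have e2 : w = (ek κ').1 := huniq _ w _ hw' (hkk κ') hwu (ek κ').2.1
    exact ek.injective (Subtype.ext (e1.symm.trans e2))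
  · intro w i hwu hwi
    obtain ⟨k₀, hk₀⟩ := hc w hwu ⟨i, hwi.symm⟩
    let ww : Wset := ⟨w, hwu, ⟨i, hwi.symm⟩, k₀, hk₀⟩
    have e : ek (ek.symm ww) = ww := ek.apply_symm_apply ww
    have e' : (ek (ek.symm ww)).1 = w := congrArg Subtype.val e
    refine ⟨ek.symm ww, ?_, ?_⟩
    · apply hx
      rw [hlab, e', hwi]
    · have := hkk (ek.symm ww)
      rw [e'] at this
      exact this

theorem post2 (P : MorphismProperty Scheme.{u}) [P.IsStableUnderBaseChange]
    (hcl : ∀ {A B : Scheme.{u}} (φ : A ⟶ B), P φ → IsClosedImmersion φ)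
    {X S U : Scheme.{u}} (f : X ⟶ S) [IsSeparated f] (g : U ⟶ S) [Etale g] (u : U) (s : S)
    (hgu : g u = s) {ι : Type} (x : ι → X) {K : Type} [Finite K] (lab : K → ι)
    (V : K → (pullback f g).Opens)
    (h1 : ∀ k, P ((V k).ι ≫ pullback.snd f g) ∧
      ∃ w : ↑(pullback f g), w ∈ V k ∧ pullback.snd f g w = u)
    (h2 : ∀ (k k' : K) (w : ↑(pullback f g)), w ∈ V k → w ∈ V k' → pullback.snd f g w = u →
      k = k')
    (h3 : ∀ (w : ↑(pullback f g)) (i : ι), pullback.snd f g w = u → pullback.fst f g w = x i →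
      ∃ k, lab k = i ∧ w ∈ V k) :
    ∃ (U' : Scheme.{u}) (g' : U' ⟶ S) (u' : U'), Etale g' ∧ g' u' = s ∧
      ∃ (W : (pullback f g').Opens) (V' : K → (pullback f g').Opens),
        W ⊔ (⨆ k, V' k) = ⊤ ∧ (∀ k, Disjoint W (V' k)) ∧
        (∀ k k', k ≠ k' → Disjoint (V' k) (V' k')) ∧
        (∀ k, P ((V' k).ι ≫ pullback.snd f g') ∧
          ∃ w : ↑(pullback f g'), w ∈ V' k ∧ pullback.snd f g' w = u') ∧
        (∀ (w : ↑(pullback f g')) (i : ι), w ∈ W → pullback.snd f g' w = u' →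
          pullback.fst f g' w ≠ x i) := by
  classical
  have hVcl : ∀ k, IsClosed ((V k : (pullback f g).Opens) : Set ↑(pullback f g)) := by
    intro k
    haveI : IsClosedImmersion ((V k).ι ≫ pullback.snd f g) := hcl _ (h1 k).1
    haveI : IsClosedImmersion (V k).ι := IsClosedImmersion.of_comp (V k).ι (pullback.snd f g)
    have := (V k).ι.isClosedEmbedding.isClosed_range
    rwa [Scheme.Opens.range_ι] at this
  have hZcl : ∀ k k', IsClosed ((pullback.snd f g) ''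
      ((V k : Set ↑(pullback f g)) ∩ (V k' : Set ↑(pullback f g)))) := by
    intro k k'
    haveI : IsClosedImmersion ((V k).ι ≫ pullback.snd f g) := hcl _ (h1 k).1
    have hcm : IsClosedMap ((V k).ι ≫ pullback.snd f g) :=
      ((V k).ι ≫ pullback.snd f g).isClosedEmbedding.isClosedMap
    have e : (pullback.snd f g) '' ((V k : Set ↑(pullback f g)) ∩ (V k' : Set ↑(pullback f g))) =
        ((V k).ι ≫ pullback.snd f g) '' ((V k).ι ⁻¹' (V k' : Set ↑(pullback f g))) := by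
      ext z
      constructor
      · rintro ⟨w, ⟨hw, hw'⟩, rfl⟩
        exact ⟨⟨w, hw⟩, hw', rfl⟩
      · rintro ⟨v, hv, rfl⟩
        exact ⟨(V k).ι v, ⟨v.2, hv⟩, rfl⟩
    rw [e]
    exact hcm _ ((hVcl k').preimage (V k).ι.continuous)
  let Z : Set U := ⋃ (p : {p : K × K // p.1 ≠ p.2}),
    (pullback.snd f g) '' ((V p.1.1 : Set ↑(pullback f g)) ∩ (V p.1.2 : Set ↑(pullback f g)))
  have hZ : IsClosed Z := isClosed_iUnion_of_finite fun p => hZcl _ _
  have huZ : u ∉ Z := by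
    intro hu
    obtain ⟨⟨⟨k, k'⟩, hne⟩, w, ⟨hw, hw'⟩, hwu⟩ := Set.mem_iUnion.mp hu
    exact hne (h2 k k' w hw hw' hwu)
  let U' : U.Opens := ⟨Zᶜ, hZ.isOpen_compl⟩
  let u' : ↑U' := ⟨u, huZ⟩
  let h : ↑U' ⟶ U := U'.ι
  let m : pullback f (h ≫ g) ⟶ pullback f g :=
    pullback.map f (h ≫ g) f g (𝟙 X) h (𝟙 S) (by simp) (by simp)
  have hm1 : m ≫ pullback.fst f g = pullback.fst f (h ≫ g) :=
    (pullback.lift_fst _ _ _).trans (Category.comp_id _)
  have hm2 : m ≫ pullback.snd f g = pullback.snd f (h ≫ g) ≫ h := pullback.lift_snd _ _ _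
  have hpb : IsPullback m (pullback.snd f (h ≫ g)) (pullback.snd f g) h :=
    IsPullback.of_right (by rw [hm1]; exact IsPullback.of_hasPullback f (h ≫ g)) hm2
      (IsPullback.of_hasPullback f g)
  have hsnd : ∀ w, pullback.snd f g (m w) = h (pullback.snd f (h ≫ g) w) := fun w => by
    rw [← Scheme.Hom.comp_apply, hm2, Scheme.Hom.comp_apply]
  have hfst : ∀ w, pullback.fst f g (m w) = pullback.fst f (h ≫ g) w := fun w => by
    rw [← Scheme.Hom.comp_apply, hm1]
  let V' : K → (pullback f (h ≫ g)).Opens := fun k => m ⁻¹ᵁ V k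
  have hV'cl : IsClosed (⋃ k, (V' k : Set ↑(pullback f (h ≫ g)))) :=
    isClosed_iUnion_of_finite fun k => (hVcl k).preimage m.continuous
  let W : (pullback f (h ≫ g)).Opens :=
    ⟨(⋃ k, (V' k : Set ↑(pullback f (h ≫ g))))ᶜ, hV'cl.isOpen_compl⟩
  refine ⟨↑U', h ≫ g, u', inferInstance, ?_, W, V', ?_, ?_, ?_, ?_, ?_⟩
  · rw [Scheme.Hom.comp_apply]
    exact hgu
  · apply TopologicalSpace.Opens.ext
    rw [TopologicalSpace.Opens.coe_sup, TopologicalSpace.Opens.coe_iSup,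
      TopologicalSpace.Opens.coe_top]
    exact Set.compl_union_self _
  · intro k
    rw [disjoint_iff_inf_le]
    intro w hw
    have hw' : w ∈ (W : Set ↑(pullback f (h ≫ g))) ∩ (V' k : Set ↑(pullback f (h ≫ g))) := hw
    exact (hw'.1 (Set.mem_iUnion.mpr ⟨k, hw'.2⟩)).elim
  · intro k k' hne
    rw [disjoint_iff_inf_le]
    intro w hw
    have hw' : w ∈ (V' k : Set ↑(pullback f (h ≫ g))) ∩ (V' k' : Set ↑(pullback f (h ≫ g))) := hw
    have hmem : pullback.snd f g (m w) ∈ Z :=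
      Set.mem_iUnion.mpr ⟨⟨(k, k'), hne⟩, m w, ⟨hw'.1, hw'.2⟩, rfl⟩
    rw [hsnd] at hmem
    exact ((pullback.snd f (h ≫ g) w).2 hmem).elim
  · intro k
    refine ⟨MorphismProperty.of_isPullback
      ((isPullback_morphismRestrict m (V k)).paste_vert hpb) (h1 k).1, ?_⟩
    obtain ⟨w, hw, hwu⟩ := (h1 k).2
    obtain ⟨z, hz1, hz2⟩ := exists_point_of_isPullback hpb w u' (by rw [hwu]; rfl)
    refine ⟨z, ?_, hz2⟩
    show m z ∈ V k
    rw [hz1]
    exact hw
  · intro w i hwW hwu hwi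
    have e1 : pullback.snd f g (m w) = u := by
      rw [hsnd, hwu]
      rfl
    have e2 : pullback.fst f g (m w) = x i := by rw [hfst, hwi]
    obtain ⟨k, -, hk⟩ := h3 (m w) i e1 e2
    exact hwW (Set.mem_iUnion.mpr ⟨k, hk⟩)

lemma injective_of_isIso {A B : Scheme.{u}} (φ : A ⟶ B)
    (hφ : MorphismProperty.isomorphisms Scheme.{u} φ) : Function.Injective φ := by
  haveI : IsIso φ := hφ
  exact φ.homeomorph.injective

lemma injective_of_isClosedImmersion {A B : Scheme.{u}} (φ : A ⟶ B)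
    (hφ : IsClosedImmersion φ) : Function.Injective φ :=
  φ.isClosedEmbedding.injective

lemma isClosedImmersion_of_isIso {A B : Scheme.{u}} (φ : A ⟶ B)
    (hφ : MorphismProperty.isomorphisms Scheme.{u} φ) : IsClosedImmersion φ := by
  haveI : IsIso φ := hφ
  infer_instance

end Groth.Agent.Helper18.EtLoc
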