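import Mathlib
import Groth.Agent.Lib.Helper18.EtLoc4

set_option autoImplicit false

namespace Groth.Agent.Helper18.EtLoc

open AlgebraicGeometry CategoryTheory Limits TensorProduct

universe u

/-- For a finite morphism: shrink the base to remove the residual clopen piece and get a
disjoint union decomposition. -/
theorem post3 (P : MorphismProperty Scheme.{u}) [P.IsStableUnderBaseChange]
    {X S U : Scheme.{u}} (f : X ⟶ S) [IsFinite f] (g : U ⟶ S) [Etale g] (u : U) (s : S)
    (hgu : g u = s) {K : Type} [Finite K] (W : (pullback f g).Opens)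
    (V : K → (pullback f g).Opens)
    (c1 : W ⊔ (⨆ k, V k) = ⊤) (c2 : ∀ k, Disjoint W (V k))
    (c3 : ∀ k k', k ≠ k' → Disjoint (V k) (V k'))
    (c4 : ∀ k, P ((V k).ι ≫ pullback.snd f g))
    (c5 : ∀ w : ↑(pullback f g), w ∈ W → pullback.snd f g w ≠ u) :
    ∃ (U' : Scheme.{u}) (g' : U' ⟶ S) (_ : AlgebraicGeometry.Etale g') (u' : U')
      (_ : g'.base u' = s) (n : ℕ) (Vs : Fin n → Scheme.{u}) (c : ∀ j, Vs j ⟶ U')
      (_ : ∀ j, P (c j)) (e : (∐ Vs) ≅ pullback f g'),
      ∀ j, Sigma.ι Vs j ≫ e.hom ≫ pullback.snd f g' = c j := by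
  classical
  have hWset : (W : Set ↑(pullback f g)) = (⋃ k, (V k : Set ↑(pullback f g)))ᶜ := by
    ext w
    constructor
    · intro hw hw'
      obtain ⟨k, hk⟩ := Set.mem_iUnion.mp hw'
      have : w ∈ (W ⊓ V k : (pullback f g).Opens) := ⟨hw, hk⟩
      rw [(c2 k).eq_bot] at this
      exact this
    · intro hw
      have h1 : w ∈ (W ⊔ (⨆ k, V k) : (pullback f g).Opens) := by rw [c1]; trivial
      have h2 : w ∈ (W : Set ↑(pullback f g)) ∪ ⋃ k, (V k : Set ↑(pullback f g)) := by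
        have h3 : ((W ⊔ (⨆ k, V k) : (pullback f g).Opens) : Set ↑(pullback f g)) =
            (W : Set ↑(pullback f g)) ∪ ⋃ k, (V k : Set ↑(pullback f g)) := by
          rw [TopologicalSpace.Opens.coe_sup, TopologicalSpace.Opens.coe_iSup]
        rw [← h3]
        exact h1
      rcases h2 with h2 | h2
      · exact h2
      · exact (hw h2).elim
  have hWcl : IsClosed (W : Set ↑(pullback f g)) := by
    rw [hWset]
    exact (isOpen_iUnion fun k => (V k).isOpen).isClosed_compl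
  let Z : Set U := (pullback.snd f g) '' (W : Set ↑(pullback f g))
  have hZ : IsClosed Z := (pullback.snd f g).isClosedMap _ hWcl
  have huZ : u ∉ Z := by
    rintro ⟨w, hw, hwu⟩
    exact c5 w hw hwu
  let U' : U.Opens := ⟨Zᶜ, hZ.isOpen_compl⟩
  let u' : ↑U' := ⟨u, huZ⟩
  let h : ↑U' ⟶ U := U'.ι
  let m : pullback f (h ≫ g) ⟶ pullback f g :=
    pullback.map f (h ≫ g) f g (𝟙 X) h (𝟙 S) (by simp) (by simp)
  have hm1 : m ≫ pullback.fst f g = pullback.fst f (h ≫ g) :=
    (pullback.lift_fst _ _ _).trans (Category.comp_id _)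
  have hm2 : m ≫ pullback.snd f g = pullback.snd f (h ≫ g) ≫ h := pullback.lift_snd _ _ _
  have hpb : IsPullback m (pullback.snd f (h ≫ g)) (pullback.snd f g) h :=
    IsPullback.of_right (by rw [hm1]; exact IsPullback.of_hasPullback f (h ≫ g)) hm2
      (IsPullback.of_hasPullback f g)
  have hsnd : ∀ w, pullback.snd f g (m w) = h (pullback.snd f (h ≫ g) w) := fun w => by
    rw [← Scheme.Hom.comp_apply, hm2, Scheme.Hom.comp_apply]
  let V' : K → (pullback f (h ≫ g)).Opens := fun k => m ⁻¹ᵁ V k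
  have hcov : ∀ w : ↑(pullback f (h ≫ g)), ∃ k, w ∈ V' k := by
    intro w
    by_contra hcon
    push_neg at hcon
    have hmw : m w ∈ (W : Set ↑(pullback f g)) := by
      rw [hWset]
      intro hw'
      obtain ⟨k, hk⟩ := Set.mem_iUnion.mp hw'
      exact hcon k hk
    have hz : pullback.snd f g (m w) ∈ Z := ⟨m w, hmw, rfl⟩
    rw [hsnd] at hz
    exact (pullback.snd f (h ≫ g) w).2 hz
  have hdisj : ∀ k k', k ≠ k' →
      Disjoint (V' k : Set ↑(pullback f (h ≫ g))) (V' k' : Set ↑(pullback f (h ≫ g))) := by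
    intro k k' hne
    rw [Set.disjoint_left]
    intro w hw hw'
    have : m w ∈ (V k ⊓ V k' : (pullback f g).Opens) := ⟨hw, hw'⟩
    rw [(c3 k k' hne).eq_bot] at this
    exact this
  let ek : Fin (Nat.card K) ≃ K := (Finite.equivFin K).symm
  let Vs : Fin (Nat.card K) → Scheme.{u} := fun j => ↑(V' (ek j))
  let β : ∀ j, Vs j ⟶ pullback f (h ≫ g) := fun j => (V' (ek j)).ι
  haveI : ∀ j, IsOpenImmersion (β j) := fun j => inferInstanceAs (IsOpenImmersion (V' (ek j)).ι)
  haveI : IsOpenImmersion (Sigma.desc β) := isOpenImmersion_sigmaDesc _ β (by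
    intro j j' hjj
    show Disjoint (Set.range (V' (ek j)).ι) (Set.range (V' (ek j')).ι)
    rw [Scheme.Opens.range_ι, Scheme.Opens.range_ι]
    exact hdisj _ _ (fun hh => hjj (ek.injective hh)))
  haveI : Surjective (Sigma.desc β) := ⟨fun w => by
    obtain ⟨k, hk⟩ := hcov w
    obtain ⟨j, rfl⟩ := ek.surjective k
    refine ⟨(Sigma.ι Vs j) ⟨w, hk⟩, ?_⟩
    rw [← Scheme.Hom.comp_apply, Sigma.ι_desc]
    rfl⟩
  haveI : IsIso (Sigma.desc β) :=
    (isIso_iff_isOpenImmersion_and_surjective _).mpr ⟨inferInstance, inferInstance⟩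
  refine ⟨↑U', h ≫ g, inferInstance, u', ?_, Nat.card K, Vs,
    fun j => (V' (ek j)).ι ≫ pullback.snd f (h ≫ g), fun j => ?_, asIso (Sigma.desc β), fun j => ?_⟩
  · show (h ≫ g) u' = s
    rw [Scheme.Hom.comp_apply]
    exact hgu
  · exact MorphismProperty.of_isPullback
      ((isPullback_morphismRestrict m (V (ek j))).paste_vert hpb) (c4 (ek j))
  · show Sigma.ι Vs j ≫ Sigma.desc β ≫ pullback.snd f (h ≫ g) = _
    rw [Sigma.ι_desc_assoc]

theorem finite_unramified_split {X S : Scheme.{u}} (f : X ⟶ S) [IsFinite f]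
    [FormallyUnramified f] (s : S) :
    ∃ (U : Scheme.{u}) (g : U ⟶ S) (_ : AlgebraicGeometry.Etale g) (u : U) (_ : g.base u = s)
      (n : ℕ) (V : Fin n → Scheme.{u}) (c : ∀ j, V j ⟶ U) (_ : ∀ j, IsClosedImmersion (c j))
      (e : (∐ V) ≅ pullback f g), ∀ j, Sigma.ι V j ≫ e.hom ≫ pullback.snd f g = c j := by
  have hT : (f ⁻¹' {s}).Finite := f.finite_preimage_singleton s
  haveI : Finite ↥(f ⁻¹' {s}) := hT.to_subtype
  let e0 : Fin (Nat.card ↥(f ⁻¹' {s})) ≃ ↥(f ⁻¹' {s}) := (Finite.equivFin _).symm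
  let x : Fin (Nat.card ↥(f ⁻¹' {s})) → X := fun i => (e0 i).1
  have hxinj : Function.Injective x := fun i j hij => e0.injective (Subtype.ext hij)
  have hxs : ∀ i, f (x i) = s := fun i => (e0 i).2
  have hrange : ∀ t : X, f t = s → ∃ i, x i = t := by
    intro t ht
    exact ⟨e0.symm ⟨t, ht⟩, by show (e0 (e0.symm ⟨t, ht⟩)).1 = t; rw [e0.apply_symm_apply]⟩
  obtain ⟨U, g, u, hg, hgu, hsp⟩ := core @IsClosedImmersion f s (Set.range x)
    (Set.finite_range x) (by
      rintro _ ⟨i, rfl⟩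
      haveI : FormallyUnramified ((⊤ : X.Opens).ι ≫ f) :=
        MorphismProperty.comp_mem (W := @FormallyUnramified) _ _ inferInstance inferInstance
      obtain ⟨U, g, u, hg, hgu, hsp⟩ :=
        single_unramified f (x i) ⊤ trivial inferInstance inferInstance
      exact ⟨U, g, u, hg, hgu.trans (hxs i), hsp⟩)
  obtain ⟨K, hK, lab, V, h1, h2, h3⟩ := post _
    (fun φ hφ => injective_of_isClosedImmersion φ hφ) f g u x hxinj hsp
  haveI := hg
  obtain ⟨U', g', u', hg', hgu', W, V', c1, c2, c3, c4, c5⟩ := post2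
    @IsClosedImmersion (fun φ hφ => hφ) f g u s hgu x lab V h1 h2 h3
  haveI := hg'
  refine post3 @IsClosedImmersion f g' u' s hgu' W V' c1 c2 c3 (fun k => (c4 k).1) ?_
  intro w hw hwu
  have hfw : f (pullback.fst f g' w) = s := by
    rw [← Scheme.Hom.comp_apply, pullback.condition, Scheme.Hom.comp_apply, hwu, hgu']
  obtain ⟨i, hi⟩ := hrange _ hfw
  exact c5 w i hw hwu hi.symm

end Groth.Agent.Helper18.EtLoc
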