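import Mathlib
import Groth.Agent.H11.HCNormal

set_option autoImplicit false

namespace Groth.Agent.Helper18.EtNormal

open TensorProduct

universe u

/-- Abstract form: if `A'` is étale over a normal domain `Rp` and is at the same time a
localization of `A` at a multiplicative set missing the prime `q`, then any localization of `A`
at `q` is a normal domain. -/
theorem normal_of_etale_loc_aux (A : Type u) [CommRing A] (S : Submonoid A)
    (q : Ideal A) [q.IsPrime] (hdisj : Disjoint (S : Set A) (q : Set A))
    (Rp : Type u) [CommRing Rp] [IsDomain Rp] [IsIntegrallyClosed Rp]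
    (A' : Type u) [CommRing A'] [Algebra Rp A'] [Algebra.Etale Rp A'] [Algebra A A']
    [IsLocalization S A']
    (Aq : Type u) [CommRing Aq] [Algebra A Aq] [IsLocalization.AtPrime Aq q] :
    IsDomain Aq ∧ IsIntegrallyClosed Aq := by
  let q' : Ideal A' := q.map (algebraMap A A')
  haveI hq' : q'.IsPrime := IsLocalization.isPrime_of_isPrime_disjoint S _ _ ‹_› hdisj
  have hcomap : q'.comap (algebraMap A A') = q :=
    IsLocalization.under_map_of_isPrime_disjoint S _ ‹_› hdisj
  obtain ⟨hd, hic⟩ := Groth.Agent.H11.EtNorm.normal_localization_of_etale Rp A' q'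
  haveI h1 : IsLocalization.AtPrime (Localization.AtPrime q') (q'.comap (algebraMap A A')) :=
    IsLocalization.isLocalization_isLocalization_atPrime_isLocalization S _ q'
  have hM : (q'.comap (algebraMap A A')).primeCompl = q.primeCompl :=
    Submonoid.ext fun a => by
      show a ∉ q'.comap (algebraMap A A') ↔ a ∉ q
      rw [hcomap]
  haveI h2 : IsLocalization q.primeCompl (Localization.AtPrime q') := by
    have h1' : IsLocalization (q'.comap (algebraMap A A')).primeCompl
      (Localization.AtPrime q') := h1
    rw [hM] at h1'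
    exact h1'
  let e : Localization.AtPrime q' ≃ₐ[A] Aq := IsLocalization.algEquiv q.primeCompl _ _
  haveI := hd
  haveI := hic
  exact ⟨e.symm.toMulEquiv.isDomain _, IsIntegrallyClosed.of_equiv e.toRingEquiv⟩

/-- The local rings of an étale algebra at primes over a prime with normal local ring are normal
domains. -/
theorem normal_of_etale_loc (R A : Type u) [CommRing R] [CommRing A] [Algebra R A]
    [Algebra.Etale R A] (q : Ideal A) [q.IsPrime] (p : Ideal R) [p.IsPrime]
    (hpq : q.comap (algebraMap R A) = p)
    (Rp : Type u) [CommRing Rp] [Algebra R Rp] [IsLocalization.AtPrime Rp p]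
    [IsDomain Rp] [IsIntegrallyClosed Rp]
    (Aq : Type u) [CommRing Aq] [Algebra A Aq] [IsLocalization.AtPrime Aq q] :
    IsDomain Aq ∧ IsIntegrallyClosed Aq := by
  letI : Algebra A (Rp ⊗[R] A) := Algebra.TensorProduct.rightAlgebra
  haveI hloc : IsLocalization (Algebra.algebraMapSubmonoid A p.primeCompl) (Rp ⊗[R] A) :=
    IsLocalization.tensorRight (S := A) (A := Rp) p.primeCompl
  have hdisj : Disjoint (Algebra.algebraMapSubmonoid A p.primeCompl : Set A) (q : Set A) := by
    rw [Set.disjoint_left]
    rintro _ ⟨r, hr, rfl⟩ hq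
    exact hr (by rw [← hpq]; exact hq)
  exact normal_of_etale_loc_aux A (Algebra.algebraMapSubmonoid A p.primeCompl) q hdisj Rp
    (Rp ⊗[R] A) Aq

end Groth.Agent.Helper18.EtNormal
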