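import Groth.Agent.Lib.Helper18.FibDeg1

/-!
# Fibre degree: base change of clopen finite pieces, field points
-/

universe u

open CategoryTheory Limits AlgebraicGeometry

namespace Groth.Agent.Helper18.FibDeg

open Groth.Agent.Helper18.Weighting

section Field

variable {K : Type u} [Field K]

lemma subsingleton_specK (K : Type u) [Field K] : Subsingleton ↥(Spec (CommRingCat.of K)) :=
  show Subsingleton (PrimeSpectrum K) from inferInstance

/-- A quasi-finite separated universally open scheme over a field with finitely many points is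
finite over the field. -/
lemma isFinite_of_finite_space {Q : Scheme.{u}} (q : Q ⟶ Spec (CommRingCat.of K))
    [LocallyQuasiFinite q] [LocallyOfFiniteType q] [IsSeparated q] [UniversallyOpen q]
    [Finite ↥Q] : IsFinite q := by
  haveI := subsingleton_specK K
  have hfin : ∀ y, (q ⁻¹' {y}).Finite := fun y => Set.toFinite _
  have hopen : ∀ x : Q, q x = IsLocalRing.closedPoint K → EGA43.IsUnivOpenAt q x :=
    fun x _ => isUnivOpenAt_of_universallyOpen q x
  obtain ⟨U, hptU, hU⟩ := (count_local q hfin (IsLocalRing.closedPoint K) hopen).2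
    ⟨Set.univ, Filter.univ_mem, fun y _ => by rw [Subsingleton.elim y (IsLocalRing.closedPoint K)]⟩
  apply IsZariskiLocalAtTarget.of_forall_exists_morphismRestrict (P := @IsFinite)
  intro y
  exact ⟨U, by rw [Subsingleton.elim y (IsLocalRing.closedPoint K)]; exact hptU, hU⟩

lemma isFinite_of_finite {P : Scheme.{u}} (p : P ⟶ Spec (CommRingCat.of K))
    [LocallyQuasiFinite p] [LocallyOfFiniteType p] [IsSeparated p] [Flat p]
    [LocallyOfFinitePresentation p] (O : P.Opens) (hO : (O : Set P).Finite) :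
    IsFinite (O.ι ≫ p) := by
  haveI : Finite ↥(O : Scheme.{u}) := hO.to_subtype
  exact isFinite_of_finite_space (O.ι ≫ p)

lemma discreteTopology_of_lqf {P : Scheme.{u}} (p : P ⟶ Spec (CommRingCat.of K))
    [LocallyQuasiFinite p] [LocallyOfFiniteType p] : DiscreteTopology ↥P := by
  haveI := subsingleton_specK K
  rw [← isDiscrete_univ_iff]
  have h1 := p.isDiscrete_preimage_singleton (IsLocalRing.closedPoint K)
  have h2 : p ⁻¹' {IsLocalRing.closedPoint K} = Set.univ := by
    ext z
    simp only [Set.mem_preimage, Set.mem_univ, iff_true]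
    exact Subsingleton.elim _ _
  convert h1
  exact h2.symm

end Field

section BaseChange

/-- Preimage of a finite flat open piece under base change. -/
lemma preimage_piece {P' P T U : Scheme.{u}} {c : P' ⟶ P} {b' : P' ⟶ T} {b : P ⟶ U} {h : T ⟶ U}
    (hpb : IsPullback c b' b h) (V : P.Opens) [IsFinite (V.ι ≫ b)] [Flat (V.ι ≫ b)] :
    IsFinite ((c ⁻¹ᵁ V).ι ≫ b') ∧ Flat ((c ⁻¹ᵁ V).ι ≫ b') ∧
      ∀ t, ((c ⁻¹ᵁ V).ι ≫ b').finrank t = (V.ι ≫ b).finrank (h t) := by
  have sq : IsPullback (c ∣_ V) ((c ⁻¹ᵁ V).ι ≫ b') (V.ι ≫ b) h :=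
    (isPullback_morphismRestrict c V).paste_vert hpb
  haveI : IsFinite ((c ⁻¹ᵁ V).ι ≫ b') :=
    MorphismProperty.of_isPullback (P := @IsFinite) sq inferInstance
  haveI : Flat ((c ⁻¹ᵁ V).ι ≫ b') :=
    MorphismProperty.of_isPullback (P := @Flat) sq inferInstance
  exact ⟨‹_›, ‹_›, fun t => Scheme.Hom.finrank_of_isPullback _ _ _ _ sq t⟩

variable {X S : Scheme.{u}}

lemma fieldPoint_square {K : Type u} [Field K] (f : X ⟶ S) (s : S)
    (ℓ : S.residueField s ⟶ CommRingCat.of K)
    {P : Scheme.{u}} (a : P ⟶ X) (b : P ⟶ Spec (CommRingCat.of K))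
    (hpb : IsPullback a b f (Spec.map ℓ ≫ S.fromSpecResidueField s)) :
    ∃ c : P ⟶ pullback f (S.fromSpecResidueField s),
      IsPullback c b (pullback.snd f (S.fromSpecResidueField s)) (Spec.map ℓ) ∧
        c ≫ pullback.fst _ _ = a := by
  refine ⟨pullback.lift a (b ≫ Spec.map ℓ) (by rw [hpb.w, Category.assoc]), ?_,
    pullback.lift_fst _ _ _⟩
  refine IsPullback.of_right ?_ (pullback.lift_snd _ _ _)
    (IsPullback.of_hasPullback f (S.fromSpecResidueField s))
  rw [pullback.lift_fst]
  exact hpb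

lemma exists_fieldPoint_factor {K : Type u} [Field K] (τ : Spec (CommRingCat.of K) ⟶ S) :
    ∃ (s : S) (ℓ : S.residueField s ⟶ CommRingCat.of K),
      τ = Spec.map ℓ ≫ S.fromSpecResidueField s ∧ ∀ t, τ t = s := by
  obtain ⟨⟨s, ℓ⟩, hτ⟩ := (Scheme.SpecToEquivOfField K S).symm.surjective τ
  simp only [Scheme.SpecToEquivOfField_symm_apply] at hτ
  refine ⟨s, ℓ, hτ.symm, fun t => ?_⟩
  rw [← hτ, Scheme.Hom.comp_apply, Scheme.fromSpecResidueField_apply]

/-- The degree of the fibre over `s` (meaningful when the fibre is finite). -/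
noncomputable def deg (f : X ⟶ S) (s : S) : ℕ :=
  (pullback.snd f (S.fromSpecResidueField s)).finrank (IsLocalRing.closedPoint (S.residueField s))

lemma finite_fibreScheme (f : X ⟶ S) (s : S) (hfin : (f ⁻¹' {s}).Finite) :
    Finite ↥(pullback f (S.fromSpecResidueField s)) := by
  haveI : Finite ↥(f ⁻¹' {s}) := hfin.to_subtype
  exact Finite.of_equiv _ (f.fiberHomeo s).symm.toEquiv

end BaseChange

end Groth.Agent.Helper18.FibDeg
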