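import Mathlib
import Groth.Prelude
import Groth.Agent.Lib.Helper18.EtLoc12
import Groth.Agent.Lib.Helper18.FibDeg2

set_option autoImplicit false

namespace Groth.Agent.Helper18.PropA

open AlgebraicGeometry CategoryTheory Limits

universe u

/-- Two field-valued points with the same centre `o`, at which `q` has purely inseparable residue
field extension, agree as soon as their compositions with `q` agree. -/
lemma spec_hom_ext_of_pi {P V : Scheme.{u}} (q : P ⟶ V) (o : P)
    (hpi : (q.residueFieldMap o).hom.IsPurelyInseparable)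
    (L : Type u) [Field L] (a₁ a₂ : Spec (.of L) ⟶ P)
    (h₁ : a₁ (IsLocalRing.closedPoint L) = o) (h₂ : a₂ (IsLocalRing.closedPoint L) = o)
    (hq : a₁ ≫ q = a₂ ≫ q) : a₁ = a₂ := by
  obtain ⟨s₁, ℓ₁, rfl, hs₁⟩ := FibDeg.exists_fieldPoint_factor (K := L) a₁
  obtain ⟨s₂, ℓ₂, rfl, hs₂⟩ := FibDeg.exists_fieldPoint_factor (K := L) a₂
  have e₁ : s₁ = o := (hs₁ _).symm.trans h₁
  have e₂ : s₂ = o := (hs₂ _).symm.trans h₂
  subst e₁
  subst e₂
  rw [Category.assoc, Category.assoc,
    ← Scheme.Hom.SpecMap_residueFieldMap_fromSpecResidueField q s₂,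
    ← Category.assoc, ← Category.assoc, cancel_mono, ← Spec.map_comp, ← Spec.map_comp] at hq
  have h := Spec.map_injective hq
  rw [CommRingCat.hom_ext_iff] at h
  algebraize [(q.residueFieldMap s₂).hom]
  have hℓ : ℓ₁ = ℓ₂ := by
    refine CommRingCat.hom_ext ?_
    exact IsPurelyInseparable.injective_comp_algebraMap _ _ _ h
  rw [hℓ]

/-- An etale, universally injective, surjective morphism is an isomorphism. -/
theorem isIso_of_etale_of_universallyInjective_of_surjective {X Y : Scheme.{u}} (h : X ⟶ Y)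
    [Etale h] [UniversallyInjective h] [Surjective h] : IsIso h := by
  have hΔo : IsOpenImmersion (pullback.diagonal h) := inferInstance
  have hΔs : Surjective (pullback.diagonal h) :=
    (UniversallyInjective.iff_diagonal h).mp inferInstance
  have hΔ : IsIso (pullback.diagonal h) :=
    (isIso_iff_isOpenImmersion_and_surjective _).mpr ⟨hΔo, hΔs⟩
  have hm : Mono h := (pullback.isIso_diagonal_iff h).mp hΔ
  have ho : IsOpenImmersion h := IsOpenImmersion.of_flat_of_mono h
  exact (isIso_iff_isOpenImmersion_and_surjective _).mpr ⟨ho, inferInstance⟩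

/-- The rank of a finite etale morphism at the image of a point `o` which is alone in its fibre over
`V` and purely inseparable over `V` is one. -/
lemma finrank_eq_one {Q Z V : Scheme.{u}} (ψ : Q ⟶ Z) [IsFinite ψ] [Etale ψ] (r : Z ⟶ V) (o : Q)
    (huniq : ∀ w : Q, r (ψ w) = r (ψ o) → w = o)
    (hext : ∀ (L : Type u) [Field L] (a₁ a₂ : Spec (.of L) ⟶ Q),
      a₁ (IsLocalRing.closedPoint L) = o → a₂ (IsLocalRing.closedPoint L) = o →
      a₁ ≫ ψ ≫ r = a₂ ≫ ψ ≫ r → a₁ = a₂) : ψ.finrank (ψ o) = 1 := by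
  have hpt : ∀ t, Z.fromSpecResidueField (ψ o) t = ψ o :=
    fun t => Scheme.fromSpecResidueField_apply _ _
  haveI : Etale (pullback.snd ψ (Z.fromSpecResidueField (ψ o))) :=
    MorphismProperty.pullback_snd _ _ inferInstance
  haveI : IsFinite (pullback.snd ψ (Z.fromSpecResidueField (ψ o))) :=
    MorphismProperty.pullback_snd _ _ inferInstance
  haveI hsub := FibDeg.subsingleton_specK ↑(Z.residueField (ψ o))
  haveI : Surjective (pullback.snd ψ (Z.fromSpecResidueField (ψ o))) := by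
    constructor
    intro t
    obtain ⟨z, -, hz2⟩ := Scheme.Pullback.exists_preimage_pullback (f := ψ)
      (g := Z.fromSpecResidueField (ψ o)) o t (hpt t).symm
    exact ⟨z, hz2⟩
  haveI : UniversallyInjective (pullback.snd ψ (Z.fromSpecResidueField (ψ o))) := by
    have := (tfae_universallyInjective (pullback.snd ψ (Z.fromSpecResidueField (ψ o)))).out 0 1
    rw [this]
    intro L _ g₁ g₂ hg
    simp only at hg
    have hcent : ∀ g : Spec (.of L) ⟶ pullback ψ (Z.fromSpecResidueField (ψ o)),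
        (g ≫ pullback.fst ψ (Z.fromSpecResidueField (ψ o))) (IsLocalRing.closedPoint L) = o := by
      intro g
      apply huniq
      rw [Scheme.Hom.comp_apply, ← Scheme.Hom.comp_apply (pullback.fst _ _), pullback.condition,
        Scheme.Hom.comp_apply, hpt]
    refine pullback.hom_ext ?_ hg
    refine hext L _ _ (hcent g₁) (hcent g₂) ?_
    rw [Category.assoc, Category.assoc, ← Category.assoc (pullback.fst _ _), pullback.condition,
      Category.assoc, ← Category.assoc g₁, ← Category.assoc g₂, hg]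
  haveI := isIso_of_etale_of_universallyInjective_of_surjective
    (pullback.snd ψ (Z.fromSpecResidueField (ψ o)))
  rw [← hpt (IsLocalRing.closedPoint _), ← Scheme.Hom.finrank_pullback_snd ψ,
    Scheme.Hom.finrank_eq_one_of_isIso]
  rfl

/-- A finite etale morphism has a section over the open and closed locus where its rank is one. -/
lemma clopen_section {Q Z : Scheme.{u}} (ψ : Q ⟶ Z) [IsFinite ψ] [Etale ψ] (o : Q)
    (hrk : ψ.finrank (ψ o) = 1) :
    ∃ (W : Z.Opens) (_ : IsClosed (W : Set ↥Z)) (s : (W : Scheme.{u}) ⟶ Q),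
      s ≫ ψ = W.ι ∧ o ∈ Set.range s.base := by
  have hlc := Scheme.Hom.isLocallyConstant_finrank ψ
  let W : Z.Opens := ⟨ψ.finrank ⁻¹' {1}, hlc.isOpen_fiber 1⟩
  have hWcl : IsClosed (W : Set ↥Z) := hlc.isClosed_fiber 1
  have sq := isPullback_morphismRestrict ψ W
  haveI : IsFinite (ψ ∣_ W) := MorphismProperty.of_isPullback sq.flip inferInstance
  haveI : Etale (ψ ∣_ W) := MorphismProperty.of_isPullback sq.flip inferInstance
  have hone : (ψ ∣_ W).finrank = 1 := by
    ext w
    rw [Scheme.Hom.finrank_of_isPullback _ _ _ _ sq.flip]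
    exact w.2
  haveI : IsIso (ψ ∣_ W) := (Scheme.Hom.isIso_iff_finrank_eq (ψ ∣_ W)).mpr hone
  refine ⟨W, hWcl, inv (ψ ∣_ W) ≫ (ψ ⁻¹ᵁ W).ι, ?_, ?_⟩
  · rw [Category.assoc, ← morphismRestrict_ι, IsIso.inv_hom_id_assoc]
  · have ho : o ∈ ψ ⁻¹ᵁ W := hrk
    refine ⟨(ψ ∣_ W) ⟨o, ho⟩, ?_⟩
    change (inv (ψ ∣_ W) ≫ (ψ ⁻¹ᵁ W).ι) ((ψ ∣_ W) ⟨o, ho⟩) = o
    rw [← Scheme.Hom.comp_apply, IsIso.hom_inv_id_assoc]
    rfl

theorem lqf_of_etale {X Y : Scheme.{u}} (f : X ⟶ Y) [Etale f] : LocallyQuasiFinite f := by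
  rw [HasRingHomProperty.iff_appLE (P := @LocallyQuasiFinite)]
  intro U V e
  have h := Etale.etale_appLE f U.2 V.2 e
  letI := (f.appLE U V e).hom.toAlgebra
  haveI : Algebra.Etale Γ(Y, U) Γ(X, V) := h
  exact (inferInstance : Algebra.QuasiFinite Γ(Y, U) Γ(X, V))

/-- Condition (A) for separated locally quasi-finite morphisms. -/
theorem main {X Y : Scheme.{u}} (f : X ⟶ Y) [IsSeparated f] [LocallyQuasiFinite f]
    [LocallyOfFiniteType f] (U : Scheme.{u}) (g : U ⟶ X) [Etale g] (u : U) :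
    ∃ (V : Scheme.{u}) (v : V ⟶ Y) (_ : Etale v) (W : (pullback f v).Opens)
      (_ : IsClosed (W : Set ↥(pullback f v))) (h : (W : Scheme.{u}) ⟶ U),
      h ≫ g = W.ι ≫ pullback.fst f v ∧ u ∈ Set.range h.base := by
  classical
  haveI : LocallyQuasiFinite g := lqf_of_etale g
  haveI : LocallyQuasiFinite (g ≫ f) := inferInstance
  haveI : LocallyOfFiniteType (g ≫ f) := inferInstance
  obtain ⟨V, v, v₀, hv, hv₀, n, O, o, H, -, Hex⟩ := EtLoc.pi_core (g ≫ f) ((g ≫ f) u)
    (ι := Unit) (fun _ => u) (fun _ => rfl) (fun _ => (g ≫ f).quasiFiniteAt u)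
  haveI := hv
  obtain ⟨z, hz1, hz2⟩ := Scheme.Pullback.exists_preimage_pullback (f := g ≫ f) (g := v) u v₀
    hv₀.symm
  obtain ⟨j, hj⟩ := Hex z () hz2 hz1
  obtain ⟨hoO, hfin, hov, huniq, ⟨-, hpi⟩, hou⟩ := H () j
  have hψ₀snd : pullback.lift (pullback.fst (g ≫ f) v ≫ g) (pullback.snd (g ≫ f) v)
      (by rw [Category.assoc]; exact pullback.condition) ≫ pullback.snd f v =
      pullback.snd (g ≫ f) v := pullback.lift_snd _ _ _
  have hψ₀fst : pullback.lift (pullback.fst (g ≫ f) v ≫ g) (pullback.snd (g ≫ f) v)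
      (by rw [Category.assoc]; exact pullback.condition) ≫ pullback.fst f v =
      pullback.fst (g ≫ f) v ≫ g := pullback.lift_fst _ _ _
  generalize pullback.lift (pullback.fst (g ≫ f) v ≫ g) (pullback.snd (g ≫ f) v)
      (by rw [Category.assoc]; exact pullback.condition) = ψ₀ at hψ₀snd hψ₀fst
  have hpb : IsPullback ψ₀ (pullback.fst (g ≫ f) v) (pullback.fst f v) g := by
    refine IsPullback.of_right ?_ hψ₀fst (IsPullback.of_hasPullback f v).flip
    rw [hψ₀snd]
    exact (IsPullback.of_hasPullback (g ≫ f) v).flip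
  haveI : Etale ψ₀ := MorphismProperty.of_isPullback hpb.flip inferInstance
  haveI := hfin
  have hcomp : ((O () j).ι ≫ ψ₀) ≫ pullback.snd f v = (O () j).ι ≫ pullback.snd (g ≫ f) v := by
    rw [Category.assoc, hψ₀snd]
  haveI : IsFinite (((O () j).ι ≫ ψ₀) ≫ pullback.snd f v) := by rw [hcomp]; exact hfin
  haveI : IsFinite ((O () j).ι ≫ ψ₀) := IsFinite.of_comp _ (pullback.snd f v)
  have hrk : ((O () j).ι ≫ ψ₀).finrank (((O () j).ι ≫ ψ₀) ⟨o () j, hoO⟩) = 1 := by
    refine finrank_eq_one ((O () j).ι ≫ ψ₀) (pullback.snd f v) ⟨o () j, hoO⟩ ?_ ?_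
    · intro w hw
      rw [← Scheme.Hom.comp_apply, ← Scheme.Hom.comp_apply, hcomp, Scheme.Hom.comp_apply,
        Scheme.Hom.comp_apply] at hw
      apply Subtype.ext
      exact huniq w.1 w.2 (hw.trans hov)
    · intro L _ a₁ a₂ h₁ h₂ ha
      rw [← cancel_mono (O () j).ι]
      refine spec_hom_ext_of_pi (pullback.snd (g ≫ f) v) (o () j) hpi L _ _ ?_ ?_ ?_
      · rw [Scheme.Hom.comp_apply, h₁]; rfl
      · rw [Scheme.Hom.comp_apply, h₂]; rfl
      · rw [Category.assoc, Category.assoc, ← hcomp, ha]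
  obtain ⟨W, hWcl, s, hs, w, hw⟩ := clopen_section ((O () j).ι ≫ ψ₀) ⟨o () j, hoO⟩ hrk
  refine ⟨V, v, hv, W, hWcl, s ≫ (O () j).ι ≫ pullback.fst (g ≫ f) v, ?_, w, ?_⟩
  · rw [Category.assoc, Category.assoc, ← hψ₀fst, ← Category.assoc (O () j).ι, ← Category.assoc,
      hs]
  · change (s ≫ (O () j).ι ≫ pullback.fst (g ≫ f) v) w = u
    rw [Scheme.Hom.comp_apply, hw, Scheme.Hom.comp_apply]
    exact hou

end Groth.Agent.Helper18.PropA
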