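import Mathlib

set_option autoImplicit false

namespace Groth.Agent.Helper18.StrictHens

open Polynomial IsLocalRing

variable (A K : Type*) [CommRing A] [IsDomain A] [IsLocalRing A] [IsIntegrallyClosed A]
  [Field K] [Algebra A K] [IsFractionRing A K] [IsSepClosed K]

include K in
/-- A monic irreducible polynomial over `A` with nonzero derivative has degree one. -/
theorem natDegree_eq_one {f : A[X]} (hf : f.Monic) (hirr : Irreducible f)
    (hd : derivative f ≠ 0) : f.natDegree = 1 := by
  have h1 : Irreducible (f.map (algebraMap A K)) :=
    (Monic.irreducible_iff_irreducible_map_fraction_map (K := K) hf).mp hirr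
  have h2 : derivative (f.map (algebraMap A K)) ≠ 0 := by
    rw [derivative_map]
    intro h
    apply hd
    apply Polynomial.map_injective _ (IsFractionRing.injective A K)
    rw [h, Polynomial.map_zero]
  have h3 : (f.map (algebraMap A K)).Separable :=
    (separable_iff_derivative_ne_zero h1).mpr h2
  have h4 := IsSepClosed.degree_eq_one_of_irreducible K h1 h3
  have h5 : (f.map (algebraMap A K)).natDegree = 1 := natDegree_eq_of_degree_eq_some h4
  rwa [hf.natDegree_map] at h5

include K in
theorem henselian_aux (n : ℕ) : ∀ (f : A[X]), f.natDegree ≤ n → f.Monic → ∀ (a₀ : A),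
    f.eval a₀ ∈ maximalIdeal A → IsUnit (f.derivative.eval a₀) →
    ∃ a : A, f.IsRoot a ∧ a - a₀ ∈ maximalIdeal A := by
  induction n with
  | zero =>
    intro f hn hf a₀ h0 _
    exfalso
    have : f = 1 := by
      have := hf.natDegree_eq_zero.mp (Nat.le_zero.mp hn)
      exact this
    rw [this, eval_one] at h0
    exact (maximalIdeal A).ne_top_iff_one.mp (maximalIdeal.isMaximal A).ne_top h0
  | succ n ih =>
    intro f hn hf a₀ h0 hu
    by_cases hirr : Irreducible f
    · have hd : derivative f ≠ 0 := by
        intro h
        rw [h, eval_zero] at hu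
        exact not_isUnit_zero hu
      have h1 := natDegree_eq_one A K hf hirr hd
      have h2 : f = X + C (f.coeff 0) := by
        have := hf.as_sum
        rw [h1] at this
        simpa using this
      refine ⟨- f.coeff 0, ?_, ?_⟩
      · rw [IsRoot.def, h2]; simp
      · rw [h2] at h0
        have h3 : - f.coeff 0 - a₀ = - (eval a₀ (X + C (f.coeff 0))) := by
          simp; ring
        rw [h3]
        exact Ideal.neg_mem_iff _ |>.mpr h0
    · have hne1 : f ≠ 1 := by
        intro h
        rw [h, eval_one] at h0
        exact (maximalIdeal A).ne_top_iff_one.mp (maximalIdeal.isMaximal A).ne_top h0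
      rw [hf.irreducible_iff_natDegree] at hirr
      push Not at hirr
      obtain ⟨g, h, hg, hh, hgh, hg0, hh0⟩ := hirr hne1
      have hdeg : g.natDegree + h.natDegree = f.natDegree := by
        rw [← hgh, hg.natDegree_mul hh]
      have hev : f.eval a₀ = g.eval a₀ * h.eval a₀ := by rw [← hgh, eval_mul]
      have hder : f.derivative.eval a₀ =
          g.derivative.eval a₀ * h.eval a₀ + g.eval a₀ * h.derivative.eval a₀ := by
        rw [← hgh, derivative_mul, eval_add, eval_mul, eval_mul]
      rw [hev] at h0
      rcases (Ideal.IsPrime.mem_or_mem (maximalIdeal.isMaximal A).isPrime h0) with hm | hm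
      · -- g(a₀) ∈ m
        have hu' : IsUnit (g.derivative.eval a₀ * h.eval a₀) := by
          by_contra hnu
          have h1 : g.derivative.eval a₀ * h.eval a₀ ∈ maximalIdeal A :=
            (mem_maximalIdeal _).mpr hnu
          have h2 : f.derivative.eval a₀ ∈ maximalIdeal A := by
            rw [hder]
            exact Ideal.add_mem _ h1 (Ideal.mul_mem_right _ _ hm)
          exact (mem_maximalIdeal _).mp h2 hu
        obtain ⟨a, ha, ha'⟩ := ih g (by omega) hg a₀ hm (isUnit_of_mul_isUnit_left hu')
        refine ⟨a, ?_, ha'⟩
        rw [IsRoot.def] at ha ⊢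
        rw [← hgh, eval_mul, ha, zero_mul]
      · have hu' : IsUnit (g.eval a₀ * h.derivative.eval a₀) := by
          by_contra hnu
          have h1 : g.eval a₀ * h.derivative.eval a₀ ∈ maximalIdeal A :=
            (mem_maximalIdeal _).mpr hnu
          have h2 : f.derivative.eval a₀ ∈ maximalIdeal A := by
            rw [hder]
            exact Ideal.add_mem _ (Ideal.mul_mem_left _ _ hm) h1
          exact (mem_maximalIdeal _).mp h2 hu
        obtain ⟨a, ha, ha'⟩ := ih h (by omega) hh a₀ hm (isUnit_of_mul_isUnit_right hu')
        refine ⟨a, ?_, ha'⟩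
        rw [IsRoot.def] at ha ⊢
        rw [← hgh, eval_mul, ha, mul_zero]

include K in
theorem henselian : HenselianLocalRing A where
  is_henselian f hf a₀ h0 hu := henselian_aux A K f.natDegree f le_rfl hf a₀ h0 hu

include K in
theorem isSepClosed_residueField : IsSepClosed (ResidueField A) := by
  apply IsSepClosed.of_exists_root
  intro p hp hirr hsep
  obtain ⟨q, hq, hqdeg, hqm⟩ := lifts_and_natDegree_eq_and_monic
    (mem_lifts_of_surjective (f := residue A) (residue_surjective) p) hp
  have hqirr : Irreducible q := by
    apply Monic.irreducible_of_irreducible_map (residue A) q hqm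
    rw [hq]; exact hirr
  have hd : derivative q ≠ 0 := by
    intro h
    have h1 : derivative p = 0 := by
      rw [← hq, derivative_map, h, Polynomial.map_zero]
    have h2 := (separable_iff_derivative_ne_zero hirr).mp hsep
    exact h2 h1
  have h1 := natDegree_eq_one A K hqm hqirr hd
  rw [hqdeg] at h1
  have h2 : p = X + C (p.coeff 0) := by
    have := hp.as_sum
    rw [h1] at this
    simpa using this
  refine ⟨- p.coeff 0, ?_⟩
  rw [h2]; simp

end Groth.Agent.Helper18.StrictHens
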