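import Mathlib
import Groth.Prelude
import Groth.Agent.Lib.Helper18.StrictHens
import Groth.Agent.Lib.Helper18.HensSection
import Groth.Agent.Lib.Helper18.PropA

set_option autoImplicit false

namespace Groth.Agent.Helper18.EtSplit

open AlgebraicGeometry CategoryTheory Limits IsLocalRing

universe u

section

variable {U X : Scheme.{u}} [IsIntegral X]
  (hN : ∀ x : X, IsIntegrallyClosed (X.presheaf.stalk x))
  [IsSepClosed X.functionField] (g : U ⟶ X) [Etale g]

include hN in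
/-- A section of `g` over the local scheme at `g u` through `u`. -/
lemma exists_stalk_section (u : U) :
    ∃ σ : Spec (X.presheaf.stalk (g u)) ⟶ U, σ ≫ g = X.fromSpecStalk (g u) ∧
      σ (closedPoint (X.presheaf.stalk (g u))) = u := by
  haveI := hN (g u)
  haveI := StrictHens.henselian (X.presheaf.stalk (g u)) X.functionField
  haveI := StrictHens.isSepClosed_residueField (X.presheaf.stalk (g u)) X.functionField
  obtain ⟨p, hp1, hp2⟩ := Scheme.Pullback.exists_preimage_pullback (f := g)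
    (g := X.fromSpecStalk (g u)) u (closedPoint (X.presheaf.stalk (g u)))
    (by rw [Scheme.fromSpecStalk_closedPoint])
  obtain ⟨_, ⟨W, (hW : IsAffineOpen W), rfl⟩, hpW, -⟩ :=
    (pullback g (X.fromSpecStalk (g u))).isBasis_affineOpens.exists_subset_of_mem_open
      (Set.mem_univ p) isOpen_univ
  obtain ⟨ψ, hψ⟩ := Spec.map_surjective (hW.fromSpec ≫ pullback.snd g (X.fromSpecStalk (g u)))
  have het : ψ.hom.Etale := by
    have : Etale (Spec.map ψ) := by rw [hψ]; infer_instance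
    exact (HasRingHomProperty.Spec_iff (P := @Etale)).mp this
  obtain ⟨p', hp'⟩ : p ∈ Set.range hW.fromSpec := by
    rw [hW.range_fromSpec]; exact hpW
  algebraize [ψ.hom]
  have hq' : p'.asIdeal.comap (algebraMap (X.presheaf.stalk (g u)) Γ(pullback g (X.fromSpecStalk (g u)), W)) =
      maximalIdeal (X.presheaf.stalk (g u)) := by
    have h1 : (Spec.map ψ) p' = closedPoint (X.presheaf.stalk (g u)) := by
      rw [hψ, Scheme.Hom.comp_apply, hp', hp2]
    exact congrArg PrimeSpectrum.asIdeal h1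
  obtain ⟨φ, hφ⟩ := HensSection.etale_section (X.presheaf.stalk (g u)) Γ(pullback g (X.fromSpecStalk (g u)), W) p'.asIdeal hq'
  obtain ⟨φc, hφc⟩ : ∃ φc : Γ(pullback g (X.fromSpecStalk (g u)), W) ⟶ X.presheaf.stalk (g u),
      φc.hom = φ.toRingHom := ⟨CommRingCat.ofHom φ.toRingHom, rfl⟩
  refine ⟨Spec.map φc ≫ hW.fromSpec ≫ pullback.fst g (X.fromSpecStalk (g u)), ?_, ?_⟩
  · rw [Category.assoc, Category.assoc, pullback.condition, ← Category.assoc hW.fromSpec, ← hψ,
      ← Category.assoc, ← Spec.map_comp]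
    have : ψ ≫ φc = 𝟙 _ := by
      ext a
      rw [CommRingCat.hom_comp, hφc]
      exact φ.commutes a
    rw [this, Spec.map_id, Category.id_comp]
  · rw [Scheme.Hom.comp_apply, Scheme.Hom.comp_apply]
    have : (Spec.map φc) (closedPoint (X.presheaf.stalk (g u))) = p' := by
      apply PrimeSpectrum.ext
      change Ideal.comap φc.hom _ = _
      rw [hφc]
      exact hφ
    rw [this, hp', hp1]

include hN in
/-- A local section of `g` through `u`. -/
lemma exists_local_section (u : U) :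
    ∃ (V : X.Opens) (s : (V : Scheme.{u}) ⟶ U), s ≫ g = V.ι ∧
      ∃ hx : g u ∈ V, s ⟨g u, hx⟩ = u := by
  obtain ⟨σ, hσ, hσu⟩ := exists_stalk_section hN g u
  obtain ⟨V, hxV, s, hs1, hs2⟩ := spread_out_of_isGermInjective' (𝟙 X) g σ
    (by rw [hσ, Category.comp_id])
  refine ⟨V, s, by rw [hs2, Category.comp_id], hxV, ?_⟩
  have h1 : V.fromSpecStalkOfMem (g u) hxV (closedPoint (X.presheaf.stalk (g u))) =
      ⟨g u, hxV⟩ := by
    apply V.ι.injective
    rw [← Scheme.Hom.comp_apply, Scheme.Opens.fromSpecStalkOfMem_ι,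
      Scheme.fromSpecStalk_closedPoint]
    rfl
  rw [← h1, ← Scheme.Hom.comp_apply, ← hs1, hσu]

end


section

variable {U X : Scheme.{u}} (g : U ⟶ X) [Etale g]

/-- A section of an etale morphism over an open is an open immersion. -/
lemma isOpenImmersion_of_section {V : X.Opens} (s : (V : Scheme.{u}) ⟶ U)
    (hs : s ≫ g = V.ι) : IsOpenImmersion s := by
  haveI : Mono (s ≫ g) := by rw [hs]; infer_instance
  haveI : Mono s := mono_of_mono s g
  haveI : Etale (s ≫ g) := by rw [hs]; infer_instance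
  haveI : Etale s := Etale.of_comp s g
  exact IsOpenImmersion.of_flat_of_mono s

variable [IsIntegral X] [IsSeparated g]

/-- Two sections over the same nonempty open of an integral scheme which agree at a point agree. -/
lemma section_ext {I : X.Opens} (t t' : (I : Scheme.{u}) ⟶ U) (ht : t ≫ g = I.ι)
    (ht' : t' ≫ g = I.ι) (x : I) (hx : t x = t' x) : t = t' := by
  haveI : Nonempty I := ⟨x⟩
  haveI : Nonempty (I : Scheme.{u}) := ⟨x⟩
  haveI : IsIntegral (I : Scheme.{u}) := inferInstance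
  haveI := isOpenImmersion_of_section g t' ht'
  let E : (I : Scheme.{u}).Opens := t ⁻¹ᵁ t'.opensRange
  have hxE : x ∈ E := by
    change t x ∈ Set.range t'
    rw [hx]; exact ⟨x, rfl⟩
  have hfac : E.ι ≫ t = E.ι ≫ t' := by
    have hr : Set.range (E.ι ≫ t) ⊆ Set.range t' := by
      rintro _ ⟨y, rfl⟩
      rw [Scheme.Hom.comp_apply]
      exact y.2
    have h1 : IsOpenImmersion.lift t' (E.ι ≫ t) hr ≫ t' = E.ι ≫ t :=
      IsOpenImmersion.lift_fac _ _ _
    have h2 : IsOpenImmersion.lift t' (E.ι ≫ t) hr = E.ι := by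
      rw [← cancel_mono I.ι, ← ht', ← Category.assoc, h1, Category.assoc, ht, ht']
    rw [← h1, h2]
  haveI : IsDominant E.ι := by
    constructor
    unfold DenseRange
    rw [Scheme.Opens.range_ι]
    exact E.2.dense ⟨x, hxE⟩
  exact ext_of_isDominant_of_isSeparated g (ht.trans ht'.symm) E.ι hfac

/-- Two sections over opens `V`, `V'` which agree at one common point agree at every common
point. -/
lemma section_agree {V V' : X.Opens} (s : (V : Scheme.{u}) ⟶ U) (s' : (V' : Scheme.{u}) ⟶ U)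
    (hs : s ≫ g = V.ι) (hs' : s' ≫ g = V'.ι) (x : X) (hxV : x ∈ V) (hxV' : x ∈ V')
    (hx : s ⟨x, hxV⟩ = s' ⟨x, hxV'⟩) (y : X) (hyV : y ∈ V) (hyV' : y ∈ V') :
    s ⟨y, hyV⟩ = s' ⟨y, hyV'⟩ := by
  have h := section_ext g (I := V ⊓ V') (X.homOfLE inf_le_left ≫ s) (X.homOfLE inf_le_right ≫ s')
    (by rw [Category.assoc, hs, Scheme.homOfLE_ι]) (by rw [Category.assoc, hs', Scheme.homOfLE_ι])
    ⟨x, hxV, hxV'⟩ (by
      rw [Scheme.Hom.comp_apply, Scheme.Hom.comp_apply, Scheme.homOfLE_apply',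
        Scheme.homOfLE_apply']
      exact hx)
  have h2 := congrArg (fun f : ((V ⊓ V' : X.Opens) : Scheme.{u}) ⟶ U => f ⟨y, hyV, hyV'⟩) h
  simp only [Scheme.Hom.comp_apply] at h2
  rw [Scheme.homOfLE_apply', Scheme.homOfLE_apply'] at h2
  exact h2

end


section

variable {U X : Scheme.{u}} [IsIntegral X]
  (hN : ∀ x : X, IsIntegrallyClosed (X.presheaf.stalk x))
  [IsSepClosed X.functionField] (g : U ⟶ X) [Etale g] [IsSeparated g]

include hN in
theorem main : ∃ (ι : Type u) (V : ι → X.Opens) (e : (∐ fun i => (V i : Scheme.{u})) ≅ U),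
    ∀ i, Sigma.ι (fun i => (V i : Scheme.{u})) i ≫ e.hom ≫ g = (V i).ι := by
  choose V s hs hx hsx using exists_local_section hN g
  have hη : ∀ u, genericPoint X ∈ V u := fun u =>
    ((genericPoint_spec X).mem_open_set_iff (V u).2).mpr ⟨g u, Set.mem_univ _, hx u⟩
  have hsx' : ∀ u (x : X) (h : x ∈ V u), x = g u → s u ⟨x, h⟩ = u := by
    intro u x h e
    subst e
    exact hsx u
  have hgs : ∀ u (y : V u), g (s u y) = y.1 := by
    intro u y
    rw [← Scheme.Hom.comp_apply, hs]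
    rfl
  have hoi : ∀ u, IsOpenImmersion (s u) := fun u => isOpenImmersion_of_section g (s u) (hs u)
  let ξ : U → U := fun u => s u ⟨genericPoint X, hη u⟩
  have hA : ∀ u (y : V u), ξ (s u y) = ξ u := by
    intro u y
    have hy' : y.1 ∈ V (s u y) := by rw [← hgs u y]; exact hx _
    have h1 : s (s u y) ⟨y.1, hy'⟩ = s u ⟨y.1, y.2⟩ := hsx' (s u y) y.1 hy' (hgs u y).symm
    exact section_agree g (s (s u y)) (s u) (hs _) (hs _) y.1 hy' y.2 h1 _ (hη _) (hη _)
  have hB : ∀ u u', ξ u = ξ u' → g u = g u' → u = u' := by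
    intro u u' h1 h2
    have h3 := section_agree g (s u) (s u') (hs _) (hs _) _ (hη u) (hη u') h1 (g u) (hx u)
      (h2 ▸ hx u')
    rw [hsx u] at h3
    rw [h3]
    exact hsx' u' (g u) _ h2
  have hopen : ∀ ξ₀ : U, IsOpen {u : U | ξ u = ξ₀} := by
    intro ξ₀
    rw [isOpen_iff_forall_mem_open]
    intro u hu
    refine ⟨Set.range (s u), ?_, (s u).isOpenEmbedding.isOpen_range, ⟨⟨g u, hx u⟩, hsx u⟩⟩
    rintro _ ⟨y, rfl⟩
    exact (hA u y).trans hu
  let Uo : U → U.Opens := fun ξ₀ => ⟨{u : U | ξ u = ξ₀}, hopen ξ₀⟩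
  have hmemUo : ∀ ξ₀ (u : U), u ∈ Uo ξ₀ ↔ ξ u = ξ₀ := fun _ _ => Iff.rfl
  let h : ∀ ξ₀ : U, ((Uo ξ₀ : U.Opens) : Scheme.{u}) ⟶ X := fun ξ₀ => (Uo ξ₀).ι ≫ g
  have hhoi : ∀ ξ₀, IsOpenImmersion (h ξ₀) := by
    intro ξ₀
    have hr : ∀ j : {u : U // ξ u = ξ₀}, Set.range (s j.1) ⊆ Set.range (Uo ξ₀).ι := by
      rintro j _ ⟨y, rfl⟩
      rw [Scheme.Opens.range_ι]
      exact (hA j.1 y).trans j.2
    have hlo : ∀ j : {u : U // ξ u = ξ₀},
        IsOpenImmersion (IsOpenImmersion.lift (Uo ξ₀).ι (s j.1) (hr j)) := by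
      intro j
      haveI : IsOpenImmersion (IsOpenImmersion.lift (Uo ξ₀).ι (s j.1) (hr j) ≫ (Uo ξ₀).ι) := by
        rw [IsOpenImmersion.lift_fac]; exact hoi _
      exact IsOpenImmersion.of_comp _ (Uo ξ₀).ι
    let 𝒰 : ((Uo ξ₀ : U.Opens) : Scheme.{u}).OpenCover :=
      Scheme.Cover.mkOfCovers {u : U // ξ u = ξ₀} (fun j => (V j.1 : Scheme.{u}))
        (fun j => IsOpenImmersion.lift (Uo ξ₀).ι (s j.1) (hr j))
        (by
          intro x
          refine ⟨⟨x.1, x.2⟩, ⟨g x.1, hx x.1⟩, ?_⟩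
          apply (Uo ξ₀).ι.injective
          rw [← Scheme.Hom.comp_apply, IsOpenImmersion.lift_fac]
          exact hsx x.1)
        hlo
    refine IsOpenImmersion.of_openCover_source (h ξ₀) 𝒰 ?_ ?_
    · intro a b hab
      apply Subtype.ext
      refine hB a.1 b.1 (a.2.trans b.2.symm) ?_
      have h1 : ∀ c : (Uo ξ₀ : U.Opens), (h ξ₀) c = g c.1 := fun c => by
        change ((Uo ξ₀).ι ≫ g) c = _
        rw [Scheme.Hom.comp_apply]
        rfl
      rw [← h1 a, ← h1 b, hab]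
    · intro j
      change IsOpenImmersion (IsOpenImmersion.lift (Uo ξ₀).ι (s j.1) (hr j) ≫ (Uo ξ₀).ι ≫ g)
      rw [← Category.assoc, IsOpenImmersion.lift_fac, hs]
      infer_instance
  let α : ∀ ξ₀ : U, (((h ξ₀).opensRange : X.Opens) : Scheme.{u}) ⟶ U :=
    fun ξ₀ => (h ξ₀).isoOpensRange.inv ≫ (Uo ξ₀).ι
  have hαmem : ∀ ξ₀ (y : ((h ξ₀).opensRange : X.Opens)), ξ (α ξ₀ y) = ξ₀ := by
    intro ξ₀ y
    change ξ (((h ξ₀).isoOpensRange.inv ≫ (Uo ξ₀).ι) y) = ξ₀
    rw [Scheme.Hom.comp_apply]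
    exact ((h ξ₀).isoOpensRange.inv y).2
  haveI hαoi : ∀ ξ₀, IsOpenImmersion (α ξ₀) := fun ξ₀ => by
    change IsOpenImmersion ((h ξ₀).isoOpensRange.inv ≫ (Uo ξ₀).ι)
    infer_instance
  haveI : IsOpenImmersion (Sigma.desc α) := by
    apply isOpenImmersion_sigmaDesc
    intro i j hij
    change Disjoint (Set.range (α i)) (Set.range (α j))
    rw [Set.disjoint_left]
    rintro _ ⟨y, rfl⟩ ⟨z, hz⟩
    apply hij
    rw [← hαmem i y, ← hz, hαmem j z]
  haveI : Surjective (Sigma.desc α) := by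
    refine ⟨fun u => ?_⟩
    refine ⟨Sigma.ι (fun ξ₀ : U => (((h ξ₀).opensRange : X.Opens) : Scheme.{u})) (ξ u)
      ((h (ξ u)).isoOpensRange.hom ⟨u, rfl⟩), ?_⟩
    rw [← Scheme.Hom.comp_apply, Sigma.ι_desc]
    change ((h (ξ u)).isoOpensRange.inv ≫ (Uo (ξ u)).ι) _ = u
    rw [← Scheme.Hom.comp_apply, Iso.hom_inv_id_assoc]
    rfl
  haveI : IsIso (Sigma.desc α) :=
    (isIso_iff_isOpenImmersion_and_surjective _).mpr ⟨inferInstance, inferInstance⟩
  refine ⟨U, fun ξ₀ => (h ξ₀).opensRange, asIso (Sigma.desc α), ?_⟩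
  intro i
  rw [asIso_hom, ← Category.assoc, Sigma.ι_desc]
  change ((h i).isoOpensRange.inv ≫ (Uo i).ι) ≫ g = _
  rw [Category.assoc]
  exact Scheme.Hom.isoOpensRange_inv_comp (h i)

end

end Groth.Agent.Helper18.EtSplit
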