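import Mathlib

set_option autoImplicit false

namespace Groth.Agent.Helper18.EtaleNbhd

open AlgebraicGeometry CategoryTheory Limits Polynomial

universe u

lemma evaluation_res (S : Scheme.{u}) (s : S) {V V' : S.Opens} (i : V ⟶ V') (hs : s ∈ V)
    (a : Γ(S, V')) :
    (S.evaluation V s hs).hom (S.presheaf.map i.op a) = (S.evaluation V' s (i.le hs)).hom a := by
  show (S.residue s).hom ((S.presheaf.germ V s hs).hom (S.presheaf.map i.op a)) =
    (S.residue s).hom ((S.presheaf.germ V' s (i.le hs)).hom a)
  congr 1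
  exact TopCat.Presheaf.germ_res_apply S.presheaf i s hs a

/-- Finitely many elements of a residue field are all values of sections over a common affine
open neighbourhood. -/
lemma exists_affine_evaluation (S : Scheme.{u}) (s : S) (T : Finset (S.residueField s)) :
    ∃ (V : S.Opens) (_ : IsAffineOpen V) (hs : s ∈ V),
      ∀ c ∈ T, c ∈ Set.range (S.evaluation V s hs).hom := by
  classical
  induction T using Finset.induction_on with
  | empty =>
    obtain ⟨_, ⟨V, hV, rfl⟩, hsV, -⟩ :=
      S.isBasis_affineOpens.exists_subset_of_mem_open (Set.mem_univ s) isOpen_univ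
    exact ⟨V, hV, hsV, by simp⟩
  | insert c T hc ih =>
    obtain ⟨V₁, hV₁, hs₁, h₁⟩ := ih
    obtain ⟨c', hc'⟩ := S.residue_surjective s c
    obtain ⟨V₂, hs₂, a₂, ha₂⟩ := TopCat.Presheaf.exists_germ_eq S.presheaf c'
    obtain ⟨_, ⟨V, hV, rfl⟩, hsV, hVsub⟩ :=
      S.isBasis_affineOpens.exists_subset_of_mem_open
        (show s ∈ ((V₁ ⊓ V₂ : S.Opens) : Set S) from ⟨hs₁, hs₂⟩) (V₁ ⊓ V₂).isOpen
    have hle₁ : V ≤ V₁ := fun x hx => (hVsub hx).1
    have hle₂ : V ≤ V₂ := fun x hx => (hVsub hx).2
    refine ⟨V, hV, hsV, ?_⟩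
    intro d hd
    rw [Finset.mem_insert] at hd
    rcases hd with rfl | hd
    · refine ⟨S.presheaf.map (homOfLE hle₂).op a₂, ?_⟩
      rw [evaluation_res]
      show (S.residue s).hom ((S.presheaf.germ V₂ s _).hom a₂) = d
      rw [← hc']
      congr 1
    · obtain ⟨a, ha⟩ := h₁ d hd
      refine ⟨S.presheaf.map (homOfLE hle₁).op a, ?_⟩
      rw [evaluation_res]
      exact ha

lemma key_desc {K : Type u} [Field K] {S : Scheme.{u}} (s : S)
    (ι : S.residueField s ⟶ .of K) (f : Spec (.of K) ⟶ S)
    (hf : f = Spec.map ι ≫ S.fromSpecResidueField s) :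
    ∃ e : f (IsLocalRing.closedPoint K) = s,
      S.descResidueField (Scheme.stalkClosedPointTo f) = (S.residueFieldCongr e).hom ≫ ι := by
  subst hf
  have h3 := (Scheme.SpecToEquivOfField K S).right_inv ⟨s, ι⟩
  exact Scheme.SpecToEquivOfField_eq_iff.mp h3

theorem main (S : Scheme.{u}) (s : S) (k : Type u) [Field k]
    [Algebra (S.residueField s) k] [FiniteDimensional (S.residueField s) k]
    [Algebra.IsSeparable (S.residueField s) k] :
    ∃ (U : Scheme.{u}) (g : U ⟶ S) (u : U) (hu : g u = s), Etale g ∧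
      letI := ((S.residueFieldCongr hu).inv ≫ g.residueFieldMap u).hom.toAlgebra
      Nonempty (k ≃ₐ[S.residueField s] U.residueField u) := by
  classical
  obtain ⟨α, hα⟩ := Field.exists_primitive_element (S.residueField s) k
  have hm_monic : (minpoly (S.residueField s) α).Monic :=
    minpoly.monic (Algebra.IsIntegral.isIntegral α)
  have hm_sep : (minpoly (S.residueField s) α).Separable :=
    Algebra.IsSeparable.isSeparable (S.residueField s) α
  obtain ⟨V, hV, hsV, hcoef⟩ :=
    exists_affine_evaluation S s (minpoly (S.residueField s) α).coeffs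
  have hlifts : minpoly (S.residueField s) α ∈ Polynomial.lifts (S.evaluation V s hsV).hom := by
    rw [Polynomial.lifts_iff_coeffs_subset_range]
    exact fun c hc => hcoef c hc
  obtain ⟨F, hFmap, -, hFmonic⟩ := Polynomial.lifts_and_degree_eq_and_monic hlifts hm_monic
  let P : StandardEtalePair Γ(S, V) := ⟨F, hFmonic, derivative F, ⟨1, 0, 1, by simp⟩⟩
  letI algAk : Algebra Γ(S, V) k :=
    ((algebraMap (S.residueField s) k).comp (S.evaluation V s hsV).hom).toAlgebra
  have haeval : ∀ q : Γ(S, V)[X], aeval α q = aeval α (q.map (S.evaluation V s hsV).hom) := by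
    intro q
    rw [Polynomial.aeval_def, Polynomial.aeval_def, Polynomial.eval₂_map]
    rfl
  have hmap : P.HasMap α := by
    constructor
    · show aeval α F = 0
      rw [haeval, hFmap]; exact minpoly.aeval _ α
    · show IsUnit (aeval α (derivative F))
      rw [haeval, ← Polynomial.derivative_map, hFmap]
      exact (hm_sep.aeval_derivative_ne_zero (minpoly.aeval _ α)).isUnit
  let ψ : P.Ring →ₐ[Γ(S, V)] k := P.lift α hmap
  let U : Scheme.{u} := Spec (.of P.Ring)
  let φ : Γ(S, V) ⟶ CommRingCat.of P.Ring := CommRingCat.ofHom (algebraMap Γ(S, V) P.Ring)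
  let g : U ⟶ S := Spec.map φ ≫ hV.fromSpec
  haveI : Etale (Spec.map φ) := by
    rw [HasRingHomProperty.Spec_iff (P := @Etale)]
    show (algebraMap Γ(S, V) P.Ring).Etale
    rw [RingHom.etale_algebraMap]
    infer_instance
  haveI : Etale g := inferInstance
  let ψc : CommRingCat.of P.Ring ⟶ CommRingCat.of k := CommRingCat.ofHom ψ.toRingHom
  let t : Spec (.of k) ⟶ U := Spec.map ψc
  let ι : S.residueField s ⟶ CommRingCat.of k :=
    CommRingCat.ofHom (algebraMap (S.residueField s) k)
  have hcomp : t ≫ g = Spec.map ι ≫ S.fromSpecResidueField s := by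
    have h1 : φ ≫ ψc = S.evaluation V s hsV ≫ ι := by
      ext a
      exact ψ.commutes a
    have h2 : Spec.map (S.evaluation V s hsV) ≫ hV.fromSpec = S.fromSpecResidueField s := by
      rw [Scheme.fromSpecResidueField, ← hV.fromSpecStalk_eq_fromSpecStalk hsV,
        IsAffineOpen.fromSpecStalk, ← Spec.map_comp_assoc]
      rfl
    calc t ≫ g = Spec.map (φ ≫ ψc) ≫ hV.fromSpec := by
          simp only [t, g, Spec.map_comp, Category.assoc]
      _ = Spec.map ι ≫ Spec.map (S.evaluation V s hsV) ≫ hV.fromSpec := by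
          rw [h1, Spec.map_comp, Category.assoc]
      _ = _ := by rw [h2]
  obtain ⟨e, he⟩ := key_desc s ι (t ≫ g) hcomp
  let u : U := t (IsLocalRing.closedPoint k)
  have hu : g u = s := e
  let θ : U.residueField u ⟶ CommRingCat.of k :=
    U.descResidueField (Scheme.stalkClosedPointTo t)
  have h7 : g.residueFieldMap u ≫ θ = (S.residueFieldCongr hu).hom ≫ ι :=
    (Scheme.descResidueField_stalkClosedPointTo_comp (f := g) t).symm.trans he
  have h8 : ((S.residueFieldCongr hu).inv ≫ g.residueFieldMap u) ≫ θ = ι := by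
    rw [Category.assoc, h7, Iso.inv_hom_id_assoc]
  have h9 : U.Γevaluation u ≫ θ = (Scheme.ΓSpecIso (.of P.Ring)).hom ≫ ψc := by
    rw [← Scheme.germ_stalkClosedPointTo_Spec ψc]
    show (U.presheaf.germ ⊤ u trivial ≫ U.residue u) ≫ θ = _
    rw [Category.assoc, Scheme.residue_descResidueField]
  refine ⟨U, g, u, hu, inferInstance, ?_⟩
  letI algκu : Algebra (S.residueField s) (U.residueField u) :=
    ((S.residueFieldCongr hu).inv ≫ g.residueFieldMap u).hom.toAlgebra
  let θa : U.residueField u →ₐ[S.residueField s] k :=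
    { θ.hom with
      commutes' := fun r => by
        have := congrArg (fun q => q.hom r) h8
        exact this }
  have hinj : Function.Injective θa := θa.toRingHom.injective
  have hsurj : Function.Surjective θa := by
    have hx₀ : θa ((U.Γevaluation u).hom ((Scheme.ΓSpecIso (.of P.Ring)).inv.hom P.X)) = α := by
      have h := congrArg (fun q => q.hom ((Scheme.ΓSpecIso (.of P.Ring)).inv.hom P.X)) h9
      have h' : θ.hom ((U.Γevaluation u).hom ((Scheme.ΓSpecIso (.of P.Ring)).inv.hom P.X)) =
          ψ ((Scheme.ΓSpecIso (.of P.Ring)).hom.hom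
            ((Scheme.ΓSpecIso (.of P.Ring)).inv.hom P.X)) := h
      have h'' : (Scheme.ΓSpecIso (.of P.Ring)).hom.hom
          ((Scheme.ΓSpecIso (.of P.Ring)).inv.hom P.X) = P.X := by
        rw [← CommRingCat.comp_apply, Iso.inv_hom_id]; rfl
      rw [h''] at h'
      exact h'.trans (P.lift_X α hmap)
    have hrange : (⊤ : IntermediateField (S.residueField s) k) ≤ θa.fieldRange := by
      rw [← hα, IntermediateField.adjoin_simple_le_iff]
      exact ⟨_, hx₀⟩
    intro y
    exact hrange IntermediateField.mem_top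
  exact ⟨(AlgEquiv.ofBijective θa ⟨hinj, hsurj⟩).symm⟩

end Groth.Agent.Helper18.EtaleNbhd
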