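import Mathlib
import Groth.Prelude.Def_MoreMor
import Groth.Agent.Lib.Helper18.EtLoc12

set_option autoImplicit false

namespace Groth.Agent.Helper18.Weighting

open AlgebraicGeometry CategoryTheory Limits

universe u

/-- Separable degree of the residue field extension of `π` at `z`. -/
noncomputable def sdeg {U V : Scheme.{u}} (π : U ⟶ V) (z : U) : ℕ :=
  @Field.finSepDegree (V.residueField (π z)) (U.residueField z) _ _
    (π.residueFieldMap z).hom.toAlgebra

lemma fibreIntegral_eq {U V : Scheme.{u}} (π : U ⟶ V) (w : U → ℤ) (v : V) :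
    MoreMor.fibreIntegral π w v = ∑ᶠ z : {z : U // π z = v}, w z.1 * (sdeg π z.1 : ℤ) := rfl

lemma finSepDegree_comp_bijective {K L L' : Type u} [Field K] [Field L] [Field L']
    (a : K →+* L) (e : L →+* L') (he : Function.Bijective e) :
    @Field.finSepDegree K L' _ _ (e.comp a).toAlgebra =
      @Field.finSepDegree K L _ _ a.toAlgebra := by
  letI := a.toAlgebra
  letI := (e.comp a).toAlgebra
  let E : L ≃ₐ[K] L' := { RingEquiv.ofBijective e he with commutes' := fun r => rfl }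
  exact (Field.finSepDegree_eq_of_equiv K L L' E).symm

lemma sdeg_comp_of_isOpenImmersion {U' U V : Scheme.{u}} (j : U' ⟶ U) [IsOpenImmersion j]
    (π : U ⟶ V) (z : U') : sdeg (j ≫ π) z = sdeg π (j z) := by
  unfold sdeg
  rw [Scheme.residueFieldMap_comp j π z]
  exact finSepDegree_comp_bijective (π.residueFieldMap (j z)).hom (j.residueFieldMap z).hom
    (ConcreteCategory.bijective_of_isIso (j.residueFieldMap z))

lemma one_le_sdeg {U V : Scheme.{u}} (π : U ⟶ V) [LocallyOfFiniteType π]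
    [LocallyQuasiFinite π] (z : U) : 1 ≤ sdeg π z := by
  unfold sdeg
  have hfin := EtLoc.finite_residueFieldMap_of_quasiFiniteAt π z (π.quasiFiniteAt z)
  letI := (π.residueFieldMap z).hom.toAlgebra
  haveI : FiniteDimensional (V.residueField (π z)) (U.residueField z) := hfin
  exact Nat.one_le_iff_ne_zero.mpr (NeZero.ne _)

lemma sdeg_eq_one {U V : Scheme.{u}} (π : U ⟶ V) (z : U)
    (h : @IsPurelyInseparable (V.residueField (π z)) (U.residueField z) _ _
      (π.residueFieldMap z).hom.toAlgebra) : sdeg π z = 1 := by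
  unfold sdeg
  letI := (π.residueFieldMap z).hom.toAlgebra
  exact IsPurelyInseparable.finSepDegree_eq_one _ _

/-- A single nonnegative term is bounded by the fibre integral when the fibre is finite. -/
lemma term_le_fibreIntegral {U V : Scheme.{u}} (π : U ⟶ V) (w : U → ℤ) (hw : ∀ z, 0 ≤ w z)
    (v : V) (hfin : (π ⁻¹' {v}).Finite) (z₀ : U) (hz₀ : π z₀ = v) :
    w z₀ * (sdeg π z₀ : ℤ) ≤ MoreMor.fibreIntegral π w v := by
  rw [fibreIntegral_eq]
  haveI : Finite {z : U // π z = v} := hfin.to_subtype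
  exact single_le_finsum (⟨z₀, hz₀⟩ : {z : U // π z = v})
    (f := fun z : {z : U // π z = v} => w z.1 * (sdeg π z.1 : ℤ)) (Set.toFinite _)
    (fun z => mul_nonneg (hw z.1) (Int.natCast_nonneg _))

/-- If the fibre is a single point, the fibre integral is the corresponding term. -/
lemma fibreIntegral_of_unique {U V : Scheme.{u}} (π : U ⟶ V) (w : U → ℤ) (v : V) (z₀ : U)
    (hz₀ : π z₀ = v) (huniq : ∀ z, π z = v → z = z₀) :
    MoreMor.fibreIntegral π w v = w z₀ * (sdeg π z₀ : ℤ) := by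
  rw [fibreIntegral_eq]
  exact finsum_eq_single _ (⟨z₀, hz₀⟩ : {z : U // π z = v})
    (fun z hz => absurd (Subtype.ext (huniq z.1 z.2)) hz)


section Geometric

open IsLocalRing

variable {U V : Scheme.{u}}

lemma lifts_at_surj (π : U ⟶ V) (Ω : Type u) [Field Ω] (z : U)
    (ι₀ : V.residueField (π z) ⟶ CommRingCat.of Ω) (ū : Spec (CommRingCat.of Ω) ⟶ U)
    (hpt : ū (closedPoint Ω) = z)
    (hcomp : ū ≫ π = Spec.map ι₀ ≫ V.fromSpecResidueField (π z)) :
    ∃ φ : U.residueField z ⟶ CommRingCat.of Ω, π.residueFieldMap z ≫ φ = ι₀ ∧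
      Spec.map φ ≫ U.fromSpecResidueField z = ū := by
  obtain ⟨⟨x, φ⟩, rfl⟩ := (Scheme.SpecToEquivOfField Ω U).symm.surjective ū
  simp only [Scheme.SpecToEquivOfField_symm_apply] at hpt hcomp ⊢
  have hx : x = z := by simpa using hpt
  subst hx
  refine ⟨φ, ?_, rfl⟩
  rw [Category.assoc, ← Scheme.Hom.SpecMap_residueFieldMap_fromSpecResidueField,
    ← Spec.map_comp_assoc, cancel_mono] at hcomp
  exact Spec.map_injective hcomp

lemma card_lifts_at (π : U ⟶ V) [LocallyOfFiniteType π] [LocallyQuasiFinite π]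
    (Ω : Type u) [Field Ω] [IsAlgClosed Ω] (z : U)
    (ι₀ : V.residueField (π z) ⟶ CommRingCat.of Ω) :
    Nat.card {ū : Spec (CommRingCat.of Ω) ⟶ U //
      ū (closedPoint Ω) = z ∧
        ū ≫ π = Spec.map ι₀ ≫ V.fromSpecResidueField (π z)} = sdeg π z := by
  unfold sdeg
  have hfin := EtLoc.finite_residueFieldMap_of_quasiFiniteAt π z (π.quasiFiniteAt z)
  letI := (π.residueFieldMap z).hom.toAlgebra
  letI := ι₀.hom.toAlgebra
  haveI : FiniteDimensional (V.residueField (π z)) (U.residueField z) := hfin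
  rw [Field.finSepDegree_eq_of_isAlgClosed (V.residueField (π z)) (U.residueField z) Ω]
  symm
  refine Nat.card_congr (Equiv.ofBijective (fun a =>
    ⟨Spec.map (CommRingCat.ofHom a.toRingHom) ≫ U.fromSpecResidueField z, ?_, ?_⟩) ⟨?_, ?_⟩)
  · exact Scheme.fromSpecResidueField_apply z _
  · rw [Category.assoc, ← Scheme.Hom.SpecMap_residueFieldMap_fromSpecResidueField,
      ← Spec.map_comp_assoc]
    congr 2
    ext x
    exact a.commutes x
  · intro a b hab
    have h1 := congrArg Subtype.val hab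
    simp only at h1
    rw [cancel_mono] at h1
    have h2 := Spec.map_injective h1
    ext x
    exact congrArg (fun f => f.hom x) h2
  · rintro ⟨ū, hpt, hcomp⟩
    obtain ⟨φ, hφ, rfl⟩ := lifts_at_surj π Ω z ι₀ ū hpt hcomp
    refine ⟨{ φ.hom with commutes' := fun r => ?_ }, ?_⟩
    · exact congrArg (fun f => f.hom r) hφ
    · apply Subtype.ext
      rfl

lemma card_lifts (π : U ⟶ V) [LocallyOfFiniteType π] [LocallyQuasiFinite π]
    (Ω : Type u) [Field Ω] [IsAlgClosed Ω] (τ : Spec (CommRingCat.of Ω) ⟶ V) (z : U)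
    (hz : π z = τ (closedPoint Ω)) :
    Nat.card {ū : Spec (CommRingCat.of Ω) ⟶ U //
      ū (closedPoint Ω) = z ∧ ū ≫ π = τ} = sdeg π z := by
  obtain ⟨⟨v, ι⟩, rfl⟩ := (Scheme.SpecToEquivOfField Ω V).symm.surjective τ
  simp only [Scheme.SpecToEquivOfField_symm_apply] at hz ⊢
  have hv : π z = v := by simpa using hz
  subst hv
  exact card_lifts_at π Ω z ι

/-- The closed-point map from lifts of a geometric point to the fibre. -/
noncomputable def liftPt (π : U ⟶ V) (Ω : Type u) [Field Ω] (τ : Spec (CommRingCat.of Ω) ⟶ V) :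
    {ū : Spec (CommRingCat.of Ω) ⟶ U // ū ≫ π = τ} → {z : U // π z = τ (closedPoint Ω)} :=
  fun ū => ⟨ū.1 (closedPoint Ω), by rw [← Scheme.Hom.comp_apply, ū.2]⟩

/-- Fibres of `liftPt`. -/
noncomputable def liftFibreEquiv (π : U ⟶ V) (Ω : Type u) [Field Ω] (τ : Spec (CommRingCat.of Ω) ⟶ V)
    (z : {z : U // π z = τ (closedPoint Ω)}) :
    {ū : {ū : Spec (CommRingCat.of Ω) ⟶ U // ū ≫ π = τ} // liftPt π Ω τ ū = z} ≃
      {ū : Spec (CommRingCat.of Ω) ⟶ U // ū (closedPoint Ω) = z.1 ∧ ū ≫ π = τ} where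
  toFun ū := ⟨ū.1.1, congrArg Subtype.val ū.2, ū.1.2⟩
  invFun ū := ⟨⟨ū.1, ū.2.2⟩, Subtype.ext ū.2.1⟩
  left_inv _ := rfl
  right_inv _ := rfl

lemma card_liftFibre (π : U ⟶ V) [LocallyOfFiniteType π] [LocallyQuasiFinite π]
    (Ω : Type u) [Field Ω] [IsAlgClosed Ω] (τ : Spec (CommRingCat.of Ω) ⟶ V)
    (z : {z : U // π z = τ (closedPoint Ω)}) :
    Nat.card {ū : {ū : Spec (CommRingCat.of Ω) ⟶ U // ū ≫ π = τ} // liftPt π Ω τ ū = z} =
      sdeg π z.1 := by
  rw [Nat.card_congr (liftFibreEquiv π Ω τ z)]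
  exact card_lifts π Ω τ z.1 z.2

lemma liftPt_surjective (π : U ⟶ V) [LocallyOfFiniteType π] [LocallyQuasiFinite π]
    (Ω : Type u) [Field Ω] [IsAlgClosed Ω] (τ : Spec (CommRingCat.of Ω) ⟶ V) :
    Function.Surjective (liftPt π Ω τ) := by
  intro z
  have h1 := card_liftFibre π Ω τ z
  have h2 := one_le_sdeg π z.1
  have h3 : Nat.card {ū : {ū : Spec (CommRingCat.of Ω) ⟶ U // ū ≫ π = τ} //
      liftPt π Ω τ ū = z} ≠ 0 := by omega
  obtain ⟨⟨ū, hū⟩⟩ := (Nat.card_ne_zero.mp h3).1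
  exact ⟨ū, hū⟩

lemma finite_lifts (π : U ⟶ V) [LocallyOfFiniteType π] [LocallyQuasiFinite π]
    (Ω : Type u) [Field Ω] [IsAlgClosed Ω] (τ : Spec (CommRingCat.of Ω) ⟶ V)
    (hfin : (π ⁻¹' {τ (closedPoint Ω)}).Finite) :
    Finite {ū : Spec (CommRingCat.of Ω) ⟶ U // ū ≫ π = τ} := by
  haveI : Finite {z : U // π z = τ (closedPoint Ω)} := hfin.to_subtype
  have : ∀ z : {z : U // π z = τ (closedPoint Ω)},
      Finite {ū : {ū : Spec (CommRingCat.of Ω) ⟶ U // ū ≫ π = τ} // liftPt π Ω τ ū = z} := by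
    intro z
    have h1 := card_liftFibre π Ω τ z
    have h2 := one_le_sdeg π z.1
    exact Nat.finite_of_card_ne_zero (by omega)
  exact Finite.of_equiv _ (Equiv.sigmaFiberEquiv (liftPt π Ω τ))

lemma finite_fibre_of_finite_lifts (π : U ⟶ V) [LocallyOfFiniteType π] [LocallyQuasiFinite π]
    (Ω : Type u) [Field Ω] [IsAlgClosed Ω] (τ : Spec (CommRingCat.of Ω) ⟶ V)
    [Finite {ū : Spec (CommRingCat.of Ω) ⟶ U // ū ≫ π = τ}] :
    (π ⁻¹' {τ (closedPoint Ω)}).Finite := by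
  have : Finite {z : U // π z = τ (closedPoint Ω)} :=
    Finite.of_surjective _ (liftPt_surjective π Ω τ)
  exact Set.finite_coe_iff.mp this

/-- The fibre integral is the sum over geometric lifts. -/
lemma fibreIntegral_eq_geometric (π : U ⟶ V) [LocallyOfFiniteType π] [LocallyQuasiFinite π]
    (Ω : Type u) [Field Ω] [IsAlgClosed Ω] (τ : Spec (CommRingCat.of Ω) ⟶ V)
    [Finite {ū : Spec (CommRingCat.of Ω) ⟶ U // ū ≫ π = τ}] (w : U → ℤ) :
    MoreMor.fibreIntegral π w (τ (closedPoint Ω)) =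
      ∑ᶠ ū : {ū : Spec (CommRingCat.of Ω) ⟶ U // ū ≫ π = τ}, w (ū.1 (closedPoint Ω)) := by
  classical
  haveI : Finite {z : U // π z = τ (closedPoint Ω)} :=
    Finite.of_surjective _ (liftPt_surjective π Ω τ)
  haveI : Fintype {z : U // π z = τ (closedPoint Ω)} := Fintype.ofFinite _
  haveI : Fintype {ū : Spec (CommRingCat.of Ω) ⟶ U // ū ≫ π = τ} := Fintype.ofFinite _
  rw [fibreIntegral_eq, finsum_eq_sum_of_fintype, finsum_eq_sum_of_fintype,
    ← Fintype.sum_fiberwise (liftPt π Ω τ) (fun ū => w (ū.1 (closedPoint Ω)))]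
  refine Finset.sum_congr rfl fun z _ => ?_
  have hconst : ∀ ū : {ū : {ū : Spec (CommRingCat.of Ω) ⟶ U // ū ≫ π = τ} //
      liftPt π Ω τ ū = z}, w (ū.1.1 (closedPoint Ω)) = w z.1 := fun ū =>
    congrArg (fun y : {z : U // π z = τ (closedPoint Ω)} => w y.1) ū.2
  rw [Finset.sum_congr rfl (fun ū _ => hconst ū), Finset.sum_const, Finset.card_univ,
    nsmul_eq_mul, mul_comm, ← card_liftFibre π Ω τ z, Nat.card_eq_fintype_card]

end Geometric

section BaseChange

open IsLocalRing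

/-- Lifts of a geometric point along a pullback square. -/
noncomputable def liftsPullbackEquiv {U V U' V' : Scheme.{u}} {π : U ⟶ V} {π' : U' ⟶ V'} {h : U' ⟶ U}
    {g : V' ⟶ V} (hc : IsPullback h π' π g) (Ω : Type u) [Field Ω]
    (τ' : Spec (CommRingCat.of Ω) ⟶ V') :
    {ū' : Spec (CommRingCat.of Ω) ⟶ U' // ū' ≫ π' = τ'} ≃
      {ū : Spec (CommRingCat.of Ω) ⟶ U // ū ≫ π = τ' ≫ g} where
  toFun ū' := ⟨ū'.1 ≫ h, by rw [Category.assoc, hc.w, ← Category.assoc, ū'.2]⟩
  invFun ū := ⟨hc.lift ū.1 τ' ū.2, hc.lift_snd _ _ _⟩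
  left_inv ū' := Subtype.ext (hc.hom_ext (by simp) (by simp [ū'.2]))
  right_inv ū := Subtype.ext (hc.lift_fst _ _ _)

lemma fibreIntegral_baseChange_geom {U V U' V' : Scheme.{u}} (π : U ⟶ V)
    [LocallyQuasiFinite π] [LocallyOfFiniteType π] (hfin : ∀ v : V, (π ⁻¹' {v}).Finite)
    (π' : U' ⟶ V') (h : U' ⟶ U) (g : V' ⟶ V) (hc : IsPullback h π' π g) (w : U → ℤ)
    (Ω : Type u) [Field Ω] [IsAlgClosed Ω] (τ' : Spec (CommRingCat.of Ω) ⟶ V') :
    MoreMor.fibreIntegral π' (w ∘ ⇑h) (τ' (closedPoint Ω)) =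
      MoreMor.fibreIntegral π w (g (τ' (closedPoint Ω))) := by
  haveI : LocallyQuasiFinite π' := MorphismProperty.of_isPullback hc ‹LocallyQuasiFinite π›
  haveI : LocallyOfFiniteType π' := MorphismProperty.of_isPullback hc ‹LocallyOfFiniteType π›
  haveI : Finite {ū : Spec (CommRingCat.of Ω) ⟶ U // ū ≫ π = τ' ≫ g} :=
    finite_lifts π Ω (τ' ≫ g) (hfin _)
  haveI : Finite {ū' : Spec (CommRingCat.of Ω) ⟶ U' // ū' ≫ π' = τ'} :=
    Finite.of_equiv _ (liftsPullbackEquiv hc Ω τ').symm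
  have e1 := fibreIntegral_eq_geometric π' Ω τ' (w ∘ ⇑h)
  have e2 := fibreIntegral_eq_geometric π Ω (τ' ≫ g) w
  rw [e1]
  rw [show g (τ' (closedPoint Ω)) = (τ' ≫ g) (closedPoint Ω) from rfl, e2]
  exact finsum_comp_equiv (liftsPullbackEquiv hc Ω τ')
    (f := fun ū : {ū : Spec (CommRingCat.of Ω) ⟶ U // ū ≫ π = τ' ≫ g} =>
      w (ū.1 (closedPoint Ω)))

/-- Base change of fibre integrals (S1418). -/
theorem fibreIntegral_baseChange {U V U' V' : Scheme.{u}} (π : U ⟶ V)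
    [LocallyQuasiFinite π] [LocallyOfFiniteType π] (hfin : ∀ v : V, (π ⁻¹' {v}).Finite)
    (π' : U' ⟶ V') (h : U' ⟶ U) (g : V' ⟶ V) (hc : IsPullback h π' π g) (w : U → ℤ) (v' : V') :
    MoreMor.fibreIntegral π' (w ∘ ⇑h) v' = MoreMor.fibreIntegral π w (g v') := by
  have key := fibreIntegral_baseChange_geom π hfin π' h g hc w
    (AlgebraicClosure (V'.residueField v'))
    (Spec.map (CommRingCat.ofHom (algebraMap (V'.residueField v')
      (AlgebraicClosure (V'.residueField v')))) ≫ V'.fromSpecResidueField v')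
  have hpt : (Spec.map (CommRingCat.ofHom (algebraMap (V'.residueField v')
      (AlgebraicClosure (V'.residueField v')))) ≫ V'.fromSpecResidueField v')
      (closedPoint (AlgebraicClosure (V'.residueField v'))) = v' :=
    Scheme.fromSpecResidueField_apply v' _
  rw [hpt] at key
  exact key

end BaseChange

section Restrict

lemma fibreIntegral_comp_iso {U U₁ V : Scheme.{u}} (e : U ⟶ U₁) [IsIso e] (π₁ : U₁ ⟶ V)
    (w₁ : U₁ → ℤ) (v : V) :
    MoreMor.fibreIntegral (e ≫ π₁) (fun u => w₁ (e u)) v = MoreMor.fibreIntegral π₁ w₁ v := by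
  rw [fibreIntegral_eq, fibreIntegral_eq]
  let E : {z : U // (e ≫ π₁) z = v} ≃ {z : U₁ // π₁ z = v} :=
    Equiv.subtypeEquiv e.homeomorph.toEquiv (fun z => Iff.rfl)
  rw [← finsum_comp_equiv E]
  refine finsum_congr fun z => ?_
  rw [sdeg_comp_of_isOpenImmersion]
  rfl

theorem weighting_restrict {X Y : Scheme.{u}} (f : X ⟶ Y) (w : X → ℤ)
    (hw : MoreMor.IsWeighting f w) (X' : X.Opens) :
    MoreMor.IsWeighting (X'.ι ≫ f) (fun x => w (X'.ι x)) := by
  intro V g _ U hU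
  let j : pullback (X'.ι ≫ f) g ⟶ pullback f g :=
    pullback.map (X'.ι ≫ f) g f g X'.ι (𝟙 V) (𝟙 Y) (by simp) (by simp)
  haveI : IsOpenImmersion j := inferInstance
  have hj1 : j ≫ pullback.fst f g = pullback.fst (X'.ι ≫ f) g ≫ X'.ι :=
    pullback.lift_fst _ _ _
  have hj2 : j ≫ pullback.snd f g = pullback.snd (X'.ι ≫ f) g :=
    (pullback.lift_snd _ _ _).trans (Category.comp_id _)
  let U₁ : (pullback f g).Opens := (U.ι ≫ j).opensRange
  let e : (U : Scheme) ⟶ U₁ := (U.ι ≫ j).isoOpensRange.hom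
  have he : e ≫ U₁.ι = U.ι ≫ j := (U.ι ≫ j).isoOpensRange_hom_ι
  have h1 : e ≫ U₁.ι ≫ pullback.snd f g = U.ι ≫ pullback.snd (X'.ι ≫ f) g := by
    rw [← Category.assoc, he, Category.assoc, hj2]
  have hfin1 : IsFinite (U₁.ι ≫ pullback.snd f g) := by
    rw [← MorphismProperty.cancel_left_of_respectsIso (P := @IsFinite) e, h1]
    exact hU
  have key := hw V g U₁ hfin1
  have hfun : MoreMor.fibreIntegral (U.ι ≫ pullback.snd (X'.ι ≫ f) g)
      (fun u => w (X'.ι (pullback.fst (X'.ι ≫ f) g (U.ι u)))) =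
      MoreMor.fibreIntegral (U₁.ι ≫ pullback.snd f g)
        (fun u => w (pullback.fst f g (U₁.ι u))) := by
    funext v
    refine Eq.trans ?_ (fibreIntegral_comp_iso e (U₁.ι ≫ pullback.snd f g)
      (fun u => w (pullback.fst f g (U₁.ι u))) v)
    rw [h1]
    congr 1
    funext u
    have h2 : U₁.ι (e u) = j (U.ι u) := by
      rw [← Scheme.Hom.comp_apply, he]; rfl
    have h3 : pullback.fst f g (j (U.ι u)) =
        X'.ι (pullback.fst (X'.ι ≫ f) g (U.ι u)) := by
      rw [← Scheme.Hom.comp_apply, hj1]; rfl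
    rw [h2, h3]
  rw [hfun]
  exact key

end Restrict

end Groth.Agent.Helper18.Weighting
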