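import Mathlib
import Groth.Prelude.Def_MoreMor
import Groth.Agent.Lib.Helper18.EtLoc12
import Groth.Agent.Lib.Helper18.Weighting

set_option autoImplicit false

namespace Groth.Agent.Helper18.Weighting

open AlgebraicGeometry CategoryTheory Limits IsLocalRing

universe u

lemma finite_fibre_baseChange {U V U' V' : Scheme.{u}} (π : U ⟶ V)
    [LocallyQuasiFinite π] [LocallyOfFiniteType π] (hfin : ∀ v : V, (π ⁻¹' {v}).Finite)
    (π' : U' ⟶ V') (h : U' ⟶ U) (g : V' ⟶ V) (hc : IsPullback h π' π g) (v' : V') :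
    (π' ⁻¹' {v'}).Finite := by
  haveI : LocallyQuasiFinite π' := MorphismProperty.of_isPullback hc ‹LocallyQuasiFinite π›
  haveI : LocallyOfFiniteType π' := MorphismProperty.of_isPullback hc ‹LocallyOfFiniteType π›
  let Ω := AlgebraicClosure (V'.residueField v')
  let τ' : Spec (CommRingCat.of Ω) ⟶ V' :=
    Spec.map (CommRingCat.ofHom (algebraMap (V'.residueField v') Ω)) ≫
      V'.fromSpecResidueField v'
  have hpt : τ' (closedPoint Ω) = v' := Scheme.fromSpecResidueField_apply v' _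
  haveI : Finite {ū : Spec (CommRingCat.of Ω) ⟶ U // ū ≫ π = τ' ≫ g} :=
    finite_lifts π Ω (τ' ≫ g) (hfin _)
  haveI : Finite {ū' : Spec (CommRingCat.of Ω) ⟶ U' // ū' ≫ π' = τ'} :=
    Finite.of_equiv _ (liftsPullbackEquiv hc Ω τ').symm
  have := finite_fibre_of_finite_lifts π' Ω τ'
  rwa [hpt] at this

lemma fibreIntegral_eq_sum {U V : Scheme.{u}} (π : U ⟶ V) (w : U → ℤ) (v : V)
    (hfin : (π ⁻¹' {v}).Finite) :
    MoreMor.fibreIntegral π w v = ∑ p ∈ hfin.toFinset, w p * (sdeg π p : ℤ) := by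
  rw [fibreIntegral_eq, ← finsum_mem_eq_finite_toFinset_sum (fun p => w p * (sdeg π p : ℤ)) hfin]
  exact finsum_set_coe_eq_finsum_mem (π ⁻¹' {v}) (f := fun p => w p * (sdeg π p : ℤ))

lemma fibreIntegral_opens {U V : Scheme.{u}} (π : U ⟶ V) (w : U → ℤ) (O : U.Opens) (v : V)
    (hfin : (π ⁻¹' {v}).Finite) [DecidablePred (fun p => p ∈ O)] :
    MoreMor.fibreIntegral (O.ι ≫ π) (fun z => w (O.ι z)) v =
      ∑ p ∈ hfin.toFinset.filter (fun p => p ∈ O), w p * (sdeg π p : ℤ) := by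
  rw [fibreIntegral_eq]
  have hS : ((π ⁻¹' {v}) ∩ (O : Set U)).Finite := hfin.subset Set.inter_subset_left
  let E : {z : O // (O.ι ≫ π) z = v} ≃ ↥((π ⁻¹' {v}) ∩ (O : Set U)) :=
    { toFun := fun z => ⟨z.1.1, z.2, z.1.2⟩
      invFun := fun p => ⟨⟨p.1, p.2.2⟩, p.2.1⟩
      left_inv := fun z => rfl
      right_inv := fun p => rfl }
  have h1 : ∀ z : {z : O // (O.ι ≫ π) z = v},
      w (O.ι z.1) * (sdeg (O.ι ≫ π) z.1 : ℤ) =
        (fun p : ↥((π ⁻¹' {v}) ∩ (O : Set U)) => w p.1 * (sdeg π p.1 : ℤ)) (E z) := by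
    intro z
    rw [sdeg_comp_of_isOpenImmersion]
    rfl
  refine (finsum_congr h1).trans ?_
  rw [finsum_comp_equiv E
    (f := fun p : ↥((π ⁻¹' {v}) ∩ (O : Set U)) => w p.1 * (sdeg π p.1 : ℤ))]
  rw [finsum_set_coe_eq_finsum_mem ((π ⁻¹' {v}) ∩ (O : Set U))
    (f := fun p => w p * (sdeg π p : ℤ)), finsum_mem_eq_finite_toFinset_sum _ hS]
  refine Finset.sum_congr ?_ (fun _ _ => rfl)
  ext p
  simp

lemma sum_fibreIntegral_opens_le {U V : Scheme.{u}} (π : U ⟶ V) (w : U → ℤ)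
    (hw : ∀ z, 0 ≤ w z) {K : Type*} [Fintype K] (O : K → U.Opens)
    (hdisj : ∀ k l, k ≠ l → ∀ p, p ∈ O k → p ∈ O l → False) (v : V)
    (hfin : (π ⁻¹' {v}).Finite) :
    ∑ k, MoreMor.fibreIntegral ((O k).ι ≫ π) (fun z => w ((O k).ι z)) v ≤
      MoreMor.fibreIntegral π w v := by
  classical
  rw [fibreIntegral_eq_sum π w v hfin]
  simp_rw [fibreIntegral_opens π w _ v hfin]
  rw [← Finset.sum_biUnion]
  · refine Finset.sum_le_sum_of_subset_of_nonneg ?_ ?_
    · intro p hp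
      simp only [Finset.mem_biUnion, Finset.mem_filter] at hp
      obtain ⟨k, _, hk1, _⟩ := hp
      exact hk1
    · intro p _ _
      exact mul_nonneg (hw p) (Int.natCast_nonneg _)
  · intro k _ l _ hkl
    rw [Function.onFun, Finset.disjoint_left]
    intro p hp hp'
    simp only [Finset.mem_filter] at hp hp'
    exact hdisj k l hkl p hp.2 hp'.2

lemma sum_fibreIntegral_opens_eq {U V : Scheme.{u}} (π : U ⟶ V) (w : U → ℤ)
    {K : Type*} [Fintype K] (O : K → U.Opens)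
    (hdisj : ∀ k l, k ≠ l → ∀ p, p ∈ O k → p ∈ O l → False) (v : V)
    (hfin : (π ⁻¹' {v}).Finite) (hcov : ∀ p, π p = v → ∃ k, p ∈ O k) :
    ∑ k, MoreMor.fibreIntegral ((O k).ι ≫ π) (fun z => w ((O k).ι z)) v =
      MoreMor.fibreIntegral π w v := by
  classical
  rw [fibreIntegral_eq_sum π w v hfin]
  simp_rw [fibreIntegral_opens π w _ v hfin]
  rw [← Finset.sum_biUnion]
  · refine Finset.sum_congr ?_ (fun _ _ => rfl)
    ext p
    simp only [Finset.mem_biUnion, Finset.mem_filter, Finset.mem_univ, true_and,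
      Set.Finite.mem_toFinset, Set.mem_preimage, Set.mem_singleton_iff]
    constructor
    · rintro ⟨k, hk1, _⟩
      exact hk1
    · intro hp
      obtain ⟨k, hk⟩ := hcov p hp
      exact ⟨k, hp, hk⟩
  · intro k _ l _ hkl
    rw [Function.onFun, Finset.disjoint_left]
    intro p hp hp'
    simp only [Finset.mem_filter] at hp hp'
    exact hdisj k l hkl p hp.2 hp'.2

lemma isClosed_of_isFinite_opens {P V : Scheme.{u}} (π : P ⟶ V) [IsSeparated π]
    (O : P.Opens) [IsFinite (O.ι ≫ π)] : IsClosed (O : Set P) := by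
  haveI : IsFinite O.ι := IsFinite.of_comp O.ι π
  have := O.ι.isClosedMap.isClosed_range
  rwa [Scheme.Opens.range_ι] at this

lemma isFinite_of_le_of_isClosed {P V : Scheme.{u}} (π : P ⟶ V) (O O' : P.Opens)
    (hle : O' ≤ O) (hcl : IsClosed (O' : Set P)) [IsFinite (O.ι ≫ π)] :
    IsFinite (O'.ι ≫ π) := by
  haveI : IsClosedImmersion (P.homOfLE hle) := by
    apply IsClosedImmersion.of_isPreimmersion
    have h1 : Set.range (P.homOfLE hle) = O.ι ⁻¹' (O' : Set P) := by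
      have h0 : ((P.homOfLE hle).opensRange : Set O) =
          ((O.ι ⁻¹ᵁ O' : (O : Scheme).Opens) : Set O) := by
        rw [P.opensRange_homOfLE hle]
      exact h0
    rw [h1]
    exact hcl.preimage O.ι.continuous
  rw [← P.homOfLE_ι hle, Category.assoc]
  infer_instance

theorem etale_local_structure {X Y : Scheme.{u}} (f : X ⟶ Y) [LocallyQuasiFinite f]
    [LocallyOfFiniteType f] [IsSeparated f] (hfin : ∀ y : Y, (f ⁻¹' {y}).Finite) (y₀ : Y) :
    ∃ (V : Scheme.{u}) (g : V ⟶ Y) (v₀ : V), Etale g ∧ g v₀ = y₀ ∧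
      ∃ (K : Type) (_ : Fintype K) (O : K → (pullback f g).Opens),
        (∀ k, IsFinite ((O k).ι ≫ pullback.snd f g)) ∧
        (∀ k l, k ≠ l → ∀ p, p ∈ O k → p ∈ O l → False) ∧
        (∀ p : ↑(pullback f g), pullback.snd f g p = v₀ → ∃ k, p ∈ O k) := by
  classical
  haveI : Finite {x : X // f x = y₀} := (hfin y₀).to_subtype
  obtain ⟨n, ⟨e⟩⟩ := Finite.exists_equiv_fin {x : X // f x = y₀}
  let x : Fin n → X := fun i => (e.symm i).1
  have hx : ∀ i, f (x i) = y₀ := fun i => (e.symm i).2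
  have hxinj : Function.Injective x := fun i i' h => e.symm.injective (Subtype.ext h)
  have hxsurj : ∀ z : X, f z = y₀ → ∃ i, z = x i := fun z hz => ⟨e ⟨z, hz⟩, by simp [x]⟩
  obtain ⟨V, g, v₀, hg, hgv, m, O₀, pt, hprop, hinj, hall⟩ :=
    EtLoc.pi_core f y₀ x hx (fun i => f.quasiFiniteAt (x i))
  haveI := hg
  refine ⟨V, g, v₀, hg, hgv, (Σ i : Fin n, Fin (m i)), inferInstance, ?_⟩
  let A : (Σ i : Fin n, Fin (m i)) → (pullback f g).Opens := fun k => O₀ k.1 k.2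
  let q : (Σ i : Fin n, Fin (m i)) → ↑(pullback f g) := fun k => pt k.1 k.2
  have hqA : ∀ k, q k ∈ A k := fun k => (hprop k.1 k.2).1
  have hAfin : ∀ k, IsFinite ((A k).ι ≫ pullback.snd f g) := fun k => (hprop k.1 k.2).2.1
  have hqv : ∀ k, pullback.snd f g (q k) = v₀ := fun k => (hprop k.1 k.2).2.2.1
  have huniq : ∀ k (p : ↑(pullback f g)), p ∈ A k → pullback.snd f g p = v₀ → p = q k :=
    fun k => (hprop k.1 k.2).2.2.2.1
  have hqx : ∀ k, pullback.fst f g (q k) = x k.1 := fun k => (hprop k.1 k.2).2.2.2.2.2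
  have hqinj : Function.Injective q := by
    rintro ⟨i, j⟩ ⟨i', j'⟩ h
    have h1 : i = i' := hxinj (by rw [← hqx ⟨i, j⟩, ← hqx ⟨i', j'⟩, h])
    subst h1
    have h2 : j = j' := hinj i h
    subst h2
    rfl
  have hqnot : ∀ k l, k ≠ l → q k ∉ A l := fun k l hkl hmem =>
    hkl (hqinj (huniq l (q k) hmem (hqv k)))
  have hAcl : ∀ k, IsClosed (A k : Set ↑(pullback f g)) := fun k => by
    haveI := hAfin k
    exact isClosed_of_isFinite_opens (pullback.snd f g) (A k)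
  have hBcl : ∀ k : (Σ i : Fin n, Fin (m i)),
      IsClosed (⋃ l ∈ {l | l ≠ k}, (A l : Set ↑(pullback f g))) := fun k =>
    Set.Finite.isClosed_biUnion (Set.toFinite _) (fun l _ => hAcl l)
  let O : (Σ i : Fin n, Fin (m i)) → (pullback f g).Opens := fun k =>
    A k ⊓ ⟨(⋃ l ∈ {l | l ≠ k}, (A l : Set ↑(pullback f g)))ᶜ, (hBcl k).isOpen_compl⟩
  have hOmem : ∀ k p, p ∈ O k ↔ p ∈ A k ∧ ∀ l, l ≠ k → p ∉ A l := by
    intro k p
    change (p ∈ A k ∧ p ∈ (⋃ l ∈ {l | l ≠ k}, (A l : Set ↑(pullback f g)))ᶜ) ↔ _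
    simp
  refine ⟨O, ?_, ?_, ?_⟩
  · intro k
    haveI := hAfin k
    refine isFinite_of_le_of_isClosed (pullback.snd f g) (A k) (O k) inf_le_left ?_
    have : (O k : Set ↑(pullback f g)) =
        (A k : Set _) ∩ (⋃ l ∈ {l | l ≠ k}, (A l : Set ↑(pullback f g)))ᶜ := rfl
    rw [this]
    exact (hAcl k).inter (isOpen_biUnion (fun l _ => (A l).isOpen)).isClosed_compl
  · intro k l hkl p hpk hpl
    exact ((hOmem l p).mp hpl).2 k hkl ((hOmem k p).mp hpk).1
  · intro p hp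
    have h1 : f (pullback.fst f g p) = y₀ := by
      rw [← Scheme.Hom.comp_apply, pullback.condition, Scheme.Hom.comp_apply, hp, hgv]
    obtain ⟨i, hi⟩ := hxsurj _ h1
    obtain ⟨j, hj⟩ := hall p i hp hi
    refine ⟨⟨i, j⟩, (hOmem _ p).mpr ⟨?_, ?_⟩⟩
    · rw [hj]; exact hqA ⟨i, j⟩
    · intro l hl; rw [hj]; exact hqnot ⟨i, j⟩ l (Ne.symm hl)

theorem local_bound {X Y : Scheme.{u}} (f : X ⟶ Y) [LocallyQuasiFinite f]
    [LocallyOfFiniteType f] [IsSeparated f] (hfin : ∀ y : Y, (f ⁻¹' {y}).Finite)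
    (w : X → ℤ) (hw : MoreMor.IsWeighting f w) (hpos : ∀ x, 0 ≤ w x) (y₀ : Y) :
    ∃ W : Set Y, IsOpen W ∧ y₀ ∈ W ∧
      ∀ y ∈ W, MoreMor.fibreIntegral f w y₀ ≤ MoreMor.fibreIntegral f w y := by
  classical
  obtain ⟨V, g, v₀, hg, hgv, K, hK, O, hOfin, hOdisj, hOcov⟩ :=
    etale_local_structure f hfin y₀
  haveI := hg
  haveI := hK
  have hpb : IsPullback (pullback.fst f g) (pullback.snd f g) f g :=
    IsPullback.of_hasPullback f g
  have hfin' : ∀ v : V, ((pullback.snd f g) ⁻¹' {v}).Finite :=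
    finite_fibre_baseChange f hfin _ _ _ hpb
  have hbc : ∀ v : V, MoreMor.fibreIntegral (pullback.snd f g) (w ∘ ⇑(pullback.fst f g)) v =
      MoreMor.fibreIntegral f w (g v) :=
    fun v => fibreIntegral_baseChange f hfin _ _ _ hpb w v
  let Φ : K → V → ℤ := fun k =>
    MoreMor.fibreIntegral ((O k).ι ≫ pullback.snd f g)
      (fun u => w (pullback.fst f g ((O k).ι u)))
  have hΦ : ∀ k, IsLocallyConstant (Φ k) := fun k => hw V g (O k) (hOfin k)
  let W₀ : Set V := ⋂ k, {v | Φ k v = Φ k v₀}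
  have hW₀ : IsOpen W₀ := isOpen_iInter_of_finite (fun k => (hΦ k).isOpen_fiber (Φ k v₀))
  have hv₀ : v₀ ∈ W₀ := Set.mem_iInter.mpr (fun k => rfl)
  refine ⟨g '' W₀, g.isOpenMap _ hW₀, ⟨v₀, hv₀, hgv⟩, ?_⟩
  rintro _ ⟨v, hv, rfl⟩
  rw [← hgv, ← hbc v₀, ← hbc v]
  have h1 := sum_fibreIntegral_opens_eq (pullback.snd f g) (w ∘ ⇑(pullback.fst f g)) O hOdisj
    v₀ (hfin' v₀) (fun p hp => hOcov p hp)
  have h2 := sum_fibreIntegral_opens_le (pullback.snd f g) (w ∘ ⇑(pullback.fst f g))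
    (fun z => hpos _) O hOdisj v (hfin' v)
  rw [← h1]
  refine le_trans (le_of_eq ?_) h2
  refine Finset.sum_congr rfl (fun k _ => ?_)
  exact (Set.mem_iInter.mp hv k).symm

theorem lsc_fibreIntegral {X Y : Scheme.{u}} (f : X ⟶ Y) [LocallyQuasiFinite f]
    [LocallyOfFiniteType f] [IsSeparated f] (hfin : ∀ y : Y, (f ⁻¹' {y}).Finite)
    (w : X → ℤ) (hw : MoreMor.IsWeighting f w) (hpos : ∀ x, 0 < w x) :
    LowerSemicontinuous (MoreMor.fibreIntegral f w) := by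
  intro y₀ c hc
  obtain ⟨W, hWo, hyW, hW⟩ := local_bound f hfin w hw (fun x => (hpos x).le) y₀
  filter_upwards [hWo.mem_nhds hyW] with y hy
  exact lt_of_lt_of_le hc (hW y hy)

end Groth.Agent.Helper18.Weighting
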