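import Mathlib
import Groth.Prelude.Def_MoreMor
import Groth.Agent.Lib.Helper18.WeightingLSC

set_option autoImplicit false

namespace Groth.Agent.Helper18.Weighting

open AlgebraicGeometry CategoryTheory Limits IsLocalRing

universe u

/-- Local constancy at a point. -/
abbrev LocConstAt {V : Type*} [TopologicalSpace V] (F : V → ℤ) (v : V) : Prop :=
  ∃ N : Set V, IsOpen N ∧ v ∈ N ∧ ∀ n ∈ N, F n = F v

lemma LocConstAt.of_openMap {V V₁ : Type*} [TopologicalSpace V] [TopologicalSpace V₁]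
    (F : V → ℤ) (α : V₁ → V) (hα : IsOpenMap α) (v₁ : V₁) (h : LocConstAt (F ∘ α) v₁) :
    LocConstAt F (α v₁) := by
  obtain ⟨N, hN, hv, hc⟩ := h
  exact ⟨α '' N, hα N hN, ⟨v₁, hv, rfl⟩, by rintro _ ⟨n, hn, rfl⟩; exact hc n hn⟩

lemma locConstAt_of_empty_fibre {U V : Scheme.{u}} (π : U ⟶ V) [IsFinite π] (t : U → ℤ) (v : V)
    (hempty : ∀ u, π u ≠ v) : LocConstAt (MoreMor.fibreIntegral π t) v := by
  have h0 : ∀ n ∈ (Set.range π)ᶜ, MoreMor.fibreIntegral π t n = 0 := by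
    intro n hn
    rw [fibreIntegral_eq]
    haveI : IsEmpty {z : U // π z = n} := ⟨fun z => hn ⟨z.1, z.2⟩⟩
    exact finsum_of_isEmpty _
  have hv : v ∈ (Set.range π)ᶜ := by
    rintro ⟨u, hu⟩
    exact hempty u hu
  refine ⟨(Set.range π)ᶜ, (π.isClosedMap.isClosed_range).isOpen_compl, hv, ?_⟩
  intro n hn
  rw [h0 n hn, h0 v hv]

lemma locConstAt_of_pieces {U V : Scheme.{u}} (π : U ⟶ V) [IsFinite π] (t : U → ℤ) (v : V)
    {K : Type*} [Fintype K] (O : K → U.Opens)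
    (hdisj : ∀ k l, k ≠ l → ∀ p, p ∈ O k → p ∈ O l → False)
    (hcov : ∀ p, π p = v → ∃ k, p ∈ O k)
    (hk : ∀ k, LocConstAt (MoreMor.fibreIntegral ((O k).ι ≫ π) (fun z => t ((O k).ι z))) v) :
    LocConstAt (MoreMor.fibreIntegral π t) v := by
  classical
  choose N hNo hNv hNc using hk
  let Z : Set U := (⋃ k, (O k : Set U))ᶜ
  have hZ : IsClosed Z := (isOpen_iUnion fun k => (O k).isOpen).isClosed_compl
  have hfin : ∀ n : V, (π ⁻¹' {n}).Finite := fun n => π.finite_preimage_singleton n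
  have hsum : ∀ n ∈ (π '' Z)ᶜ, MoreMor.fibreIntegral π t n =
      ∑ k, MoreMor.fibreIntegral ((O k).ι ≫ π) (fun z => t ((O k).ι z)) n := by
    intro n hn
    refine (sum_fibreIntegral_opens_eq π t O hdisj n (hfin n) ?_).symm
    intro p hp
    by_contra hcon
    push_neg at hcon
    refine hn ⟨p, ?_, hp⟩
    simp only [Z, Set.mem_compl_iff, Set.mem_iUnion, not_exists]
    exact hcon
  have hvZ : v ∈ (π '' Z)ᶜ := by
    rintro ⟨p, hpZ, hp⟩
    obtain ⟨k, hk⟩ := hcov p hp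
    exact hpZ (Set.mem_iUnion.mpr ⟨k, hk⟩)
  refine ⟨(π '' Z)ᶜ ∩ ⋂ k, N k, ?_, ⟨hvZ, Set.mem_iInter.mpr hNv⟩, ?_⟩
  · exact ((π.isClosedMap _ hZ).isOpen_compl).inter (isOpen_iInter_of_finite hNo)
  · rintro n ⟨hn1, hn2⟩
    rw [hsum n hn1, hsum v hvZ]
    exact Finset.sum_congr rfl fun k _ => hNc k n (Set.mem_iInter.mp hn2 k)

lemma fibreIntegral_opens_finsum {U V : Scheme.{u}} (π : U ⟶ V) (w : U → ℤ) (O : U.Opens)
    (v : V) :
    MoreMor.fibreIntegral (O.ι ≫ π) (fun z => w (O.ι z)) v =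
      ∑ᶠ p ∈ ((π ⁻¹' {v}) ∩ (O : Set U)), w p * (sdeg π p : ℤ) := by
  rw [fibreIntegral_eq]
  let E : {z : O // (O.ι ≫ π) z = v} ≃ ↥((π ⁻¹' {v}) ∩ (O : Set U)) :=
    { toFun := fun z => ⟨z.1.1, z.2, z.1.2⟩
      invFun := fun p => ⟨⟨p.1, p.2.2⟩, p.2.1⟩
      left_inv := fun z => rfl
      right_inv := fun p => rfl }
  have h1 : ∀ z : {z : O // (O.ι ≫ π) z = v},
      w (O.ι z.1) * (sdeg (O.ι ≫ π) z.1 : ℤ) =
        (fun p : ↥((π ⁻¹' {v}) ∩ (O : Set U)) => w p.1 * (sdeg π p.1 : ℤ)) (E z) := by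
    intro z
    rw [sdeg_comp_of_isOpenImmersion]
    rfl
  refine (finsum_congr h1).trans ?_
  rw [finsum_comp_equiv E
    (f := fun p : ↥((π ⁻¹' {v}) ∩ (O : Set U)) => w p.1 * (sdeg π p.1 : ℤ))]
  exact finsum_set_coe_eq_finsum_mem ((π ⁻¹' {v}) ∩ (O : Set U))
    (f := fun p => w p * (sdeg π p : ℤ))

lemma fibreIntegral_of_openImmersion {A U V : Scheme.{u}} (j : A ⟶ U) [IsOpenImmersion j]
    (π : U ⟶ V) (w : U → ℤ) (v : V) :
    MoreMor.fibreIntegral (j ≫ π) (fun a => w (j a)) v =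
      ∑ᶠ p ∈ ((π ⁻¹' {v}) ∩ Set.range j), w p * (sdeg π p : ℤ) := by
  have he : j.isoOpensRange.hom ≫ j.opensRange.ι = j := j.isoOpensRange_hom_ι
  have h1 : MoreMor.fibreIntegral (j.isoOpensRange.hom ≫ j.opensRange.ι ≫ π)
      (fun u => w (j.opensRange.ι (j.isoOpensRange.hom u))) v =
      MoreMor.fibreIntegral (j.opensRange.ι ≫ π) (fun z => w (j.opensRange.ι z)) v :=
    fibreIntegral_comp_iso j.isoOpensRange.hom (j.opensRange.ι ≫ π)
      (fun z => w (j.opensRange.ι z)) v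
  have h2 := fibreIntegral_opens_finsum π w j.opensRange v
  rw [h2] at h1
  have h3 : j.isoOpensRange.hom ≫ j.opensRange.ι ≫ π = j ≫ π := by
    rw [← Category.assoc, he]
  have h4 : (fun u => w (j.opensRange.ι (j.isoOpensRange.hom u))) = fun a => w (j a) := by
    funext a
    congr 1
    rw [← Scheme.Hom.comp_apply, he]
  rw [h3, h4] at h1
  exact h1

lemma range_of_isPullback_openImmersion {A B C D : Scheme.{u}} {j : A ⟶ B} {r : A ⟶ C}
    {c : B ⟶ D} {i : C ⟶ D} [IsOpenImmersion i] (hsq : IsPullback j r c i) :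
    Set.range j = c ⁻¹' Set.range i := by
  have h1 : hsq.isoPullback.hom ≫ pullback.fst c i = j := hsq.isoPullback_hom_fst
  rw [← h1, Scheme.Hom.comp_base, TopCat.coe_comp, Set.range_comp, Set.range_eq_univ.mpr,
    Set.image_univ, IsOpenImmersion.range_pullbackFst]
  · rfl
  · exact hsq.isoPullback.hom.homeomorph.surjective

lemma unique_point_baseChange {U V U' V' : Scheme.{u}} (π : U ⟶ V) [LocallyQuasiFinite π]
    [LocallyOfFiniteType π] (π' : U' ⟶ V') (h : U' ⟶ U) (g : V' ⟶ V)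
    (hc : IsPullback h π' π g) (v' : V')
    (hsub : ∀ z z' : U, π z = g v' → π z' = g v' → z = z')
    (hs : ∀ z : U, π z = g v' → sdeg π z = 1) :
    ∀ z z' : U', π' z = v' → π' z' = v' → z = z' := by
  haveI : LocallyQuasiFinite π' := MorphismProperty.of_isPullback hc ‹LocallyQuasiFinite π›
  haveI : LocallyOfFiniteType π' := MorphismProperty.of_isPullback hc ‹LocallyOfFiniteType π›
  obtain ⟨Ω, _, _, τ', hpt⟩ : ∃ (Ω : Type u) (_ : Field Ω) (_ : IsAlgClosed Ω)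
      (τ' : Spec (CommRingCat.of Ω) ⟶ V'), τ' (closedPoint Ω) = v' :=
    ⟨AlgebraicClosure (V'.residueField v'), inferInstance, inferInstance,
      Spec.map (CommRingCat.ofHom (algebraMap (V'.residueField v')
        (AlgebraicClosure (V'.residueField v')))) ≫ V'.fromSpecResidueField v',
      Scheme.fromSpecResidueField_apply v' _⟩
  have hgpt : (τ' ≫ g) (closedPoint Ω) = g v' := by
    rw [Scheme.Hom.comp_apply, hpt]
  have hL : Subsingleton {ū : Spec (CommRingCat.of Ω) ⟶ U // ū ≫ π = τ' ≫ g} := by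
    constructor
    intro a a'
    have hFsub : ∀ z z' : {z : U // π z = (τ' ≫ g) (closedPoint Ω)}, z = z' := by
      intro z z'
      apply Subtype.ext
      exact hsub _ _ (z.2.trans hgpt) (z'.2.trans hgpt)
    have hcard := card_liftFibre π Ω (τ' ≫ g) (liftPt π Ω (τ' ≫ g) a)
    rw [hs (liftPt π Ω (τ' ≫ g) a).1 ((liftPt π Ω (τ' ≫ g) a).2.trans hgpt)] at hcard
    haveI hsub' := (Nat.card_eq_one_iff_unique.mp hcard).1
    have e1 : (⟨a, rfl⟩ : {ū // liftPt π Ω (τ' ≫ g) ū = liftPt π Ω (τ' ≫ g) a}) =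
        ⟨a', hFsub _ _⟩ := Subsingleton.elim _ _
    exact congrArg Subtype.val e1
  haveI hL' : Subsingleton {ū' : Spec (CommRingCat.of Ω) ⟶ U' // ū' ≫ π' = τ'} :=
    (liftsPullbackEquiv hc Ω τ').subsingleton
  intro z z' hz hz'
  obtain ⟨a, ha⟩ := liftPt_surjective π' Ω τ' ⟨z, by rw [hpt]; exact hz⟩
  obtain ⟨a', ha'⟩ := liftPt_surjective π' Ω τ' ⟨z', by rw [hpt]; exact hz'⟩
  have haa : a = a' := Subsingleton.elim _ _
  subst haa
  exact congrArg Subtype.val (ha.symm.trans ha')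

lemma locConstAt_compare {X'' V' A₁ A₂ : Scheme.{u}} (s : X'' ⟶ V') (t'' : X'' → ℤ)
    (j₁ : A₁ ⟶ X'') [IsOpenImmersion j₁] (j₂ : A₂ ⟶ X'') [IsOpenImmersion j₂]
    (π₁ : A₁ ⟶ V') (h₁ : j₁ ≫ s = π₁) [IsFinite π₁]
    (π₂ : A₂ ⟶ V') (h₂ : j₂ ≫ s = π₂) [IsFinite π₂]
    (t₁ : A₁ → ℤ) (ht₁ : ∀ a, t₁ a = t'' (j₁ a)) (t₂ : A₂ → ℤ) (ht₂ : ∀ a, t₂ a = t'' (j₂ a))
    (v' : V') (h12 : ∀ a, π₁ a = v' → j₁ a ∈ Set.range j₂)
    (h21 : ∀ a, π₂ a = v' → j₂ a ∈ Set.range j₁)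
    (hG : LocConstAt (MoreMor.fibreIntegral π₂ t₂) v') :
    LocConstAt (MoreMor.fibreIntegral π₁ t₁) v' := by
  subst h₁ h₂
  obtain ⟨NG, hNGo, hNGv, hNGc⟩ := hG
  have hF : ∀ (A : Scheme.{u}) (j : A ⟶ X'') [IsOpenImmersion j] (t : A → ℤ)
      (_ : ∀ a, t a = t'' (j a)) (n : V'),
      MoreMor.fibreIntegral (j ≫ s) t n =
        ∑ᶠ p ∈ ((s ⁻¹' {n}) ∩ Set.range j), t'' p * (sdeg s p : ℤ) := by
    intro A j _ t ht n
    have : t = fun a => t'' (j a) := funext ht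
    rw [this]
    exact fibreIntegral_of_openImmersion j s t'' n
  let Z₁ : Set A₁ := j₁ ⁻¹' (Set.range j₂)ᶜ
  let Z₂ : Set A₂ := j₂ ⁻¹' (Set.range j₁)ᶜ
  have hZ₁ : IsClosed Z₁ :=
    (j₂.isOpenEmbedding.isOpen_range.isClosed_compl).preimage j₁.continuous
  have hZ₂ : IsClosed Z₂ :=
    (j₁.isOpenEmbedding.isOpen_range.isClosed_compl).preimage j₂.continuous
  have hv1 : v' ∈ ((j₁ ≫ s) '' Z₁)ᶜ := by
    rintro ⟨a, ha, hav⟩
    exact ha (h12 a hav)
  have hv2 : v' ∈ ((j₂ ≫ s) '' Z₂)ᶜ := by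
    rintro ⟨a, ha, hav⟩
    exact ha (h21 a hav)
  have heq : ∀ n, n ∈ ((j₁ ≫ s) '' Z₁)ᶜ → n ∈ ((j₂ ≫ s) '' Z₂)ᶜ →
      MoreMor.fibreIntegral (j₁ ≫ s) t₁ n = MoreMor.fibreIntegral (j₂ ≫ s) t₂ n := by
    intro n hn1 hn2
    rw [hF A₁ j₁ t₁ ht₁ n, hF A₂ j₂ t₂ ht₂ n]
    have hset : (s ⁻¹' {n}) ∩ Set.range j₁ = (s ⁻¹' {n}) ∩ Set.range j₂ := by
      ext x
      constructor
      · rintro ⟨hx, a, rfl⟩
        refine ⟨hx, ?_⟩
        by_contra hcon
        exact hn1 ⟨a, hcon, hx⟩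
      · rintro ⟨hx, a, rfl⟩
        refine ⟨hx, ?_⟩
        by_contra hcon
        exact hn2 ⟨a, hcon, hx⟩
    rw [hset]
  refine ⟨((j₁ ≫ s) '' Z₁)ᶜ ∩ ((j₂ ≫ s) '' Z₂)ᶜ ∩ NG, ?_, ⟨⟨hv1, hv2⟩, hNGv⟩, ?_⟩
  · exact ((((j₁ ≫ s).isClosedMap _ hZ₁).isOpen_compl).inter
      (((j₂ ≫ s).isClosedMap _ hZ₂).isOpen_compl)).inter hNGo
  · rintro n ⟨⟨hn1, hn2⟩, hn3⟩
    rw [heq n hn1 hn2, hNGc n hn3, ← heq v' hv1 hv2]

theorem tpiece {X Y : Scheme.{u}} (f : X ⟶ Y) (w : X → ℤ) (hw : MoreMor.IsWeighting f w)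
    {V : Scheme.{u}} (b : V ⟶ Y) [Etale b] (T : (pullback f b).Opens)
    [IsFinite (T.ι ≫ pullback.snd f b)] {V' : Scheme.{u}} (β : V' ⟶ V) :
    ∃ (XT : Scheme.{u}) (jT : XT ⟶ pullback f (β ≫ b)) (q : XT ⟶ V'),
      IsOpenImmersion jT ∧ jT ≫ pullback.snd f (β ≫ b) = q ∧ IsFinite q ∧
      Set.range jT = (EtLoc.qmap f b β) ⁻¹' (T : Set ↑(pullback f b)) ∧
      IsLocallyConstant (MoreMor.fibreIntegral q
        (fun z => w (pullback.fst f (β ≫ b) (jT z)))) ∧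
      (∀ v' : V', (∀ t t' : ↑(pullback f b), t ∈ T → t' ∈ T →
          pullback.snd f b t = β v' → pullback.snd f b t' = β v' → t = t') →
        (∀ t : ↑(pullback f b), t ∈ T → pullback.snd f b t = β v' →
          sdeg (pullback.snd f b) t = 1) →
        ∀ z z' : XT, q z = v' → q z' = v' → z = z') := by
  have hcT := IsPullback.of_hasPullback (T.ι ≫ pullback.snd f b) β
  have hcommT : (pullback.fst (T.ι ≫ pullback.snd f b) β ≫ T.ι ≫ pullback.fst f b) ≫ f =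
      pullback.snd (T.ι ≫ pullback.snd f b) β ≫ β ≫ b := by
    have h1 := hcT.w
    calc (pullback.fst (T.ι ≫ pullback.snd f b) β ≫ T.ι ≫ pullback.fst f b) ≫ f
        = pullback.fst (T.ι ≫ pullback.snd f b) β ≫ T.ι ≫ (pullback.fst f b ≫ f) := by
          simp only [Category.assoc]
      _ = pullback.fst (T.ι ≫ pullback.snd f b) β ≫ T.ι ≫ (pullback.snd f b ≫ b) := by
          rw [pullback.condition]
      _ = (pullback.fst (T.ι ≫ pullback.snd f b) β ≫ T.ι ≫ pullback.snd f b) ≫ b := by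
          simp only [Category.assoc]
      _ = (pullback.snd (T.ι ≫ pullback.snd f b) β ≫ β) ≫ b := by rw [h1]
      _ = pullback.snd (T.ι ≫ pullback.snd f b) β ≫ β ≫ b := Category.assoc _ _ _
  have hfinT : ∀ n : V, ((T.ι ≫ pullback.snd f b) ⁻¹' {n}).Finite :=
    fun n => (T.ι ≫ pullback.snd f b).finite_preimage_singleton n
  have hsq : IsPullback
      (pullback.lift (pullback.fst (T.ι ≫ pullback.snd f b) β ≫ T.ι ≫ pullback.fst f b)
        (pullback.snd (T.ι ≫ pullback.snd f b) β) hcommT)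
      (pullback.fst (T.ι ≫ pullback.snd f b) β) (EtLoc.qmap f b β) T.ι := by
    refine IsPullback.of_right ?_ ?_ (EtLoc.isPullback_qmap f b β).flip
    · rw [pullback.lift_snd]
      exact hcT.flip
    · apply pullback.hom_ext
      · rw [Category.assoc, EtLoc.qmap_fst, pullback.lift_fst, Category.assoc]
      · rw [Category.assoc, EtLoc.qmap_snd, pullback.lift_snd_assoc, Category.assoc,
          pullback.condition]
  refine ⟨pullback (T.ι ≫ pullback.snd f b) β,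
    pullback.lift (pullback.fst (T.ι ≫ pullback.snd f b) β ≫ T.ι ≫ pullback.fst f b)
      (pullback.snd (T.ι ≫ pullback.snd f b) β) hcommT,
    pullback.snd (T.ι ≫ pullback.snd f b) β, ?_, pullback.lift_snd _ _ _, inferInstance,
    ?_, ?_, ?_⟩
  · exact MorphismProperty.of_isPullback (P := @IsOpenImmersion) hsq.flip inferInstance
  · rw [range_of_isPullback_openImmersion hsq, Scheme.Opens.range_ι]
  · have hΨ : IsLocallyConstant (MoreMor.fibreIntegral (T.ι ≫ pullback.snd f b)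
        (fun z => w (pullback.fst f b (T.ι z)))) := hw V b T inferInstance
    have hG : MoreMor.fibreIntegral (pullback.snd (T.ι ≫ pullback.snd f b) β)
        (fun z => w (pullback.fst f (β ≫ b)
          (pullback.lift (pullback.fst (T.ι ≫ pullback.snd f b) β ≫ T.ι ≫ pullback.fst f b)
            (pullback.snd (T.ι ≫ pullback.snd f b) β) hcommT z))) =
        (MoreMor.fibreIntegral (T.ι ≫ pullback.snd f b)
          (fun z => w (pullback.fst f b (T.ι z)))) ∘ ⇑β := by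
      funext n
      rw [Function.comp_apply, ← fibreIntegral_baseChange (T.ι ≫ pullback.snd f b) hfinT
        (pullback.snd (T.ι ≫ pullback.snd f b) β) (pullback.fst (T.ι ≫ pullback.snd f b) β) β
        hcT (fun z => w (pullback.fst f b (T.ι z))) n]
      congr 1
      funext z
      show w _ = w _
      congr 1
      rw [← Scheme.Hom.comp_apply, pullback.lift_fst]
      rfl
    rw [hG]
    exact hΨ.comp_continuous β.continuous
  · intro v' hTu hTs
    refine unique_point_baseChange (T.ι ≫ pullback.snd f b)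
      (pullback.snd (T.ι ≫ pullback.snd f b) β) (pullback.fst (T.ι ≫ pullback.snd f b) β) β
      hcT v' ?_ ?_
    · intro z z' hz hz'
      exact Subtype.ext (hTu z.1 z'.1 z.2 z'.2 hz hz')
    · intro z hz
      rw [sdeg_comp_of_isOpenImmersion]
      exact hTs z.1 z.2 hz

theorem locConstAt_final {X Y : Scheme.{u}} (f : X ⟶ Y) (w : X → ℤ)
    (hw : MoreMor.IsWeighting f w)
    {V : Scheme.{u}} (b : V ⟶ Y) [Etale b] (T : (pullback f b).Opens)
    [IsFinite (T.ι ≫ pullback.snd f b)]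
    {V' U : Scheme.{u}} (β : V' ⟶ V) (π : U ⟶ V') [IsFinite π] (p : U ⟶ X)
    (comm : p ≫ f = π ≫ β ≫ b) [IsOpenImmersion (pullback.lift p π comm)]
    (v' : V') (u' : U) (hu' : π u' = v') (huniq : ∀ u, π u = v' → u = u')
    (c : U ⟶ pullback f b) (hc1 : c ≫ pullback.fst f b = p)
    (hc2 : c ≫ pullback.snd f b = π ≫ β)
    (hcT : c u' ∈ T)
    (hTuniq : ∀ t : ↑(pullback f b), t ∈ T → pullback.snd f b t = β v' → t = c u')
    (hTs : sdeg (pullback.snd f b) (c u') = 1) :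
    LocConstAt (MoreMor.fibreIntegral π (fun u => w (p u))) v' := by
  obtain ⟨XT, jT, q, hjT, hjTq, hqfin, hrange, hlc, huq⟩ := tpiece f w hw b T β
  haveI := hjT
  haveI := hqfin
  have hjUc : pullback.lift p π comm ≫ EtLoc.qmap f b β = c := by
    apply pullback.hom_ext
    · rw [Category.assoc, EtLoc.qmap_fst, pullback.lift_fst, hc1]
    · rw [Category.assoc, EtLoc.qmap_snd, pullback.lift_snd_assoc, hc2]
  have hmem : pullback.lift p π comm u' ∈ Set.range jT := by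
    rw [hrange]
    show EtLoc.qmap f b β (pullback.lift p π comm u') ∈ (T : Set ↑(pullback f b))
    rw [← Scheme.Hom.comp_apply, hjUc]
    exact hcT
  refine locConstAt_compare (pullback.snd f (β ≫ b)) (fun x => w (pullback.fst f (β ≫ b) x))
    (pullback.lift p π comm) jT π (pullback.lift_snd _ _ _) q hjTq
    (fun u => w (p u)) ?_ (fun z => w (pullback.fst f (β ≫ b) (jT z))) (fun _ => rfl) v' ?_ ?_
    ((IsLocallyConstant.iff_exists_open _).mp hlc v')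
  · intro a
    show w _ = w _
    congr 1
    rw [← Scheme.Hom.comp_apply, pullback.lift_fst]
  · intro a ha
    rw [huniq a ha]
    exact hmem
  · intro z hz
    obtain ⟨z', hz'⟩ := hmem
    have hqz' : q z' = v' := by
      rw [← hjTq, Scheme.Hom.comp_apply, hz', ← Scheme.Hom.comp_apply, pullback.lift_snd, hu']
    have hzz : z = z' := by
      refine huq v' ?_ ?_ z z' hz hqz'
      · intro t t' ht ht' h1 h2
        rw [hTuniq t ht h1, hTuniq t' ht' h2]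
      · intro t ht h1
        rw [hTuniq t ht h1]
        exact hTs
    rw [hzz, hz']
    exact ⟨u', rfl⟩

lemma adm_baseChange {X Y V' U' V₁ : Scheme.{u}} (f : X ⟶ Y) (γ : V' ⟶ Y) (π' : U' ⟶ V')
    (p : U' ⟶ X) (comm : p ≫ f = π' ≫ γ) [IsOpenImmersion (pullback.lift p π' comm)]
    (α : V₁ ⟶ V') (comm1 : (pullback.fst π' α ≫ p) ≫ f = pullback.snd π' α ≫ α ≫ γ) :
    IsOpenImmersion (pullback.lift (pullback.fst π' α ≫ p) (pullback.snd π' α) comm1) := by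
  have hsq : IsPullback (pullback.lift (pullback.fst π' α ≫ p) (pullback.snd π' α) comm1)
      (pullback.fst π' α) (EtLoc.qmap f γ α) (pullback.lift p π' comm) := by
    refine IsPullback.of_right ?_ ?_ (EtLoc.isPullback_qmap f γ α).flip
    · rw [pullback.lift_snd, pullback.lift_snd]
      exact (IsPullback.of_hasPullback π' α).flip
    · apply pullback.hom_ext
      · rw [Category.assoc, EtLoc.qmap_fst, pullback.lift_fst, Category.assoc,
          pullback.lift_fst]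
      · rw [Category.assoc, EtLoc.qmap_snd, pullback.lift_snd_assoc, Category.assoc,
          pullback.lift_snd, pullback.condition]
  exact MorphismProperty.of_isPullback (P := @IsOpenImmersion) hsq.flip inferInstance

lemma adm_congr {X Y V' U' : Scheme.{u}} (f : X ⟶ Y) {γ γ' : V' ⟶ Y} (hγ : γ = γ')
    (π' : U' ⟶ V') (p : U' ⟶ X) (comm : p ≫ f = π' ≫ γ)
    [IsOpenImmersion (pullback.lift p π' comm)] (comm' : p ≫ f = π' ≫ γ') :
    IsOpenImmersion (pullback.lift p π' comm') := by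
  subst hγ
  infer_instance

lemma adm_restrict {X Y V' U' : Scheme.{u}} (f : X ⟶ Y) (γ : V' ⟶ Y)
    (π' : U' ⟶ V') (p : U' ⟶ X) (comm : p ≫ f = π' ≫ γ)
    [IsOpenImmersion (pullback.lift p π' comm)] (O : U'.Opens)
    (comm' : (O.ι ≫ p) ≫ f = (O.ι ≫ π') ≫ γ) :
    IsOpenImmersion (pullback.lift (O.ι ≫ p) (O.ι ≫ π') comm') := by
  have : pullback.lift (O.ι ≫ p) (O.ι ≫ π') comm' = O.ι ≫ pullback.lift p π' comm := by
    apply pullback.hom_ext
    · rw [pullback.lift_fst, Category.assoc, pullback.lift_fst]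
    · rw [pullback.lift_snd, Category.assoc, pullback.lift_snd]
  rw [this]
  infer_instance

theorem etale_local_structure' {X Y : Scheme.{u}} (f : X ⟶ Y) [LocallyQuasiFinite f]
    [LocallyOfFiniteType f] [IsSeparated f] (hfin : ∀ y : Y, (f ⁻¹' {y}).Finite) (y₀ : Y) :
    ∃ (V : Scheme.{u}) (g : V ⟶ Y) (v₀ : V), Etale g ∧ g v₀ = y₀ ∧
      ∃ (K : Type) (_ : Fintype K) (O : K → (pullback f g).Opens),
        (∀ k, IsFinite ((O k).ι ≫ pullback.snd f g)) ∧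
        (∀ k l, k ≠ l → ∀ p, p ∈ O k → p ∈ O l → False) ∧
        (∀ p : ↑(pullback f g), pullback.snd f g p = v₀ → ∃ k, p ∈ O k) ∧
        (∀ k (p p' : ↑(pullback f g)), p ∈ O k → p' ∈ O k → pullback.snd f g p = v₀ →
          pullback.snd f g p' = v₀ → p = p') := by
  classical
  haveI : Finite {x : X // f x = y₀} := (hfin y₀).to_subtype
  obtain ⟨n, ⟨e⟩⟩ := Finite.exists_equiv_fin {x : X // f x = y₀}
  let x : Fin n → X := fun i => (e.symm i).1
  have hx : ∀ i, f (x i) = y₀ := fun i => (e.symm i).2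
  have hxinj : Function.Injective x := fun i i' h => e.symm.injective (Subtype.ext h)
  have hxsurj : ∀ z : X, f z = y₀ → ∃ i, z = x i := fun z hz => ⟨e ⟨z, hz⟩, by simp [x]⟩
  obtain ⟨V, g, v₀, hg, hgv, m, O₀, pt, hprop, hinj, hall⟩ :=
    EtLoc.pi_core f y₀ x hx (fun i => f.quasiFiniteAt (x i))
  haveI := hg
  refine ⟨V, g, v₀, hg, hgv, (Σ i : Fin n, Fin (m i)), inferInstance, ?_⟩
  let A : (Σ i : Fin n, Fin (m i)) → (pullback f g).Opens := fun k => O₀ k.1 k.2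
  let q : (Σ i : Fin n, Fin (m i)) → ↑(pullback f g) := fun k => pt k.1 k.2
  have hqA : ∀ k, q k ∈ A k := fun k => (hprop k.1 k.2).1
  have hAfin : ∀ k, IsFinite ((A k).ι ≫ pullback.snd f g) := fun k => (hprop k.1 k.2).2.1
  have hqv : ∀ k, pullback.snd f g (q k) = v₀ := fun k => (hprop k.1 k.2).2.2.1
  have huniq : ∀ k (p : ↑(pullback f g)), p ∈ A k → pullback.snd f g p = v₀ → p = q k :=
    fun k => (hprop k.1 k.2).2.2.2.1
  have hqx : ∀ k, pullback.fst f g (q k) = x k.1 := fun k => (hprop k.1 k.2).2.2.2.2.2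
  have hqinj : Function.Injective q := by
    rintro ⟨i, j⟩ ⟨i', j'⟩ h
    have h1 : i = i' := hxinj (by rw [← hqx ⟨i, j⟩, ← hqx ⟨i', j'⟩, h])
    subst h1
    have h2 : j = j' := hinj i h
    subst h2
    rfl
  have hqnot : ∀ k l, k ≠ l → q k ∉ A l := fun k l hkl hmem =>
    hkl (hqinj (huniq l (q k) hmem (hqv k)))
  have hAcl : ∀ k, IsClosed (A k : Set ↑(pullback f g)) := fun k => by
    haveI := hAfin k
    exact isClosed_of_isFinite_opens (pullback.snd f g) (A k)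
  have hBcl : ∀ k : (Σ i : Fin n, Fin (m i)),
      IsClosed (⋃ l ∈ {l | l ≠ k}, (A l : Set ↑(pullback f g))) := fun k =>
    Set.Finite.isClosed_biUnion (Set.toFinite _) (fun l _ => hAcl l)
  let O : (Σ i : Fin n, Fin (m i)) → (pullback f g).Opens := fun k =>
    A k ⊓ ⟨(⋃ l ∈ {l | l ≠ k}, (A l : Set ↑(pullback f g)))ᶜ, (hBcl k).isOpen_compl⟩
  have hOmem : ∀ k p, p ∈ O k ↔ p ∈ A k ∧ ∀ l, l ≠ k → p ∉ A l := by
    intro k p
    change (p ∈ A k ∧ p ∈ (⋃ l ∈ {l | l ≠ k}, (A l : Set ↑(pullback f g)))ᶜ) ↔ _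
    simp
  refine ⟨O, ?_, ?_, ?_, ?_⟩
  · intro k
    haveI := hAfin k
    refine isFinite_of_le_of_isClosed (pullback.snd f g) (A k) (O k) inf_le_left ?_
    have : (O k : Set ↑(pullback f g)) =
        (A k : Set _) ∩ (⋃ l ∈ {l | l ≠ k}, (A l : Set ↑(pullback f g)))ᶜ := rfl
    rw [this]
    exact (hAcl k).inter (isOpen_biUnion (fun l _ => (A l).isOpen)).isClosed_compl
  · intro k l hkl p hpk hpl
    exact ((hOmem l p).mp hpl).2 k hkl ((hOmem k p).mp hpk).1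
  · intro p hp
    have h1 : f (pullback.fst f g p) = y₀ := by
      rw [← Scheme.Hom.comp_apply, pullback.condition, Scheme.Hom.comp_apply, hp, hgv]
    obtain ⟨i, hi⟩ := hxsurj _ h1
    obtain ⟨j, hj⟩ := hall p i hp hi
    refine ⟨⟨i, j⟩, (hOmem _ p).mpr ⟨?_, ?_⟩⟩
    · rw [hj]; exact hqA ⟨i, j⟩
    · intro l hl; rw [hj]; exact hqnot ⟨i, j⟩ l (Ne.symm hl)
  · intro k p p' hp hp' hpv hpv'
    rw [huniq k p ((hOmem k p).mp hp).1 hpv, huniq k p' ((hOmem k p').mp hp').1 hpv']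

lemma locConstAt_of_baseChange {U' V' V₁ : Scheme.{u}} (π' : U' ⟶ V') [IsFinite π']
    (t : U' → ℤ) (α : V₁ ⟶ V') (hα : IsOpenMap α) (v₁ : V₁)
    (h : LocConstAt (MoreMor.fibreIntegral (pullback.snd π' α)
      (fun u => t (pullback.fst π' α u))) v₁) :
    LocConstAt (MoreMor.fibreIntegral π' t) (α v₁) := by
  apply LocConstAt.of_openMap _ _ hα v₁
  have hfinπ : ∀ n, (π' ⁻¹' {n}).Finite := fun n => π'.finite_preimage_singleton n
  have hF1 : (MoreMor.fibreIntegral π' t) ∘ ⇑α =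
      MoreMor.fibreIntegral (pullback.snd π' α) (fun u => t (pullback.fst π' α u)) := by
    funext n
    exact (fibreIntegral_baseChange π' hfinπ (pullback.snd π' α)
      (pullback.fst π' α) α (IsPullback.of_hasPullback π' α) t n).symm
  rw [hF1]
  exact h

theorem locConst_layer2 {X Y : Scheme.{u}} (f : X ⟶ Y) (w : X → ℤ)
    (hw : MoreMor.IsWeighting f w) {V : Scheme.{u}} (b : V ⟶ Y) [Etale b] (v : V)
    {r : ℕ} (x : Fin r → X) (m : Fin r → ℕ) (T : ∀ i, Fin (m i) → (pullback f b).Opens)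
    (tpt : ∀ i, Fin (m i) → ↑(pullback f b))
    (hT1 : ∀ i j, tpt i j ∈ T i j)
    (hT2 : ∀ i j, IsFinite ((T i j).ι ≫ pullback.snd f b))
    (hT3 : ∀ i j, ∀ t : ↑(pullback f b), t ∈ T i j → pullback.snd f b t = v → t = tpt i j)
    (hT4 : ∀ i j, sdeg (pullback.snd f b) (tpt i j) = 1)
    (hall : ∀ (t : ↑(pullback f b)) (i : Fin r), pullback.snd f b t = v →
      pullback.fst f b t = x i → ∃ j, t = tpt i j)
    {V₂ U₂ : Scheme.{u}} (β₂ : V₂ ⟶ V) (π₂ : U₂ ⟶ V₂) [IsFinite π₂] (p₂ : U₂ ⟶ X)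
    (comm : p₂ ≫ f = π₂ ≫ β₂ ≫ b) [IsOpenImmersion (pullback.lift p₂ π₂ comm)]
    (v₂ : V₂) (hv₂ : β₂ v₂ = v) (hx : ∀ u, π₂ u = v₂ → ∃ i, p₂ u = x i) :
    LocConstAt (MoreMor.fibreIntegral π₂ (fun u => w (p₂ u))) v₂ := by
  classical
  obtain ⟨V₃, α₃, v₃, hα₃, hα₃v, K, hK, O, hOfin, hOdisj, hOcov, hOuniq⟩ :=
    etale_local_structure' π₂ (fun n => π₂.finite_preimage_singleton n) v₂
  haveI := hα₃
  rw [← hα₃v]
  apply locConstAt_of_baseChange π₂ (fun u => w (p₂ u)) α₃ α₃.isOpenMap v₃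
  have comm2 : (pullback.fst π₂ α₃ ≫ p₂) ≫ f = pullback.snd π₂ α₃ ≫ α₃ ≫ β₂ ≫ b := by
    rw [Category.assoc, comm, ← Category.assoc, pullback.condition, Category.assoc]
  haveI hopen2 := adm_baseChange f (β₂ ≫ b) π₂ p₂ comm α₃ comm2
  apply locConstAt_of_pieces (pullback.snd π₂ α₃) _ v₃ O hOdisj hOcov
  intro k
  haveI := hOfin k
  by_cases hne : ∃ u, u ∈ O k ∧ pullback.snd π₂ α₃ u = v₃
  swap
  · apply locConstAt_of_empty_fibre
    rintro ⟨u, hu⟩ huv
    exact hne ⟨u, hu, huv⟩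
  obtain ⟨u₀, hu₀O, hu₀v⟩ := hne
  have hγ2 : α₃ ≫ β₂ ≫ b = (α₃ ≫ β₂) ≫ b := (Category.assoc _ _ _).symm
  have comm3 : ((O k).ι ≫ pullback.fst π₂ α₃ ≫ p₂) ≫ f =
      ((O k).ι ≫ pullback.snd π₂ α₃) ≫ α₃ ≫ β₂ ≫ b := by
    rw [Category.assoc, comm2, Category.assoc]
  have comm4 : ((O k).ι ≫ pullback.fst π₂ α₃ ≫ p₂) ≫ f =
      ((O k).ι ≫ pullback.snd π₂ α₃) ≫ (α₃ ≫ β₂) ≫ b := by
    rw [comm3, hγ2]
  haveI hopen3 := adm_restrict f (α₃ ≫ β₂ ≫ b) (pullback.snd π₂ α₃)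
    (pullback.fst π₂ α₃ ≫ p₂) comm2 (O k) comm3
  haveI hopen4 := adm_congr f hγ2 ((O k).ι ≫ pullback.snd π₂ α₃)
    ((O k).ι ≫ pullback.fst π₂ α₃ ≫ p₂) comm3 comm4
  have hû : π₂ (pullback.fst π₂ α₃ u₀) = v₂ := by
    rw [← Scheme.Hom.comp_apply, pullback.condition, Scheme.Hom.comp_apply, hu₀v, hα₃v]
  obtain ⟨i, hi⟩ := hx _ hû
  let c : (O k : Scheme) ⟶ pullback f b :=
    pullback.lift ((O k).ι ≫ pullback.fst π₂ α₃ ≫ p₂)
      (((O k).ι ≫ pullback.snd π₂ α₃) ≫ α₃ ≫ β₂) (by rw [comm4]; simp only [Category.assoc])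
  have hc1 : c ≫ pullback.fst f b = (O k).ι ≫ pullback.fst π₂ α₃ ≫ p₂ :=
    pullback.lift_fst _ _ _
  have hc2 : c ≫ pullback.snd f b = ((O k).ι ≫ pullback.snd π₂ α₃) ≫ α₃ ≫ β₂ :=
    pullback.lift_snd _ _ _
  have hcsnd : pullback.snd f b (c ⟨u₀, hu₀O⟩) = v := by
    rw [← Scheme.Hom.comp_apply, hc2]
    show β₂ (α₃ (pullback.snd π₂ α₃ u₀)) = v
    rw [hu₀v, hα₃v, hv₂]
  have hcfst : pullback.fst f b (c ⟨u₀, hu₀O⟩) = x i := by
    rw [← Scheme.Hom.comp_apply, hc1, ← hi]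
    rfl
  obtain ⟨j, hj⟩ := hall _ i hcsnd hcfst
  haveI : IsFinite ((T i j).ι ≫ pullback.snd f b) := hT2 i j
  have hβv₃ : (α₃ ≫ β₂) v₃ = v := by
    rw [Scheme.Hom.comp_apply, hα₃v, hv₂]
  refine locConstAt_final f w hw b (T i j) (α₃ ≫ β₂) ((O k).ι ≫ pullback.snd π₂ α₃)
    ((O k).ι ≫ pullback.fst π₂ α₃ ≫ p₂) comm4 v₃ ⟨u₀, hu₀O⟩ hu₀v ?_ c hc1 hc2 ?_ ?_ ?_
  · intro u hu
    apply Subtype.ext
    exact hOuniq k u.1 u₀ u.2 hu₀O hu hu₀v
  · rw [hj]
    exact hT1 i j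
  · intro t ht htv
    rw [hj]
    exact hT3 i j t ht (htv.trans hβv₃)
  · rw [hj]
    exact hT4 i j

theorem locConst_of_adm {X Y : Scheme.{u}} (f : X ⟶ Y) [LocallyQuasiFinite f]
    [LocallyOfFiniteType f] (w : X → ℤ) (hw : MoreMor.IsWeighting f w)
    {V' U' : Scheme.{u}} (γ : V' ⟶ Y) (π' : U' ⟶ V') [IsFinite π'] (p : U' ⟶ X)
    (comm : p ≫ f = π' ≫ γ) [IsOpenImmersion (pullback.lift p π' comm)] (v' : V') :
    LocConstAt (MoreMor.fibreIntegral π' (fun u => w (p u))) v' := by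
  classical
  have hfinπ : ∀ n, (π' ⁻¹' {n}).Finite := fun n => π'.finite_preimage_singleton n
  haveI : Finite {u : U' // π' u = v'} := (hfinπ v').to_subtype
  obtain ⟨r, ⟨e⟩⟩ := Finite.exists_equiv_fin {u : U' // π' u = v'}
  let x : Fin r → X := fun i => p (e.symm i).1
  have hx : ∀ i, f (x i) = γ v' := fun i => by
    show f (p (e.symm i).1) = γ v'
    rw [← Scheme.Hom.comp_apply, comm, Scheme.Hom.comp_apply, (e.symm i).2]
  have hxsurj : ∀ u : U', π' u = v' → ∃ i, p u = x i := fun u hu => ⟨e ⟨u, hu⟩, by simp [x]⟩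
  obtain ⟨V, b, v, hb, hbv, m, T, tpt, hprop, hinj, hall⟩ :=
    EtLoc.pi_core f (γ v') x hx (fun i => f.quasiFiniteAt (x i))
  haveI := hb
  obtain ⟨v'', hv''1, hv''2⟩ :=
    Scheme.Pullback.exists_preimage_pullback (f := γ) (g := b) v' v hbv.symm
  rw [← hv''1]
  apply locConstAt_of_baseChange π' (fun u => w (p u)) (pullback.fst γ b)
    (pullback.fst γ b).isOpenMap v''
  have comm1 : (pullback.fst π' (pullback.fst γ b) ≫ p) ≫ f =
      pullback.snd π' (pullback.fst γ b) ≫ pullback.fst γ b ≫ γ := by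
    rw [Category.assoc, comm, ← Category.assoc, pullback.condition, Category.assoc]
  haveI hopen1 := adm_baseChange f γ π' p comm (pullback.fst γ b) comm1
  have hγ : pullback.fst γ b ≫ γ = pullback.snd γ b ≫ b := pullback.condition
  have comm1' : (pullback.fst π' (pullback.fst γ b) ≫ p) ≫ f =
      pullback.snd π' (pullback.fst γ b) ≫ pullback.snd γ b ≫ b := by
    rw [comm1, hγ]
  haveI hopen1' := adm_congr f hγ (pullback.snd π' (pullback.fst γ b))
    (pullback.fst π' (pullback.fst γ b) ≫ p) comm1 comm1'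
  refine locConst_layer2 f w hw b v x m T tpt (fun i j => (hprop i j).1)
    (fun i j => (hprop i j).2.1) (fun i j => (hprop i j).2.2.2.1)
    (fun i j => sdeg_eq_one _ _ (hprop i j).2.2.2.2.1.2) hall
    (pullback.snd γ b) (pullback.snd π' (pullback.fst γ b))
    (pullback.fst π' (pullback.fst γ b) ≫ p) comm1' v'' hv''2 ?_
  intro u hu
  have hu' : π' (pullback.fst π' (pullback.fst γ b) u) = v' := by
    rw [← Scheme.Hom.comp_apply, pullback.condition, Scheme.Hom.comp_apply, hu, hv''1]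
  exact hxsurj _ hu'

/-- Base change of weightings (S1419). -/
theorem weighting_baseChange {X Y : Scheme.{u}} (f : X ⟶ Y) [LocallyQuasiFinite f]
    [LocallyOfFiniteType f] (w : X → ℤ) (hw : MoreMor.IsWeighting f w)
    {X' Y' : Scheme.{u}} (f' : X' ⟶ Y') (h : X' ⟶ X) (g : Y' ⟶ Y) (hc : IsPullback h f' f g) :
    MoreMor.IsWeighting f' (w ∘ ⇑h) := by
  intro V' a _ U' hU'
  haveI := hU'
  rw [IsLocallyConstant.iff_exists_open]
  intro v'
  have hbig : IsPullback (pullback.fst f' a ≫ h) (pullback.snd f' a) f (a ≫ g) :=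
    (IsPullback.of_hasPullback f' a).paste_horiz hc
  have comm : (U'.ι ≫ pullback.fst f' a ≫ h) ≫ f = (U'.ι ≫ pullback.snd f' a) ≫ a ≫ g := by
    rw [Category.assoc, hbig.w, Category.assoc]
  haveI : IsOpenImmersion (pullback.lift (U'.ι ≫ pullback.fst f' a ≫ h)
      (U'.ι ≫ pullback.snd f' a) comm) := by
    have : pullback.lift (U'.ι ≫ pullback.fst f' a ≫ h) (U'.ι ≫ pullback.snd f' a) comm =
        U'.ι ≫ hbig.isoPullback.hom := by
      apply pullback.hom_ext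
      · rw [pullback.lift_fst, Category.assoc, hbig.isoPullback_hom_fst]
      · rw [pullback.lift_snd, Category.assoc, hbig.isoPullback_hom_snd]
    rw [this]
    infer_instance
  exact locConst_of_adm f w hw (a ≫ g) (U'.ι ≫ pullback.snd f' a)
    (U'.ι ≫ pullback.fst f' a ≫ h) comm v'

theorem isOpenMap_of_pos_weighting {X Y : Scheme.{u}} (f : X ⟶ Y) [LocallyQuasiFinite f]
    [LocallyOfFiniteType f] (w : X → ℤ) (hw : MoreMor.IsWeighting f w) (hpos : ∀ x, 0 < w x) :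
    IsOpenMap f := by
  intro U hU
  rw [isOpen_iff_forall_mem_open]
  rintro _ ⟨x, hxU, rfl⟩
  let X₀ : X.Opens := ⟨U, hU⟩
  have hw₀ := weighting_restrict f w hw X₀
  obtain ⟨V, b, v, hb, hbv, m, T, tpt, hprop, hinj, hall⟩ :=
    EtLoc.pi_core (X₀.ι ≫ f) (f x) (fun _ : Unit => (⟨x, hxU⟩ : X₀)) (fun _ => rfl)
      (fun _ => (X₀.ι ≫ f).quasiFiniteAt _)
  haveI := hb
  obtain ⟨t₀, ht₀1, ht₀2⟩ :=
    Scheme.Pullback.exists_preimage_pullback (f := X₀.ι ≫ f) (g := b) (⟨x, hxU⟩ : X₀) v hbv.symm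
  obtain ⟨j, hj⟩ := hall t₀ () ht₀2 ht₀1
  haveI : IsFinite ((T () j).ι ≫ pullback.snd (X₀.ι ≫ f) b) := (hprop () j).2.1
  have hΨ := hw₀ V b (T () j) (hprop () j).2.1
  have ht₀T : t₀ ∈ T () j := by rw [hj]; exact (hprop () j).1
  have hfinT : ∀ n : V, (((T () j).ι ≫ pullback.snd (X₀.ι ≫ f) b) ⁻¹' {n}).Finite :=
    fun n => ((T () j).ι ≫ pullback.snd (X₀.ι ≫ f) b).finite_preimage_singleton n
  have hpos0 : 0 < MoreMor.fibreIntegral ((T () j).ι ≫ pullback.snd (X₀.ι ≫ f) b)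
      (fun u => w (X₀.ι (pullback.fst (X₀.ι ≫ f) b ((T () j).ι u)))) v := by
    have h1 := term_le_fibreIntegral ((T () j).ι ≫ pullback.snd (X₀.ι ≫ f) b)
      (fun u => w (X₀.ι (pullback.fst (X₀.ι ≫ f) b ((T () j).ι u))))
      (fun z => (hpos _).le) v (hfinT v) ⟨t₀, ht₀T⟩ ht₀2
    have h2 := one_le_sdeg ((T () j).ι ≫ pullback.snd (X₀.ι ≫ f) b) ⟨t₀, ht₀T⟩
    have h3 := hpos (X₀.ι (pullback.fst (X₀.ι ≫ f) b ((T () j).ι ⟨t₀, ht₀T⟩)))
    have h4 : (0 : ℤ) < w (X₀.ι (pullback.fst (X₀.ι ≫ f) b ((T () j).ι ⟨t₀, ht₀T⟩))) *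
        (sdeg ((T () j).ι ≫ pullback.snd (X₀.ι ≫ f) b) ⟨t₀, ht₀T⟩ : ℤ) := by positivity
    exact lt_of_lt_of_le h4 h1
  refine ⟨b '' {n | MoreMor.fibreIntegral ((T () j).ι ≫ pullback.snd (X₀.ι ≫ f) b)
      (fun u => w (X₀.ι (pullback.fst (X₀.ι ≫ f) b ((T () j).ι u)))) n =
      MoreMor.fibreIntegral ((T () j).ι ≫ pullback.snd (X₀.ι ≫ f) b)
      (fun u => w (X₀.ι (pullback.fst (X₀.ι ≫ f) b ((T () j).ι u)))) v}, ?_,
    b.isOpenMap _ (hΨ.isOpen_fiber _), ⟨v, rfl, hbv⟩⟩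
  rintro _ ⟨n, hn, rfl⟩
  have hn' : 0 < MoreMor.fibreIntegral ((T () j).ι ≫ pullback.snd (X₀.ι ≫ f) b)
      (fun u => w (X₀.ι (pullback.fst (X₀.ι ≫ f) b ((T () j).ι u)))) n := by
    rw [hn]; exact hpos0
  have hex : ∃ z : (T () j : Scheme), ((T () j).ι ≫ pullback.snd (X₀.ι ≫ f) b) z = n := by
    by_contra hcon
    push_neg at hcon
    rw [fibreIntegral_eq] at hn'
    haveI : IsEmpty {z : (T () j : Scheme) //
        ((T () j).ι ≫ pullback.snd (X₀.ι ≫ f) b) z = n} := ⟨fun z => hcon z.1 z.2⟩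
    rw [finsum_of_isEmpty] at hn'
    exact lt_irrefl _ hn'
  obtain ⟨z, hz⟩ := hex
  refine ⟨X₀.ι (pullback.fst (X₀.ι ≫ f) b ((T () j).ι z)), ?_, ?_⟩
  · exact (pullback.fst (X₀.ι ≫ f) b ((T () j).ι z)).2
  · rw [← hz]
    show (X₀.ι ≫ f) (pullback.fst (X₀.ι ≫ f) b ((T () j).ι z)) = _
    rw [← Scheme.Hom.comp_apply, pullback.condition]
    rfl

/-- A positive weighting makes the morphism universally open (S1420). -/
theorem universallyOpen_of_pos_weighting {X Y : Scheme.{u}} (f : X ⟶ Y)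
    [LocallyQuasiFinite f] [LocallyOfFiniteType f] (w : X → ℤ)
    (hw : MoreMor.IsWeighting f w) (hpos : ∀ x, 0 < w x) : UniversallyOpen f := by
  constructor
  intro X' Y' i₁ i₂ f' H
  haveI : LocallyQuasiFinite f' := MorphismProperty.of_isPullback H.flip ‹LocallyQuasiFinite f›
  haveI : LocallyOfFiniteType f' :=
    MorphismProperty.of_isPullback H.flip ‹LocallyOfFiniteType f›
  exact isOpenMap_of_pos_weighting f' (w ∘ ⇑i₁)
    (weighting_baseChange f w hw f' i₁ i₂ H.flip) (fun x => hpos _)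

end Groth.Agent.Helper18.Weighting
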