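import Mathlib
import Groth.Prelude.Def_MoreMor
import Groth.Agent.Lib.Helper18.WeightingBC
import Groth.Agent.Lib.Helper18.ConsTop

set_option autoImplicit false

namespace Groth.Agent.Helper18.Weighting

open AlgebraicGeometry CategoryTheory Limits IsLocalRing Topology

universe u

/-- At most one geometric point over `t`. -/
def UniGeo {U V : Scheme.{u}} (π : U ⟶ V) (t : V) : Prop :=
  ∀ (Ω : Type u) [Field Ω] [IsAlgClosed Ω] (τ : Spec (CommRingCat.of Ω) ⟶ V),
    τ (closedPoint Ω) = t → Subsingleton {ū : Spec (CommRingCat.of Ω) ⟶ U // ū ≫ π = τ}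

lemma UniGeo.unique {U V : Scheme.{u}} (π : U ⟶ V) [LocallyOfFiniteType π]
    [LocallyQuasiFinite π] {t : V} (h : UniGeo π t) :
    (∀ s s' : U, π s = t → π s' = t → s = s') ∧ ∀ s : U, π s = t → sdeg π s = 1 := by
  obtain ⟨Ω, _, _, τ, hpt⟩ : ∃ (Ω : Type u) (_ : Field Ω) (_ : IsAlgClosed Ω)
      (τ : Spec (CommRingCat.of Ω) ⟶ V), τ (closedPoint Ω) = t :=
    ⟨AlgebraicClosure (V.residueField t), inferInstance, inferInstance,
      Spec.map (CommRingCat.ofHom (algebraMap (V.residueField t)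
        (AlgebraicClosure (V.residueField t)))) ≫ V.fromSpecResidueField t,
      Scheme.fromSpecResidueField_apply t _⟩
  haveI := h Ω τ hpt
  constructor
  · intro s s' hs hs'
    obtain ⟨a, ha⟩ := liftPt_surjective π Ω τ ⟨s, by rw [hpt]; exact hs⟩
    obtain ⟨a', ha'⟩ := liftPt_surjective π Ω τ ⟨s', by rw [hpt]; exact hs'⟩
    have haa : a = a' := Subsingleton.elim _ _
    subst haa
    exact congrArg Subtype.val (ha.symm.trans ha')
  · intro s hs
    have hcard := card_liftFibre π Ω τ ⟨s, by rw [hpt]; exact hs⟩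
    have h1 := one_le_sdeg π s
    have hne : Nat.card {ū : {ū : Spec (CommRingCat.of Ω) ⟶ U // ū ≫ π = τ} //
        liftPt π Ω τ ū = ⟨s, by rw [hpt]; exact hs⟩} ≠ 0 := by
      rw [hcard]; exact Nat.one_le_iff_ne_zero.mp h1
    obtain ⟨⟨a⟩, _⟩ := Nat.card_ne_zero.mp hne
    rw [Nat.card_of_subsingleton a] at hcard
    exact hcard.symm

lemma uniGeo_baseChange {U V U' V' : Scheme.{u}} (π : U ⟶ V) [LocallyQuasiFinite π]
    [LocallyOfFiniteType π] (π' : U' ⟶ V') (h : U' ⟶ U) (g : V' ⟶ V)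
    (hc : IsPullback h π' π g) (v' : V')
    (hsub : ∀ z z' : U, π z = g v' → π z' = g v' → z = z')
    (hs : ∀ z : U, π z = g v' → sdeg π z = 1) : UniGeo π' v' := by
  intro Ω _ _ τ' hpt
  have hgpt : (τ' ≫ g) (closedPoint Ω) = g v' := by
    rw [Scheme.Hom.comp_apply, hpt]
  have hL : Subsingleton {ū : Spec (CommRingCat.of Ω) ⟶ U // ū ≫ π = τ' ≫ g} := by
    constructor
    intro a a'
    have hFsub : ∀ z z' : {z : U // π z = (τ' ≫ g) (closedPoint Ω)}, z = z' := by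
      intro z z'
      apply Subtype.ext
      exact hsub _ _ (z.2.trans hgpt) (z'.2.trans hgpt)
    have hcard := card_liftFibre π Ω (τ' ≫ g) (liftPt π Ω (τ' ≫ g) a)
    rw [hs (liftPt π Ω (τ' ≫ g) a).1 ((liftPt π Ω (τ' ≫ g) a).2.trans hgpt)] at hcard
    haveI hsub' := (Nat.card_eq_one_iff_unique.mp hcard).1
    have e1 : (⟨a, rfl⟩ : {ū // liftPt π Ω (τ' ≫ g) ū = liftPt π Ω (τ' ≫ g) a}) =
        ⟨a', hFsub _ _⟩ := Subsingleton.elim _ _
    exact congrArg Subtype.val e1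
  exact (liftsPullbackEquiv hc Ω τ').subsingleton

/-- The open subset of `U ×_V U` where some function from `G` separates the two factors. -/
def Dset {U V : Scheme.{u}} (π : U ⟶ V) (G : Finset Γ(U, ⊤)) : Set ↑(pullback π π) :=
  ⋃ b ∈ G, ((pullback π π).basicOpen
    ((pullback.fst π π).appTop.hom b - (pullback.snd π π).appTop.hom b) : Set ↑(pullback π π))

lemma isConstructible_Dset {U V : Scheme.{u}} [IsAffine U] [IsAffine V] (π : U ⟶ V)
    (G : Finset Γ(U, ⊤)) : IsConstructible (Dset π G) := by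
  unfold Dset
  refine IsConstructible.biUnion G.finite_toSet (fun b _ => ?_)
  have hc : IsCompact ((pullback π π).basicOpen
      ((pullback.fst π π).appTop.hom b - (pullback.snd π π).appTop.hom b) : Set ↑(pullback π π)) :=
    ((isAffineOpen_top (pullback π π)).basicOpen _).isCompact
  exact hc.isConstructible ((pullback π π).basicOpen _).isOpen

lemma mem_Dset_iff {U V : Scheme.{u}} (π : U ⟶ V) (G : Finset Γ(U, ⊤)) (Ω : Type u) [Field Ω]
    (ū₁ ū₂ : Spec (CommRingCat.of Ω) ⟶ U) (h : ū₁ ≫ π = ū₂ ≫ π) :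
    pullback.lift ū₁ ū₂ h (closedPoint Ω) ∈ Dset π G ↔
      ∃ b ∈ G, ū₁.appTop.hom b ≠ ū₂.appTop.hom b := by
  simp only [Dset, Set.mem_iUnion, exists_prop, SetLike.mem_coe, Finset.mem_coe]
  refine exists_congr fun b => and_congr_right fun _ => ?_
  have h1 : pullback.lift ū₁ ū₂ h (closedPoint Ω) ∈ (pullback π π).basicOpen
      ((pullback.fst π π).appTop.hom b - (pullback.snd π π).appTop.hom b) ↔
      closedPoint Ω ∈ (pullback.lift ū₁ ū₂ h) ⁻¹ᵁ (pullback π π).basicOpen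
      ((pullback.fst π π).appTop.hom b - (pullback.snd π π).appTop.hom b) := Iff.rfl
  rw [h1, Scheme.preimage_basicOpen_top]
  have h2 : (pullback.lift ū₁ ū₂ h).appTop.hom
      ((pullback.fst π π).appTop.hom b - (pullback.snd π π).appTop.hom b) =
      ū₁.appTop.hom b - ū₂.appTop.hom b := by
    rw [map_sub]
    congr 1
    · have : (pullback.lift ū₁ ū₂ h ≫ pullback.fst π π).appTop = ū₁.appTop := by
        rw [pullback.lift_fst]
      exact congrArg (fun m => m.hom b) this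
    · have : (pullback.lift ū₁ ū₂ h ≫ pullback.snd π π).appTop = ū₂.appTop := by
        rw [pullback.lift_snd]
      exact congrArg (fun m => m.hom b) this
  rw [h2]
  constructor
  · intro hmem heq
    rw [heq, sub_self, Scheme.basicOpen_zero] at hmem
    exact hmem
  · intro hne
    have hunit : IsUnit (ū₁.appTop.hom b - ū₂.appTop.hom b) := by
      let e := (Scheme.ΓSpecIso (CommRingCat.of Ω)).commRingCatIsoToRingEquiv
      have hne0 : e (ū₁.appTop.hom b - ū₂.appTop.hom b) ≠ 0 := by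
        intro h0
        exact (sub_ne_zero.mpr hne) (e.injective (by rw [h0, map_zero]))
      have hu : IsUnit (e (ū₁.appTop.hom b - ū₂.appTop.hom b)) := isUnit_iff_ne_zero.mpr hne0
      have := hu.map e.symm
      simpa using this
    rw [Scheme.basicOpen_of_isUnit _ hunit]
    trivial

lemma eq_of_appTop_eq_on {U V : Scheme.{u}} [IsAffine U] (π : U ⟶ V) (G : Finset Γ(U, ⊤))
    (hG : @Algebra.adjoin Γ(V, ⊤) Γ(U, ⊤) _ _ π.appTop.hom.toAlgebra (G : Set Γ(U, ⊤)) = ⊤)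
    {W : Scheme.{u}} (ū₁ ū₂ : W ⟶ U) (h : ū₁ ≫ π = ū₂ ≫ π)
    (hb : ∀ b ∈ G, ū₁.appTop.hom b = ū₂.appTop.hom b) : ū₁ = ū₂ := by
  apply ext_of_isAffine
  letI := π.appTop.hom.toAlgebra
  letI := (ū₁ ≫ π).appTop.hom.toAlgebra
  let φ₁ : Γ(U, ⊤) →ₐ[Γ(V, ⊤)] Γ(W, ⊤) :=
    { ū₁.appTop.hom with commutes' := fun r => rfl }
  let φ₂ : Γ(U, ⊤) →ₐ[Γ(V, ⊤)] Γ(W, ⊤) :=
    { ū₂.appTop.hom with
      commutes' := fun r => by
        show (ū₂ ≫ π).appTop.hom r = (ū₁ ≫ π).appTop.hom r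
        rw [h] }
  have hφ : φ₁ = φ₂ := AlgHom.ext_of_adjoin_eq_top hG (fun b hb' => hb b hb')
  ext x
  exact congrArg (fun φ : Γ(U, ⊤) →ₐ[Γ(V, ⊤)] Γ(W, ⊤) => φ x) hφ

lemma uniGeo_of_not_mem {U V : Scheme.{u}} [IsAffine U] (π : U ⟶ V) (G : Finset Γ(U, ⊤))
    (hG : @Algebra.adjoin Γ(V, ⊤) Γ(U, ⊤) _ _ π.appTop.hom.toAlgebra (G : Set Γ(U, ⊤)) = ⊤)
    (t : V) (ht : t ∉ (pullback.fst π π ≫ π) '' Dset π G) : UniGeo π t := by
  intro Ω _ _ τ hpt
  constructor
  rintro ⟨ū₁, h₁⟩ ⟨ū₂, h₂⟩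
  apply Subtype.ext
  by_contra hne
  have h12 : ū₁ ≫ π = ū₂ ≫ π := h₁.trans h₂.symm
  have hex : ∃ b ∈ G, ū₁.appTop.hom b ≠ ū₂.appTop.hom b := by
    by_contra hcon
    push Not at hcon
    exact hne (eq_of_appTop_eq_on π G hG ū₁ ū₂ h12 hcon)
  have hmem := (mem_Dset_iff π G Ω ū₁ ū₂ h12).mpr hex
  apply ht
  refine ⟨_, hmem, ?_⟩
  rw [← Scheme.Hom.comp_apply, ← Category.assoc, pullback.lift_fst, h₁, hpt]

lemma not_mem_of_uniGeo {U V : Scheme.{u}} (π : U ⟶ V) (G : Finset Γ(U, ⊤))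
    (t : V) (ht : UniGeo π t) : t ∉ (pullback.fst π π ≫ π) '' Dset π G := by
  rintro ⟨z, hz, hzt⟩
  obtain ⟨Ω, _, _, zb, hpt⟩ : ∃ (Ω : Type u) (_ : Field Ω) (_ : IsAlgClosed Ω)
      (zb : Spec (CommRingCat.of Ω) ⟶ pullback π π), zb (closedPoint Ω) = z :=
    ⟨AlgebraicClosure ((pullback π π).residueField z), inferInstance, inferInstance,
      Spec.map (CommRingCat.ofHom (algebraMap ((pullback π π).residueField z)
        (AlgebraicClosure ((pullback π π).residueField z)))) ≫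
        (pullback π π).fromSpecResidueField z,
      Scheme.fromSpecResidueField_apply z _⟩
  have hτ : (zb ≫ pullback.fst π π ≫ π) (closedPoint Ω) = t := by
    rw [Scheme.Hom.comp_apply, hpt]
    exact hzt
  haveI := ht Ω (zb ≫ pullback.fst π π ≫ π) hτ
  have h2 : (zb ≫ pullback.snd π π) ≫ π = zb ≫ pullback.fst π π ≫ π := by
    rw [Category.assoc, ← pullback.condition]
  have h12 : (⟨zb ≫ pullback.fst π π, Category.assoc _ _ _⟩ :
      {ū : Spec (CommRingCat.of Ω) ⟶ U // ū ≫ π = zb ≫ pullback.fst π π ≫ π}) =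
      ⟨zb ≫ pullback.snd π π, h2⟩ := Subsingleton.elim _ _
  have h12' : zb ≫ pullback.fst π π = zb ≫ pullback.snd π π := congrArg Subtype.val h12
  have hcond : (zb ≫ pullback.fst π π) ≫ π = (zb ≫ pullback.snd π π) ≫ π := by
    rw [h12']
  have hzb : zb = pullback.lift (zb ≫ pullback.fst π π) (zb ≫ pullback.snd π π) hcond := by
    apply pullback.hom_ext
    · rw [pullback.lift_fst]
    · rw [pullback.lift_snd]
  rw [← hpt, hzb, mem_Dset_iff] at hz
  obtain ⟨b, _, hb⟩ := hz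
  exact hb (by rw [h12'])

theorem tpiece' {X Y : Scheme.{u}} (f : X ⟶ Y) (w : X → ℤ) (hw : MoreMor.IsWeighting f w)
    {V : Scheme.{u}} (b : V ⟶ Y) [Etale b] (T : (pullback f b).Opens)
    [IsFinite (T.ι ≫ pullback.snd f b)] {V' : Scheme.{u}} (β : V' ⟶ V) :
    ∃ (jT : pullback (T.ι ≫ pullback.snd f b) β ⟶ pullback f (β ≫ b)),
      IsOpenImmersion jT ∧
      jT ≫ pullback.snd f (β ≫ b) = pullback.snd (T.ι ≫ pullback.snd f b) β ∧
      jT ≫ pullback.fst f (β ≫ b) =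
        pullback.fst (T.ι ≫ pullback.snd f b) β ≫ T.ι ≫ pullback.fst f b ∧
      IsLocallyConstant (MoreMor.fibreIntegral (pullback.snd (T.ι ≫ pullback.snd f b) β)
        (fun z => w (pullback.fst f (β ≫ b) (jT z)))) := by
  have hcT := IsPullback.of_hasPullback (T.ι ≫ pullback.snd f b) β
  have hcommT : (pullback.fst (T.ι ≫ pullback.snd f b) β ≫ T.ι ≫ pullback.fst f b) ≫ f =
      pullback.snd (T.ι ≫ pullback.snd f b) β ≫ β ≫ b := by
    have h1 := hcT.w
    calc (pullback.fst (T.ι ≫ pullback.snd f b) β ≫ T.ι ≫ pullback.fst f b) ≫ f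
        = pullback.fst (T.ι ≫ pullback.snd f b) β ≫ T.ι ≫ (pullback.fst f b ≫ f) := by
          simp only [Category.assoc]
      _ = pullback.fst (T.ι ≫ pullback.snd f b) β ≫ T.ι ≫ (pullback.snd f b ≫ b) := by
          rw [pullback.condition]
      _ = (pullback.fst (T.ι ≫ pullback.snd f b) β ≫ T.ι ≫ pullback.snd f b) ≫ b := by
          simp only [Category.assoc]
      _ = (pullback.snd (T.ι ≫ pullback.snd f b) β ≫ β) ≫ b := by rw [h1]
      _ = pullback.snd (T.ι ≫ pullback.snd f b) β ≫ β ≫ b := Category.assoc _ _ _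
  have hfinT : ∀ n : V, ((T.ι ≫ pullback.snd f b) ⁻¹' {n}).Finite :=
    fun n => (T.ι ≫ pullback.snd f b).finite_preimage_singleton n
  have hsq : IsPullback
      (pullback.lift (pullback.fst (T.ι ≫ pullback.snd f b) β ≫ T.ι ≫ pullback.fst f b)
        (pullback.snd (T.ι ≫ pullback.snd f b) β) hcommT)
      (pullback.fst (T.ι ≫ pullback.snd f b) β) (EtLoc.qmap f b β) T.ι := by
    refine IsPullback.of_right ?_ ?_ (EtLoc.isPullback_qmap f b β).flip
    · rw [pullback.lift_snd]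
      exact hcT.flip
    · apply pullback.hom_ext
      · rw [Category.assoc, EtLoc.qmap_fst, pullback.lift_fst, Category.assoc]
      · rw [Category.assoc, EtLoc.qmap_snd, pullback.lift_snd_assoc, Category.assoc,
          pullback.condition]
  refine ⟨pullback.lift (pullback.fst (T.ι ≫ pullback.snd f b) β ≫ T.ι ≫ pullback.fst f b)
      (pullback.snd (T.ι ≫ pullback.snd f b) β) hcommT, ?_, pullback.lift_snd _ _ _,
    pullback.lift_fst _ _ _, ?_⟩
  · exact MorphismProperty.of_isPullback (P := @IsOpenImmersion) hsq.flip inferInstance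
  · have hΨ : IsLocallyConstant (MoreMor.fibreIntegral (T.ι ≫ pullback.snd f b)
        (fun z => w (pullback.fst f b (T.ι z)))) := hw V b T inferInstance
    have hG : MoreMor.fibreIntegral (pullback.snd (T.ι ≫ pullback.snd f b) β)
        (fun z => w (pullback.fst f (β ≫ b)
          (pullback.lift (pullback.fst (T.ι ≫ pullback.snd f b) β ≫ T.ι ≫ pullback.fst f b)
            (pullback.snd (T.ι ≫ pullback.snd f b) β) hcommT z))) =
        (MoreMor.fibreIntegral (T.ι ≫ pullback.snd f b)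
          (fun z => w (pullback.fst f b (T.ι z)))) ∘ ⇑β := by
      funext n
      rw [Function.comp_apply, ← fibreIntegral_baseChange (T.ι ≫ pullback.snd f b) hfinT
        (pullback.snd (T.ι ≫ pullback.snd f b) β) (pullback.fst (T.ι ≫ pullback.snd f b) β) β
        hcT (fun z => w (pullback.fst f b (T.ι z))) n]
      congr 1
      funext z
      show w _ = w _
      congr 1
      rw [← Scheme.Hom.comp_apply, pullback.lift_fst]
      rfl
    rw [hG]
    exact hΨ.comp_continuous β.continuous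

theorem exists_constructible_nbhd {X Y : Scheme.{u}} [IsAffine X] (f : X ⟶ Y)
    [LocallyQuasiFinite f] [LocallyOfFiniteType f] (w : X → ℤ) (hw : MoreMor.IsWeighting f w)
    (x : X) : ∃ C : Set X, IsConstructible C ∧ x ∈ C ∧ ∀ z ∈ C, w z = w x := by
  classical
  obtain ⟨V₁, b, v₁, hb, hbv, m, T', tpt, hprop, hinj, hall⟩ :=
    EtLoc.pi_core f (f x) (fun _ : Fin 1 => x) (fun _ => rfl) (fun _ => f.quasiFiniteAt x)
  haveI := hb
  obtain ⟨t₀, ht₀1, ht₀2⟩ :=
    Scheme.Pullback.exists_preimage_pullback (f := f) (g := b) x v₁ hbv.symm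
  obtain ⟨j, hj⟩ := hall t₀ 0 ht₀2 ht₀1
  obtain ⟨T, hT⟩ : ∃ T, T = T' 0 j := ⟨_, rfl⟩
  haveI hTfin : IsFinite (T.ι ≫ pullback.snd f b) := by rw [hT]; exact (hprop 0 j).2.1
  have ht₀T : t₀ ∈ T := by rw [hT, hj]; exact (hprop 0 j).1
  have hTuniq : ∀ t : ↑(pullback f b), t ∈ T → pullback.snd f b t = v₁ → t = t₀ := by
    intro t ht htv
    rw [hj]
    exact (hprop 0 j).2.2.2.1 t (hT ▸ ht) htv
  have hTs : sdeg (pullback.snd f b) t₀ = 1 := by
    rw [hj]
    exact sdeg_eq_one _ _ (hprop 0 j).2.2.2.2.1.2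
  -- affine open neighbourhood of v₁
  obtain ⟨_, ⟨(V₀ : V₁.Opens), hV₀, rfl⟩, hv₁V₀, -⟩ :=
    V₁.isBasis_affineOpens.exists_subset_of_mem_open (Set.mem_univ v₁) isOpen_univ
  have hV₀' : IsAffineOpen V₀ := hV₀
  haveI : IsAffine (V₀ : Scheme) := hV₀'
  obtain ⟨jT, hjTo, hjTsnd, hjTfst, hlc⟩ := tpiece' f w hw b T V₀.ι
  haveI := hjTo
  haveI : IsAffine (pullback (T.ι ≫ pullback.snd f b) V₀.ι) :=
    isAffine_of_isAffineHom (pullback.snd (T.ι ≫ pullback.snd f b) V₀.ι)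
  -- the point
  obtain ⟨u₀, hu₀1, hu₀2⟩ :=
    Scheme.Pullback.exists_preimage_pullback (f := T.ι ≫ pullback.snd f b) (g := V₀.ι)
      (⟨t₀, ht₀T⟩ : T) (⟨v₁, hv₁V₀⟩ : V₀) ht₀2
  have hpu₀ : pullback.fst f (V₀.ι ≫ b) (jT u₀) = x := by
    rw [← Scheme.Hom.comp_apply, hjTfst, Scheme.Hom.comp_apply, hu₀1]
    exact ht₀1
  -- unique geometric point over v₀
  have hgeo : UniGeo (pullback.snd (T.ι ≫ pullback.snd f b) V₀.ι) (⟨v₁, hv₁V₀⟩ : V₀) := by
    refine uniGeo_baseChange (T.ι ≫ pullback.snd f b) _ _ V₀.ι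
      (IsPullback.of_hasPullback _ _) _ ?_ ?_
    · intro z z' hz hz'
      apply Subtype.ext
      rw [hTuniq z.1 z.2 hz, hTuniq z'.1 z'.2 hz']
    · intro z hz
      rw [sdeg_comp_of_isOpenImmersion]
      have : (T.ι z) = t₀ := hTuniq z.1 z.2 hz
      rw [this]
      exact hTs
  -- generators
  have hft : RingHom.FiniteType (pullback.snd (T.ι ≫ pullback.snd f b) V₀.ι).appTop.hom :=
    (HasRingHomProperty.iff_of_isAffine (P := @LocallyOfFiniteType)).mp inferInstance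
  obtain ⟨G, hG⟩ := @Algebra.FiniteType.out _ _ _ _
    (pullback.snd (T.ι ≫ pullback.snd f b) V₀.ι).appTop.hom.toAlgebra hft
  have hv₀D := not_mem_of_uniGeo (pullback.snd (T.ι ≫ pullback.snd f b) V₀.ι) G _ hgeo
  obtain ⟨C₁, hC₁, hvC₁, hC₁D⟩ := ConsTop.exists_isConstructible_disjoint_image
    (pullback.fst (pullback.snd (T.ι ≫ pullback.snd f b) V₀.ι)
      (pullback.snd (T.ι ≫ pullback.snd f b) V₀.ι) ≫
      pullback.snd (T.ι ≫ pullback.snd f b) V₀.ι)
    (fun C hC => Scheme.Hom.isConstructible_preimage _ hC) _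
    (isConstructible_Dset (pullback.snd (T.ι ≫ pullback.snd f b) V₀.ι) G) _ hv₀D
  -- the clopen where the integral is constant
  have hNcl := hlc.isClopen_fiber (MoreMor.fibreIntegral
    (pullback.snd (T.ι ≫ pullback.snd f b) V₀.ι)
    (fun z => w (pullback.fst f (V₀.ι ≫ b) (jT z))) ⟨v₁, hv₁V₀⟩)
  have hNcons := hNcl.1.isCompact.isConstructible hNcl.2
  have hS' := Scheme.Hom.isConstructible_preimage
    (pullback.snd (T.ι ≫ pullback.snd f b) V₀.ι) (hC₁.inter hNcons)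
  refine ⟨(jT ≫ pullback.fst f (V₀.ι ≫ b)) '' _,
    Scheme.Hom.isConstructible_image (jT ≫ pullback.fst f (V₀.ι ≫ b)) hS', ?_, ?_⟩
  · exact ⟨u₀, ⟨by rw [hu₀2]; exact hvC₁, by rw [hu₀2]; rfl⟩, hpu₀⟩
  · rintro _ ⟨s, ⟨hs1, hs2⟩, rfl⟩
    have hgeo_s : UniGeo (pullback.snd (T.ι ≫ pullback.snd f b) V₀.ι)
        (pullback.snd (T.ι ≫ pullback.snd f b) V₀.ι s) := by
      apply uniGeo_of_not_mem _ G hG
      rintro ⟨d, hd, hds⟩
      exact hC₁D d hd (by rw [hds]; exact hs1)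
    have hI : ∀ (s' : ↑(pullback (T.ι ≫ pullback.snd f b) V₀.ι)),
        UniGeo (pullback.snd (T.ι ≫ pullback.snd f b) V₀.ι)
          (pullback.snd (T.ι ≫ pullback.snd f b) V₀.ι s') →
        MoreMor.fibreIntegral (pullback.snd (T.ι ≫ pullback.snd f b) V₀.ι)
          (fun z => w (pullback.fst f (V₀.ι ≫ b) (jT z)))
          (pullback.snd (T.ι ≫ pullback.snd f b) V₀.ι s') =
        w (pullback.fst f (V₀.ι ≫ b) (jT s')) := by
      intro s' hs'
      obtain ⟨hu1, hu2⟩ := hs'.unique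
      rw [fibreIntegral_of_unique _ _ _ s' rfl (fun z hz => hu1 z s' hz rfl), hu2 s' rfl]
      simp
    have e1 := hI s hgeo_s
    have e2 := hI u₀ (by rw [hu₀2]; exact hgeo)
    rw [hu₀2] at e2
    have e3 : MoreMor.fibreIntegral (pullback.snd (T.ι ≫ pullback.snd f b) V₀.ι)
        (fun z => w (pullback.fst f (V₀.ι ≫ b) (jT z)))
        (pullback.snd (T.ι ≫ pullback.snd f b) V₀.ι s) =
        MoreMor.fibreIntegral (pullback.snd (T.ι ≫ pullback.snd f b) V₀.ι)
        (fun z => w (pullback.fst f (V₀.ι ≫ b) (jT z))) ⟨v₁, hv₁V₀⟩ := hs2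
    show w (pullback.fst f (V₀.ι ≫ b) (jT s)) = w x
    rw [← e1, e3, e2, hpu₀]

/-- Level sets of a weighting on an affine source are constructible. -/
theorem isConstructible_levelSet {X Y : Scheme.{u}} [IsAffine X] (f : X ⟶ Y)
    [LocallyQuasiFinite f] [LocallyOfFiniteType f] (w : X → ℤ) (hw : MoreMor.IsWeighting f w)
    (n : ℤ) : IsConstructible {x : X | w x = n} := by
  apply ConsTop.isConstructible_of_forall_exists
  intro a
  obtain ⟨C, hC, haC, hCw⟩ := exists_constructible_nbhd f w hw a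
  refine ⟨C, hC, haC, ?_, ?_⟩
  · intro ha z hz
    show w z = n
    rw [hCw z hz]
    exact ha
  · intro ha z hz hzn
    apply ha
    show w a = n
    rw [← hCw z hz]
    exact hzn

/-- Level sets of a weighting are locally constructible (S1423). -/
theorem isLocallyConstructible_levelSet {X Y : Scheme.{u}} (f : X ⟶ Y)
    [LocallyQuasiFinite f] [LocallyOfFiniteType f] (w : X → ℤ) (hw : MoreMor.IsWeighting f w)
    (n : ℤ) : IsLocallyConstructible {x : X | w x = n} := by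
  intro x
  obtain ⟨_, ⟨(X₀ : X.Opens), hX₀, rfl⟩, hxX₀, -⟩ :=
    X.isBasis_affineOpens.exists_subset_of_mem_open (Set.mem_univ x) isOpen_univ
  have hX₀' : IsAffineOpen X₀ := hX₀
  haveI : IsAffine (X₀ : Scheme) := hX₀'
  have hw₀ := weighting_restrict f w hw X₀
  have hc := isConstructible_levelSet (X₀.ι ≫ f) (fun z => w (X₀.ι z)) hw₀ n
  exact ⟨(X₀ : Set X), X₀.isOpen.mem_nhds hxX₀, X₀.isOpen, hc⟩

end Groth.Agent.Helper18.Weighting
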