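import Mathlib
import Groth.Prelude.Def_MoreMor
import Groth.Agent.Lib.Helper18.WeightingCons

set_option autoImplicit false

namespace Groth.Agent.Helper18.Weighting

open AlgebraicGeometry CategoryTheory Limits IsLocalRing Topology

universe u

section Alg

/-- The number of algebra maps from an algebra spanned by `G` into a field is at most `#G`. -/
lemma card_algHom_le {R S' L : Type*} [CommRing R] [CommRing S'] [Algebra R S'] [Field L]
    [Algebra R L] (G : Finset S') (hG : Submodule.span R (G : Set S') = ⊤) :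
    Finite (S' →ₐ[R] L) ∧ Nat.card (S' →ₐ[R] L) ≤ G.card := by
  classical
  let restr : (S' →ₗ[R] L) →ₗ[L] (G → L) :=
    { toFun := fun h g => h g.1
      map_add' := fun _ _ => rfl
      map_smul' := fun _ _ => rfl }
  have hinj : Function.Injective restr := by
    intro h₁ h₂ e
    apply LinearMap.ext_on hG
    intro g hg
    exact congrFun e ⟨g, hg⟩
  have hli : LinearIndependent L (restr ∘ (AlgHom.toLinearMap : (S' →ₐ[R] L) → S' →ₗ[R] L)) :=
    (linearIndependent_algHom_toLinearMap R S' L).map' restr (LinearMap.ker_eq_bot.mpr hinj)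
  haveI : Finite (S' →ₐ[R] L) := hli.finite
  refine ⟨inferInstance, ?_⟩
  haveI := Fintype.ofFinite (S' →ₐ[R] L)
  have h := hli.fintype_card_le_finrank
  rw [Module.finrank_fintype_fun_eq_card, Fintype.card_coe] at h
  rwa [Nat.card_eq_fintype_card]

/-- Two ring maps into a field, nonvanishing at `r`, agreeing on a subring `S'` with
`S'[1/r] → S[1/r]` surjective, are equal. -/
lemma eq_of_restrict_eq {S S' L : Type*} [CommRing S] [CommRing S'] [Field L] (ι : S' →+* S)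
    (r : S') (hsurj : Function.Surjective (Localization.awayMap ι r))
    (ψ₁ ψ₂ : S →+* L) (h1 : ψ₁ (ι r) ≠ 0) (h2 : ψ₂ (ι r) ≠ 0) (h : ψ₁.comp ι = ψ₂.comp ι) :
    ψ₁ = ψ₂ := by
  have hu1 : IsUnit (ψ₁ (ι r)) := isUnit_iff_ne_zero.mpr h1
  have hu2 : IsUnit (ψ₂ (ι r)) := isUnit_iff_ne_zero.mpr h2
  have e : (IsLocalization.Away.lift (S := Localization.Away (ι r)) (ι r) hu1).comp
      (Localization.awayMap ι r) =
      (IsLocalization.Away.lift (S := Localization.Away (ι r)) (ι r) hu2).comp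
      (Localization.awayMap ι r) := by
    apply IsLocalization.ringHom_ext (Submonoid.powers r)
    ext s
    simp only [RingHom.comp_apply, Localization.awayMap, IsLocalization.Away.map,
      IsLocalization.map_eq, IsLocalization.Away.lift_eq]
    exact congrArg (fun φ : S' →+* L => φ s) h
  have e' := (RingHom.cancel_right hsurj).mp e
  ext s
  have := congrArg (fun ψ : Localization.Away (ι r) →+* L =>
    ψ (algebraMap S (Localization.Away (ι r)) s)) e'
  simpa only [IsLocalization.Away.lift_eq] using this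

end Alg

section Geom

theorem local_lift_bound_affine {A B : Scheme.{u}} [IsAffine A] [IsAffine B] (g : A ⟶ B)
    [LocallyOfFiniteType g] [LocallyQuasiFinite g] (a : A) :
    ∃ (U : A.Opens) (N : ℕ), a ∈ U ∧ ∀ (Ω : Type u) [Field Ω]
      (τ : Spec (CommRingCat.of Ω) ⟶ B) (F : Finset (Spec (CommRingCat.of Ω) ⟶ A)),
      (∀ ū ∈ F, ū ≫ g = τ ∧ ū (closedPoint Ω) ∈ U) → F.card ≤ N := by
  classical
  letI alg : Algebra Γ(B, ⊤) Γ(A, ⊤) := g.appTop.hom.toAlgebra
  haveI hft : Algebra.FiniteType Γ(B, ⊤) Γ(A, ⊤) :=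
    (HasRingHomProperty.iff_of_isAffine (P := @LocallyOfFiniteType)).mp inferInstance
  haveI hqf : Algebra.QuasiFinite Γ(B, ⊤) Γ(A, ⊤) :=
    (HasRingHomProperty.iff_of_isAffine (P := @LocallyQuasiFinite)).mp inferInstance
  haveI hp : (A.isoSpec.hom a).asIdeal.IsPrime := (A.isoSpec.hom a).isPrime
  obtain ⟨S', hS', r, hrp, hbij⟩ :=
    Algebra.QuasiFiniteAt.exists_fg_and_exists_notMem_and_awayMap_bijective (R := Γ(B, ⊤))
      (A.isoSpec.hom a).asIdeal
  haveI : Module.Finite Γ(B, ⊤) S' := ⟨(Submodule.fg_top _).mpr hS'⟩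
  obtain ⟨G, hG⟩ := (Module.Finite.fg_top : (⊤ : Submodule Γ(B, ⊤) S').FG)
  refine ⟨A.basicOpen (r : Γ(A, ⊤)), G.card, ?_, ?_⟩
  · rw [← Scheme.map_PrimeSpectrum_basicOpen_of_affine]
    exact hrp
  · intro Ω _ τ F hF
    let e : Γ(Spec (CommRingCat.of Ω), ⊤) ≃+* Ω :=
      (Scheme.ΓSpecIso (CommRingCat.of Ω)).commRingCatIsoToRingEquiv
    letI algΩ : Algebra Γ(B, ⊤) Ω := (e.toRingHom.comp τ.appTop.hom).toAlgebra
    have hcomm : ∀ ū ∈ F, ∀ b : Γ(B, ⊤),
        e (ū.appTop.hom (g.appTop.hom b)) = e (τ.appTop.hom b) := by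
      intro ū hū b
      have h1 : (ū ≫ g).appTop = τ.appTop := by rw [(hF ū hū).1]
      exact congrArg (fun m => e (m.hom b)) h1
    let Ψ : {ū // ū ∈ F} → (S' →ₐ[Γ(B, ⊤)] Ω) := fun ū =>
      ({ e.toRingHom.comp ū.1.appTop.hom with
          commutes' := fun b => hcomm ū.1 ū.2 b } : Γ(A, ⊤) →ₐ[Γ(B, ⊤)] Ω).comp S'.val
    have hne : ∀ ū ∈ F, (e.toRingHom.comp ū.appTop.hom) (S'.val.toRingHom r) ≠ 0 := by
      intro ū hū h0
      have hmem : closedPoint Ω ∈ ū ⁻¹ᵁ A.basicOpen (r : Γ(A, ⊤)) := (hF ū hū).2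
      rw [Scheme.preimage_basicOpen_top] at hmem
      have h0' : ū.appTop.hom (r : Γ(A, ⊤)) = 0 := e.injective (by rw [map_zero]; exact h0)
      rw [h0', Scheme.basicOpen_zero] at hmem
      exact hmem
    have hΨ : Function.Injective Ψ := by
      rintro ⟨ū₁, h₁⟩ ⟨ū₂, h₂⟩ h
      apply Subtype.ext
      show ū₁ = ū₂
      apply ext_of_isAffine
      have hψ := eq_of_restrict_eq S'.val.toRingHom r hbij.2 (e.toRingHom.comp ū₁.appTop.hom)
        (e.toRingHom.comp ū₂.appTop.hom) (hne ū₁ h₁) (hne ū₂ h₂) (by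
          ext s
          exact congrArg (fun φ : S' →ₐ[Γ(B, ⊤)] Ω => φ s) h)
      ext s
      exact e.injective (congrArg (fun φ : Γ(A, ⊤) →+* Ω => φ s) hψ)
    obtain ⟨hfinite, hcard⟩ := card_algHom_le (R := Γ(B, ⊤)) (S' := S') (L := Ω) G hG
    haveI := hfinite
    calc F.card = Nat.card {ū // ū ∈ F} := by
          rw [Nat.card_eq_fintype_card, Fintype.card_coe]
      _ ≤ Nat.card (S' →ₐ[Γ(B, ⊤)] Ω) := Nat.card_le_card_of_injective Ψ hΨ
      _ ≤ G.card := hcard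

theorem local_lift_bound {X Y : Scheme.{u}} (f : X ⟶ Y) [LocallyOfFiniteType f]
    [LocallyQuasiFinite f] (x : X) :
    ∃ (U : X.Opens) (N : ℕ), x ∈ U ∧ ∀ (Ω : Type u) [Field Ω]
      (τ : Spec (CommRingCat.of Ω) ⟶ Y) (F : Finset (Spec (CommRingCat.of Ω) ⟶ X)),
      (∀ ū ∈ F, ū ≫ f = τ ∧ ū (closedPoint Ω) ∈ U) → F.card ≤ N := by
  classical
  obtain ⟨_, ⟨(Y₀ : Y.Opens), hY₀, rfl⟩, hyY₀, -⟩ :=
    Y.isBasis_affineOpens.exists_subset_of_mem_open (Set.mem_univ (f x)) isOpen_univ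
  obtain ⟨_, ⟨(X₀ : X.Opens), hX₀, rfl⟩, hxX₀, hX₀Y₀⟩ :=
    X.isBasis_affineOpens.exists_subset_of_mem_open
      (show x ∈ ((f ⁻¹ᵁ Y₀ : X.Opens) : Set X) from hyY₀) (f ⁻¹ᵁ Y₀).isOpen
  have hY₀' : IsAffineOpen Y₀ := hY₀
  have hX₀' : IsAffineOpen X₀ := hX₀
  haveI : IsAffine (Y₀ : Scheme) := hY₀'
  haveI : IsAffine (X₀ : Scheme) := hX₀'
  have hle : X₀ ≤ f ⁻¹ᵁ Y₀ := hX₀Y₀
  obtain ⟨U₀, N, haU₀, hbound⟩ := local_lift_bound_affine (f.resLE Y₀ X₀ hle) ⟨x, hxX₀⟩
  refine ⟨X₀.ι ''ᵁ U₀, N, ⟨⟨x, hxX₀⟩, haU₀, rfl⟩, ?_⟩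
  intro Ω _ τ F hF
  have hmono : Function.Injective
      (fun ū₀ : Spec (CommRingCat.of Ω) ⟶ (X₀ : Scheme) => ū₀ ≫ X₀.ι) :=
    fun a b h => (cancel_mono X₀.ι).mp h
  have hcard : F.card = (F.preimage _ hmono.injOn).card := by
    rw [← Finset.card_image_of_injective (F.preimage _ hmono.injOn) hmono, Finset.image_preimage]
    congr 1
    symm
    apply Finset.filter_true_of_mem
    intro ū hū
    have hrange : Set.range ū ⊆ Set.range X₀.ι := by
      rintro _ ⟨z, rfl⟩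
      have hz : z = closedPoint Ω :=
        @Subsingleton.elim _ (show Subsingleton (PrimeSpectrum Ω) from inferInstance) _ _
      rw [hz]
      obtain ⟨z₀, _, hz₀⟩ : ∃ z₀, z₀ ∈ U₀ ∧ X₀.ι z₀ = ū (closedPoint Ω) := (hF ū hū).2
      exact ⟨z₀, hz₀⟩
    exact ⟨IsOpenImmersion.lift X₀.ι ū hrange, IsOpenImmersion.lift_fac _ _ _⟩
  rw [hcard]
  rcases (F.preimage _ hmono.injOn).eq_empty_or_nonempty with hemp | ⟨ūs, hūs⟩
  · rw [hemp]
    simp
  · apply hbound Ω (ūs ≫ f.resLE Y₀ X₀ hle)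
    intro ū₀ hū₀
    have hmem : ū₀ ≫ X₀.ι ∈ F := (Finset.mem_preimage
      (f := fun ū₀ : Spec (CommRingCat.of Ω) ⟶ (X₀ : Scheme) => ū₀ ≫ X₀.ι)).mp hū₀
    have hmems : ūs ≫ X₀.ι ∈ F := (Finset.mem_preimage
      (f := fun ū₀ : Spec (CommRingCat.of Ω) ⟶ (X₀ : Scheme) => ū₀ ≫ X₀.ι)).mp hūs
    constructor
    · rw [← cancel_mono Y₀.ι, Category.assoc, Category.assoc, Scheme.Hom.resLE_comp_ι,
        ← Category.assoc, ← Category.assoc, (hF _ hmem).1, (hF _ hmems).1]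
    · obtain ⟨z₀, hz₀U, hz₀⟩ : ∃ z₀, z₀ ∈ U₀ ∧ X₀.ι z₀ = (ū₀ ≫ X₀.ι) (closedPoint Ω) :=
        (hF _ hmem).2
      have : z₀ = ū₀ (closedPoint Ω) := X₀.ι.isOpenEmbedding.injective hz₀
      rw [← this]
      exact hz₀U

theorem weight_bounded_affine {X Y : Scheme.{u}} [IsAffine X] (f : X ⟶ Y)
    [LocallyQuasiFinite f] [LocallyOfFiniteType f] (w : X → ℤ) (hw : MoreMor.IsWeighting f w) :
    ∃ M : ℤ, ∀ x, w x ≤ M := by
  have hlc : IsLocallyConstant
      (fun z : WithConstructibleTopology X => w (WithTopology.ofTopology z)) := by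
    rw [IsLocallyConstant.iff_exists_open]
    intro z
    obtain ⟨C, hC, hzC, hCw⟩ := exists_constructible_nbhd f w hw (WithTopology.ofTopology z)
    exact ⟨WithTopology.ofTopology ⁻¹' C, (H11.isClopen_cons_of_isConstructible hC).2, hzC,
      fun z' hz' => hCw _ hz'⟩
  obtain ⟨M, hM⟩ := hlc.range_finite.bddAbove
  refine ⟨M, fun x => ?_⟩
  exact hM ⟨WithTopology.toTopology (constructibleTopology X) x, rfl⟩

/-- S1427: the fibre integral of a weighting on a quasi-compact source attains its maximum. -/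
theorem exists_max_fibreIntegral {X Y : Scheme.{u}} (f : X ⟶ Y) [LocallyQuasiFinite f]
    [LocallyOfFiniteType f] [CompactSpace ↑X] (w : ↑X → ℤ) (hw : MoreMor.IsWeighting f w)
    [Nonempty ↑Y] :
    ∃ y₀ : Y, ∀ y : Y, MoreMor.fibreIntegral f w y ≤ MoreMor.fibreIntegral f w y₀ := by
  classical
  -- bound on w
  have hwb : ∃ M : ℤ, 0 ≤ M ∧ ∀ x, w x ≤ M := by
    have hloc : ∀ x : X, ∃ (O : Set X) (M : ℤ), O ∈ 𝓝 x ∧ ∀ z ∈ O, w z ≤ M := by
      intro x
      obtain ⟨_, ⟨(X₀ : X.Opens), hX₀, rfl⟩, hxX₀, -⟩ :=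
        X.isBasis_affineOpens.exists_subset_of_mem_open (Set.mem_univ x) isOpen_univ
      have hX₀' : IsAffineOpen X₀ := hX₀
      haveI : IsAffine (X₀ : Scheme) := hX₀'
      obtain ⟨M, hM⟩ := weight_bounded_affine (X₀.ι ≫ f) (fun z => w (X₀.ι z))
        (weighting_restrict f w hw X₀)
      exact ⟨(X₀ : Set X), M, X₀.isOpen.mem_nhds hxX₀, fun z hz => hM ⟨z, hz⟩⟩
    choose O M hO hM using hloc
    obtain ⟨t, ht⟩ := CompactSpace.elim_nhds_subcover O hO
    refine ⟨∑ x ∈ t, |M x|, Finset.sum_nonneg (fun _ _ => abs_nonneg _), fun z => ?_⟩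
    have hz : z ∈ ⋃ x ∈ t, O x := by rw [ht]; trivial
    obtain ⟨x, hx⟩ := Set.mem_iUnion.mp hz
    obtain ⟨hxt, hzx⟩ := Set.mem_iUnion.mp hx
    calc w z ≤ M x := hM x z hzx
      _ ≤ |M x| := le_abs_self _
      _ ≤ ∑ x ∈ t, |M x| :=
        Finset.single_le_sum (f := fun x => |M x|) (fun _ _ => abs_nonneg _) hxt
  obtain ⟨M, hM0, hM⟩ := hwb
  -- bound on lifts
  choose U N hxU hUN using fun x : X => local_lift_bound f x
  obtain ⟨t, ht⟩ := CompactSpace.elim_nhds_subcover (fun x => (U x : Set X))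
    (fun x => (U x).isOpen.mem_nhds (hxU x))
  have hlifts : ∀ (Ω : Type u) [Field Ω] (τ : Spec (CommRingCat.of Ω) ⟶ Y),
      Finite {ū : Spec (CommRingCat.of Ω) ⟶ X // ū ≫ f = τ} ∧
      Nat.card {ū : Spec (CommRingCat.of Ω) ⟶ X // ū ≫ f = τ} ≤ ∑ x ∈ t, N x := by
    intro Ω _ τ
    have hF : ∀ F : Finset {ū : Spec (CommRingCat.of Ω) ⟶ X // ū ≫ f = τ},
        F.card ≤ ∑ x ∈ t, N x := by
      intro F
      have hcov : F = t.biUnion (fun x => F.filter (fun ū => ū.1 (closedPoint Ω) ∈ U x)) := by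
        ext ū
        simp only [Finset.mem_biUnion, Finset.mem_filter]
        constructor
        · intro hū
          have hz : ū.1 (closedPoint Ω) ∈ ⋃ x ∈ t, (U x : Set X) := by rw [ht]; trivial
          obtain ⟨x, hx⟩ := Set.mem_iUnion.mp hz
          obtain ⟨hxt, hzx⟩ := Set.mem_iUnion.mp hx
          exact ⟨x, hxt, hū, hzx⟩
        · rintro ⟨x, _, hū, _⟩
          exact hū
      calc F.card = (t.biUnion (fun x => F.filter (fun ū => ū.1 (closedPoint Ω) ∈ U x))).card :=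
            congrArg Finset.card hcov
        _ ≤ ∑ x ∈ t, (F.filter (fun ū => ū.1 (closedPoint Ω) ∈ U x)).card :=
            Finset.card_biUnion_le
        _ ≤ ∑ x ∈ t, N x := by
            refine Finset.sum_le_sum fun x _ => ?_
            have h1 := hUN x Ω τ
              ((F.filter (fun ū => ū.1 (closedPoint Ω) ∈ U x)).image Subtype.val) (by
                intro ū hū
                obtain ⟨ū', hū', rfl⟩ := Finset.mem_image.mp hū
                exact ⟨ū'.2, (Finset.mem_filter.mp hū').2⟩)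
            rwa [Finset.card_image_of_injective _ Subtype.val_injective] at h1
    have hfinite : Finite {ū : Spec (CommRingCat.of Ω) ⟶ X // ū ≫ f = τ} := by
      by_contra hinf
      rw [not_finite_iff_infinite] at hinf
      obtain ⟨F, hFc⟩ := Infinite.exists_subset_card_eq
        {ū : Spec (CommRingCat.of Ω) ⟶ X // ū ≫ f = τ} (∑ x ∈ t, N x + 1)
      have := hF F
      omega
    refine ⟨hfinite, ?_⟩
    haveI := Fintype.ofFinite {ū : Spec (CommRingCat.of Ω) ⟶ X // ū ≫ f = τ}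
    rw [Nat.card_eq_fintype_card, ← Finset.card_univ]
    exact hF Finset.univ
  -- the bound
  have hbound : ∀ y : Y, MoreMor.fibreIntegral f w y ≤ M * ((∑ x ∈ t, N x : ℕ) : ℤ) := by
    intro y
    obtain ⟨Ω, _, _, τ, hpt⟩ : ∃ (Ω : Type u) (_ : Field Ω) (_ : IsAlgClosed Ω)
        (τ : Spec (CommRingCat.of Ω) ⟶ Y), τ (closedPoint Ω) = y :=
      ⟨AlgebraicClosure (Y.residueField y), inferInstance, inferInstance,
        Spec.map (CommRingCat.ofHom (algebraMap (Y.residueField y)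
          (AlgebraicClosure (Y.residueField y)))) ≫ Y.fromSpecResidueField y,
        Scheme.fromSpecResidueField_apply y _⟩
    obtain ⟨hfinite, hcard⟩ := hlifts Ω τ
    haveI := hfinite
    have e := fibreIntegral_eq_geometric f Ω τ w
    rw [hpt] at e
    rw [e]
    haveI := Fintype.ofFinite {ū : Spec (CommRingCat.of Ω) ⟶ X // ū ≫ f = τ}
    rw [finsum_eq_sum_of_fintype]
    rw [Nat.card_eq_fintype_card] at hcard
    calc ∑ ū : {ū : Spec (CommRingCat.of Ω) ⟶ X // ū ≫ f = τ}, w (ū.1 (closedPoint Ω))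
        ≤ ∑ _ū : {ū : Spec (CommRingCat.of Ω) ⟶ X // ū ≫ f = τ}, M :=
          Finset.sum_le_sum (fun ū _ => hM _)
      _ = (Fintype.card {ū : Spec (CommRingCat.of Ω) ⟶ X // ū ≫ f = τ} : ℤ) * M := by
          rw [Finset.sum_const, Finset.card_univ, nsmul_eq_mul]
      _ ≤ M * ((∑ x ∈ t, N x : ℕ) : ℤ) := by
          rw [mul_comm]
          apply mul_le_mul_of_nonneg_left _ hM0
          exact_mod_cast hcard
  -- maximum
  obtain ⟨ub, ⟨y₀, hy₀⟩, hub⟩ := Int.exists_greatest_of_bdd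
    (P := fun z => ∃ y : Y, MoreMor.fibreIntegral f w y = z)
    ⟨M * ((∑ x ∈ t, N x : ℕ) : ℤ), fun z ⟨y, hy⟩ => hy ▸ hbound y⟩
    ⟨_, ⟨Classical.arbitrary Y, rfl⟩⟩
  exact ⟨y₀, fun y => by rw [hy₀]; exact hub _ ⟨y, rfl⟩⟩

end Geom

end Groth.Agent.Helper18.Weighting
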