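import Mathlib
import Groth.Prelude.Def_MoreMor
import Groth.Agent.Lib.Helper18.WeightingLSC
import Groth.Agent.H28.AffDesc

set_option autoImplicit false

namespace Groth.Agent.Helper18.Weighting

open AlgebraicGeometry CategoryTheory Limits IsLocalRing

universe u

lemma isFinite_restrict_of_local {X Y : Scheme.{u}} (f : X ⟶ Y) (Yd : Y.Opens)
    (H : ∀ y ∈ Yd, ∃ W' : Y.Opens, y ∈ W' ∧ W' ≤ Yd ∧ IsFinite (f ∣_ W')) :
    IsFinite (f ∣_ Yd) := by
  apply IsZariskiLocalAtTarget.of_forall_exists_morphismRestrict (P := @IsFinite)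
  rintro ⟨y, hy⟩
  obtain ⟨W', hyW, hle, hW⟩ := H y hy
  refine ⟨Yd.ι ⁻¹ᵁ W', hyW, ?_⟩
  rw [MorphismProperty.arrow_mk_iso_iff @IsFinite (morphismRestrictRestrict f Yd (Yd.ι ⁻¹ᵁ W'))]
  have h1 : Yd.ι ''ᵁ (Yd.ι ⁻¹ᵁ W') = W' := by
    rw [Scheme.Hom.image_preimage_eq_opensRange_inf, Scheme.Opens.opensRange_ι]
    exact inf_eq_right.mpr hle
  rw [h1]
  exact hW

lemma isFinite_restrict_of_etale_cover {X Y A V : Scheme.{u}} (f : X ⟶ Y) (W' : Y.Opens)
    (a : A ⟶ X) (b : A ⟶ V) (g₀ : V ⟶ Y) [Etale g₀] (hc : IsPullback a b f g₀)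
    (hrange : Set.range g₀ = (W' : Set Y)) [IsFinite b] : IsFinite (f ∣_ W') := by
  let g' : V ⟶ W' := IsOpenImmersion.lift W'.ι g₀ (by rw [Scheme.Opens.range_ι, hrange])
  have hg' : g' ≫ W'.ι = g₀ := IsOpenImmersion.lift_fac _ _ _
  have hra : Set.range a ⊆ Set.range (f ⁻¹ᵁ W').ι := by
    rw [Scheme.Opens.range_ι]
    rintro _ ⟨z, rfl⟩
    change f (a z) ∈ (W' : Set Y)
    rw [← hrange, ← Scheme.Hom.comp_apply, hc.w, Scheme.Hom.comp_apply]
    exact ⟨_, rfl⟩
  let a' : A ⟶ (f ⁻¹ᵁ W' : X.Opens) := IsOpenImmersion.lift (f ⁻¹ᵁ W').ι a hra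
  have ha' : a' ≫ (f ⁻¹ᵁ W').ι = a := IsOpenImmersion.lift_fac _ _ _
  have hsq : IsPullback b a' g' (f ∣_ W') := by
    refine IsPullback.of_bot ?_ ?_ (isPullback_morphismRestrict f W')
    · rw [ha', hg']
      exact hc.flip
    · rw [← cancel_mono W'.ι, Category.assoc, Category.assoc, hg', morphismRestrict_ι,
        ← Category.assoc, ha', hc.w]
  haveI : Etale g' := by
    have h1 : Etale (g' ≫ W'.ι) := by rw [hg']; infer_instance
    exact MorphismProperty.of_postcomp (W := @Etale) (W' := @Etale) g' W'.ι inferInstance h1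
  have hsurj : Surjective g' := by
    constructor
    rintro ⟨y, hy⟩
    have hy' : y ∈ Set.range g₀ := by rw [hrange]; exact hy
    obtain ⟨v, hv⟩ := hy'
    refine ⟨v, ?_⟩
    apply W'.ι.isOpenEmbedding.injective
    rw [← Scheme.Hom.comp_apply, hg']
    exact hv
  have hQ : (@Surjective ⊓ @Flat ⊓ @LocallyOfFinitePresentation :
      MorphismProperty Scheme.{u}) g' := ⟨⟨hsurj, inferInstance⟩, inferInstance⟩
  exact MorphismProperty.of_isPullback_of_descendsAlong (P := @IsFinite)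
    (Q := @Surjective ⊓ @Flat ⊓ @LocallyOfFinitePresentation) hsq hQ ‹IsFinite b›

lemma isFinite_sup {P S : Scheme.{u}} (π : P ⟶ S) (A B : P.Opens) (hAB : Disjoint A B)
    [IsFinite (A.ι ≫ π)] [IsFinite (B.ι ≫ π)] : IsFinite ((A ⊔ B).ι ≫ π) := by
  let fA : (A : Scheme) ⟶ (A ⊔ B : P.Opens) := P.homOfLE le_sup_left
  let fB : (B : Scheme) ⟶ (A ⊔ B : P.Opens) := P.homOfLE le_sup_right
  have hcompl : IsCompl fA.opensRange fB.opensRange := by
    rw [P.opensRange_homOfLE, P.opensRange_homOfLE]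
    constructor
    · rw [disjoint_iff]
      ext x
      simp only [TopologicalSpace.Opens.coe_inf, Set.mem_inter_iff, SetLike.mem_coe,
        TopologicalSpace.Opens.coe_bot, Set.mem_empty_iff_false, iff_false, not_and]
      intro hxA hxB
      exact (hAB.le_bot ⟨hxA, hxB⟩ : False)
    · rw [codisjoint_iff]
      ext x
      simp only [TopologicalSpace.Opens.coe_sup, Set.mem_union, SetLike.mem_coe,
        TopologicalSpace.Opens.coe_top, Set.mem_univ, iff_true]
      exact x.2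
  obtain ⟨hcolim⟩ := nonempty_isColimit_binaryCofanMk_of_isCompl fA fB hcompl
  haveI : IsIso (coprod.desc fA fB) := by
    have : coprod.desc fA fB =
        ((colimit.isColimit _).coconePointUniqueUpToIso hcolim).hom := rfl
    rw [this]
    infer_instance
  rw [← MorphismProperty.cancel_left_of_respectsIso (P := @IsFinite) (coprod.desc fA fB)]
  have : coprod.desc fA fB ≫ (A ⊔ B).ι ≫ π = coprod.desc (A.ι ≫ π) (B.ι ≫ π) := by
    ext <;> simp [fA, fB]
  rw [this]
  infer_instance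

lemma isFinite_iSup_finset {P S : Scheme.{u}} (π : P ⟶ S) {K : Type*} [DecidableEq K]
    (O : K → P.Opens) (hdisj : ∀ k l, k ≠ l → Disjoint (O k) (O l))
    (hfin : ∀ k, IsFinite ((O k).ι ≫ π)) (s : Finset K) :
    IsFinite ((⨆ k ∈ s, O k).ι ≫ π) := by
  induction s using Finset.induction_on with
  | empty =>
    have h0 : (⨆ k ∈ (∅ : Finset K), O k) = ⊥ := by simp
    rw [h0]
    haveI : IsEmpty ((⊥ : P.Opens) : Scheme) := ⟨fun x => x.2⟩
    infer_instance
  | insert a s ha ih =>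
    have h1 : (⨆ k ∈ insert a s, O k) = O a ⊔ ⨆ k ∈ s, O k := Finset.iSup_insert a s O
    rw [h1]
    haveI := hfin a
    haveI := ih
    refine isFinite_sup π (O a) (⨆ k ∈ s, O k) ?_
    rw [disjoint_iSup₂_iff]
    intro k hk
    exact hdisj a k (fun h => ha (h ▸ hk))

lemma isFinite_morphismRestrict_of_cover {P V : Scheme.{u}} (π : P ⟶ V) (W₀ : V.Opens)
    {K : Type*} [Fintype K] (O : K → P.Opens) (hdisj : ∀ k l, k ≠ l → Disjoint (O k) (O l))
    (hfin : ∀ k, IsFinite ((O k).ι ≫ π)) (hcov : π ⁻¹ᵁ W₀ ≤ ⨆ k, O k) :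
    IsFinite (π ∣_ W₀) := by
  classical
  have h1 : IsFinite ((⨆ k, O k).ι ≫ π) := by
    have := isFinite_iSup_finset π O hdisj hfin Finset.univ
    have h0 : (⨆ k ∈ (Finset.univ : Finset K), O k) = ⨆ k, O k := by simp
    rwa [h0] at this
  let j : (π ⁻¹ᵁ W₀ : P.Opens).toScheme ⟶ (⨆ k, O k : P.Opens) := P.homOfLE hcov
  have hsq : IsPullback (π ∣_ W₀) j W₀.ι ((⨆ k, O k).ι ≫ π) := by
    refine IsOpenImmersion.isPullback _ _ _ _ ?_ ?_
    · rw [← Category.assoc, P.homOfLE_ι, morphismRestrict_ι]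
    · rw [Scheme.Opens.opensRange_ι, P.opensRange_homOfLE, Scheme.Hom.comp_preimage]
  exact MorphismProperty.of_isPullback hsq.flip h1

lemma cover_of_sum_eq {U V : Scheme.{u}} (π : U ⟶ V) [LocallyOfFiniteType π]
    [LocallyQuasiFinite π] (w : U → ℤ) (hw : ∀ z, 0 < w z) {K : Type*} [Fintype K]
    (O : K → U.Opens) (hdisj : ∀ k l, k ≠ l → ∀ p, p ∈ O k → p ∈ O l → False) (v : V)
    (hfin : (π ⁻¹' {v}).Finite)
    (heq : MoreMor.fibreIntegral π w v ≤
      ∑ k, MoreMor.fibreIntegral ((O k).ι ≫ π) (fun z => w ((O k).ι z)) v) :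
    ∀ p, π p = v → ∃ k, p ∈ O k := by
  classical
  intro p₀ hp₀
  by_contra hcon
  push_neg at hcon
  rw [fibreIntegral_eq_sum π w v hfin] at heq
  simp_rw [fibreIntegral_opens π w _ v hfin] at heq
  rw [← Finset.sum_biUnion] at heq
  · have hlt : ∑ p ∈ Finset.univ.biUnion (fun k =>
        hfin.toFinset.filter (fun p => p ∈ O k)), w p * (sdeg π p : ℤ) <
        ∑ p ∈ hfin.toFinset, w p * (sdeg π p : ℤ) := by
      refine Finset.sum_lt_sum_of_subset (i := p₀) ?_ ?_ ?_ ?_ ?_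
      · intro p hp
        simp only [Finset.mem_biUnion, Finset.mem_filter] at hp
        obtain ⟨k, _, hk1, _⟩ := hp
        exact hk1
      · simpa using hp₀
      · simp only [Finset.mem_biUnion, Finset.mem_filter, not_exists, not_and]
        intro k _ _
        exact hcon k
      · have := one_le_sdeg π p₀
        have h2 := hw p₀
        positivity
      · intro p _ _
        exact mul_nonneg (hw p).le (Int.natCast_nonneg _)
    omega
  · intro k _ l _ hkl
    rw [Function.onFun, Finset.disjoint_left]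
    intro p hp hp'
    simp only [Finset.mem_filter] at hp hp'
    exact hdisj k l hkl p hp.2 hp'.2

theorem local_structure_sum {X Y : Scheme.{u}} (f : X ⟶ Y) [LocallyQuasiFinite f]
    [LocallyOfFiniteType f] [IsSeparated f] (hfin : ∀ y : Y, (f ⁻¹' {y}).Finite)
    (w : X → ℤ) (hw : MoreMor.IsWeighting f w) (y₀ : Y) :
    ∃ (V : Scheme.{u}) (g : V ⟶ Y) (v₀ : V), Etale g ∧ g v₀ = y₀ ∧
      ∃ (K : Type) (_ : Fintype K) (O : K → (pullback f g).Opens),
        (∀ k, IsFinite ((O k).ι ≫ pullback.snd f g)) ∧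
        (∀ k l, k ≠ l → ∀ p, p ∈ O k → p ∈ O l → False) ∧
        ∃ W₀ : V.Opens, v₀ ∈ W₀ ∧ ∀ v ∈ W₀,
          ∑ k, MoreMor.fibreIntegral ((O k).ι ≫ pullback.snd f g)
            (fun z => (w ∘ ⇑(pullback.fst f g)) ((O k).ι z)) v =
            MoreMor.fibreIntegral f w y₀ := by
  classical
  obtain ⟨V, g, v₀, hg, hgv, K, hK, O, hOfin, hOdisj, hOcov⟩ :=
    etale_local_structure f hfin y₀
  haveI := hg
  refine ⟨V, g, v₀, hg, hgv, K, hK, O, hOfin, hOdisj, ?_⟩
  have hpb : IsPullback (pullback.fst f g) (pullback.snd f g) f g :=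
    IsPullback.of_hasPullback f g
  have hfin' : ∀ v : V, ((pullback.snd f g) ⁻¹' {v}).Finite :=
    finite_fibre_baseChange f hfin _ _ _ hpb
  have hbc : ∀ v : V, MoreMor.fibreIntegral (pullback.snd f g) (w ∘ ⇑(pullback.fst f g)) v =
      MoreMor.fibreIntegral f w (g v) :=
    fun v => fibreIntegral_baseChange f hfin _ _ _ hpb w v
  let Φ : K → V → ℤ := fun k =>
    MoreMor.fibreIntegral ((O k).ι ≫ pullback.snd f g)
      (fun u => w (pullback.fst f g ((O k).ι u)))
  have hΦ : ∀ k, IsLocallyConstant (Φ k) := fun k => hw V g (O k) (hOfin k)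
  let W₀ : Set V := ⋂ k, {v | Φ k v = Φ k v₀}
  have hW₀ : IsOpen W₀ := isOpen_iInter_of_finite (fun k => (hΦ k).isOpen_fiber (Φ k v₀))
  have hv₀ : v₀ ∈ W₀ := Set.mem_iInter.mpr (fun k => rfl)
  refine ⟨⟨W₀, hW₀⟩, hv₀, ?_⟩
  intro v hv
  rw [← hgv, ← hbc v₀]
  have h1 := sum_fibreIntegral_opens_eq (pullback.snd f g) (w ∘ ⇑(pullback.fst f g)) O hOdisj
    v₀ (hfin' v₀) (fun p hp => hOcov p hp)
  rw [← h1]
  refine Finset.sum_congr rfl (fun k _ => ?_)
  exact Set.mem_iInter.mp hv k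

theorem finite_over_max {X Y : Scheme.{u}} (f : X ⟶ Y) [LocallyQuasiFinite f]
    [LocallyOfFiniteType f] [IsSeparated f] (hfin : ∀ y : Y, (f ⁻¹' {y}).Finite)
    (w : X → ℤ) (hw : MoreMor.IsWeighting f w) (hpos : ∀ x, 0 < w x) (d : ℤ)
    (hmax : ∀ y : Y, MoreMor.fibreIntegral f w y ≤ d) :
    ∃ hYd : IsOpen {y : ↑Y | MoreMor.fibreIntegral f w y = d},
      IsFinite (f ∣_ ⟨{y : ↑Y | MoreMor.fibreIntegral f w y = d}, hYd⟩) := by
  classical
  have hlsc := lsc_fibreIntegral f hfin w hw hpos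
  have hset : {y : ↑Y | MoreMor.fibreIntegral f w y = d} =
      (MoreMor.fibreIntegral f w) ⁻¹' Set.Ioi (d - 1) := by
    ext y
    simp only [Set.mem_ofPred_eq, Set.mem_preimage, Set.mem_Ioi]
    have := hmax y
    omega
  have hYd : IsOpen {y : ↑Y | MoreMor.fibreIntegral f w y = d} := by
    rw [hset]
    exact hlsc.isOpen_preimage _
  refine ⟨hYd, ?_⟩
  apply isFinite_restrict_of_local
  intro y₀ hy₀
  have hy₀' : MoreMor.fibreIntegral f w y₀ = d := hy₀
  obtain ⟨V, g, v₀, hg, hgv, K, hK, O, hOfin, hOdisj, W₀, hv₀, hsum⟩ :=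
    local_structure_sum f hfin w hw y₀
  haveI := hg
  have hpb : IsPullback (pullback.fst f g) (pullback.snd f g) f g :=
    IsPullback.of_hasPullback f g
  have hfin' : ∀ v : V, ((pullback.snd f g) ⁻¹' {v}).Finite :=
    finite_fibre_baseChange f hfin _ _ _ hpb
  have hbc : ∀ v : V, MoreMor.fibreIntegral (pullback.snd f g) (w ∘ ⇑(pullback.fst f g)) v =
      MoreMor.fibreIntegral f w (g v) :=
    fun v => fibreIntegral_baseChange f hfin _ _ _ hpb w v
  -- on W₀ the integral equals d and the pieces cover the fibre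
  have hle : ∀ v ∈ W₀, MoreMor.fibreIntegral (pullback.snd f g) (w ∘ ⇑(pullback.fst f g)) v ≤
      ∑ k, MoreMor.fibreIntegral ((O k).ι ≫ pullback.snd f g)
        (fun z => (w ∘ ⇑(pullback.fst f g)) ((O k).ι z)) v := by
    intro v hv
    rw [hsum v hv, hy₀', hbc v]
    exact hmax _
  have hWd : ∀ v ∈ W₀, MoreMor.fibreIntegral f w (g v) = d := by
    intro v hv
    have h2 := sum_fibreIntegral_opens_le (pullback.snd f g) (w ∘ ⇑(pullback.fst f g))
      (fun z => (hpos _).le) O hOdisj v (hfin' v)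
    rw [hsum v hv, hy₀', hbc v] at h2
    exact le_antisymm (hmax _) h2
  have hcov : ∀ v ∈ W₀, ∀ p, pullback.snd f g p = v → ∃ k, p ∈ O k := fun v hv =>
    cover_of_sum_eq (pullback.snd f g) (w ∘ ⇑(pullback.fst f g)) (fun z => hpos _) O hOdisj v
      (hfin' v) (hle v hv)
  let W' : Y.Opens := ⟨g '' (W₀ : Set V), g.isOpenMap _ W₀.isOpen⟩
  refine ⟨W', ⟨v₀, hv₀, hgv⟩, ?_, ?_⟩
  · rintro _ ⟨v, hv, rfl⟩
    exact hWd v hv
  · haveI : IsFinite (pullback.snd f g ∣_ W₀) := by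
      refine isFinite_morphismRestrict_of_cover (pullback.snd f g) W₀ O ?_ hOfin ?_
      · intro k l hkl
        rw [disjoint_iff]
        ext p
        simp only [TopologicalSpace.Opens.coe_inf, Set.mem_inter_iff, SetLike.mem_coe,
          TopologicalSpace.Opens.coe_bot, Set.mem_empty_iff_false, iff_false, not_and]
        exact fun h1 h2 => hOdisj k l hkl p h1 h2
      · intro p hp
        obtain ⟨k, hk⟩ := hcov _ hp p rfl
        exact TopologicalSpace.Opens.mem_iSup.mpr ⟨k, hk⟩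
    have hc2 : IsPullback ((pullback.snd f g ⁻¹ᵁ W₀).ι ≫ pullback.fst f g)
        (pullback.snd f g ∣_ W₀) f (W₀.ι ≫ g) :=
      (isPullback_morphismRestrict (pullback.snd f g) W₀).flip.paste_horiz hpb
    refine isFinite_restrict_of_etale_cover f W' _ _ (W₀.ι ≫ g) hc2 ?_
    rw [Scheme.Hom.comp_base, TopCat.coe_comp, Set.range_comp, Scheme.Opens.range_ι]
    rfl

end Groth.Agent.Helper18.Weighting
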