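import Mathlib
import Groth.Prelude.Def_MoreMor
import Groth.Prelude.Def_EGA43
import Groth.Agent.Lib.Helper18.WeightingBound
import Groth.Agent.Lib.Helper18.WeightingFinite

set_option autoImplicit false

namespace Groth.Agent.Helper18.Weighting

open AlgebraicGeometry CategoryTheory Limits IsLocalRing Topology

universe u

section Top

lemma card_connectedComponents_of_discrete (T : Type*) [TopologicalSpace T] [DiscreteTopology T] :
    ENat.card (ConnectedComponents T) = ENat.card T := by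
  refine (ENat.card_congr (Equiv.ofBijective (ConnectedComponents.mk : T → ConnectedComponents T)
    ⟨?_, ConnectedComponents.surjective_coe⟩)).symm
  intro a b hab
  have h := ConnectedComponents.coe_eq_coe.mp hab
  rw [connectedComponent_eq_singleton, connectedComponent_eq_singleton] at h
  exact Set.singleton_eq_singleton_iff.mp h

lemma encard_irreducibleComponents_of_discrete (T : Type*) [TopologicalSpace T]
    [DiscreteTopology T] : (irreducibleComponents T).encard = ENat.card T := by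
  have h : irreducibleComponents T = Set.range (fun x : T => ({x} : Set T)) := by
    ext s
    constructor
    · intro hs
      obtain ⟨x, rfl⟩ := isIrreducible_iff_singleton.mp hs.prop
      exact ⟨x, rfl⟩
    · rintro ⟨x, rfl⟩
      refine ⟨isIrreducible_singleton, fun t ht hle => ?_⟩
      obtain ⟨x', rfl⟩ := isIrreducible_iff_singleton.mp ht
      have hx : x = x' := by simpa using hle
      rw [hx]
  rw [h, ← Set.image_univ, Set.InjOn.encard_image (Set.singleton_injective.injOn),
    Set.encard_univ]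

end Top

section SepClosed

lemma isSepClosed_residueField_spec (k : Type u) [Field k] [IsSepClosed k]
    (p : ↑(Spec (CommRingCat.of k))) :
    IsSepClosed ((Spec (CommRingCat.of k)).residueField p) := by
  obtain ⟨⟨x, ι⟩, hι⟩ :=
    (Scheme.SpecToEquivOfField k (Spec (CommRingCat.of k))).symm.surjective (𝟙 _)
  haveI : Subsingleton ↑(Spec (CommRingCat.of k)) :=
    show Subsingleton (PrimeSpectrum k) from inferInstance
  obtain rfl : x = p := Subsingleton.elim _ _
  simp only [Scheme.SpecToEquivOfField_symm_apply] at hι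
  have h1 : Spec.map (Spec.preimage ((Spec (CommRingCat.of k)).fromSpecResidueField x) ≫ ι) =
      Spec.map (𝟙 _) := by
    rw [Spec.map_comp, Spec.map_preimage, Spec.map_id]
    exact hι
  have h2 : Spec.preimage ((Spec (CommRingCat.of k)).fromSpecResidueField x) ≫ ι = 𝟙 _ :=
    Spec.map_injective h1
  have hinj : Function.Injective ι.hom := ι.hom.injective
  have hφsurj : Function.Surjective
      (Spec.preimage ((Spec (CommRingCat.of k)).fromSpecResidueField x)).hom := fun b =>
    ⟨ι.hom b, hinj (congrArg (fun m : CommRingCat.of k ⟶ CommRingCat.of k => m.hom (ι.hom b)) h2)⟩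
  letI := (Spec.preimage ((Spec (CommRingCat.of k)).fromSpecResidueField x)).hom.toAlgebra
  haveI : Algebra.IsIntegral k ((Spec (CommRingCat.of k)).residueField x) := ⟨fun b => by
    obtain ⟨a, rfl⟩ := hφsurj b
    exact isIntegral_algebraMap (R := k) (x := a)⟩
  exact Algebra.IsAlgebraic.isSepClosed (F := k)

end SepClosed

section Count

variable {X Y : Scheme.{u}}

/-- The structure map of the separable geometric point over `y`. -/
noncomputable def geomBase (y : Y) :
    Spec (CommRingCat.of (SeparableClosure (Y.residueField y))) ⟶ Y :=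
  Spec.map (CommRingCat.ofHom (algebraMap (Y.residueField y)
    (SeparableClosure (Y.residueField y)))) ≫ Y.fromSpecResidueField y

lemma isPullback_geomFiber (f : X ⟶ Y) (y : Y) :
    ∃ (h : MoreMor.geomFiber f y ⟶ X)
      (π : MoreMor.geomFiber f y ⟶ Spec (CommRingCat.of (SeparableClosure (Y.residueField y)))),
      IsPullback h π f (geomBase y) := by
  unfold MoreMor.geomFiber geomBase
  exact ⟨_, _, (IsPullback.of_hasPullback (f.fiberToSpecResidueField y) _).paste_horiz
    (IsPullback.of_hasPullback f (Y.fromSpecResidueField y))⟩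

theorem geomCount (f : X ⟶ Y) [LocallyOfFiniteType f] [LocallyQuasiFinite f] (y : Y) :
    MoreMor.nGeomIrredComp f y = MoreMor.nGeomConnComp f y ∧
    ∃ (Ω : Type u) (_ : Field Ω) (_ : IsAlgClosed Ω) (τ : Spec (CommRingCat.of Ω) ⟶ Y),
      τ (closedPoint Ω) = y ∧
      MoreMor.nGeomConnComp f y =
        ENat.card {ū : Spec (CommRingCat.of Ω) ⟶ X // ū ≫ f = τ} := by
  obtain ⟨h, π, hc⟩ := isPullback_geomFiber f y
  haveI : LocallyOfFiniteType π :=
    MorphismProperty.of_isPullback (P := @LocallyOfFiniteType) hc inferInstance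
  haveI : LocallyQuasiFinite π :=
    MorphismProperty.of_isPullback (P := @LocallyQuasiFinite) hc inferInstance
  haveI hsub : Subsingleton ↑(Spec (CommRingCat.of (SeparableClosure (Y.residueField y)))) :=
    show Subsingleton (PrimeSpectrum (SeparableClosure (Y.residueField y))) from inferInstance
  haveI hdisc : DiscreteTopology ↑(MoreMor.geomFiber f y) := by
    rw [← isDiscrete_univ_iff]
    have h1 := π.isDiscrete_preimage_singleton
      (closedPoint (SeparableClosure (Y.residueField y)))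
    have h2 : π ⁻¹' {closedPoint (SeparableClosure (Y.residueField y))} = Set.univ := by
      ext z
      simp only [Set.mem_preimage, Set.mem_singleton_iff, Set.mem_univ, iff_true]
      exact Subsingleton.elim _ _
    convert h1
    exact h2.symm
  refine ⟨?_, ?_⟩
  · unfold MoreMor.nGeomIrredComp MoreMor.nGeomConnComp
    rw [encard_irreducibleComponents_of_discrete, card_connectedComponents_of_discrete]
  · refine ⟨AlgebraicClosure (SeparableClosure (Y.residueField y)), inferInstance, inferInstance,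
      Spec.map (CommRingCat.ofHom (algebraMap (SeparableClosure (Y.residueField y))
        (AlgebraicClosure (SeparableClosure (Y.residueField y))))) ≫ geomBase y, ?_, ?_⟩
    · unfold geomBase
      rw [Scheme.Hom.comp_apply, Scheme.Hom.comp_apply, Scheme.fromSpecResidueField_apply]
    · unfold MoreMor.nGeomConnComp
      rw [card_connectedComponents_of_discrete]
      have hsd : ∀ z : ↑(MoreMor.geomFiber f y), sdeg π z = 1 := by
        intro z
        apply sdeg_eq_one
        haveI := isSepClosed_residueField_spec (SeparableClosure (Y.residueField y)) (π z)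
        have hfin := EtLoc.finite_residueFieldMap_of_quasiFiniteAt π z (π.quasiFiniteAt z)
        letI := (π.residueFieldMap z).hom.toAlgebra
        haveI : FiniteDimensional
            ((Spec (CommRingCat.of (SeparableClosure (Y.residueField y)))).residueField (π z))
            ((MoreMor.geomFiber f y).residueField z) := hfin
        infer_instance
      have hbij : Function.Bijective (liftPt π (AlgebraicClosure (SeparableClosure (Y.residueField y)))
          (Spec.map (CommRingCat.ofHom (algebraMap (SeparableClosure (Y.residueField y))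
            (AlgebraicClosure (SeparableClosure (Y.residueField y))))))) := by
        refine ⟨?_, liftPt_surjective π _ _⟩
        intro a b hab
        have hcard := card_liftFibre π _ _ (liftPt π (AlgebraicClosure (SeparableClosure (Y.residueField y)))
          (Spec.map (CommRingCat.ofHom (algebraMap (SeparableClosure (Y.residueField y))
            (AlgebraicClosure (SeparableClosure (Y.residueField y)))))) a)
        rw [hsd] at hcard
        haveI := (Nat.card_eq_one_iff_unique.mp hcard).1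
        have e1 : (⟨a, rfl⟩ : {ū // liftPt π _ _ ū = liftPt π _ _ a}) = ⟨b, hab.symm⟩ :=
          Subsingleton.elim _ _
        exact congrArg Subtype.val e1
      exact (ENat.card_congr (((liftsPullbackEquiv hc _ _).symm.trans
        (Equiv.ofBijective _ hbij)).trans
        (Equiv.subtypeUnivEquiv (fun z => Subsingleton.elim _ _)))).symm

/-- Uniform bound on the number of geometric lifts for a quasi-compact source. -/
theorem exists_lift_bound (f : X ⟶ Y) [LocallyQuasiFinite f] [LocallyOfFiniteType f]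
    [CompactSpace ↑X] :
    ∃ d : ℕ, ∀ (Ω : Type u) [Field Ω] (τ : Spec (CommRingCat.of Ω) ⟶ Y),
      Finite {ū : Spec (CommRingCat.of Ω) ⟶ X // ū ≫ f = τ} ∧
      Nat.card {ū : Spec (CommRingCat.of Ω) ⟶ X // ū ≫ f = τ} ≤ d := by
  classical
  choose U N hxU hUN using fun x : X => local_lift_bound f x
  obtain ⟨t, ht⟩ := CompactSpace.elim_nhds_subcover (fun x => (U x : Set X))
    (fun x => (U x).isOpen.mem_nhds (hxU x))
  refine ⟨∑ x ∈ t, N x, ?_⟩
  intro Ω _ τ
  have hF : ∀ F : Finset {ū : Spec (CommRingCat.of Ω) ⟶ X // ū ≫ f = τ},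
      F.card ≤ ∑ x ∈ t, N x := by
    intro F
    have hcov : F = t.biUnion (fun x => F.filter (fun ū => ū.1 (closedPoint Ω) ∈ U x)) := by
      ext ū
      simp only [Finset.mem_biUnion, Finset.mem_filter]
      constructor
      · intro hū
        have hz : ū.1 (closedPoint Ω) ∈ ⋃ x ∈ t, (U x : Set X) := by rw [ht]; trivial
        obtain ⟨x, hx⟩ := Set.mem_iUnion.mp hz
        obtain ⟨hxt, hzx⟩ := Set.mem_iUnion.mp hx
        exact ⟨x, hxt, hū, hzx⟩
      · rintro ⟨x, _, hū, _⟩
        exact hū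
    calc F.card = (t.biUnion (fun x => F.filter (fun ū => ū.1 (closedPoint Ω) ∈ U x))).card :=
          congrArg Finset.card hcov
      _ ≤ ∑ x ∈ t, (F.filter (fun ū => ū.1 (closedPoint Ω) ∈ U x)).card :=
          Finset.card_biUnion_le
      _ ≤ ∑ x ∈ t, N x := by
          refine Finset.sum_le_sum fun x _ => ?_
          have h1 := hUN x Ω τ
            ((F.filter (fun ū => ū.1 (closedPoint Ω) ∈ U x)).image Subtype.val) (by
              intro ū hū
              obtain ⟨ū', hū', rfl⟩ := Finset.mem_image.mp hū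
              exact ⟨ū'.2, (Finset.mem_filter.mp hū').2⟩)
          rwa [Finset.card_image_of_injective _ Subtype.val_injective] at h1
  have hfinite : Finite {ū : Spec (CommRingCat.of Ω) ⟶ X // ū ≫ f = τ} := by
    by_contra hinf
    rw [not_finite_iff_infinite] at hinf
    obtain ⟨F, hFc⟩ := Infinite.exists_subset_card_eq
      {ū : Spec (CommRingCat.of Ω) ⟶ X // ū ≫ f = τ} (∑ x ∈ t, N x + 1)
    have := hF F
    omega
  refine ⟨hfinite, ?_⟩
  haveI := Fintype.ofFinite {ū : Spec (CommRingCat.of Ω) ⟶ X // ū ≫ f = τ}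
  rw [Nat.card_eq_fintype_card, ← Finset.card_univ]
  exact hF Finset.univ

/-- S1415. -/
theorem geomComp_main (f : X ⟶ Y) [LocallyQuasiFinite f] [LocallyOfFiniteType f] :
    (∀ y : Y, MoreMor.nGeomIrredComp f y = MoreMor.nGeomConnComp f y) ∧
      (CompactSpace ↑X → ∃ d : ℕ, ∀ y : Y, MoreMor.nGeomConnComp f y ≤ d) := by
  refine ⟨fun y => (geomCount f y).1, fun hX => ?_⟩
  haveI := hX
  obtain ⟨d, hd⟩ := exists_lift_bound f
  refine ⟨d, fun y => ?_⟩
  obtain ⟨Ω, _, _, τ, hpt, hn⟩ := (geomCount f y).2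
  obtain ⟨hfinite, hcard⟩ := hd Ω τ
  haveI := hfinite
  rw [hn, ENat.card_eq_coe_natCard]
  exact_mod_cast hcard

lemma nGeomConnComp_eq_integral (f : X ⟶ Y) [LocallyQuasiFinite f] [LocallyOfFiniteType f]
    (hfin : ∀ y : Y, (f ⁻¹' {y}).Finite) (y : Y) :
    MoreMor.nGeomConnComp f y = ((MoreMor.fibreIntegral f (fun _ => 1) y).toNat : ℕ∞) ∧
      0 ≤ MoreMor.fibreIntegral f (fun _ => 1) y := by
  obtain ⟨Ω, _, _, τ, hpt, hn⟩ := (geomCount f y).2
  haveI : Finite {ū : Spec (CommRingCat.of Ω) ⟶ X // ū ≫ f = τ} :=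
    finite_lifts f Ω τ (by rw [hpt]; exact hfin y)
  have e := fibreIntegral_eq_geometric f Ω τ (fun _ => 1)
  rw [hpt] at e
  haveI := Fintype.ofFinite {ū : Spec (CommRingCat.of Ω) ⟶ X // ū ≫ f = τ}
  rw [finsum_eq_sum_of_fintype, Finset.sum_const, Finset.card_univ, nsmul_eq_mul, mul_one] at e
  rw [hn, ENat.card_eq_coe_fintype_card, e]
  exact ⟨by simp, by positivity⟩

end Count

section Local

variable {X Y : Scheme.{u}}

theorem etale_local_structure_pi (f : X ⟶ Y) [LocallyQuasiFinite f]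
    [LocallyOfFiniteType f] [IsSeparated f] (hfin : ∀ y : Y, (f ⁻¹' {y}).Finite) (y₀ : Y) :
    ∃ (V : Scheme.{u}) (g : V ⟶ Y) (v₀ : V), Etale g ∧ g v₀ = y₀ ∧
      ∃ (K : Type) (_ : Fintype K) (O : K → (pullback f g).Opens),
        (∀ k, IsFinite ((O k).ι ≫ pullback.snd f g)) ∧
        (∀ k l, k ≠ l → ∀ p, p ∈ O k → p ∈ O l → False) ∧
        (∀ p : ↑(pullback f g), pullback.snd f g p = v₀ → ∃ k, p ∈ O k) ∧
        (∀ k, ∃ p : ↑(pullback f g), p ∈ O k ∧ pullback.snd f g p = v₀ ∧
          (∀ p', p' ∈ O k → pullback.snd f g p' = v₀ → p' = p) ∧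
          sdeg (pullback.snd f g) p = 1) := by
  classical
  haveI : Finite {x : X // f x = y₀} := (hfin y₀).to_subtype
  obtain ⟨n, ⟨e⟩⟩ := Finite.exists_equiv_fin {x : X // f x = y₀}
  let x : Fin n → X := fun i => (e.symm i).1
  have hx : ∀ i, f (x i) = y₀ := fun i => (e.symm i).2
  have hxinj : Function.Injective x := fun i i' h => e.symm.injective (Subtype.ext h)
  have hxsurj : ∀ z : X, f z = y₀ → ∃ i, z = x i := fun z hz => ⟨e ⟨z, hz⟩, by simp [x]⟩
  obtain ⟨V, g, v₀, hg, hgv, m, O₀, pt, hprop, hinj, hall⟩ :=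
    EtLoc.pi_core f y₀ x hx (fun i => f.quasiFiniteAt (x i))
  haveI := hg
  refine ⟨V, g, v₀, hg, hgv, (Σ i : Fin n, Fin (m i)), inferInstance, ?_⟩
  let A : (Σ i : Fin n, Fin (m i)) → (pullback f g).Opens := fun k => O₀ k.1 k.2
  let q : (Σ i : Fin n, Fin (m i)) → ↑(pullback f g) := fun k => pt k.1 k.2
  have hqA : ∀ k, q k ∈ A k := fun k => (hprop k.1 k.2).1
  have hAfin : ∀ k, IsFinite ((A k).ι ≫ pullback.snd f g) := fun k => (hprop k.1 k.2).2.1
  have hqv : ∀ k, pullback.snd f g (q k) = v₀ := fun k => (hprop k.1 k.2).2.2.1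
  have huniq : ∀ k (p : ↑(pullback f g)), p ∈ A k → pullback.snd f g p = v₀ → p = q k :=
    fun k => (hprop k.1 k.2).2.2.2.1
  have hqx : ∀ k, pullback.fst f g (q k) = x k.1 := fun k => (hprop k.1 k.2).2.2.2.2.2
  have hqinj : Function.Injective q := by
    rintro ⟨i, j⟩ ⟨i', j'⟩ h
    have h1 : i = i' := hxinj (by rw [← hqx ⟨i, j⟩, ← hqx ⟨i', j'⟩, h])
    subst h1
    have h2 : j = j' := hinj i h
    subst h2
    rfl
  have hqnot : ∀ k l, k ≠ l → q k ∉ A l := fun k l hkl hmem =>
    hkl (hqinj (huniq l (q k) hmem (hqv k)))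
  have hAcl : ∀ k, IsClosed (A k : Set ↑(pullback f g)) := fun k => by
    haveI := hAfin k
    exact isClosed_of_isFinite_opens (pullback.snd f g) (A k)
  have hBcl : ∀ k : (Σ i : Fin n, Fin (m i)),
      IsClosed (⋃ l ∈ {l | l ≠ k}, (A l : Set ↑(pullback f g))) := fun k =>
    Set.Finite.isClosed_biUnion (Set.toFinite _) (fun l _ => hAcl l)
  let O : (Σ i : Fin n, Fin (m i)) → (pullback f g).Opens := fun k =>
    A k ⊓ ⟨(⋃ l ∈ {l | l ≠ k}, (A l : Set ↑(pullback f g)))ᶜ, (hBcl k).isOpen_compl⟩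
  have hOmem : ∀ k p, p ∈ O k ↔ p ∈ A k ∧ ∀ l, l ≠ k → p ∉ A l := by
    intro k p
    change (p ∈ A k ∧ p ∈ (⋃ l ∈ {l | l ≠ k}, (A l : Set ↑(pullback f g)))ᶜ) ↔ _
    simp
  refine ⟨O, ?_, ?_, ?_, ?_⟩
  · intro k
    haveI := hAfin k
    refine isFinite_of_le_of_isClosed (pullback.snd f g) (A k) (O k) inf_le_left ?_
    have : (O k : Set ↑(pullback f g)) =
        (A k : Set _) ∩ (⋃ l ∈ {l | l ≠ k}, (A l : Set ↑(pullback f g)))ᶜ := rfl
    rw [this]
    exact (hAcl k).inter (isOpen_biUnion (fun l _ => (A l).isOpen)).isClosed_compl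
  · intro k l hkl p hpk hpl
    exact ((hOmem l p).mp hpl).2 k hkl ((hOmem k p).mp hpk).1
  · intro p hp
    have h1 : f (pullback.fst f g p) = y₀ := by
      rw [← Scheme.Hom.comp_apply, pullback.condition, Scheme.Hom.comp_apply, hp, hgv]
    obtain ⟨i, hi⟩ := hxsurj _ h1
    obtain ⟨j, hj⟩ := hall p i hp hi
    refine ⟨⟨i, j⟩, (hOmem _ p).mpr ⟨?_, ?_⟩⟩
    · rw [hj]; exact hqA ⟨i, j⟩
    · intro l hl; rw [hj]; exact hqnot ⟨i, j⟩ l (Ne.symm hl)
  · intro k
    refine ⟨q k, (hOmem k (q k)).mpr ⟨hqA k, fun l hl => hqnot k l (Ne.symm hl)⟩, hqv k,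
      fun p' hp' hpv' => huniq k p' ((hOmem k p').mp hp').1 hpv',
      sdeg_eq_one _ _ (hprop k.1 k.2).2.2.2.2.1.2⟩

lemma isUnivOpenAt_of_universallyOpen (f : X ⟶ Y) [UniversallyOpen f] (x : X) :
    EGA43.IsUnivOpenAt f x := by
  intro Y' g x' _ U hU
  obtain ⟨U', hU'U, hU'o, hx'U'⟩ := mem_nhds_iff.mp hU
  exact Filter.mem_of_superset
    (((pullback.snd f g).isOpenMap U' hU'o).mem_nhds ⟨x', hx'U', rfl⟩) (Set.image_mono hU'U)

theorem count_local (f : X ⟶ Y) [LocallyQuasiFinite f] [LocallyOfFiniteType f]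
    [IsSeparated f] (hfin : ∀ y : Y, (f ⁻¹' {y}).Finite) (y₀ : Y)
    (hopen : ∀ x : X, f x = y₀ → EGA43.IsUnivOpenAt f x) :
    (∃ W : Set Y, IsOpen W ∧ y₀ ∈ W ∧ ∀ y ∈ W,
      MoreMor.fibreIntegral f (fun _ => 1) y₀ ≤ MoreMor.fibreIntegral f (fun _ => 1) y) ∧
    ((∃ N ∈ 𝓝 y₀, ∀ y ∈ N,
        MoreMor.fibreIntegral f (fun _ => 1) y = MoreMor.fibreIntegral f (fun _ => 1) y₀) →
      ∃ U : Y.Opens, y₀ ∈ U ∧ IsFinite (f ∣_ U)) := by
  classical
  obtain ⟨V, g, v₀, hg, hgv, K, hK, O, hOfin, hOdisj, hOcov, hOpt⟩ :=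
    etale_local_structure_pi f hfin y₀
  haveI := hg
  haveI := hK
  have hpb : IsPullback (pullback.fst f g) (pullback.snd f g) f g :=
    IsPullback.of_hasPullback f g
  have hfin' : ∀ v : V, ((pullback.snd f g) ⁻¹' {v}).Finite :=
    finite_fibre_baseChange f hfin _ _ _ hpb
  have hbc : ∀ v : V, MoreMor.fibreIntegral (pullback.snd f g) (fun _ => 1) v =
      MoreMor.fibreIntegral f (fun _ => 1) (g v) :=
    fun v => fibreIntegral_baseChange f hfin _ _ _ hpb (fun _ => 1) v
  choose q hqO hqv hquniq hqs using hOpt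
  have hE : ∀ k, (pullback.snd f g) '' (O k : Set ↑(pullback f g)) ∈ 𝓝 v₀ := by
    intro k
    have hx : f (pullback.fst f g (q k)) = y₀ := by
      rw [← Scheme.Hom.comp_apply, pullback.condition, Scheme.Hom.comp_apply, hqv k, hgv]
    have h1 := hopen _ hx V g (q k) rfl (O k : Set ↑(pullback f g))
      ((O k).isOpen.mem_nhds (hqO k))
    have h2 : (pullback.snd f g).base (q k) = v₀ := hqv k
    rw [h2] at h1
    exact h1
  have hW₀o : IsOpen (interior (⋂ k, (pullback.snd f g) '' (O k : Set ↑(pullback f g)))) :=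
    isOpen_interior
  have hv₀ : v₀ ∈ interior (⋂ k, (pullback.snd f g) '' (O k : Set ↑(pullback f g))) :=
    mem_interior_iff_mem_nhds.mpr ((Filter.iInter_mem).mpr hE)
  have hc1 : ∀ k, MoreMor.fibreIntegral ((O k).ι ≫ pullback.snd f g) (fun _ => 1) v₀ = 1 := by
    intro k
    haveI := hOfin k
    have h1 := fibreIntegral_of_unique ((O k).ι ≫ pullback.snd f g) (fun _ => 1) v₀
      ⟨q k, hqO k⟩ (hqv k) (fun z hz => Subtype.ext (hquniq k z.1 z.2 hz))
    have e : sdeg ((O k).ι ≫ pullback.snd f g) ⟨q k, hqO k⟩ = 1 := by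
      rw [sdeg_comp_of_isOpenImmersion]
      exact hqs k
    rw [h1, e]
    norm_num
  have hcge : ∀ k, ∀ v ∈ interior (⋂ k, (pullback.snd f g) '' (O k : Set ↑(pullback f g))),
      1 ≤ MoreMor.fibreIntegral ((O k).ι ≫ pullback.snd f g) (fun _ => 1) v := by
    intro k v hv
    haveI := hOfin k
    have hv' : v ∈ (pullback.snd f g) '' (O k : Set ↑(pullback f g)) :=
      Set.mem_iInter.mp (interior_subset hv) k
    obtain ⟨p, hpO, hpv⟩ := hv'
    have h1 := term_le_fibreIntegral ((O k).ι ≫ pullback.snd f g) (fun _ => 1)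
      (fun _ => zero_le_one) v
      (((O k).ι ≫ pullback.snd f g).finite_preimage_singleton v) ⟨p, hpO⟩ hpv
    have h2 := one_le_sdeg ((O k).ι ≫ pullback.snd f g) ⟨p, hpO⟩
    calc (1 : ℤ) ≤ 1 * (sdeg ((O k).ι ≫ pullback.snd f g) ⟨p, hpO⟩ : ℤ) := by
          rw [one_mul]; exact_mod_cast h2
      _ ≤ MoreMor.fibreIntegral ((O k).ι ≫ pullback.snd f g) (fun _ => 1) v := h1
  have hsum0 : ∑ k, MoreMor.fibreIntegral ((O k).ι ≫ pullback.snd f g) (fun _ => 1) v₀ =
      MoreMor.fibreIntegral (pullback.snd f g) (fun _ => 1) v₀ :=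
    sum_fibreIntegral_opens_eq (pullback.snd f g) (fun _ => 1) O hOdisj v₀ (hfin' v₀)
      (fun p hp => hOcov p hp)
  have hsumle : ∀ v, ∑ k, MoreMor.fibreIntegral ((O k).ι ≫ pullback.snd f g) (fun _ => 1) v ≤
      MoreMor.fibreIntegral (pullback.snd f g) (fun _ => 1) v := fun v =>
    sum_fibreIntegral_opens_le (pullback.snd f g) (fun _ => 1) (fun _ => zero_le_one) O hOdisj v
      (hfin' v)
  have hcard : MoreMor.fibreIntegral (pullback.snd f g) (fun _ => 1) v₀ = Fintype.card K := by
    rw [← hsum0, Finset.sum_congr rfl (fun k _ => hc1 k)]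
    simp
  have hge : ∀ v ∈ interior (⋂ k, (pullback.snd f g) '' (O k : Set ↑(pullback f g))),
      (Fintype.card K : ℤ) ≤
        ∑ k, MoreMor.fibreIntegral ((O k).ι ≫ pullback.snd f g) (fun _ => 1) v := by
    intro v hv
    calc (Fintype.card K : ℤ) = ∑ _k : K, (1 : ℤ) := by simp
      _ ≤ ∑ k, MoreMor.fibreIntegral ((O k).ι ≫ pullback.snd f g) (fun _ => 1) v :=
          Finset.sum_le_sum (fun k _ => hcge k v hv)
  constructor
  · refine ⟨g '' interior (⋂ k, (pullback.snd f g) '' (O k : Set ↑(pullback f g))),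
      g.isOpenMap _ hW₀o, ⟨v₀, hv₀, hgv⟩, ?_⟩
    rintro _ ⟨v, hv, rfl⟩
    rw [← hgv, ← hbc v₀, ← hbc v, hcard]
    exact (hge v hv).trans (hsumle v)
  · rintro ⟨N, hN, hNeq⟩
    let W₁ : V.Opens := ⟨interior (⋂ k, (pullback.snd f g) '' (O k : Set ↑(pullback f g))) ∩
      g ⁻¹' (interior N), hW₀o.inter (isOpen_interior.preimage g.continuous)⟩
    have hv₁ : v₀ ∈ W₁ := ⟨hv₀, by
      show g v₀ ∈ interior N
      rw [hgv]
      exact mem_interior_iff_mem_nhds.mpr hN⟩
    have hcov : ∀ v ∈ W₁, ∀ p, pullback.snd f g p = v → ∃ k, p ∈ O k := by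
      intro v hv
      apply cover_of_sum_eq (pullback.snd f g) (fun _ => 1) (fun _ => one_pos) O hOdisj v
        (hfin' v)
      have h1 : MoreMor.fibreIntegral (pullback.snd f g) (fun _ => 1) v = Fintype.card K := by
        rw [hbc v, hNeq (g v) (interior_subset hv.2), ← hgv, ← hbc v₀, hcard]
      rw [h1]
      exact hge v hv.1
    refine ⟨⟨g '' (W₁ : Set V), g.isOpenMap _ W₁.isOpen⟩, ⟨v₀, hv₁, hgv⟩, ?_⟩
    haveI : IsFinite (pullback.snd f g ∣_ W₁) := by
      refine isFinite_morphismRestrict_of_cover (pullback.snd f g) W₁ O ?_ hOfin ?_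
      · intro k l hkl
        rw [disjoint_iff]
        ext p
        simp only [TopologicalSpace.Opens.coe_inf, Set.mem_inter_iff, SetLike.mem_coe,
          TopologicalSpace.Opens.coe_bot, Set.mem_empty_iff_false, iff_false, not_and]
        exact fun h1 h2 => hOdisj k l hkl p h1 h2
      · intro p hp
        obtain ⟨k, hk⟩ := hcov _ hp p rfl
        exact TopologicalSpace.Opens.mem_iSup.mpr ⟨k, hk⟩
    have hc2 : IsPullback ((pullback.snd f g ⁻¹ᵁ W₁).ι ≫ pullback.fst f g)
        (pullback.snd f g ∣_ W₁) f (W₁.ι ≫ g) :=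
      (isPullback_morphismRestrict (pullback.snd f g) W₁).flip.paste_horiz hpb
    refine isFinite_restrict_of_etale_cover f ⟨g '' (W₁ : Set V), g.isOpenMap _ W₁.isOpen⟩ _ _
      (W₁.ι ≫ g) hc2 ?_
    rw [Scheme.Hom.comp_base, TopCat.coe_comp, Set.range_comp, Scheme.Opens.range_ι]
    rfl

/-- Lower semicontinuity of the geometric fibre count and finiteness where it is locally constant
(common core of S3418 and S3412). -/
theorem nGeom_lsc_at (f : X ⟶ Y) [LocallyQuasiFinite f] [LocallyOfFiniteType f]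
    [IsSeparated f] [QuasiCompact f] (y₀ : Y)
    (hopen : ∀ x : X, f x = y₀ → EGA43.IsUnivOpenAt f x) :
    LowerSemicontinuousAt (fun z : Y => MoreMor.nGeomConnComp f z) y₀ ∧
    ((∃ V ∈ 𝓝 y₀, ∀ z ∈ V, MoreMor.nGeomConnComp f z = MoreMor.nGeomConnComp f y₀) →
      ∃ U : Y.Opens, y₀ ∈ U ∧ IsProper (f ∣_ U)) := by
  have hfin : ∀ y : Y, (f ⁻¹' {y}).Finite := fun y => f.finite_preimage_singleton y
  obtain ⟨hA, hB⟩ := count_local f hfin y₀ hopen
  constructor
  · intro c hc
    change c < MoreMor.nGeomConnComp f y₀ at hc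
    obtain ⟨W, hWo, hyW, hW⟩ := hA
    filter_upwards [hWo.mem_nhds hyW] with y hy
    show c < MoreMor.nGeomConnComp f y
    refine lt_of_lt_of_le hc ?_
    rw [(nGeomConnComp_eq_integral f hfin y₀).1, (nGeomConnComp_eq_integral f hfin y).1]
    exact_mod_cast Int.toNat_le_toNat (hW y hy)
  · rintro ⟨N, hN, hNeq⟩
    obtain ⟨U, hyU, hU⟩ := hB ⟨N, hN, fun y hy => by
      have h1 := hNeq y hy
      rw [(nGeomConnComp_eq_integral f hfin y).1, (nGeomConnComp_eq_integral f hfin y₀).1] at h1
      have h2 : (MoreMor.fibreIntegral f (fun _ => 1) y).toNat =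
          (MoreMor.fibreIntegral f (fun _ => 1) y₀).toNat := by exact_mod_cast h1
      have h3 := Int.toNat_of_nonneg (nGeomConnComp_eq_integral f hfin y).2
      have h4 := Int.toNat_of_nonneg (nGeomConnComp_eq_integral f hfin y₀).2
      rw [← h3, ← h4, h2]⟩
    exact ⟨U, hyU, inferInstance⟩

end Local

end Groth.Agent.Helper18.Weighting
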