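import Mathlib
import Groth.Agent.Lib.Helper18.GeomFibreCount

/-!
# Rank of global sections of schemes over a field: clopen finite pieces
-/

universe u

open CategoryTheory Limits AlgebraicGeometry

namespace Groth.Agent.Helper18.FibDeg

section Glue

variable {P : Scheme.{u}}

lemma res_res {O₁ O₂ O₃ : P.Opens} (h₁ : O₁ ≤ O₂) (h₂ : O₂ ≤ O₃) (h₃ : O₁ ≤ O₃)
    (s : Γ(P, O₃)) :
    (P.presheaf.map (homOfLE h₁).op).hom ((P.presheaf.map (homOfLE h₂).op).hom s) =
      (P.presheaf.map (homOfLE h₃).op).hom s := by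
  rw [← CommRingCat.comp_apply, ← Functor.map_comp]
  rfl

/-- Gluing two sections on disjoint opens. -/
lemma glue2 (O₁ D O₂ : P.Opens) (h₁ : O₁ ≤ O₂) (hD : D ≤ O₂) (hdisj : O₁ ⊓ D = ⊥)
    (hcov : O₂ ≤ O₁ ⊔ D) (a : Γ(P, O₁)) (b : Γ(P, D)) :
    ∃ s : Γ(P, O₂), (P.presheaf.map (homOfLE h₁).op).hom s = a ∧
      (P.presheaf.map (homOfLE hD).op).hom s = b := by
  haveI : Subsingleton Γ(P, O₁ ⊓ D) := by rw [hdisj]; infer_instance
  let x : (CommRingCat.of <| RingHom.eqLocus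
      (RingHom.comp (P.sheaf.obj.map (homOfLE inf_le_left : O₁ ⊓ D ⟶ O₁).op).hom
        (RingHom.fst (P.sheaf.obj.obj <| Opposite.op O₁) (P.sheaf.obj.obj <| Opposite.op D)))
      (RingHom.comp (P.sheaf.obj.map (homOfLE inf_le_right : O₁ ⊓ D ⟶ D).op).hom
        (RingHom.snd (P.sheaf.obj.obj <| Opposite.op O₁) (P.sheaf.obj.obj <| Opposite.op D)))) :=
    ⟨(a, b), Subsingleton.elim (α := Γ(P, O₁ ⊓ D)) _ _⟩
  let s₀ : Γ(P, O₁ ⊔ D) := (P.sheaf.objSupIsoProdEqLocus O₁ D).inv x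
  refine ⟨(P.presheaf.map (homOfLE hcov).op).hom s₀, ?_, ?_⟩
  · rw [res_res h₁ hcov le_sup_left]
    exact TopCat.Sheaf.objSupIsoProdEqLocus_inv_fst P.sheaf O₁ D x
  · rw [res_res hD hcov le_sup_right]
    exact TopCat.Sheaf.objSupIsoProdEqLocus_inv_snd P.sheaf O₁ D x

end Glue

section Sections

variable (K : Type u) [Field K] {P : Scheme.{u}}

/-- The structure map from `K` to the sections over an open of a scheme over `Spec K`. -/
noncomputable def secHom (p : P ⟶ Spec (CommRingCat.of K)) (O : P.Opens) : K →+* Γ(P, O) :=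
  ((Scheme.ΓSpecIso (CommRingCat.of K)).inv ≫ p.appTop ≫
    P.presheaf.map (homOfLE (le_top : O ≤ ⊤)).op).hom

/-- The `K`-dimension of the sections over `O`. -/
noncomputable def frk (p : P ⟶ Spec (CommRingCat.of K)) (O : P.Opens) : ℕ :=
  @Module.finrank K Γ(P, O) _ _ (secHom K p O).toAlgebra.toModule

/-- Finite dimensionality of the sections over `O`. -/
def IsFin (p : P ⟶ Spec (CommRingCat.of K)) (O : P.Opens) : Prop :=
  @Module.Finite K Γ(P, O) _ _ (secHom K p O).toAlgebra.toModule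

variable {K}

lemma secHom_res (p : P ⟶ Spec (CommRingCat.of K)) {O₁ O₂ : P.Opens} (h : O₁ ≤ O₂) (k : K) :
    (P.presheaf.map (homOfLE h).op).hom (secHom K p O₂ k) = secHom K p O₁ k := by
  simp only [secHom, CommRingCat.hom_comp, RingHom.comp_apply]
  exact res_res h le_top le_top _

lemma compl_data (O₁ O₂ : P.Opens) (h : O₁ ≤ O₂) (hcl : IsClosed (O₁ : Set P)) :
    ∃ D : P.Opens, D ≤ O₂ ∧ O₁ ⊓ D = ⊥ ∧ O₂ ≤ O₁ ⊔ D ∧ (O₁ ≠ O₂ → ∃ x, x ∈ D) := by
  refine ⟨O₂ ⊓ ⟨(O₁ : Set P)ᶜ, hcl.isOpen_compl⟩, inf_le_left, ?_, ?_, ?_⟩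
  · ext x
    simp only [TopologicalSpace.Opens.coe_inf, TopologicalSpace.Opens.coe_mk, Set.mem_inter_iff,
      SetLike.mem_coe, Set.mem_compl_iff, TopologicalSpace.Opens.coe_bot, Set.mem_empty_iff_false,
      iff_false]
    tauto
  · intro x hx
    by_cases hx1 : x ∈ O₁
    · exact Or.inl hx1
    · exact Or.inr ⟨hx, hx1⟩
  · intro hne
    by_contra hno
    apply hne
    apply le_antisymm h
    intro x hx
    by_contra hx1
    exact hno ⟨x, hx, hx1⟩

lemma frk_mono (p : P ⟶ Spec (CommRingCat.of K)) {O₁ O₂ : P.Opens} (h : O₁ ≤ O₂)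
    (hcl : IsClosed (O₁ : Set P)) (hfin : IsFin K p O₂) :
    IsFin K p O₁ ∧ frk K p O₁ ≤ frk K p O₂ ∧ (frk K p O₁ = frk K p O₂ → O₁ = O₂) := by
  obtain ⟨D, hD, hdisj, hcov, hne⟩ := compl_data O₁ O₂ h hcl
  letI A₂ : Algebra K Γ(P, O₂) := (secHom K p O₂).toAlgebra
  letI A₁ : Algebra K Γ(P, O₁) := (secHom K p O₁).toAlgebra
  haveI : Module.Finite K Γ(P, O₂) := hfin
  let res : Γ(P, O₂) →ₗ[K] Γ(P, O₁) :=
    { toFun := (P.presheaf.map (homOfLE h).op).hom
      map_add' := fun x y => map_add _ x y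
      map_smul' := fun k x => by
        simp only [Algebra.smul_def, map_mul, RingHom.id_apply]
        congr 1
        exact secHom_res p h k }
  have hsurj : Function.Surjective res := fun a => by
    obtain ⟨s, hs, -⟩ := glue2 O₁ D O₂ h hD hdisj hcov a 0
    exact ⟨s, hs⟩
  haveI : Module.Finite K Γ(P, O₁) := Module.Finite.of_surjective res hsurj
  have hsum := LinearMap.finrank_range_add_finrank_ker res
  rw [LinearMap.range_eq_top.mpr hsurj, finrank_top] at hsum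
  refine ⟨‹_›, ?_, ?_⟩
  · unfold frk
    omega
  · intro heq
    by_contra hne'
    obtain ⟨x, hx⟩ := hne hne'
    haveI : Nonempty ↥D := ⟨⟨x, hx⟩⟩
    obtain ⟨e, he1, heD⟩ := glue2 O₁ D O₂ h hD hdisj hcov 0 1
    have hene : e ≠ 0 := fun h0 => by
      rw [h0, map_zero] at heD
      exact zero_ne_one heD
    have hker : e ∈ LinearMap.ker res := he1
    have hpos : 0 < Module.finrank K (LinearMap.ker res) :=
      Module.finrank_pos_iff_exists_ne_zero.mpr
        ⟨⟨e, hker⟩, fun h => hene (congrArg Subtype.val h)⟩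
    unfold frk at heq
    omega

lemma core (p : P ⟶ Spec (CommRingCat.of K)) [IsFinite p] [Flat p]
    (t : ↥(Spec (CommRingCat.of K))) :
    letI := ((Scheme.ΓSpecIso (CommRingCat.of K)).inv ≫ p.appTop).hom.toAlgebra
    Module.Finite K Γ(P, ⊤) ∧ Module.finrank K Γ(P, ⊤) = p.finrank t := by
  haveI : IsAffine P := isAffine_of_isAffineHom p
  have hp : p = P.isoSpec.hom ≫
      Spec.map ((Scheme.ΓSpecIso (CommRingCat.of K)).inv ≫ p.appTop) := by
    have h1 := Scheme.isoSpec_hom_naturality p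
    rw [Scheme.isoSpec_Spec_hom] at h1
    rw [Spec.map_comp, ← Category.assoc, h1, Category.assoc, ← Spec.map_comp, Iso.inv_hom_id,
      Spec.map_id, Category.comp_id]
  have hiso : Spec.map ((Scheme.ΓSpecIso (CommRingCat.of K)).inv ≫ p.appTop) =
      P.isoSpec.inv ≫ p := by
    rw [Iso.eq_inv_comp]; exact hp.symm
  haveI hfin' : IsFinite (Spec.map ((Scheme.ΓSpecIso (CommRingCat.of K)).inv ≫ p.appTop)) := by
    rw [hiso]; infer_instance
  haveI hfl' : Flat (Spec.map ((Scheme.ΓSpecIso (CommRingCat.of K)).inv ≫ p.appTop)) := by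
    rw [hiso]; infer_instance
  have hφfin := (IsFinite.SpecMap_iff _).mp hfin'
  have hφflat := Flat.SpecMap_iff.mp hfl'
  have h2 : p.finrank t =
      (Spec.map ((Scheme.ΓSpecIso (CommRingCat.of K)).inv ≫ p.appTop)).finrank t := by
    conv_lhs => rw [hp]
    rw [Scheme.Hom.finrank_comp_left_of_isIso]
  rw [h2, Scheme.Hom.finrank_SpecMap_eq_finrank hφfin hφflat]
  letI := ((Scheme.ΓSpecIso (CommRingCat.of K)).inv ≫ p.appTop).hom.toAlgebra
  haveI hmf : Module.Finite K Γ(P, ⊤) := hφfin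
  refine ⟨hmf, ?_⟩
  change Module.finrank K Γ(P, ⊤) = Module.rankAtStalk (R := K) Γ(P, ⊤) t
  rw [Module.rankAtStalk_eq_finrank_of_free]
  rfl

lemma frk_eq_finrank (p : P ⟶ Spec (CommRingCat.of K)) (O : P.Opens)
    [IsFinite (O.ι ≫ p)] [Flat (O.ι ≫ p)] (t : ↥(Spec (CommRingCat.of K))) :
    IsFin K p O ∧ frk K p O = (O.ι ≫ p).finrank t := by
  have h := core (O.ι ≫ p) t
  have h' : IsFin K p (O.ι ''ᵁ ⊤) ∧ frk K p (O.ι ''ᵁ ⊤) = (O.ι ≫ p).finrank t := h
  rw [Scheme.Opens.ι_image_top] at h'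
  exact h'

lemma frk_le_rank (p : P ⟶ Spec (CommRingCat.of K)) (O : P.Opens)
    (hcl : IsClosed (O : Set P)) (hfin : IsFin K p O) :
    (frk K p O : Cardinal.{u}) ≤
      (letI := ((Scheme.ΓSpecIso (CommRingCat.of K)).inv ≫ p.appTop).hom.toAlgebra
       Module.rank K (Γ(P, ⊤) : Type u)) := by
  obtain ⟨D, hD, hdisj, hcov, -⟩ := compl_data O ⊤ le_top hcl
  letI A : Algebra K Γ(P, ⊤) := ((Scheme.ΓSpecIso (CommRingCat.of K)).inv ≫ p.appTop).hom.toAlgebra
  letI A₁ : Algebra K Γ(P, O) := (secHom K p O).toAlgebra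
  haveI : Module.Finite K Γ(P, O) := hfin
  let res : Γ(P, ⊤) →ₗ[K] Γ(P, O) :=
    { toFun := (P.presheaf.map (homOfLE (le_top : O ≤ ⊤)).op).hom
      map_add' := fun x y => map_add _ x y
      map_smul' := fun k x => by
        simp only [Algebra.smul_def, map_mul, RingHom.id_apply]
        rfl }
  have hsurj : Function.Surjective res := fun a => by
    obtain ⟨s, hs, -⟩ := glue2 O D ⊤ le_top hD hdisj hcov a 0
    exact ⟨s, hs⟩
  have h1 := LinearMap.rank_le_of_surjective res hsurj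
  have h2 : (frk K p O : Cardinal.{u}) = Module.rank K Γ(P, O) := by
    unfold frk
    exact Module.finrank_eq_rank K Γ(P, O)
  rw [h2]
  exact h1

end Sections

end Groth.Agent.Helper18.FibDeg
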