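import Groth.Agent.Lib.Helper18.FibDeg2
import Groth.Agent.Lib.Helper18.WeightingBC

/-!
# Fibre degree: clopen finite pieces of a given degree
-/

universe u

open CategoryTheory Limits AlgebraicGeometry

namespace Groth.Agent.Helper18.FibDeg

open Groth.Agent.Helper18.Weighting

section PieceK

variable {K : Type u} [Field K]

lemma finrank_mono {P : Scheme.{u}} (p : P ⟶ Spec (CommRingCat.of K)) [Flat p]
    {O₁ O₂ : P.Opens} (h : O₁ ≤ O₂) (hcl : IsClosed (O₁ : Set P)) [IsFinite (O₂.ι ≫ p)]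
    (t : ↥(Spec (CommRingCat.of K))) :
    IsFinite (O₁.ι ≫ p) ∧ (O₁.ι ≫ p).finrank t ≤ (O₂.ι ≫ p).finrank t ∧
      ((O₁.ι ≫ p).finrank t = (O₂.ι ≫ p).finrank t → O₁ = O₂) := by
  haveI : IsFinite (O₁.ι ≫ p) := isFinite_of_le_of_isClosed p O₂ O₁ h hcl
  obtain ⟨hf2, e2⟩ := frk_eq_finrank p O₂ t
  obtain ⟨hf1, e1⟩ := frk_eq_finrank p O₁ t
  obtain ⟨-, hle, hstrict⟩ := frk_mono p h hcl hf2
  exact ⟨‹_›, by rw [← e1, ← e2]; exact hle, fun heq => hstrict (by rw [e1, e2]; exact heq)⟩

/-- There is a clopen piece, finite over the base, of degree at least `d`. -/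
def HasPieceK {P T : Scheme.{u}} (b : P ⟶ T) (d : ℕ) : Prop :=
  ∃ O : P.Opens, IsClosed (O : Set P) ∧ IsFinite (O.ι ≫ b) ∧ ∀ t, d ≤ (O.ι ≫ b).finrank t

lemma finite_of_isFinite_piece {P : Scheme.{u}} (b : P ⟶ Spec (CommRingCat.of K))
    (O : P.Opens) [IsFinite (O.ι ≫ b)] : (O : Set P).Finite := by
  haveI := subsingleton_specK K
  have h1 := (O.ι ≫ b).finite_preimage_singleton (IsLocalRing.closedPoint K)
  have h1 : (Set.univ : Set ↥(O : Scheme.{u})).Finite :=
    h1.subset (fun z _ => Subsingleton.elim _ _)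
  have h3 : (O : Set P) = O.ι '' Set.univ := by
    rw [Set.image_univ, Scheme.Opens.range_ι]
  rw [h3]
  exact h1.image _

lemma exists_big_piece {P : Scheme.{u}} (b : P ⟶ Spec (CommRingCat.of K))
    [LocallyQuasiFinite b] [LocallyOfFiniteType b] [IsSeparated b] [Flat b]
    [LocallyOfFinitePresentation b] (hinf : Infinite ↥P) (d : ℕ) :
    ∃ O : P.Opens, (O : Set P).Finite ∧ IsFinite (O.ι ≫ b) ∧ ∀ t, d ≤ (O.ι ≫ b).finrank t := by
  haveI := discreteTopology_of_lqf b
  induction d with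
  | zero =>
    refine ⟨⊥, Set.finite_empty, ?_, fun t => Nat.zero_le _⟩
    haveI : IsEmpty ↥((⊥ : P.Opens) : Scheme.{u}) := ⟨fun x => x.2⟩
    infer_instance
  | succ d ih =>
    obtain ⟨O, hOfin, hOF, hO⟩ := ih
    obtain ⟨x, hx⟩ := hOfin.exists_notMem
    let O' : P.Opens := ⟨insert x (O : Set P), isOpen_discrete _⟩
    have hO'fin : (O' : Set P).Finite := hOfin.insert x
    haveI hF' : IsFinite (O'.ι ≫ b) := isFinite_of_finite b O' hO'fin
    have hle : O ≤ O' := fun y hy => Set.mem_insert_of_mem x hy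
    refine ⟨O', hO'fin, hF', fun t => ?_⟩
    obtain ⟨-, h1, h2⟩ := finrank_mono b hle (isClosed_discrete _) t
    have hne : O ≠ O' := fun heq => hx (by
      have : x ∈ O' := Set.mem_insert x _
      rw [← heq] at this
      exact this)
    have := hO t
    have h3 : (O.ι ≫ b).finrank t ≠ (O'.ι ≫ b).finrank t := fun heq => hne (h2 heq)
    omega

/-- `HasPieceK` in terms of the rank of global sections. -/
lemma hasPieceK_iff_rank {P : Scheme.{u}} (b : P ⟶ Spec (CommRingCat.of K))
    [LocallyQuasiFinite b] [LocallyOfFiniteType b] [IsSeparated b] [Flat b]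
    [LocallyOfFinitePresentation b] (d : ℕ) :
    HasPieceK b d ↔ (d : Cardinal.{u}) ≤
      (letI := ((Scheme.ΓSpecIso (CommRingCat.of K)).inv ≫ b.appTop).hom.toAlgebra
       Module.rank K (Γ(P, ⊤) : Type u)) := by
  constructor
  · rintro ⟨O, hcl, hF, hO⟩
    haveI := hF
    obtain ⟨hfin, e⟩ := frk_eq_finrank b O (IsLocalRing.closedPoint K)
    refine le_trans ?_ (frk_le_rank b O hcl hfin)
    rw [Nat.cast_le, e]
    exact hO _
  · intro hd
    by_cases hfinP : Finite ↥P
    · haveI := hfinP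
      haveI : IsFinite b := isFinite_of_finite_space b
      haveI : IsIso (⊤ : P.Opens).ι := inferInstanceAs (IsIso P.topIso.hom)
      haveI : IsFinite ((⊤ : P.Opens).ι ≫ b) := inferInstance
      refine ⟨(⊤ : P.Opens), isClosed_univ, inferInstance, fun t => ?_⟩
      rw [Scheme.Hom.finrank_comp_left_of_isIso]
      obtain ⟨hmf, e⟩ := core b t
      rw [← e]
      letI := ((Scheme.ΓSpecIso (CommRingCat.of K)).inv ≫ b.appTop).hom.toAlgebra
      haveI := hmf
      rw [← Module.finrank_eq_rank K (Γ(P, ⊤) : Type u), Nat.cast_le] at hd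
      exact hd
    · rw [not_finite_iff_infinite] at hfinP
      haveI := discreteTopology_of_lqf b
      obtain ⟨O, -, hF, hO⟩ := exists_big_piece b hfinP d
      exact ⟨O, isClosed_discrete _, hF, hO⟩

end PieceK

section BaseChangePiece

variable {K K' : Type u} [Field K] [Field K']

/-- `HasPieceK` is invariant under extension of the base field. -/
lemma hasPieceK_baseChange {P P' : Scheme.{u}} (b : P ⟶ Spec (CommRingCat.of K))
    (b' : P' ⟶ Spec (CommRingCat.of K')) (c : P' ⟶ P)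
    (h : Spec (CommRingCat.of K') ⟶ Spec (CommRingCat.of K)) (hsq : IsPullback c b' b h)
    [LocallyQuasiFinite b] [LocallyOfFiniteType b] [IsSeparated b] [Flat b]
    [LocallyOfFinitePresentation b] (d : ℕ) :
    HasPieceK b' d ↔ HasPieceK b d := by
  haveI := subsingleton_specK K
  haveI : Flat b' := MorphismProperty.of_isPullback (P := @Flat) hsq inferInstance
  constructor
  · rintro ⟨V', hcl', hF', hV'⟩
    haveI := hF'
    haveI := discreteTopology_of_lqf b
    have hV'fin : (V' : Set P').Finite := finite_of_isFinite_piece b' V'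
    let O₂ : P.Opens := ⟨c '' (V' : Set P'), isOpen_discrete _⟩
    have hO₂fin : (O₂ : Set P).Finite := hV'fin.image _
    haveI hF₂ : IsFinite (O₂.ι ≫ b) := isFinite_of_finite b O₂ hO₂fin
    obtain ⟨hF₃, hFl₃, hrk⟩ := preimage_piece hsq O₂
    haveI := hF₃
    have hle : V' ≤ c ⁻¹ᵁ O₂ := fun y hy => ⟨y, hy, rfl⟩
    refine ⟨O₂, isClosed_discrete _, hF₂, fun t => ?_⟩
    have t' : ↥(Spec (CommRingCat.of K')) := IsLocalRing.closedPoint K'
    obtain ⟨-, h1, -⟩ := finrank_mono b' hle hcl' t'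
    have h2 := hrk t'
    have h3 := hV' t'
    rw [Subsingleton.elim t (h t')]
    omega
  · rintro ⟨O, hcl, hF, hO⟩
    haveI := hF
    obtain ⟨hF₃, -, hrk⟩ := preimage_piece hsq O
    refine ⟨c ⁻¹ᵁ O, hcl.preimage c.continuous, hF₃, fun t => ?_⟩
    rw [hrk t]
    exact hO _

end BaseChangePiece

section Transfer

variable {X S : Scheme.{u}}

/-- The fibre of `f` over `s` has a clopen piece of degree at least `d`. -/
def HasPiece (f : X ⟶ S) (s : S) (d : ℕ) : Prop :=
  HasPieceK (pullback.snd f (S.fromSpecResidueField s)) d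

lemma hasPieceK_iff_hasPiece {K : Type u} [Field K] (f : X ⟶ S) [Flat f]
    [LocallyOfFinitePresentation f] [IsSeparated f] [LocallyQuasiFinite f]
    {P : Scheme.{u}} (a : P ⟶ X) (b : P ⟶ Spec (CommRingCat.of K))
    (τ : Spec (CommRingCat.of K) ⟶ S) (hpb : IsPullback a b f τ)
    (t₀ : ↥(Spec (CommRingCat.of K))) (d : ℕ) :
    HasPieceK b d ↔ HasPiece f (τ t₀) d := by
  obtain ⟨s, ℓ, rfl, hs⟩ := exists_fieldPoint_factor τ
  rw [hs t₀]
  obtain ⟨c, hsq, -⟩ := fieldPoint_square f s ℓ a b hpb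
  exact hasPieceK_baseChange (K := ↑(S.residueField s))
    (pullback.snd f (S.fromSpecResidueField s)) b c (Spec.map ℓ) hsq d

end Transfer

end Groth.Agent.Helper18.FibDeg
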