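import Groth.Agent.Lib.Helper18.FibDeg3

/-!
# Fibre degree: openness of the locus where a clopen piece of degree `≥ d` exists
-/

universe u

open CategoryTheory Limits AlgebraicGeometry

namespace Groth.Agent.Helper18.FibDeg

open Groth.Agent.Helper18.Weighting

variable {X S : Scheme.{u}}

lemma paste_fibre (f : X ⟶ S) {U : Scheme.{u}} (g : U ⟶ S) (u : U) :
    IsPullback (pullback.fst (pullback.snd f g) (U.fromSpecResidueField u) ≫ pullback.fst f g)
      (pullback.snd (pullback.snd f g) (U.fromSpecResidueField u)) f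
      (U.fromSpecResidueField u ≫ g) :=
  (IsPullback.of_hasPullback (pullback.snd f g) (U.fromSpecResidueField u)).paste_horiz
    (IsPullback.of_hasPullback f g)

lemma comp_fromSpecResidueField_apply {U : Scheme.{u}} (g : U ⟶ S) (u : U)
    (t : ↥(Spec (U.residueField u))) : (U.fromSpecResidueField u ≫ g) t = g u := by
  rw [Scheme.Hom.comp_apply, Scheme.fromSpecResidueField_apply]

variable (f : X ⟶ S) [Flat f] [LocallyOfFinitePresentation f] [IsSeparated f]
  [LocallyQuasiFinite f]

lemma hasPiece_of_open {U : Scheme.{u}} (g : U ⟶ S) (V : (pullback f g).Opens)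
    [IsFinite (V.ι ≫ pullback.snd f g)] (u' : U) (d : ℕ)
    (hd : d ≤ (V.ι ≫ pullback.snd f g).finrank u') : HasPiece f (g u') d := by
  have sq1 := IsPullback.of_hasPullback (pullback.snd f g) (U.fromSpecResidueField u')
  obtain ⟨hF, -, hrk⟩ := preimage_piece sq1 V
  have hcl : IsClosed (V : Set ↥(pullback f g)) := isClosed_of_isFinite_opens (pullback.snd f g) V
  have hp : HasPieceK (pullback.snd (pullback.snd f g) (U.fromSpecResidueField u')) d := by
    refine ⟨_, hcl.preimage (pullback.fst (pullback.snd f g)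
      (U.fromSpecResidueField u')).continuous, hF, fun t => ?_⟩
    rw [hrk t, Scheme.fromSpecResidueField_apply]
    exact hd
  have h := (hasPieceK_iff_hasPiece (K := ↑(U.residueField u')) f _ _ _ (paste_fibre f g u')
    (IsLocalRing.closedPoint ↑(U.residueField u')) d).mp hp
  rw [comp_fromSpecResidueField_apply] at h
  exact h

lemma le_finrank_of_cover {U : Scheme.{u}} (g : U ⟶ S) (u : U) (d : ℕ)
    (O : (pullback f (S.fromSpecResidueField (g u))).Opens)
    [IsFinite (O.ι ≫ pullback.snd f (S.fromSpecResidueField (g u)))]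
    (hO : ∀ t, d ≤ (O.ι ≫ pullback.snd f (S.fromSpecResidueField (g u))).finrank t)
    (V : (pullback f g).Opens) [IsFinite (V.ι ≫ pullback.snd f g)]
    (hcov : ∀ w : ↥(pullback f g), pullback.snd f g w = u →
      (∃ z ∈ O, pullback.fst f (S.fromSpecResidueField (g u)) z = pullback.fst f g w) → w ∈ V) :
    d ≤ (V.ι ≫ pullback.snd f g).finrank u := by
  have sq1 := IsPullback.of_hasPullback (pullback.snd f g) (U.fromSpecResidueField u)
  have hpaste := paste_fibre f g u
  obtain ⟨s, ℓ, hτ, hs⟩ := exists_fieldPoint_factor (K := ↑(U.residueField u))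
    (U.fromSpecResidueField u ≫ g)
  have hs' : s = g u := by
    rw [← hs (IsLocalRing.closedPoint ↑(U.residueField u)), comp_fromSpecResidueField_apply]
  subst hs'
  rw [hτ] at hpaste
  obtain ⟨c, hsq, hc⟩ := fieldPoint_square (K := ↑(U.residueField u)) f _ ℓ _ _ hpaste
  obtain ⟨hF1, -, hrk1⟩ := preimage_piece hsq O
  obtain ⟨hF2, -, hrk2⟩ := preimage_piece sq1 V
  haveI := hF1
  haveI := hF2
  have hclO : IsClosed (O : Set ↥(pullback f (S.fromSpecResidueField (g u)))) :=
    isClosed_of_isFinite_opens (pullback.snd f (S.fromSpecResidueField (g u))) O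
  have hle : c ⁻¹ᵁ O ≤ (pullback.fst (pullback.snd f g) (U.fromSpecResidueField u)) ⁻¹ᵁ V := by
    intro w hw
    apply hcov
    · rw [← Scheme.Hom.comp_apply, pullback.condition, Scheme.Hom.comp_apply,
        Scheme.fromSpecResidueField_apply]
    · refine ⟨c w, hw, ?_⟩
      rw [← Scheme.Hom.comp_apply, hc, Scheme.Hom.comp_apply]
  let t₀ : ↥(Spec (CommRingCat.of ↑(U.residueField u))) :=
    IsLocalRing.closedPoint ↑(U.residueField u)
  obtain ⟨-, h1, -⟩ := finrank_mono (K := ↑(U.residueField u))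
    (pullback.snd (pullback.snd f g) (U.fromSpecResidueField u)) hle
    (hclO.preimage c.continuous) t₀
  have h2 := hrk1 t₀
  have h3 := hrk2 t₀
  have h4 := hO (Spec.map ℓ t₀)
  rw [Scheme.fromSpecResidueField_apply] at h3
  omega

theorem isOpen_hasPiece (d : ℕ) : IsOpen {s : S | HasPiece f s d} := by
  rw [isOpen_iff_forall_mem_open]
  intro s₀ hs₀
  obtain ⟨O, hclO, hFO, hO⟩ := hs₀
  haveI := hFO
  have hOfin : (O : Set ↥(pullback f (S.fromSpecResidueField s₀))).Finite :=
    finite_of_isFinite_piece (K := ↑(S.residueField s₀))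
      (pullback.snd f (S.fromSpecResidueField s₀)) O
  haveI : Finite ↥(O : Set ↥(pullback f (S.fromSpecResidueField s₀))) := hOfin.to_subtype
  obtain ⟨n, ⟨e⟩⟩ :=
    Finite.exists_equiv_fin ↥(O : Set ↥(pullback f (S.fromSpecResidueField s₀)))
  let x : Fin n → X := fun i => pullback.fst f (S.fromSpecResidueField s₀) (e.symm i).1
  have hx : ∀ i, f (x i) = s₀ := fun i => by
    change f (pullback.fst f (S.fromSpecResidueField s₀) (e.symm i).1) = s₀
    rw [← Scheme.Hom.comp_apply, pullback.condition, Scheme.Hom.comp_apply,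
      Scheme.fromSpecResidueField_apply]
  have hxO : ∀ z, z ∈ O → ∃ i, pullback.fst f (S.fromSpecResidueField s₀) z = x i := by
    intro z hz
    refine ⟨e ⟨z, hz⟩, ?_⟩
    change _ = pullback.fst f (S.fromSpecResidueField s₀) (e.symm (e ⟨z, hz⟩)).1
    rw [Equiv.symm_apply_apply]
  obtain ⟨U, g, u, hg, hgu, m, V, v, hprop, hinj, hall⟩ :=
    EtLoc.pi_core f s₀ x hx (fun i => f.quasiFiniteAt (x i))
  haveI := hg
  clear_value x
  clear e
  subst hgu
  let Vtot : (pullback f g).Opens := ⨆ (k : Σ i : Fin n, Fin (m i)), V k.1 k.2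
  haveI hFV : IsFinite (Vtot.ι ≫ pullback.snd f g) :=
    EtLoc.isFinite_iSup (pullback.snd f g) (fun k : Σ i : Fin n, Fin (m i) => V k.1 k.2)
      (fun k => (hprop k.1 k.2).2.1)
  have hlc := (Vtot.ι ≫ pullback.snd f g).isLocallyConstant_finrank
  have hNopen : IsOpen {u' : U | (Vtot.ι ≫ pullback.snd f g).finrank u' =
      (Vtot.ι ≫ pullback.snd f g).finrank u} := hlc.isOpen_fiber _
  refine ⟨g '' {u' : U | (Vtot.ι ≫ pullback.snd f g).finrank u' =
      (Vtot.ι ≫ pullback.snd f g).finrank u}, ?_, g.isOpenMap _ hNopen, ⟨u, rfl, rfl⟩⟩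
  rintro _ ⟨u', hu', rfl⟩
  apply hasPiece_of_open f g Vtot u' d
  rw [hu']
  apply le_finrank_of_cover f g u d O hO Vtot
  rintro w hw ⟨z, hz, hzw⟩
  obtain ⟨i, hi⟩ := hxO z hz
  obtain ⟨j, hj⟩ := hall w i hw (by rw [← hzw, hi])
  rw [hj]
  exact TopologicalSpace.Opens.mem_iSup.mpr ⟨⟨i, j⟩, (hprop i j).1⟩

end Groth.Agent.Helper18.FibDeg
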