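import Groth.Agent.Lib.Helper18.FibDeg4
import Groth.Prelude.Def_Mor2

/-!
# Fibre degree: the criterion for the base change to be finite locally free of degree `r`
-/

universe u

open CategoryTheory Limits AlgebraicGeometry

namespace Groth.Agent.Helper18.FibDeg

open Groth.Agent.Helper18.Weighting

lemma finrank_of_eq_top {P T : Scheme.{u}} (b : P ⟶ T) [Flat b] [IsFinite b] (O : P.Opens)
    (h : O = ⊤) : (O.ι ≫ b).finrank = b.finrank := by
  subst h
  haveI : IsIso (⊤ : P.Opens).ι := inferInstanceAs (IsIso P.topIso.hom)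
  exact Scheme.Hom.finrank_comp_left_of_isIso _ _

variable {X S : Scheme.{u}} (f : X ⟶ S) [Flat f] [LocallyOfFinitePresentation f] [IsSeparated f]
  [LocallyQuasiFinite f]

lemma isFinite_fibre (s : S) (hfin : (f ⁻¹' {s}).Finite) :
    IsFinite (pullback.snd f (S.fromSpecResidueField s)) := by
  haveI := finite_fibreScheme f s hfin
  exact isFinite_of_finite_space (K := ↑(S.residueField s))
    (pullback.snd f (S.fromSpecResidueField s))

lemma hasPiece_iff_le_deg (s : S) (hfin : (f ⁻¹' {s}).Finite) (d : ℕ) :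
    HasPiece f s d ↔ d ≤ deg f s := by
  haveI := isFinite_fibre f s hfin
  haveI := subsingleton_specK ↑(S.residueField s)
  haveI : IsIso (⊤ : (pullback f (S.fromSpecResidueField s)).Opens).ι :=
    inferInstanceAs (IsIso (Scheme.topIso _).hom)
  constructor
  · rintro ⟨O, hcl, hF, hO⟩
    obtain ⟨-, h1, -⟩ := finrank_mono (K := ↑(S.residueField s))
      (pullback.snd f (S.fromSpecResidueField s)) (le_top : O ≤ ⊤) hcl
      (IsLocalRing.closedPoint ↑(S.residueField s))
    rw [finrank_of_eq_top (pullback.snd f (S.fromSpecResidueField s)) ⊤ rfl] at h1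
    exact le_trans (hO _) h1
  · intro hd
    refine ⟨⊤, isClosed_univ, inferInstance, fun t => ?_⟩
    rw [Scheme.Hom.finrank_comp_left_of_isIso,
      Subsingleton.elim t (IsLocalRing.closedPoint ↑(S.residueField s))]
    exact hd

lemma isClosed_deg_le (hfin : ∀ s, (f ⁻¹' {s}).Finite) (r : ℕ) :
    IsClosed {s : S | deg f s ≤ r} := by
  rw [← isOpen_compl_iff]
  have : {s : S | deg f s ≤ r}ᶜ = {s | HasPiece f s (r + 1)} := by
    ext s
    simp only [Set.mem_compl_iff, Set.mem_setOf_eq, not_le]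
    rw [hasPiece_iff_le_deg f s (hfin s)]
    omega
  rw [this]
  exact isOpen_hasPiece f (r + 1)

lemma finrank_fibre_eq_deg {P T : Scheme.{u}} (a : P ⟶ X) (b : P ⟶ T) (g : T ⟶ S)
    (hpb : IsPullback a b f g) (t : T) (hfin : (f ⁻¹' {g t}).Finite) :
    IsFinite (pullback.snd b (T.fromSpecResidueField t)) ∧
      ∀ t₀, (pullback.snd b (T.fromSpecResidueField t)).finrank t₀ = deg f (g t) := by
  have sq1 := IsPullback.of_hasPullback b (T.fromSpecResidueField t)
  have hpaste := sq1.paste_horiz hpb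
  obtain ⟨s, ℓ, hτ, hs⟩ := exists_fieldPoint_factor (K := ↑(T.residueField t))
    (T.fromSpecResidueField t ≫ g)
  have hs' : s = g t := by
    rw [← hs (IsLocalRing.closedPoint ↑(T.residueField t)), comp_fromSpecResidueField_apply]
  subst hs'
  rw [hτ] at hpaste
  obtain ⟨c, hsq, -⟩ := fieldPoint_square (K := ↑(T.residueField t)) f _ ℓ _ _ hpaste
  haveI := isFinite_fibre f (g t) hfin
  haveI := subsingleton_specK ↑(S.residueField (g t))
  refine ⟨MorphismProperty.of_isPullback (P := @IsFinite) hsq inferInstance, fun t₀ => ?_⟩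
  rw [Scheme.Hom.finrank_of_isPullback _ _ _ _ hsq t₀]
  unfold deg
  congr 1
  exact Subsingleton.elim _ _

lemma finrank_eq_deg' {P T : Scheme.{u}} (a : P ⟶ X) (b : P ⟶ T) (g : T ⟶ S)
    (hpb : IsPullback a b f g) (t : T) (hfin : (f ⁻¹' {g t}).Finite)
    (V : P.Opens) [IsFinite (V.ι ≫ b)] (hV : ∀ w, b w = t → w ∈ V) :
    (V.ι ≫ b).finrank t = deg f (g t) := by
  haveI : Flat b := MorphismProperty.of_isPullback (P := @Flat) hpb inferInstance
  obtain ⟨hFb, hdeg⟩ := finrank_fibre_eq_deg f a b g hpb t hfin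
  haveI := hFb
  have sq1 := IsPullback.of_hasPullback b (T.fromSpecResidueField t)
  obtain ⟨hF, -, hrk⟩ := preimage_piece sq1 V
  have htop : (pullback.fst b (T.fromSpecResidueField t)) ⁻¹ᵁ V = ⊤ := by
    ext w
    simp only [TopologicalSpace.Opens.coe_top, Set.mem_univ, iff_true]
    apply hV
    rw [← Scheme.Hom.comp_apply, pullback.condition, Scheme.Hom.comp_apply,
      Scheme.fromSpecResidueField_apply]
  have h1 := hrk (IsLocalRing.closedPoint ↑(T.residueField t))
  rw [Scheme.fromSpecResidueField_apply] at h1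
  rw [← h1, ← hdeg (IsLocalRing.closedPoint ↑(T.residueField t)),
    finrank_of_eq_top _ _ htop]

lemma mem_of_finrank_eq {P T : Scheme.{u}} (a : P ⟶ X) (b : P ⟶ T) (g : T ⟶ S)
    (hpb : IsPullback a b f g) (t : T) (hfin : (f ⁻¹' {g t}).Finite)
    (V : P.Opens) [IsFinite (V.ι ≫ b)] (h : (V.ι ≫ b).finrank t = deg f (g t)) :
    ∀ w, b w = t → w ∈ V := by
  haveI : Flat b := MorphismProperty.of_isPullback (P := @Flat) hpb inferInstance
  haveI : IsSeparated b := MorphismProperty.of_isPullback (P := @IsSeparated) hpb inferInstance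
  obtain ⟨hFb, hdeg⟩ := finrank_fibre_eq_deg f a b g hpb t hfin
  haveI := hFb
  have sq1 := IsPullback.of_hasPullback b (T.fromSpecResidueField t)
  obtain ⟨hF, -, hrk⟩ := preimage_piece sq1 V
  haveI := hF
  have hclV : IsClosed (V : Set P) := isClosed_of_isFinite_opens b V
  haveI : IsIso (⊤ : (pullback b (T.fromSpecResidueField t)).Opens).ι :=
    inferInstanceAs (IsIso (Scheme.topIso _).hom)
  haveI : IsFinite ((⊤ : (pullback b (T.fromSpecResidueField t)).Opens).ι ≫
    pullback.snd b (T.fromSpecResidueField t)) := inferInstance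
  obtain ⟨-, -, hstrict⟩ := finrank_mono (K := ↑(T.residueField t))
    (pullback.snd b (T.fromSpecResidueField t))
    (le_top : (pullback.fst b (T.fromSpecResidueField t)) ⁻¹ᵁ V ≤ ⊤)
    (hclV.preimage (pullback.fst b (T.fromSpecResidueField t)).continuous)
    (IsLocalRing.closedPoint ↑(T.residueField t))
  have htop : (pullback.fst b (T.fromSpecResidueField t)) ⁻¹ᵁ V = ⊤ := hstrict (by
    rw [hrk, Scheme.fromSpecResidueField_apply, h, Scheme.Hom.finrank_comp_left_of_isIso, hdeg])
  intro w hw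
  obtain ⟨w', hw'1, -⟩ := Scheme.Pullback.exists_preimage_pullback (f := b)
    (g := T.fromSpecResidueField t) w (IsLocalRing.closedPoint ↑(T.residueField t))
    (by rw [hw, Scheme.fromSpecResidueField_apply])
  have hmem : w' ∈ (pullback.fst b (T.fromSpecResidueField t)) ⁻¹ᵁ V := by
    rw [htop]; trivial
  rw [← hw'1]
  exact hmem

lemma isFinite_of_deg_const (hfin : ∀ s, (f ⁻¹' {s}).Finite) {T : Scheme.{u}} (g : T ⟶ S)
    (r : ℕ) (h : ∀ t : T, deg f (g t) = r) : IsFinite (pullback.snd f g) := by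
  apply IsZariskiLocalAtTarget.of_forall_exists_morphismRestrict (P := @IsFinite)
  intro t₀
  have hfin' : ∀ t : T, ((pullback.snd f g) ⁻¹' {t}).Finite := fun t =>
    finite_fibre_baseChange f hfin (pullback.snd f g) (pullback.fst f g) g
      (IsPullback.of_hasPullback f g) t
  obtain ⟨U, gU, u₀, hgU, hu₀, Kι, hKι, O, hOfin, hOdisj, hOcov, -⟩ :=
    etale_local_structure' (pullback.snd f g) hfin' t₀
  haveI := hgU
  haveI := hKι
  let V : (pullback (pullback.snd f g) gU).Opens := ⨆ k, O k
  haveI hFV : IsFinite (V.ι ≫ pullback.snd (pullback.snd f g) gU) :=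
    EtLoc.isFinite_iSup (pullback.snd (pullback.snd f g) gU) O hOfin
  have hpbU : IsPullback (pullback.fst (pullback.snd f g) gU ≫ pullback.fst f g)
      (pullback.snd (pullback.snd f g) gU) f (gU ≫ g) :=
    (IsPullback.of_hasPullback (pullback.snd f g) gU).paste_horiz (IsPullback.of_hasPullback f g)
  have hlc := (V.ι ≫ pullback.snd (pullback.snd f g) gU).isLocallyConstant_finrank
  have hr₀ : (V.ι ≫ pullback.snd (pullback.snd f g) gU).finrank u₀ = r := by
    rw [finrank_eq_deg' f _ _ (gU ≫ g) hpbU u₀ (hfin _) V (fun w hw => by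
      obtain ⟨k, hk⟩ := hOcov w hw
      exact TopologicalSpace.Opens.mem_iSup.mpr ⟨k, hk⟩)]
    rw [Scheme.Hom.comp_apply]
    exact h _
  let N : U.Opens := ⟨{u | (V.ι ≫ pullback.snd (pullback.snd f g) gU).finrank u =
    (V.ι ≫ pullback.snd (pullback.snd f g) gU).finrank u₀}, hlc.isOpen_fiber _⟩
  have hcov : (pullback.snd (pullback.snd f g) gU) ⁻¹ᵁ N ≤ V := by
    intro w hw
    apply mem_of_finrank_eq f _ _ (gU ≫ g) hpbU (pullback.snd (pullback.snd f g) gU w)
      (hfin _) V ?_ w rfl
    have hw' : (V.ι ≫ pullback.snd (pullback.snd f g) gU).finrank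
        (pullback.snd (pullback.snd f g) gU w) =
        (V.ι ≫ pullback.snd (pullback.snd f g) gU).finrank u₀ := hw
    rw [hw', hr₀, Scheme.Hom.comp_apply, h]
  haveI : IsFinite ((pullback.snd (pullback.snd f g) gU) ∣_ N) :=
    isFinite_morphismRestrict_of_cover (pullback.snd (pullback.snd f g) gU) N
      (fun _ : Unit => V) (fun k l hkl => absurd (Subsingleton.elim k l) hkl) (fun _ => hFV)
      (by rw [iSup_const]; exact hcov)
  have hc : IsPullback (((pullback.snd (pullback.snd f g) gU) ⁻¹ᵁ N).ι ≫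
      pullback.fst (pullback.snd f g) gU) ((pullback.snd (pullback.snd f g) gU) ∣_ N)
      (pullback.snd f g) (N.ι ≫ gU) :=
    (isPullback_morphismRestrict (pullback.snd (pullback.snd f g) gU) N).flip.paste_horiz
      (IsPullback.of_hasPullback (pullback.snd f g) gU)
  let W' : T.Opens := ⟨Set.range (N.ι ≫ gU), (N.ι ≫ gU).isOpenMap.isOpen_range⟩
  refine ⟨W', ⟨⟨u₀, rfl⟩, ?_⟩,
    isFinite_restrict_of_etale_cover (pullback.snd f g) W' _ _ (N.ι ≫ gU) hc rfl⟩
  exact hu₀

theorem main_iff (hfin : ∀ s, (f ⁻¹' {s}).Finite) {T : Scheme.{u}} (g : T ⟶ S) (r : ℕ) :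
    Mor2.IsFinLocFreeOfDeg r (pullback.snd f g) ↔ ∀ t : T, deg f (g t) = r := by
  have key : ∀ [IsFinite (pullback.snd f g)] (t : T),
      (pullback.snd f g).finrank t = deg f (g t) := by
    intro hF t
    haveI : IsIso (⊤ : (pullback f g).Opens).ι := inferInstanceAs (IsIso (Scheme.topIso _).hom)
    have h1 := finrank_eq_deg' f (pullback.fst f g) (pullback.snd f g) g
      (IsPullback.of_hasPullback f g) t (hfin _) ⊤ (fun w _ => trivial)
    rw [finrank_of_eq_top _ _ rfl] at h1
    exact h1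
  constructor
  · rintro ⟨⟨hF, hFl, hP⟩, hrk⟩ t
    haveI := hF
    rw [← key t]
    exact hrk t
  · intro h
    haveI := isFinite_of_deg_const f hfin g r h
    refine ⟨⟨inferInstance, inferInstance, inferInstance⟩, fun t => ?_⟩
    rw [key t]
    exact h t

end Groth.Agent.Helper18.FibDeg
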