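import Groth.Agent.Lib.Helper18.FibDeg5
import Groth.Agent.Lib.Helper18.ConsTop

/-!
# Fibre degree: level sets are retrocompact for quasi-compact morphisms
-/

universe u

open CategoryTheory Limits AlgebraicGeometry Topology

namespace Groth.Agent.Helper18.FibDeg

open Groth.Agent.Helper18.Weighting

lemma isCompact_of_isConstructible {V : Type*} [TopologicalSpace V] [CompactSpace V] {s : Set V}
    (hs : IsConstructible s) : IsCompact s := by
  induction s, hs using BooleanSubalgebra.closure_sdiff_sup_induction with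
  | isSublattice =>
    exact ⟨fun s hs t ht ↦ ⟨hs.1.union ht.1, hs.2.union ht.2⟩,
      fun s hs t ht ↦ ⟨hs.1.inter ht.1, hs.2.inter_isOpen ht.2 ht.1⟩⟩
  | bot_mem => exact ⟨isOpen_empty, .empty⟩
  | top_mem => exact ⟨isOpen_univ, .univ⟩
  | sdiff U hU V hV => exact hU.2.isCompact.diff hV.1
  | sup s _ t _ hs' ht' => exact hs'.union ht'

variable {X S : Scheme.{u}} (f : X ⟶ S) [Flat f] [LocallyOfFinitePresentation f] [IsSeparated f]
  [LocallyQuasiFinite f]

lemma local_structure_affine (hfin : ∀ s, (f ⁻¹' {s}).Finite) (s : S) :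
    ∃ (U : Scheme.{u}) (_ : IsAffine U) (g : U ⟶ S) (u₀ : U), Etale g ∧ g u₀ = s ∧
      ∃ V : (pullback f g).Opens, IsFinite (V.ι ≫ pullback.snd f g) ∧
        (∀ u, (V.ι ≫ pullback.snd f g).finrank u = deg f s) ∧
        (∀ w, pullback.snd f g w = u₀ → w ∈ V) := by
  obtain ⟨U₁, g₁, u₁, hg₁, hu₁, Kι, hKι, O, hOfin, -, hOcov, -⟩ :=
    etale_local_structure' f hfin s
  haveI := hg₁
  haveI := hKι
  let V₁ : (pullback f g₁).Opens := ⨆ k, O k
  haveI hFV : IsFinite (V₁.ι ≫ pullback.snd f g₁) :=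
    EtLoc.isFinite_iSup (pullback.snd f g₁) O hOfin
  have hlc := (V₁.ι ≫ pullback.snd f g₁).isLocallyConstant_finrank
  have hr₀ : (V₁.ι ≫ pullback.snd f g₁).finrank u₁ = deg f s := by
    rw [finrank_eq_deg' f _ _ g₁ (IsPullback.of_hasPullback f g₁) u₁ (hfin _) V₁ (fun w hw => by
      obtain ⟨k, hk⟩ := hOcov w hw
      exact TopologicalSpace.Opens.mem_iSup.mpr ⟨k, hk⟩), hu₁]
  let N₀ : U₁.Opens := ⟨{u | (V₁.ι ≫ pullback.snd f g₁).finrank u =
    (V₁.ι ≫ pullback.snd f g₁).finrank u₁}, hlc.isOpen_fiber _⟩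
  obtain ⟨N, hNaff, hu₁N, hNle⟩ : ∃ N : U₁.Opens, IsAffineOpen N ∧ u₁ ∈ N ∧ N ≤ N₀ :=
    (TopologicalSpace.Opens.isBasis_iff_nbhd.mp U₁.isBasis_affineOpens) (show u₁ ∈ N₀ from rfl)
  haveI : IsAffine (N : Scheme.{u}) := hNaff
  refine ⟨N, hNaff, N.ι ≫ g₁, ⟨u₁, hu₁N⟩, inferInstance, hu₁, ?_⟩
  let c : pullback f (N.ι ≫ g₁) ⟶ pullback f g₁ :=
    pullback.lift (pullback.fst _ _) (pullback.snd _ _ ≫ N.ι)
      (by rw [pullback.condition, Category.assoc])
  have hsq : IsPullback c (pullback.snd f (N.ι ≫ g₁)) (pullback.snd f g₁) N.ι := by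
    refine IsPullback.of_right ?_ (pullback.lift_snd _ _ _) (IsPullback.of_hasPullback f g₁)
    rw [pullback.lift_fst]
    exact IsPullback.of_hasPullback f (N.ι ≫ g₁)
  obtain ⟨hF, -, hrk⟩ := preimage_piece hsq V₁
  refine ⟨c ⁻¹ᵁ V₁, hF, fun u => ?_, fun w hw => ?_⟩
  · rw [hrk u, ← hr₀]
    exact hNle u.2
  · change c w ∈ V₁
    obtain ⟨k, hk⟩ := hOcov (c w) (by
      rw [← Scheme.Hom.comp_apply, pullback.lift_snd, Scheme.Hom.comp_apply, hw]
      rfl)
    exact TopologicalSpace.Opens.mem_iSup.mpr ⟨k, hk⟩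

lemma isConstructible_deg_eq_of_isAffine [IsAffine S] [QuasiCompact f]
    (hfin : ∀ s, (f ⁻¹' {s}).Finite) (r : ℕ) : IsConstructible {s : S | deg f s = r} := by
  apply ConsTop.isConstructible_of_forall_exists
  intro s
  suffices h : ∃ C : Set S, IsConstructible C ∧ s ∈ C ∧ ∀ c ∈ C, deg f c = deg f s by
    obtain ⟨C, hC, hsC, hconst⟩ := h
    refine ⟨C, hC, hsC, fun hs c hc => ?_, fun hs c hc => ?_⟩
    · exact (hconst c hc).trans hs
    · intro hc'
      exact hs ((hconst c hc).symm.trans hc')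
  obtain ⟨U, hU, g, u₀, hg, hu₀, V, hFV, hrk, hcov⟩ := local_structure_affine f hfin s
  haveI := hU
  haveI := hg
  haveI := hFV
  haveI : CompactSpace ↥(pullback f g) :=
    (HasAffineProperty.iff_of_isAffine (P := @QuasiCompact)).mp
      (inferInstance : QuasiCompact (pullback.snd f g))
  have hclV : IsClosed (V : Set ↥(pullback f g)) :=
    isClosed_of_isFinite_opens (pullback.snd f g) V
  have hQc : IsCompact ((V : Set ↥(pullback f g))ᶜ) := (isClosed_compl_iff.mpr V.2).isCompact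
  have hIc : IsCompact ((pullback.snd f g) '' (V : Set ↥(pullback f g))ᶜ) :=
    hQc.image (pullback.snd f g).continuous
  have hIo : IsOpen ((pullback.snd f g) '' (V : Set ↥(pullback f g))ᶜ) :=
    (pullback.snd f g).isOpenMap _ hclV.isOpen_compl
  have hE : IsConstructible ((pullback.snd f g) '' (V : Set ↥(pullback f g))ᶜ)ᶜ :=
    isConstructible_compl.mpr (hIc.isConstructible hIo)
  haveI : QuasiCompact g :=
    (HasAffineProperty.iff_of_isAffine (P := @QuasiCompact)).mpr inferInstance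
  refine ⟨g '' ((pullback.snd f g) '' (V : Set ↥(pullback f g))ᶜ)ᶜ,
    g.isConstructible_image hE, ⟨u₀, ?_, hu₀⟩, ?_⟩
  · rintro ⟨w, hw, hwu⟩
    exact hw (hcov w hwu)
  · rintro _ ⟨u, hu, rfl⟩
    rw [← hrk u]
    symm
    apply finrank_eq_deg' f _ _ g (IsPullback.of_hasPullback f g) u (hfin _) V
    intro w hw
    by_contra hwV
    exact hu ⟨w, hwV, hw⟩

theorem isRetrocompact_deg_eq [QuasiCompact f] (hfin : ∀ s, (f ⁻¹' {s}).Finite) (r : ℕ) :
    IsRetrocompact {s : S | deg f s = r} := by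
  have key : ∀ W₀ : S.Opens, IsAffineOpen W₀ →
      IsCompact ({s : S | deg f s = r} ∩ (W₀ : Set S)) := by
    intro W₀ hW₀
    haveI : IsAffine (W₀ : Scheme.{u}) := hW₀
    have hfin' : ∀ a, ((pullback.snd f W₀.ι) ⁻¹' {a}).Finite := fun a =>
      finite_fibre_baseChange f hfin (pullback.snd f W₀.ι) (pullback.fst f W₀.ι) W₀.ι
        (IsPullback.of_hasPullback _ _) a
    have hdeg : ∀ a : ↥(W₀ : Scheme.{u}), deg (pullback.snd f W₀.ι) a = deg f (W₀.ι a) :=
      fun a => (finrank_fibre_eq_deg f (pullback.fst f W₀.ι) (pullback.snd f W₀.ι) W₀.ι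
        (IsPullback.of_hasPullback _ _) a (hfin _)).2 _
    have hc := isCompact_of_isConstructible (V := ↥(W₀ : Scheme.{u}))
      (isConstructible_deg_eq_of_isAffine (pullback.snd f W₀.ι) hfin' r)
    have him := hc.image W₀.ι.continuous
    convert him using 1
    ext s
    constructor
    · rintro ⟨hs, hsW⟩
      refine ⟨⟨s, hsW⟩, ?_, rfl⟩
      change deg (pullback.snd f W₀.ι) ⟨s, hsW⟩ = r
      rw [hdeg]
      exact hs
    · rintro ⟨a, ha, rfl⟩
      refine ⟨?_, a.2⟩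
      change deg f (W₀.ι a) = r
      rw [← hdeg]
      exact ha
  intro W hWc hWo
  have hnb : ∀ w : S, ∃ N : S.Opens, w ∈ N ∧ (w ∈ W → IsAffineOpen N ∧ (N : Set S) ⊆ W) := by
    intro w
    by_cases hw : w ∈ W
    · obtain ⟨N, hNaff, hwN, hNle⟩ : ∃ N : S.Opens, IsAffineOpen N ∧ w ∈ N ∧
          N ≤ (⟨W, hWo⟩ : S.Opens) :=
        (TopologicalSpace.Opens.isBasis_iff_nbhd.mp S.isBasis_affineOpens)
          (show w ∈ (⟨W, hWo⟩ : S.Opens) from hw)
      exact ⟨N, hwN, fun _ => ⟨hNaff, hNle⟩⟩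
    · exact ⟨⊤, trivial, fun h => absurd h hw⟩
  choose N hN1 hN2 using hnb
  obtain ⟨t, htW, htcov⟩ := hWc.elim_nhds_subcover (fun w => (N w : Set S))
    (fun w _ => (N w).2.mem_nhds (hN1 w))
  have hEq : {s : S | deg f s = r} ∩ W = ⋃ w ∈ t, ({s : S | deg f s = r} ∩ (N w : Set S)) := by
    ext s
    simp only [Set.mem_inter_iff, Set.mem_iUnion, exists_prop]
    constructor
    · rintro ⟨hs, hsW⟩
      obtain ⟨w, hwt, hsw⟩ := Set.mem_iUnion₂.mp (htcov hsW)
      exact ⟨w, hwt, hs, hsw⟩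
    · rintro ⟨w, hwt, hs, hsw⟩
      exact ⟨hs, (hN2 w (htW w hwt)).2 hsw⟩
  rw [hEq]
  exact t.isCompact_biUnion (fun w hw => key (N w) (hN2 w (htW w hw)).1)

end Groth.Agent.Helper18.FibDeg
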