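import Mathlib

set_option autoImplicit false
universe u
open CategoryTheory CategoryTheory.Limits

namespace Groth.Agent.Helper18.FiltFF

variable {J : Type u} [SmallCategory J] [IsFiltered J] (A : J ⥤ CommRingCat.{u})

theorem exists_rep (x : ↑(colimit A)) :
    ∃ (j : J) (y : ↑(A.obj j)), (colimit.ι A j).hom y = x := by
  obtain ⟨j, y, hy⟩ := Concrete.colimit_exists_rep A x
  exact ⟨j, y, hy⟩

theorem rep_eq_iff {i j : J} (x : ↑(A.obj i)) (y : ↑(A.obj j)) :
    (colimit.ι A i).hom x = (colimit.ι A j).hom y ↔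
      ∃ (k : J) (f : i ⟶ k) (g : j ⟶ k), (A.map f).hom x = (A.map g).hom y :=
  Concrete.colimit_rep_eq_iff_exists A x y

theorem ι_map {i j : J} (f : i ⟶ j) (x : ↑(A.obj i)) :
    (colimit.ι A j).hom ((A.map f).hom x) = (colimit.ι A i).hom x := by
  have := colimit.w A f
  exact congrArg (fun g => g.hom x) this

theorem exists_rep_fin (l : ℕ) (x : Fin l → ↑(colimit A)) :
    ∃ (j : J) (y : Fin l → ↑(A.obj j)), ∀ i, (colimit.ι A j).hom (y i) = x i := by
  induction l with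
  | zero => exact ⟨IsFiltered.nonempty.some, fun i => i.elim0, fun i => i.elim0⟩
  | succ l ih =>
    obtain ⟨j₁, y₁, h₁⟩ := ih (fun i => x i.castSucc)
    obtain ⟨j₂, y₂, h₂⟩ := exists_rep A (x (Fin.last l))
    refine ⟨IsFiltered.max j₁ j₂,
      Fin.snoc (α := fun _ => ↑(A.obj (IsFiltered.max j₁ j₂)))
        (fun i => (A.map (IsFiltered.leftToMax j₁ j₂)).hom (y₁ i))
        ((A.map (IsFiltered.rightToMax j₁ j₂)).hom y₂), ?_⟩
    intro i
    refine Fin.lastCases ?_ ?_ i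
    · rw [Fin.snoc_last, ι_map, h₂]
    · intro i; rw [Fin.snoc_castSucc, ι_map, h₁]

variable {A} {C : J ⥤ CommRingCat.{u}} (φ : C ⟶ A)

theorem colimMap_ι (j : J) (c : ↑(C.obj j)) :
    (colimMap φ).hom ((colimit.ι C j).hom c) = (colimit.ι A j).hom ((φ.app j).hom c) := by
  have := ι_colimMap φ j
  exact congrArg (fun g => g.hom c) this

theorem app_map {i j : J} (f : i ⟶ j) (c : ↑(C.obj i)) :
    (φ.app j).hom ((C.map f).hom c) = (A.map f).hom ((φ.app i).hom c) := by
  have := φ.naturality f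
  exact congrArg (fun g => g.hom c) this

theorem flat (h : ∀ j : J, (φ.app j).hom.Flat) : (colimMap φ).hom.Flat := by
  letI := (colimMap φ).hom.toAlgebra
  show Module.Flat ↑(colimit C) ↑(colimit A)
  rw [Module.Flat.iff_forall_isTrivialRelation]
  intro l f x hfx
  obtain ⟨j₁, f₁, hf₁⟩ := exists_rep_fin C l f
  obtain ⟨j₂, x₂, hx₂⟩ := exists_rep_fin A l x
  have hsum : (colimit.ι A (IsFiltered.max j₁ j₂)).hom
      (∑ i, (φ.app _).hom ((C.map (IsFiltered.leftToMax j₁ j₂)).hom (f₁ i)) *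
        (A.map (IsFiltered.rightToMax j₁ j₂)).hom (x₂ i)) =
      (colimit.ι A (IsFiltered.max j₁ j₂)).hom 0 := by
    rw [map_sum, map_zero, ← hfx]
    refine Finset.sum_congr rfl fun i _ => ?_
    rw [map_mul, ← colimMap_ι, ι_map, ι_map, hf₁, hx₂]
    rfl
  obtain ⟨k', u, v, huv⟩ := (rep_eq_iff A _ _).mp hsum
  rw [map_zero, map_sum] at huv
  letI := (φ.app k').hom.toAlgebra
  haveI hflat : Module.Flat ↑(C.obj k') ↑(A.obj k') := h k'
  have hrel : ∑ i, ((C.map u).hom ((C.map (IsFiltered.leftToMax j₁ j₂)).hom (f₁ i))) •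
      ((A.map u).hom ((A.map (IsFiltered.rightToMax j₁ j₂)).hom (x₂ i))) = 0 := by
    rw [← huv]
    refine Finset.sum_congr rfl fun i _ => ?_
    rw [map_mul, ← app_map]
    rfl
  obtain ⟨m, a, y, hxy, hfa⟩ := Module.Flat.isTrivialRelation_of_sum_smul_eq_zero
    (R := ↑(C.obj k')) (M := ↑(A.obj k'))
    (f := fun i => (C.map u).hom ((C.map (IsFiltered.leftToMax j₁ j₂)).hom (f₁ i)))
    (x := fun i => (A.map u).hom ((A.map (IsFiltered.rightToMax j₁ j₂)).hom (x₂ i))) hrel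
  refine ⟨m, fun i j => (colimit.ι C k').hom (a i j), fun j => (colimit.ι A k').hom (y j), ?_, ?_⟩
  · intro i
    have hxyi := hxy i
    simp only [] at hxyi
    rw [← hx₂ i, ← ι_map A (IsFiltered.rightToMax j₁ j₂), ← ι_map A u, hxyi, map_sum]
    refine Finset.sum_congr rfl fun j _ => ?_
    show _ = (colimMap φ).hom _ * _
    rw [colimMap_ι, ← map_mul]
    rfl
  · intro j
    have hfaj := hfa j
    simp only [] at hfaj
    rw [← map_zero (colimit.ι C k').hom, ← hfaj, map_sum]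
    refine Finset.sum_congr rfl fun i _ => ?_
    rw [map_mul, ι_map, ι_map, hf₁]

theorem map_mem (I : Ideal ↑(colimit C)) {i j : J} (f : i ⟶ j) (s : ↑(A.obj i))
    (hs : s ∈ Ideal.map (φ.app i).hom (Ideal.comap (colimit.ι C i).hom I)) :
    (A.map f).hom s ∈ Ideal.map (φ.app j).hom (Ideal.comap (colimit.ι C j).hom I) := by
  have h1 := Ideal.mem_map_of_mem (A.map f).hom hs
  rw [Ideal.map_map] at h1
  have h2 : (A.map f).hom.comp (φ.app i).hom = (φ.app j).hom.comp (C.map f).hom := by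
    ext c
    exact (app_map φ f c).symm
  rw [h2, ← Ideal.map_map] at h1
  refine Ideal.map_mono ?_ h1
  rw [Ideal.map_le_iff_le_comap]
  intro c hc
  rw [Ideal.mem_comap] at hc ⊢
  rw [Ideal.mem_comap, ι_map]
  exact hc

theorem faithfullyFlat (h : ∀ j : J, (φ.app j).hom.FaithfullyFlat) :
    (colimMap φ).hom.FaithfullyFlat := by
  have hfl : (colimMap φ).hom.Flat := flat φ (fun j => (h j).flat)
  letI := (colimMap φ).hom.toAlgebra
  show Module.FaithfullyFlat ↑(colimit C) ↑(colimit A)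
  rw [Module.FaithfullyFlat.iff_flat_and_ideal_smul_eq_top]
  refine ⟨hfl, fun I hI => ?_⟩
  have key : ∀ s ∈ I • (⊤ : Submodule ↑(colimit C) ↑(colimit A)),
      ∃ (k : J) (s' : ↑(A.obj k)), (colimit.ι A k).hom s' = s ∧
        s' ∈ Ideal.map (φ.app k).hom (Ideal.comap (colimit.ι C k).hom I) := by
    intro s hs
    refine Submodule.smul_induction_on hs ?_ ?_
    · intro r hr n _
      obtain ⟨j₁, r', hr'⟩ := exists_rep C r
      obtain ⟨j₂, n', hn'⟩ := exists_rep A n
      refine ⟨IsFiltered.max j₁ j₂,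
        (φ.app _).hom ((C.map (IsFiltered.leftToMax j₁ j₂)).hom r') *
          (A.map (IsFiltered.rightToMax j₁ j₂)).hom n', ?_, ?_⟩
      · rw [map_mul, ← colimMap_ι, ι_map, ι_map, hr', hn']
        rfl
      · refine Ideal.mul_mem_right _ _ (Ideal.mem_map_of_mem _ ?_)
        rw [Ideal.mem_comap, ι_map, hr']
        exact hr
    · rintro x y ⟨k₁, s₁, rfl, hs₁⟩ ⟨k₂, s₂, rfl, hs₂⟩
      refine ⟨IsFiltered.max k₁ k₂, (A.map (IsFiltered.leftToMax k₁ k₂)).hom s₁ +
        (A.map (IsFiltered.rightToMax k₁ k₂)).hom s₂, ?_, ?_⟩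
      · rw [map_add, ι_map, ι_map]
      · exact Ideal.add_mem _ (map_mem φ I _ _ hs₁) (map_mem φ I _ _ hs₂)
  obtain ⟨k, s', hs', hmem⟩ := key 1 (by rw [hI]; trivial)
  rw [← map_one (colimit.ι A k).hom] at hs'
  obtain ⟨k', u, v, huv⟩ := (rep_eq_iff A _ _).mp hs'
  rw [map_one] at huv
  have h1 := map_mem φ I u s' hmem
  rw [huv] at h1
  letI := (φ.app k').hom.toAlgebra
  haveI hff : Module.FaithfullyFlat ↑(C.obj k') ↑(A.obj k') := h k'
  have h2 : Ideal.map (algebraMap ↑(C.obj k') ↑(A.obj k'))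
      (Ideal.comap (colimit.ι C k').hom I) = ⊤ := (Ideal.eq_top_iff_one _).mpr h1
  have h3 := Ideal.comap_map_eq_self_of_faithfullyFlat (B := ↑(A.obj k'))
    (Ideal.comap (colimit.ι C k').hom I)
  rw [h2, Ideal.comap_top] at h3
  have h4 : (1 : ↑(C.obj k')) ∈ Ideal.comap (colimit.ι C k').hom I := by
    rw [← h3]; trivial
  rw [Ideal.mem_comap, map_one] at h4
  exact (Ideal.eq_top_iff_one _).mpr h4

end Groth.Agent.Helper18.FiltFF
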