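import Mathlib
import Groth.Prelude.Def_CurvBase
import Groth.Agent.Lib.Helper18.GeomFibreCount

/-!
# Geometric number of connected components of a finite scheme over a field
-/

universe u

open CategoryTheory AlgebraicGeometry

namespace Groth.Agent.Helper18.Weighting

lemma toStalk_surj (k : Type u) [Field k] (p : PrimeSpectrum k) :
    Function.Surjective (StructureSheaf.toStalk k p).hom := by
  intro z
  obtain ⟨a, s, rfl⟩ := IsLocalization.exists_mk'_eq p.asIdeal.primeCompl z
  have hs : (s : k) ≠ 0 := fun h => s.2 (by rw [h]; exact Ideal.zero_mem _)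
  refine ⟨a * (s : k)⁻¹, ?_⟩
  symm
  rw [IsLocalization.mk'_eq_iff_eq_mul]
  change algebraMap k _ a = algebraMap k _ (a * (s:k)⁻¹) * algebraMap k _ (s : k)
  rw [← map_mul, mul_assoc, inv_mul_cancel₀ hs, mul_one]

/-- The canonical map from a field `k` to the residue field of `Spec k` at its point. -/
noncomputable def baseMap (k : Type u) [Field k] (p : ↥(Spec (CommRingCat.of k))) :
    k →+* (Spec (CommRingCat.of k)).residueField p :=
  ((Spec (CommRingCat.of k)).residue p).hom.comp
    (((Spec (CommRingCat.of k)).presheaf.germ ⊤ p trivial).hom.comp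
      (Scheme.ΓSpecIso (CommRingCat.of k)).inv.hom)

lemma baseMap_bijective (k : Type u) [Field k] (p : ↥(Spec (CommRingCat.of k))) :
    Function.Bijective (baseMap k p) := by
  refine ⟨RingHom.injective _, ?_⟩
  intro z
  obtain ⟨w, rfl⟩ :=
    IsLocalRing.residue_surjective (R := (Spec (CommRingCat.of k)).presheaf.stalk p) z
  obtain ⟨a, rfl⟩ := toStalk_surj k p w
  exact ⟨a, rfl⟩

lemma finSepDegree_comp_surjective_bot {K K' E : Type u} [Field K] [Field K'] [Field E]
    (ι₀ : K →+* K') (hι : Function.Surjective ι₀) (b : K' →+* E) :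
    @Field.finSepDegree K E _ _ (b.comp ι₀).toAlgebra =
      @Field.finSepDegree K' E _ _ b.toAlgebra := by
  letI a1 : Algebra K' E := b.toAlgebra
  letI a2 : Algebra K E := (b.comp ι₀).toAlgebra
  unfold Field.finSepDegree Field.Emb
  apply Nat.card_congr
  exact
    { toFun := fun σ =>
        { σ.toRingHom with
          commutes' := fun c => by
            obtain ⟨c₀, rfl⟩ := hι c
            exact σ.commutes c₀ }
      invFun := fun σ =>
        { σ.toRingHom with
          commutes' := fun c₀ => σ.commutes (ι₀ c₀) }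
      left_inv := fun σ => by ext; rfl
      right_inv := fun σ => by ext; rfl }

/-- The structure map from `k` to the residue field of a `k`-scheme. -/
noncomputable def resMapOf (k : Type u) [Field k] {X : Scheme.{u}}
    (f : X ⟶ Spec (CommRingCat.of k)) (x : X) : k →+* X.residueField x :=
  (X.residue x).hom.comp ((X.presheaf.germ ⊤ x trivial).hom.comp (Coh.toGlobal f))

lemma resMapOf_eq (k : Type u) [Field k] {X : Scheme.{u}}
    (f : X ⟶ Spec (CommRingCat.of k)) (x : X) :
    resMapOf k f x = (f.residueFieldMap x).hom.comp (baseMap k (f x)) := by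
  have h1 : f.appTop ≫ X.presheaf.germ ⊤ x trivial ≫ X.residue x =
      (Spec (CommRingCat.of k)).presheaf.germ ⊤ (f x) trivial ≫
        (Spec (CommRingCat.of k)).residue (f x) ≫ f.residueFieldMap x := by
    rw [Scheme.residue_residueFieldMap, ← Category.assoc, ← Category.assoc]
    congr 1
    exact (Scheme.Hom.germ_stalkMap f ⊤ x trivial).symm
  ext a
  have h2 := congrArg (fun m => m.hom ((Scheme.ΓSpecIso (CommRingCat.of k)).inv.hom a)) h1
  exact h2

theorem count_over_field (k : Type u) [Field k] {X : Scheme.{u}}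
    (f : X ⟶ Spec (CommRingCat.of k)) [IsFinite f] (pt : ↥(Spec (CommRingCat.of k))) :
    MoreMor.nGeomConnComp f pt =
      ((∑ᶠ x : X, @Field.finSepDegree k (X.residueField x) _ _ (resMapOf k f x).toAlgebra : ℕ) : ℕ∞) := by
  classical
  have hfin : ∀ y, (f ⁻¹' {y}).Finite := fun y => f.finite_preimage_singleton y
  obtain ⟨h1, h2⟩ := nGeomConnComp_eq_integral f hfin pt
  rw [h1]
  congr 1
  haveI : Subsingleton ↥(Spec (CommRingCat.of k)) :=
    show Subsingleton (PrimeSpectrum k) from inferInstance
  have hsub : ∀ x : X, f x = pt := fun x => Subsingleton.elim _ _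
  have hs : ∀ x : X, sdeg f x =
      @Field.finSepDegree k (X.residueField x) _ _ (resMapOf k f x).toAlgebra := by
    intro x
    unfold sdeg
    rw [resMapOf_eq]
    exact (finSepDegree_comp_surjective_bot (baseMap k (f x)) (baseMap_bijective k (f x)).2
      (f.residueFieldMap x).hom).symm
  haveI : Finite X := by
    have : (Set.univ : Set X) = f ⁻¹' {pt} := by ext x; simp [hsub x]
    exact Set.finite_univ_iff.mp (this ▸ hfin pt)
  rw [fibreIntegral_eq]
  have e1 : (∑ᶠ z : {z : X // f z = pt}, (fun _ => (1 : ℤ)) z.1 * (sdeg f z.1 : ℤ)) =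
      ∑ᶠ x : X, ((@Field.finSepDegree k (X.residueField x) _ _ (resMapOf k f x).toAlgebra : ℕ) : ℤ) := by
    rw [← finsum_comp_equiv (Equiv.subtypeUnivEquiv hsub)]
    apply finsum_congr
    intro z
    simp only [one_mul]
    rw [hs]
    rfl
  rw [e1, ← Nat.cast_finsum, Int.toNat_natCast]

end Groth.Agent.Helper18.Weighting
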