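import Mathlib

set_option autoImplicit false
universe u

namespace Groth.Agent.Helper18

open LinearMap Submodule

/-- For a short exact sequence `0 → K → M → N → 0` with `N` flat, `JM ∩ K = JK`. -/
theorem flat_smul_top_inf_range_le {R : Type u} [CommRing R]
    {K M N : Type u} [AddCommGroup K] [Module R K] [AddCommGroup M] [Module R M]
    [AddCommGroup N] [Module R N] [Module.Flat R N]
    (i : K →ₗ[R] M) (g : M →ₗ[R] N)
    (hg : Function.Surjective g) (hig : Function.Exact i g) (J : Ideal R) :
    (J • ⊤ : Submodule R M) ⊓ LinearMap.range i ≤ Submodule.map i (J • ⊤ : Submodule R K) := by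
  classical
  rintro x ⟨hxJ, k₀, rfl⟩
  have hx' : i k₀ ∈ J • span R (Set.range (_root_.id : M → M)) := by
    simpa using hxJ
  obtain ⟨a, haJ, hax⟩ := (Submodule.mem_ideal_smul_span_iff_exists_sum J (_root_.id : M → M) (i k₀)).mp hx'
  -- the relation in N
  have hrel : ∑ m : a.support, a m • g m = 0 := by
    have : g (i k₀) = 0 := hig.apply_apply_eq_zero k₀
    rw [← hax, Finsupp.sum, map_sum] at this
    rw [← this, ← Finset.sum_coe_sort a.support (fun m => g (a m • _root_.id m))]
    simp
  obtain ⟨l, b, y, hy1, hy2⟩ := Module.Flat.isTrivialRelation_of_sum_smul_eq_zero hrel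
  simp only at hy1 hy2
  choose y' hy' using fun j => hg (y j)
  have hker : ∀ m : a.support, ∃ km : K, i km = (m : M) - ∑ j, b m j • y' j := by
    intro m
    apply (hig _).mp
    rw [map_sub, map_sum, hy1 m]
    simp [hy']
  choose km hkm using hker
  refine ⟨∑ m : a.support, a m • km m, ?_, ?_⟩
  · exact Submodule.sum_mem _ fun m _ => Submodule.smul_mem_smul (haJ m) mem_top
  · rw [map_sum]
    have e1 : ∀ m : a.support, i (a m • km m) = a m • (m : M) - ∑ j, (a m * b m j) • y' j := by
      intro m
      rw [map_smul, hkm, smul_sub, Finset.smul_sum]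
      simp [mul_smul]
    rw [Finset.sum_congr rfl (fun m _ => e1 m), Finset.sum_sub_distrib, Finset.sum_comm]
    have e2 : ∀ j, ∑ m : a.support, (a m * b m j) • y' j = 0 := by
      intro j
      rw [← Finset.sum_smul, hy2 j, zero_smul]
    rw [Finset.sum_congr rfl (fun j _ => e2 j), Finset.sum_const_zero, sub_zero, ← hax,
      Finsupp.sum, ← Finset.sum_coe_sort a.support (fun m => a m • _root_.id m)]
    simp

end Groth.Agent.Helper18
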