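import Mathlib
import Groth.Prelude
import Groth.Agent.S9436
import Groth.Agent.Lib.Helper18.EtSplit

set_option autoImplicit false

namespace Groth.Agent.Helper18.GabberSplit

open AlgebraicGeometry CategoryTheory Limits IsLocalRing

universe u

/-- Assemble a decomposition of `V` into opens of `Z` from a disjoint open cover of `V` whose
members map to `Z` by open immersions. -/
lemma split_of_disjoint_cover {V Z : Scheme.{u}} (φ : V ⟶ Z) {J : Type u} (P : J → V.Opens)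
    (hdisj : ∀ a b, a ≠ b → Disjoint (P a) (P b)) (hcov : ∀ v : V, ∃ j, v ∈ P j)
    (hoi : ∀ j, IsOpenImmersion ((P j).ι ≫ φ)) :
    ∃ (W : J → Z.Opens) (e : (∐ fun k => (W k : Scheme.{u})) ≅ V),
      (∀ k, Sigma.ι (fun k => (W k : Scheme.{u})) k ≫ e.hom ≫ φ = (W k).ι) ∧
      ∀ k, (W k : Set Z) = φ '' (P k : Set V) := by
  let h : ∀ j : J, ((P j : V.Opens) : Scheme.{u}) ⟶ Z := fun j => (P j).ι ≫ φ
  haveI hhoi : ∀ j, IsOpenImmersion (h j) := hoi
  let α : ∀ j : J, (((h j).opensRange : Z.Opens) : Scheme.{u}) ⟶ V :=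
    fun j => (h j).isoOpensRange.inv ≫ (P j).ι
  have hαmem : ∀ j (y : ((h j).opensRange : Z.Opens)), α j y ∈ P j := by
    intro j y
    change ((h j).isoOpensRange.inv ≫ (P j).ι) y ∈ P j
    rw [Scheme.Hom.comp_apply]
    exact ((h j).isoOpensRange.inv y).2
  haveI hαoi : ∀ j, IsOpenImmersion (α j) := fun j => by
    change IsOpenImmersion ((h j).isoOpensRange.inv ≫ (P j).ι)
    infer_instance
  haveI : IsOpenImmersion (Sigma.desc α) := by
    apply isOpenImmersion_sigmaDesc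
    intro a b hab
    change Disjoint (Set.range (α a)) (Set.range (α b))
    rw [Set.disjoint_left]
    rintro _ ⟨y, rfl⟩ ⟨z, hz⟩
    have h1 := hαmem a y
    have h2 := hαmem b z
    rw [hz] at h2
    exact (hdisj a b hab).le_bot ⟨h1, h2⟩
  haveI : Surjective (Sigma.desc α) := by
    refine ⟨fun v => ?_⟩
    obtain ⟨j, hj⟩ := hcov v
    refine ⟨Sigma.ι (fun j : J => (((h j).opensRange : Z.Opens) : Scheme.{u})) j
      ((h j).isoOpensRange.hom ⟨v, hj⟩), ?_⟩
    rw [← Scheme.Hom.comp_apply, Sigma.ι_desc]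
    change ((h j).isoOpensRange.inv ≫ (P j).ι) _ = v
    rw [← Scheme.Hom.comp_apply, Iso.hom_inv_id_assoc]
    rfl
  haveI : IsIso (Sigma.desc α) :=
    (isIso_iff_isOpenImmersion_and_surjective _).mpr ⟨inferInstance, inferInstance⟩
  refine ⟨fun j => (h j).opensRange, asIso (Sigma.desc α), ?_, ?_⟩
  · intro k
    rw [asIso_hom, ← Category.assoc, Sigma.ι_desc]
    change ((h k).isoOpensRange.inv ≫ (P k).ι) ≫ φ = _
    rw [Category.assoc]
    exact Scheme.Hom.isoOpensRange_inv_comp (h k)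
  · intro k
    change Set.range (h k) = _
    ext z
    constructor
    · rintro ⟨y, rfl⟩
      refine ⟨y.1, y.2, ?_⟩
      change φ ((P k).ι y) = ((P k).ι ≫ φ) y
      rw [Scheme.Hom.comp_apply]
    · rintro ⟨v, hv, rfl⟩
      refine ⟨⟨v, hv⟩, ?_⟩
      change ((P k).ι ≫ φ) _ = _
      rw [Scheme.Hom.comp_apply]
      rfl

open TensorProduct in
/-- Lifting an etale algebra along a surjection, as a pushout square of commutative rings. -/
lemma exists_lift_pushout {R B C : CommRingCat.{u}} (iT : R ⟶ B)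
    (hsurj : Function.Surjective iT.hom) (φT : B ⟶ C) (hφ : φT.hom.Etale) :
    ∃ (S : CommRingCat.{u}) (rS : R ⟶ S) (sC : S ⟶ C), rS.hom.Etale ∧ IsPushout rS iT sC φT := by
  let I : Ideal R := RingHom.ker iT.hom
  let q : R ⧸ I ≃+* B := RingHom.quotientKerEquivOfSurjective hsurj
  letI : Algebra (R ⧸ I) C := (φT.hom.comp q.toRingHom).toAlgebra
  haveI : Algebra.Etale (R ⧸ I) C := by
    rw [← RingHom.etale_algebraMap, RingHom.algebraMap_toAlgebra]
    exact RingHom.Etale.respectsIso.2 φT.hom q hφ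
  obtain ⟨S, _, _, hS, ⟨ε⟩⟩ := Groth.Agent.S9436.result R I C
  have h0 := (CommRingCat.isPushout_tensorProduct R (R ⧸ I) S).flip
  refine ⟨CommRingCat.of S, CommRingCat.ofHom (algebraMap R S),
    CommRingCat.ofHom (ε.toRingEquiv.toRingHom.comp Algebra.TensorProduct.includeRight.toRingHom),
    ?_, ?_⟩
  · change (algebraMap R S).Etale
    rw [RingHom.etale_algebraMap]
    exact hS
  · refine h0.of_iso (Iso.refl _) (Iso.refl _) q.toCommRingCatIso
      ε.toRingEquiv.toCommRingCatIso ?_ ?_ ?_ ?_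
    · simp
    · ext r
      simp only [Iso.refl_hom, Category.id_comp]
      rfl
    · ext s
      rfl
    · ext x
      exact ε.commutes x

section

variable {V Z X : Scheme.{u}} [IsAffine X] [IsIntegral X]
  (hN : ∀ x : X, IsIntegrallyClosed (X.presheaf.stalk x)) [IsSepClosed X.functionField]
  (i : Z ⟶ X) [IsClosedImmersion i] (φ : V ⟶ Z) [Etale φ] [IsAffine V]

include hN i in
/-- An affine etale scheme over a closed subscheme of an affine integral normal scheme with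
separably closed function field is covered by disjoint opens mapping to `Z` by open immersions. -/
theorem exists_disjoint_cover :
    ∃ (J : Type u) (P : J → V.Opens), (∀ a b, a ≠ b → Disjoint (P a) (P b)) ∧
      (∀ v : V, ∃ j, v ∈ P j) ∧ ∀ j, IsOpenImmersion ((P j).ι ≫ φ) := by
  obtain ⟨hZ, hsurj⟩ := IsClosedImmersion.isAffine_surjective_of_isAffine i
  haveI := hZ
  have hφ : φ.appTop.hom.Etale := (HasRingHomProperty.iff_of_isAffine (P := @Etale)).mp ‹Etale φ›
  obtain ⟨S, rS, sC, hrS, hpo⟩ := exists_lift_pushout i.appTop hsurj φ.appTop hφ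
  have hpb := isPullback_SpecMap_of_isPushout _ _ _ _ hpo
  let g : Spec S ⟶ X := Spec.map rS ≫ X.isoSpec.inv
  let p : V ⟶ Spec S := V.isoSpec.hom ≫ Spec.map sC
  have hsq : IsPullback p φ g i := by
    refine IsPullback.of_iso hpb V.isoSpec.symm (Iso.refl _) Z.isoSpec.symm X.isoSpec.symm
      ?_ ?_ ?_ ?_
    · simp [p]
    · exact Scheme.isoSpec_inv_naturality φ
    · simp [g]
    · exact Scheme.isoSpec_inv_naturality i
  haveI : Etale (Spec.map rS) := (HasRingHomProperty.Spec_iff (P := @Etale)).mpr hrS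
  haveI : Etale g := inferInstanceAs (Etale (Spec.map rS ≫ X.isoSpec.inv))
  haveI : IsAffineHom g := isAffineHom_of_isAffine g
  haveI : IsSeparated g := inferInstance
  obtain ⟨J, Vj, e, he⟩ := EtSplit.main hN g
  let a : ∀ j : J, ((Vj j : X.Opens) : Scheme.{u}) ⟶ Spec S :=
    fun j => Sigma.ι (fun j => ((Vj j : X.Opens) : Scheme.{u})) j ≫ e.hom
  have ha : ∀ j, a j ≫ g = (Vj j).ι := fun j => by
    change (Sigma.ι _ j ≫ e.hom) ≫ g = _
    rw [Category.assoc]
    exact he j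
  haveI haoi : ∀ j, IsOpenImmersion (a j) := fun j => by
    change IsOpenImmersion (Sigma.ι _ j ≫ e.hom)
    infer_instance
  refine ⟨J, fun j => p ⁻¹ᵁ (a j).opensRange, ?_, ?_, ?_⟩
  · intro j k hjk
    rw [disjoint_iff_inf_le]
    rintro v ⟨⟨s, hs⟩, ⟨t, ht⟩⟩
    exfalso
    apply hjk
    have h1 : e.hom (Sigma.ι (fun j => ((Vj j : X.Opens) : Scheme.{u})) j s) =
        e.hom (Sigma.ι (fun j => ((Vj j : X.Opens) : Scheme.{u})) k t) := by
      rw [← Scheme.Hom.comp_apply, ← Scheme.Hom.comp_apply]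
      exact hs.trans ht.symm
    have h2 := (e.hom.homeomorph).injective h1
    have h3 := (sigmaι_eq_iff _ _ _ _ _).mp h2
    exact congrArg Sigma.fst h3
  · intro v
    obtain ⟨s, hs⟩ := (e.hom.homeomorph).surjective (p v)
    obtain ⟨⟨j, y⟩, rfl⟩ := (sigmaMk (fun j => ((Vj j : X.Opens) : Scheme.{u}))).surjective s
    refine ⟨j, y, ?_⟩
    rw [sigmaMk_mk] at hs
    change (Sigma.ι _ j ≫ e.hom) y = p v
    rw [Scheme.Hom.comp_apply]
    exact hs
  · intro j
    have h1 := isPullback_morphismRestrict p (a j).opensRange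
    have h2 := h1.paste_vert hsq
    have h3 : IsOpenImmersion ((a j).opensRange.ι ≫ g) := by
      have : (a j).opensRange.ι ≫ g = (a j).isoOpensRange.inv ≫ (Vj j).ι := by
        rw [← ha j, Scheme.Hom.isoOpensRange_inv_comp_assoc]
      rw [this]
      infer_instance
    exact MorphismProperty.of_isPullback (P := @IsOpenImmersion) h2 h3

end


section

variable {V Z X : Scheme.{u}} [IsAffine X] [IsIntegral X]
  (hN : ∀ x : X, IsIntegrallyClosed (X.presheaf.stalk x)) [IsSepClosed X.functionField]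
  (i : Z ⟶ X) [IsClosedImmersion i] (φ : V ⟶ Z) [Etale φ] [IsAffine V]

include hN i in
/-- Finite version of `exists_disjoint_cover`. -/
theorem exists_finite_disjoint_cover :
    ∃ (J : Type u) (_ : Finite J) (P : J → V.Opens), (∀ a b, a ≠ b → Disjoint (P a) (P b)) ∧
      (∀ v : V, ∃ j, v ∈ P j) ∧ ∀ j, IsOpenImmersion ((P j).ι ≫ φ) := by
  obtain ⟨J, P, hdisj, hcov, hoi⟩ := exists_disjoint_cover hN i φ
  let T : Set J := {j | (P j : Set V).Nonempty}
  have hfin : T.Finite := by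
    obtain ⟨t, ht⟩ := isCompact_univ.elim_finite_subcover (fun j => (P j : Set V))
      (fun j => (P j).2) (fun v _ => by
        obtain ⟨j, hj⟩ := hcov v
        exact Set.mem_iUnion.mpr ⟨j, hj⟩)
    refine t.finite_toSet.subset ?_
    rintro j ⟨v, hv⟩
    have h1 := ht (Set.mem_univ v)
    simp only [Set.mem_iUnion] at h1
    obtain ⟨k, hk, hvk⟩ := h1
    by_cases hjk : j = k
    · rw [hjk]; exact hk
    · exact ((hdisj j k hjk).le_bot ⟨hv, hvk⟩).elim
  haveI : Finite T := hfin.to_subtype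
  refine ⟨T, inferInstance, fun j => P j.1, ?_, ?_, fun j => hoi j.1⟩
  · intro a b hab
    exact hdisj a.1 b.1 (fun h => hab (Subtype.ext h))
  · intro v
    obtain ⟨j, hj⟩ := hcov v
    exact ⟨⟨j, ⟨v, hj⟩⟩, hj⟩

include hN i in
theorem split_finite :
    ∃ (ι : Type u) (_ : Finite ι) (W : ι → Z.Opens) (e : (∐ fun k => (W k : Scheme.{u})) ≅ V),
      ∀ k, Sigma.ι (fun k => (W k : Scheme.{u})) k ≫ e.hom ≫ φ = (W k).ι := by
  obtain ⟨J, hJ, P, hdisj, hcov, hoi⟩ := exists_finite_disjoint_cover hN i φ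
  obtain ⟨W, e, he, -⟩ := split_of_disjoint_cover φ P hdisj hcov hoi
  exact ⟨J, hJ, W, e, he⟩

end

/-- A section from a finite family of opens of `V` mapping isomorphically onto open and closed
subsets which cover `Z`. -/
lemma exists_section_of_cover {V Z : Scheme.{u}} (φ : V ⟶ Z) {J : Type u} [Finite J]
    (P : J → V.Opens) (hoi : ∀ j, IsOpenImmersion ((P j).ι ≫ φ))
    (hcl : ∀ j, IsClosed (φ '' (P j : Set V)))
    (hsurj : ∀ z : Z, ∃ j, z ∈ φ '' (P j : Set V)) :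
    ∃ s : Z ⟶ V, s ≫ φ = 𝟙 Z := by
  obtain ⟨n, ⟨σ⟩⟩ := Finite.exists_equiv_fin J
  let h : ∀ j : J, ((P j : V.Opens) : Scheme.{u}) ⟶ Z := fun j => (P j).ι ≫ φ
  haveI hhoi : ∀ j, IsOpenImmersion (h j) := hoi
  have hrange : ∀ j, Set.range (h j) = φ '' (P j : Set V) := by
    intro k
    ext z
    constructor
    · rintro ⟨y, rfl⟩
      refine ⟨y.1, y.2, ?_⟩
      change φ ((P k).ι y) = ((P k).ι ≫ φ) y
      rw [Scheme.Hom.comp_apply]
    · rintro ⟨v, hv, rfl⟩
      refine ⟨⟨v, hv⟩, ?_⟩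
      change ((P k).ι ≫ φ) _ = _
      rw [Scheme.Hom.comp_apply]
      rfl
  let Ts : J → Set Z := fun j => φ '' (P j : Set V) ∩ ⋂ k ∈ {k : J | σ k < σ j}, (φ '' (P k : Set V))ᶜ
  have hTopen : ∀ j, IsOpen (Ts j) := by
    intro j
    refine IsOpen.inter ?_ ?_
    · rw [← hrange j]
      exact (h j).isOpenEmbedding.isOpen_range
    · exact (Set.toFinite _).isOpen_biInter (fun k _ => (hcl k).isOpen_compl)
  let Zo : J → Z.Opens := fun j => ⟨Ts j, hTopen j⟩
  have hmem : ∀ j (z : Z), z ∈ Zo j ↔ z ∈ φ '' (P j : Set V) ∧ ∀ k, σ k < σ j → z ∉ φ '' (P k : Set V) := by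
    intro j z
    change z ∈ Ts j ↔ _
    simp only [Ts, Set.mem_inter_iff, Set.mem_iInter, Set.mem_setOf_eq, Set.mem_compl_iff]
  have hdisj : ∀ a b, a ≠ b → Disjoint (Zo a) (Zo b) := by
    intro a b hab
    rw [disjoint_iff_inf_le]
    rintro z ⟨ha, hb⟩
    rw [SetLike.mem_coe, hmem] at ha hb
    rcases lt_trichotomy (σ a) (σ b) with hlt | heq | hgt
    · exact (hb.2 a hlt ha.1).elim
    · exact (hab (σ.injective heq)).elim
    · exact (ha.2 b hgt hb.1).elim
  have hcov : ∀ z : Z, ∃ j, z ∈ Zo j := by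
    intro z
    obtain ⟨j₀, hj₀⟩ := hsurj z
    obtain ⟨a, ha, hmin⟩ := Set.exists_min_image {j : J | z ∈ φ '' (P j : Set V)} (fun j => σ j)
      (Set.toFinite _) ⟨j₀, hj₀⟩
    refine ⟨a, (hmem a z).mpr ⟨ha, fun k hk hzk => ?_⟩⟩
    exact absurd (hmin k hzk) (not_le.mpr hk)
  obtain ⟨Wz, e, he, hWz⟩ := split_of_disjoint_cover (𝟙 Z) Zo hdisj hcov
    (fun j => inferInstanceAs (IsOpenImmersion ((Zo j).ι ≫ 𝟙 Z)))
  have hr : ∀ k, Set.range (Wz k).ι ⊆ Set.range (h k) := by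
    intro k
    rw [Scheme.Opens.range_ι, hWz k, hrange k]
    rintro _ ⟨z, hz, rfl⟩
    exact ((hmem k z).mp hz).1
  let sk : ∀ k, ((Wz k : Z.Opens) : Scheme.{u}) ⟶ V :=
    fun k => IsOpenImmersion.lift (h k) (Wz k).ι (hr k) ≫ (P k).ι
  have hsk : ∀ k, sk k ≫ φ = (Wz k).ι := by
    intro k
    change (IsOpenImmersion.lift (h k) (Wz k).ι (hr k) ≫ (P k).ι) ≫ φ = _
    rw [Category.assoc]
    exact IsOpenImmersion.lift_fac (h k) (Wz k).ι (hr k)
  refine ⟨e.inv ≫ Sigma.desc sk, ?_⟩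
  rw [← cancel_epi e.hom, Category.assoc, Iso.hom_inv_id_assoc, Category.comp_id]
  refine Sigma.hom_ext _ _ (fun k => ?_)
  rw [Sigma.ι_desc_assoc, hsk k]
  have := he k
  rw [Category.comp_id] at this
  exact this.symm


/-- Affine etale schemes lift along closed immersions into affine schemes. -/
theorem exists_etale_lift {V Z X : Scheme.{u}} [IsAffine X] (i : Z ⟶ X) [IsClosedImmersion i]
    (φ : V ⟶ Z) [Etale φ] [IsAffine V] :
    ∃ (T : Scheme.{u}) (g : T ⟶ X) (p : V ⟶ T), IsAffine T ∧ Etale g ∧ IsPullback p φ g i := by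
  obtain ⟨hZ, hsurj⟩ := IsClosedImmersion.isAffine_surjective_of_isAffine i
  haveI := hZ
  have hφ : φ.appTop.hom.Etale := (HasRingHomProperty.iff_of_isAffine (P := @Etale)).mp ‹Etale φ›
  obtain ⟨S, rS, sC, hrS, hpo⟩ := exists_lift_pushout i.appTop hsurj φ.appTop hφ
  have hpb := isPullback_SpecMap_of_isPushout _ _ _ _ hpo
  haveI : Etale (Spec.map rS) := (HasRingHomProperty.Spec_iff (P := @Etale)).mpr hrS
  refine ⟨Spec S, Spec.map rS ≫ X.isoSpec.inv, V.isoSpec.hom ≫ Spec.map sC, inferInstance,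
    inferInstance, ?_⟩
  refine IsPullback.of_iso hpb V.isoSpec.symm (Iso.refl _) Z.isoSpec.symm X.isoSpec.symm
    ?_ ?_ ?_ ?_
  · simp
  · exact Scheme.isoSpec_inv_naturality φ
  · simp
  · exact Scheme.isoSpec_inv_naturality i

/-- Local lifting of etale schemes along a closed immersion. -/
theorem exists_local_lift {X Y : Scheme.{u}} (f : X ⟶ Y) [IsClosedImmersion f] {U : Scheme.{u}}
    (q : U ⟶ X) [Etale q] (x : U) :
    ∃ (T : Scheme.{u}) (v : T ⟶ Y) (_ : Etale v) (h : pullback v f ⟶ U),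
      h ≫ q = pullback.snd v f ∧ IsOpenImmersion h ∧ x ∈ Set.range h := by
  obtain ⟨_, ⟨(Yo : Y.Opens), (hYo : IsAffineOpen Yo), rfl⟩, hxYo, -⟩ :=
    Y.isBasis_affineOpens.exists_subset_of_mem_open (Set.mem_univ (f (q x))) isOpen_univ
  obtain ⟨_, ⟨(Uo : U.Opens), (hUo : IsAffineOpen Uo), rfl⟩, hxUo, hUoX⟩ :=
    U.isBasis_affineOpens.exists_subset_of_mem_open (show x ∈ (q ⁻¹ᵁ (f ⁻¹ᵁ Yo) : U.Opens) from hxYo)
      (q ⁻¹ᵁ (f ⁻¹ᵁ Yo)).2
  haveI : IsAffine (Yo : Scheme.{u}) := hYo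
  haveI : IsAffine (Uo : Scheme.{u}) := hUo
  let φ : (Uo : Scheme.{u}) ⟶ ((f ⁻¹ᵁ Yo : X.Opens) : Scheme.{u}) := q.resLE (f ⁻¹ᵁ Yo) Uo hUoX
  have hφι : φ ≫ (f ⁻¹ᵁ Yo).ι = Uo.ι ≫ q := Scheme.Hom.resLE_comp_ι _ _
  haveI : Etale (φ ≫ (f ⁻¹ᵁ Yo).ι) := by rw [hφι]; infer_instance
  haveI : Etale φ := Etale.of_comp φ (f ⁻¹ᵁ Yo).ι
  haveI : IsClosedImmersion (f ∣_ Yo) :=
    MorphismProperty.of_isPullback (P := @IsClosedImmersion) (isPullback_morphismRestrict f Yo).flip
      inferInstance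
  obtain ⟨T, g, p, hT, hg, hsq⟩ := exists_etale_lift (f ∣_ Yo) φ
  have hpaste := hsq.paste_vert (isPullback_morphismRestrict f Yo)
  rw [hφι] at hpaste
  refine ⟨T, g ≫ Yo.ι, inferInstance, hpaste.isoPullback.inv ≫ Uo.ι, ?_, inferInstance, ?_⟩
  · rw [Category.assoc]
    exact hpaste.isoPullback_inv_snd
  · refine ⟨hpaste.isoPullback.hom ⟨x, hxUo⟩, ?_⟩
    rw [← Scheme.Hom.comp_apply, Iso.hom_inv_id_assoc]
    rfl

end Groth.Agent.Helper18.GabberSplit
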