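import Mathlib

/-!
# Generic freeness over arbitrary domains (core)

`AwayFree f M` : the `R`-module `M` becomes free after inverting `f`, expressed without localization.
`GF R B` : every finite `B`-module (with compatible `R`-structure) is generically free over `R`.
Main results: `GF.polynomial`, `GF.mvPolynomial`, `GF.of_finiteType`.
-/

set_option autoImplicit false
universe u

open Polynomial

namespace Groth.Agent.Helper18.GenFree

section Basic

variable {R : Type u} [CommRing R]

/-- `N / N'` is free after inverting `f` (relative form, no quotient modules). -/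
def AwayFreeRel (f : R) {M : Type u} [AddCommGroup M] [Module R M] (N' N : Submodule R M) : Prop :=
  ∃ (ι : Type u) (b : ι → M), (∀ i, b i ∈ N) ∧
    (∀ (s : Finset ι) (g : ι → R), (∃ n : ℕ, f ^ n • ∑ i ∈ s, g i • b i ∈ N') → ∀ i ∈ s, g i = 0) ∧
    (∀ m ∈ N, ∃ n : ℕ, ∃ y ∈ Submodule.span R (Set.range b), ∃ z ∈ N', f ^ n • m = y + z)

/-- `M` is free after inverting `f`. -/
def AwayFree (f : R) (M : Type u) [AddCommGroup M] [Module R M] : Prop :=
  AwayFreeRel f (⊥ : Submodule R M) ⊤

variable {M : Type u} [AddCommGroup M] [Module R M]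

lemma AwayFreeRel.of_dvd [IsDomain R] {f f' : R} {N' N : Submodule R M}
    (h : AwayFreeRel f N' N) (hd : f ∣ f') (hf' : f' ≠ 0) : AwayFreeRel f' N' N := by
  obtain ⟨g0, rfl⟩ := hd
  obtain ⟨ι, b, hb, hind, hsp⟩ := h
  have hg0 : g0 ≠ 0 := right_ne_zero_of_mul hf'
  refine ⟨ι, b, hb, ?_, ?_⟩
  · rintro s g ⟨n, hn⟩
    have h1 : ∀ i ∈ s, g0 ^ n * g i = 0 := by
      apply hind s (fun i => g0 ^ n * g i)
      refine ⟨n, ?_⟩
      have e : f ^ n • ∑ i ∈ s, (g0 ^ n * g i) • b i = (f * g0) ^ n • ∑ i ∈ s, g i • b i := by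
        simp only [mul_pow, mul_smul, Finset.smul_sum]
      rw [e]; exact hn
    intro i hi
    exact (mul_eq_zero.mp (h1 i hi)).resolve_left (pow_ne_zero _ hg0)
  · intro m hm
    obtain ⟨n, y, hy, z, hz, e⟩ := hsp m hm
    refine ⟨n, g0 ^ n • y, Submodule.smul_mem _ _ hy, g0 ^ n • z, Submodule.smul_mem _ _ hz, ?_⟩
    rw [mul_pow, mul_comm, mul_smul, e, smul_add]

lemma AwayFree.exists_pow_smul_eq_zero [IsDomain R] {f : R} (h : AwayFree f M) {r : R} (hr : r ≠ 0)
    {x : M} (hx : r • x = 0) : ∃ n : ℕ, f ^ n • x = 0 := by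
  obtain ⟨ι, b, -, hind, hsp⟩ := h
  obtain ⟨n, y, hy, z, hz, e⟩ := hsp x Submodule.mem_top
  rw [Submodule.mem_bot] at hz
  subst hz
  rw [add_zero] at e
  obtain ⟨c, rfl⟩ := Finsupp.mem_span_range_iff_exists_finsupp.mp hy
  refine ⟨n, ?_⟩
  rw [e]
  have h1 : ∀ i ∈ c.support, r * c i = 0 := by
    apply hind c.support (fun i => r * c i)
    refine ⟨0, ?_⟩
    rw [pow_zero, one_smul, Submodule.mem_bot]
    have h2 : ∑ i ∈ c.support, (r * c i) • b i = r • c.sum (fun i a => a • b i) := by
      rw [Finsupp.sum, Finset.smul_sum]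
      apply Finset.sum_congr rfl
      intro i _
      rw [mul_smul]
    rw [h2, ← e, smul_comm, hx, smul_zero]
  rw [Finsupp.sum]
  apply Finset.sum_eq_zero
  intro i hi
  rw [(mul_eq_zero.mp (h1 i hi)).resolve_left hr, zero_smul]

lemma AwayFree.of_surjective {f : R} {M' : Type u} [AddCommGroup M'] [Module R M']
    (ψ : M' →ₗ[R] M) (hs : Function.Surjective ψ)
    (hk : ∀ x, ψ x = 0 → ∃ n : ℕ, f ^ n • x = 0) (h : AwayFree f M') : AwayFree f M := by
  obtain ⟨ι, b, -, hind, hsp⟩ := h
  refine ⟨ι, fun i => ψ (b i), fun _ => Submodule.mem_top, ?_, ?_⟩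
  · rintro s g ⟨n, hn⟩
    rw [Submodule.mem_bot] at hn
    have e : f ^ n • ∑ i ∈ s, g i • ψ (b i) = ψ (f ^ n • ∑ i ∈ s, g i • b i) := by
      rw [map_smul, map_sum]
      congr 1
      apply Finset.sum_congr rfl
      intro i _
      rw [map_smul]
    rw [e] at hn
    obtain ⟨n', hn'⟩ := hk _ hn
    apply hind s g
    refine ⟨n' + n, ?_⟩
    rw [Submodule.mem_bot, pow_add, mul_smul]
    exact hn'
  · intro m _
    obtain ⟨m', rfl⟩ := hs m
    obtain ⟨n, y, hy, z, hz, e⟩ := hsp m' Submodule.mem_top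
    rw [Submodule.mem_bot] at hz
    subst hz
    refine ⟨n, ψ y, ?_, 0, Submodule.zero_mem _, ?_⟩
    · have h1 := Submodule.apply_mem_span_image_of_mem_span ψ hy
      rw [← Set.range_comp] at h1
      exact h1
    · rw [← map_smul, e, add_zero, add_zero]

/-- Exhaustive `ℕ`-filtration with generically free successive quotients. -/
lemma AwayFreeRel.of_filtration {f : R} (N : ℕ → Submodule R M) (hmono : Monotone N)
    (hex : ∀ m, ∃ k, m ∈ N k) (hrel : ∀ k, AwayFreeRel f (N k) (N (k + 1))) :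
    AwayFreeRel f (N 0) ⊤ := by
  choose ι b hb hind hsp using hrel
  refine ⟨Σ k, ι k, fun x => b x.1 x.2, fun _ => Submodule.mem_top, ?_, ?_⟩
  · rintro s g ⟨n, hn⟩
    have key : ∀ K : ℕ, ∀ (s : Finset (Σ k, ι k)) (g : (Σ k, ι k) → R), (∀ x ∈ s, x.1 < K) →
        (∃ n : ℕ, f ^ n • ∑ x ∈ s, g x • b x.1 x.2 ∈ N 0) → ∀ x ∈ s, g x = 0 := by
      intro K
      induction K with
      | zero =>
        intro s g hs _ x hx
        exact absurd (hs x hx) (Nat.not_lt_zero _)
      | succ K ih =>
        rintro s g hs ⟨n, hn⟩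
        have hsplit : ∑ x ∈ s, g x • b x.1 x.2 =
            ∑ x ∈ s.filter (fun x => x.1 = K), g x • b x.1 x.2 +
              ∑ x ∈ s.filter (fun x => ¬ x.1 = K), g x • b x.1 x.2 :=
          (Finset.sum_filter_add_sum_filter_not s _ _).symm
        have h2 : ∑ x ∈ s.filter (fun x => ¬ x.1 = K), g x • b x.1 x.2 ∈ N K := by
          apply Submodule.sum_mem
          intro x hx
          rw [Finset.mem_filter] at hx
          have hlt : x.1 < K := lt_of_le_of_ne (Nat.lt_succ_iff.mp (hs x hx.1)) hx.2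
          exact Submodule.smul_mem _ _ (hmono (Nat.succ_le_of_lt hlt) (hb x.1 x.2))
        have h1 : ∑ x ∈ s.filter (fun x => x.1 = K), g x • b x.1 x.2 =
            ∑ i ∈ (s.filter (fun x => x.1 = K)).preimage (Sigma.mk K)
              (sigma_mk_injective.injOn), g ⟨K, i⟩ • b K i := by
          symm
          apply Finset.sum_preimage (Sigma.mk K) _ _ (fun x => g x • b x.1 x.2)
          intro x hx hnr
          exfalso
          rw [Finset.mem_filter] at hx
          apply hnr
          obtain ⟨k, i⟩ := x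
          obtain rfl : k = K := hx.2
          exact ⟨i, rfl⟩
        have h3 : ∀ i ∈ (s.filter (fun x => x.1 = K)).preimage (Sigma.mk K)
            (sigma_mk_injective.injOn), g ⟨K, i⟩ = 0 := by
          apply hind K _ (fun i => g ⟨K, i⟩)
          refine ⟨n, ?_⟩
          have e : f ^ n • ∑ i ∈ (s.filter (fun x => x.1 = K)).preimage (Sigma.mk K)
              (sigma_mk_injective.injOn), g ⟨K, i⟩ • b K i =
              f ^ n • ∑ x ∈ s, g x • b x.1 x.2 -
                f ^ n • ∑ x ∈ s.filter (fun x => ¬ x.1 = K), g x • b x.1 x.2 := by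
            rw [hsplit, h1, smul_add, add_sub_cancel_right]
          rw [e]
          exact Submodule.sub_mem _ (hmono (Nat.zero_le K) hn) (Submodule.smul_mem _ _ h2)
        have h4 : ∀ x ∈ s.filter (fun x => ¬ x.1 = K), g x = 0 := by
          apply ih (s.filter (fun x => ¬ x.1 = K)) g
          · intro x hx
            rw [Finset.mem_filter] at hx
            exact lt_of_le_of_ne (Nat.lt_succ_iff.mp (hs x hx.1)) hx.2
          · refine ⟨n, ?_⟩
            have e : ∑ x ∈ s.filter (fun x => ¬ x.1 = K), g x • b x.1 x.2 =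
                ∑ x ∈ s, g x • b x.1 x.2 := by
              rw [hsplit, h1]
              have hz : ∑ i ∈ (s.filter (fun x => x.1 = K)).preimage (Sigma.mk K)
                  (sigma_mk_injective.injOn), g ⟨K, i⟩ • b K i = 0 :=
                Finset.sum_eq_zero (fun i hi => by rw [h3 i hi, zero_smul])
              rw [hz, zero_add]
            rw [e]; exact hn
        intro x hx
        by_cases hxK : x.1 = K
        · obtain ⟨k, i⟩ := x
          obtain rfl : k = K := hxK
          apply h3 i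
          rw [Finset.mem_preimage, Finset.mem_filter]
          exact ⟨hx, rfl⟩
        · exact h4 x (Finset.mem_filter.mpr ⟨hx, hxK⟩)
    exact key (s.sup (fun x => x.1) + 1) s g
      (fun x hx => Nat.lt_succ_of_le (Finset.le_sup (f := fun x => x.1) hx)) ⟨n, hn⟩
  · intro m _
    have key : ∀ k, ∀ m ∈ N k, ∃ n : ℕ,
        ∃ y ∈ Submodule.span R (Set.range fun x : Σ k, ι k => b x.1 x.2),
          ∃ z ∈ N 0, f ^ n • m = y + z := by
      intro k
      induction k with
      | zero =>
        intro m hm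
        exact ⟨0, 0, Submodule.zero_mem _, m, hm, by rw [pow_zero, one_smul, zero_add]⟩
      | succ k ih =>
        intro m hm
        obtain ⟨n, y, hy, z, hz, e⟩ := hsp k m hm
        obtain ⟨n', y', hy', z', hz', e'⟩ := ih z hz
        refine ⟨n' + n, f ^ n' • y + y', ?_, z', hz', ?_⟩
        · refine Submodule.add_mem _ (Submodule.smul_mem _ _ ?_) hy'
          refine Submodule.span_mono ?_ hy
          rintro _ ⟨i, rfl⟩
          exact ⟨⟨k, i⟩, rfl⟩
        · rw [pow_add, mul_smul, e, smul_add, e', add_assoc]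
    obtain ⟨k, hk⟩ := hex m
    exact key k m hk

/-- From an honest quotient-type module to the relative form. -/
lemma AwayFreeRel.of_map_mkQ {B : Type u} [CommRing B] [Algebra R B] [Module B M]
    [IsScalarTower R B M] {f : R} (N' N : Submodule B M) (h : AwayFree f ↥(N.map N'.mkQ)) :
    AwayFreeRel f (N'.restrictScalars R) (N.restrictScalars R) := by
  obtain ⟨ι, bb, -, hind, hsp⟩ := h
  have hlift : ∀ i, ∃ x ∈ N, N'.mkQ x = (bb i : M ⧸ N') := fun i => (bb i).2
  choose b hbN hb using hlift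
  let q : M →ₗ[R] M ⧸ N' := N'.mkQ.restrictScalars R
  have hq : ∀ x, q x = N'.mkQ x := fun _ => rfl
  refine ⟨ι, b, hbN, ?_, ?_⟩
  · rintro s g ⟨n, hn⟩
    apply hind s g
    refine ⟨n, ?_⟩
    rw [Submodule.mem_bot]
    apply Subtype.ext
    show ((f ^ n • ∑ i ∈ s, g i • bb i : ↥(N.map N'.mkQ)) : M ⧸ N') = 0
    have e1 : ((f ^ n • ∑ i ∈ s, g i • bb i : ↥(N.map N'.mkQ)) : M ⧸ N') =
        f ^ n • ∑ i ∈ s, g i • (bb i : M ⧸ N') := by
      simp only [Submodule.coe_smul_of_tower, AddSubmonoidClass.coe_finset_sum]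
    have e2 : q (f ^ n • ∑ i ∈ s, g i • b i) = f ^ n • ∑ i ∈ s, g i • (bb i : M ⧸ N') := by
      rw [map_smul, map_sum]
      congr 1
      apply Finset.sum_congr rfl
      intro i _
      rw [map_smul, hq, hb]
    rw [e1, ← e2, hq]
    exact (Submodule.Quotient.mk_eq_zero N').mpr hn
  · intro m hm
    obtain ⟨n, y, hy, z, hz, e⟩ := hsp ⟨N'.mkQ m, Submodule.mem_map_of_mem hm⟩ Submodule.mem_top
    rw [Submodule.mem_bot] at hz
    subst hz
    rw [add_zero] at e
    have h1 : (y : M ⧸ N') ∈ Submodule.span R (Set.range (fun i => (bb i : M ⧸ N'))) := by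
      have h0 := Submodule.apply_mem_span_image_of_mem_span
        ((N.map N'.mkQ).subtype.restrictScalars R) hy
      rw [← Set.range_comp] at h0
      exact h0
    have h2 : Set.range (fun i => (bb i : M ⧸ N')) = q '' Set.range b := by
      rw [← Set.range_comp]
      congr 1
      ext i
      exact (hb i).symm
    rw [h2, ← Submodule.map_span] at h1
    obtain ⟨y', hy', hyy'⟩ := h1
    have e3 : f ^ n • (N'.mkQ m) = (y : M ⧸ N') := by
      rw [← e]; rfl
    have e4 : q (f ^ n • m - y') = 0 := by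
      rw [map_sub, map_smul, hyy', hq, e3, sub_self]
    have hmem : f ^ n • m - y' ∈ N' := (Submodule.Quotient.mk_eq_zero N').mp e4
    exact ⟨n, y', hy', f ^ n • m - y', hmem, by abel⟩

/-- Finite modules over a domain are generically free. -/
lemma awayFree_of_finite [IsDomain R] (M : Type u) [AddCommGroup M] [Module R M]
    [Module.Finite R M] : ∃ f : R, f ≠ 0 ∧ AwayFree f M := by
  classical
  obtain ⟨t, m, hm⟩ := Module.Finite.exists_fin (R := R) (M := M)
  let N : ℕ → Submodule R M := fun k => Submodule.span R (m '' {i | i.val < k})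
  have hN0 : N 0 = ⊥ := Submodule.span_eq_bot.mpr (by
    rintro _ ⟨i, hi, rfl⟩
    exact absurd hi (Nat.not_lt_zero _))
  have hmono : Monotone N := fun a b hab =>
    Submodule.span_mono (Set.image_mono fun i hi => lt_of_lt_of_le hi hab)
  have hNt : ∀ k, t ≤ k → N k = ⊤ := by
    intro k hk
    rw [eq_top_iff, ← hm]
    apply Submodule.span_mono
    rintro _ ⟨i, rfl⟩
    exact ⟨i, lt_of_lt_of_le i.isLt hk, rfl⟩
  have hle : ∀ k (hk : k < t), N (k + 1) ≤ N k ⊔ Submodule.span R {m ⟨k, hk⟩} := by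
    intro k hk
    apply Submodule.span_le.mpr
    rintro _ ⟨i, hi, rfl⟩
    rcases Nat.lt_succ_iff_lt_or_eq.mp hi with h | h
    · exact Submodule.mem_sup_left (Submodule.subset_span ⟨i, h, rfl⟩)
    · have hik : i = ⟨k, hk⟩ := Fin.ext h
      rw [hik]
      exact Submodule.mem_sup_right (Submodule.mem_span_singleton_self _)
  let r : ℕ → R := fun k =>
    if h : ∃ (hk : k < t) (a : R), a ≠ 0 ∧ a • m ⟨k, hk⟩ ∈ N k then h.choose_spec.choose else 1
  have hr0 : ∀ k, r k ≠ 0 := by
    intro k
    simp only [r]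
    split_ifs with h
    · exact h.choose_spec.choose_spec.1
    · exact one_ne_zero
  let f : R := ∏ k ∈ Finset.range t, r k
  have hf0 : f ≠ 0 := Finset.prod_ne_zero_iff.mpr (fun k _ => hr0 k)
  have hrel : ∀ k, AwayFreeRel f (N k) (N (k + 1)) := by
    intro k
    by_cases hk : k < t
    · by_cases h : ∃ (hk : k < t) (a : R), a ≠ 0 ∧ a • m ⟨k, hk⟩ ∈ N k
      · have hrk : r k = h.choose_spec.choose := by
          simp only [r]; rw [dif_pos h]
        have hmem : r k • m ⟨k, hk⟩ ∈ N k := by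
          rw [hrk]; exact h.choose_spec.choose_spec.2
        obtain ⟨c, hc⟩ : r k ∣ f := Finset.dvd_prod_of_mem _ (Finset.mem_range.mpr hk)
        have hfm : f • m ⟨k, hk⟩ ∈ N k := by
          rw [hc, mul_comm, mul_smul]; exact Submodule.smul_mem _ _ hmem
        refine ⟨PEmpty, fun i => i.elim, fun i => i.elim, fun s g _ i => i.elim, ?_⟩
        intro x hx
        obtain ⟨a, ha, y, hy, rfl⟩ := Submodule.mem_sup.mp (hle k hk hx)
        obtain ⟨c', rfl⟩ := Submodule.mem_span_singleton.mp hy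
        refine ⟨1, 0, Submodule.zero_mem _, f • (a + c' • m ⟨k, hk⟩), ?_,
          by rw [pow_one, zero_add]⟩
        rw [smul_add, smul_comm]
        exact Submodule.add_mem _ (Submodule.smul_mem _ _ ha) (Submodule.smul_mem _ _ hfm)
      · refine ⟨PUnit, fun _ => m ⟨k, hk⟩,
          fun _ => Submodule.subset_span ⟨⟨k, hk⟩, Nat.lt_succ_self k, rfl⟩, ?_, ?_⟩
        · rintro s g ⟨n, hn⟩ i hi
          have hs : s = {i} :=
            Finset.eq_singleton_iff_unique_mem.mpr ⟨hi, fun j _ => Subsingleton.elim j i⟩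
          rw [hs, Finset.sum_singleton, smul_smul] at hn
          by_contra hgi
          exact h ⟨hk, f ^ n * g i, mul_ne_zero (pow_ne_zero _ hf0) hgi, hn⟩
        · intro x hx
          obtain ⟨a, ha, y, hy, rfl⟩ := Submodule.mem_sup.mp (hle k hk hx)
          refine ⟨0, y, ?_, a, ha, by rw [pow_zero, one_smul, add_comm]⟩
          rw [Set.range_const]; exact hy
    · have hNk : N k = ⊤ := hNt k (not_lt.mp hk)
      refine ⟨PEmpty, fun i => i.elim, fun i => i.elim, fun s g _ i => i.elim, ?_⟩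
      intro x _
      exact ⟨0, 0, Submodule.zero_mem _, x, by rw [hNk]; exact Submodule.mem_top,
        by rw [pow_zero, one_smul, zero_add]⟩
  have hex : ∀ x : M, ∃ k, x ∈ N k := fun x => ⟨t, by rw [hNt t le_rfl]; exact Submodule.mem_top⟩
  have hfin := AwayFreeRel.of_filtration N hmono hex hrel
  rw [hN0] at hfin
  exact ⟨f, hf0, hfin⟩

end Basic

section Stab

variable {R : Type u} [CommRing R] [IsDomain R]

lemma exists_smul_mem_of_mk_mem {B : Type u} [CommRing B] [Algebra R B]
    {Q : Type u} [AddCommGroup Q] [Module B Q] (N₀ : Submodule B Q) (x : Q)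
    (h : LocalizedModule.mk x (1 : Algebra.algebraMapSubmonoid B (nonZeroDivisors R)) ∈
      N₀.localized (Algebra.algebraMapSubmonoid B (nonZeroDivisors R))) :
    ∃ r : R, r ≠ 0 ∧ (algebraMap R B r) • x ∈ N₀ := by
  obtain ⟨m, hm, s, hms⟩ := h
  rw [← IsLocalizedModule.mk_eq_mk', LocalizedModule.mk_eq] at hms
  obtain ⟨u, hu⟩ := hms
  obtain ⟨r, hr, hrs⟩ := Submonoid.mem_map.mp (u * s).2
  refine ⟨r, nonZeroDivisors.ne_zero hr, ?_⟩
  have e : (algebraMap R B r) • x = (u : B) • m := by
    rw [hrs]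
    simp only [Submonoid.smul_def, OneMemClass.coe_one, one_smul] at hu
    rw [Submonoid.coe_mul, mul_smul, hu]
  rw [e]
  exact Submodule.smul_mem _ _ hm

/-- Generic finite generation of submodules of finite modules, when `B ⊗ Frac R` is Noetherian. -/
lemma approx {B : Type u} [CommRing B] [Algebra R B]
    [IsNoetherianRing (Localization (Algebra.algebraMapSubmonoid B (nonZeroDivisors R)))]
    {M : Type u} [AddCommGroup M] [Module B M] (P : Submodule B M) (hP : P.FG)
    (N : Submodule B M) (hNP : N ≤ P) :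
    ∃ N₀ : Submodule B M, N₀ ≤ N ∧ N₀.FG ∧
      ∀ x ∈ N, ∃ r : R, r ≠ 0 ∧ (algebraMap R B r) • x ∈ N₀ := by
  haveI : Module.Finite B P := Module.Finite.iff_fg.mpr hP
  haveI : IsNoetherian (Localization (Algebra.algebraMapSubmonoid B (nonZeroDivisors R)))
      (LocalizedModule (Algebra.algebraMapSubmonoid B (nonZeroDivisors R)) P) :=
    isNoetherian_of_isNoetherianRing_of_finite _ _
  obtain ⟨L, ⟨N₀, hN₀le, hN₀fg, rfl⟩, hmax⟩ := set_has_maximal_iff_noetherian.mpr inferInstance
    {L : Submodule (Localization (Algebra.algebraMapSubmonoid B (nonZeroDivisors R)))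
      (LocalizedModule (Algebra.algebraMapSubmonoid B (nonZeroDivisors R)) P) |
      ∃ N₀ : Submodule B P, N₀ ≤ N.comap P.subtype ∧ N₀.FG ∧
        L = N₀.localized (Algebra.algebraMapSubmonoid B (nonZeroDivisors R))}
    ⟨_, ⊥, bot_le, Submodule.fg_bot, rfl⟩
  refine ⟨N₀.map P.subtype, Submodule.map_le_iff_le_comap.mpr hN₀le, hN₀fg.map _, ?_⟩
  intro x hx
  have hx' : (⟨x, hNP hx⟩ : P) ∈ N.comap P.subtype := hx
  have hN₁ : (N₀ ⊔ Submodule.span B {(⟨x, hNP hx⟩ : P)}).localized
      (Algebra.algebraMapSubmonoid B (nonZeroDivisors R)) ∈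
      {L : Submodule (Localization (Algebra.algebraMapSubmonoid B (nonZeroDivisors R)))
        (LocalizedModule (Algebra.algebraMapSubmonoid B (nonZeroDivisors R)) P) |
        ∃ N₀ : Submodule B P, N₀ ≤ N.comap P.subtype ∧ N₀.FG ∧
          L = N₀.localized (Algebra.algebraMapSubmonoid B (nonZeroDivisors R))} :=
    ⟨_, sup_le hN₀le ((Submodule.span_singleton_le_iff_mem _ _).mpr hx'),
      hN₀fg.sup (Submodule.fg_span_singleton _), rfl⟩
  have hle : N₀.localized (Algebra.algebraMapSubmonoid B (nonZeroDivisors R)) ≤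
      (N₀ ⊔ Submodule.span B {(⟨x, hNP hx⟩ : P)}).localized
        (Algebra.algebraMapSubmonoid B (nonZeroDivisors R)) :=
    (Submodule.localized'gi (Localization (Algebra.algebraMapSubmonoid B (nonZeroDivisors R)))
      (Algebra.algebraMapSubmonoid B (nonZeroDivisors R))
      (LocalizedModule.mkLinearMap (Algebra.algebraMapSubmonoid B (nonZeroDivisors R)) P)).gc.monotone_l
      le_sup_left
  have heq : N₀.localized (Algebra.algebraMapSubmonoid B (nonZeroDivisors R)) =
      (N₀ ⊔ Submodule.span B {(⟨x, hNP hx⟩ : P)}).localized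
        (Algebra.algebraMapSubmonoid B (nonZeroDivisors R)) := by
    by_contra hne'
    exact hmax _ hN₁ (lt_of_le_of_ne hle hne')
  have hmem : LocalizedModule.mk (⟨x, hNP hx⟩ : P)
      (1 : Algebra.algebraMapSubmonoid B (nonZeroDivisors R)) ∈
      N₀.localized (Algebra.algebraMapSubmonoid B (nonZeroDivisors R)) := by
    rw [heq]
    exact ⟨⟨x, hNP hx⟩, Submodule.mem_sup_right (Submodule.mem_span_singleton_self _), 1,
      (IsLocalizedModule.mk_eq_mk' _ _).symm⟩
  obtain ⟨r, hr, hrx⟩ := exists_smul_mem_of_mk_mem N₀ _ hmem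
  exact ⟨r, hr, ⟨_, hrx, rfl⟩⟩

lemma generic_stabilize {B : Type u} [CommRing B] [Algebra R B]
    [IsNoetherianRing (Localization (Algebra.algebraMapSubmonoid B (nonZeroDivisors R)))]
    {M : Type u} [AddCommGroup M] [Module B M] (P : Submodule B M) (hP : P.FG)
    (K : ℕ → Submodule B M) (hK : Monotone K) (hKP : ∀ k, K k ≤ P) :
    ∃ k₀, ∀ k, k₀ ≤ k → ∀ y ∈ K k, ∃ r : R, r ≠ 0 ∧ (algebraMap R B r) • y ∈ K k₀ := by
  obtain ⟨N₀, hN₀le, hN₀fg, hN₀⟩ := approx (R := R) P hP (⨆ k, K k) (iSup_le hKP)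
  obtain ⟨s, hs⟩ := hN₀fg
  have hdir : Directed (· ≤ ·) K := hK.directed_le
  have h1 : ∀ g ∈ s, ∃ k, g ∈ K k := by
    intro g hg
    have hgN : g ∈ ⨆ k, K k := hN₀le (by rw [← hs]; exact Submodule.subset_span hg)
    exact (Submodule.mem_iSup_of_directed K hdir).mp hgN
  choose! kk hkk using h1
  refine ⟨s.sup kk, fun k _ y hy => ?_⟩
  obtain ⟨r, hr, hry⟩ := hN₀ y (Submodule.mem_iSup_of_mem k hy)
  refine ⟨r, hr, ?_⟩
  have hN₀K : N₀ ≤ K (s.sup kk) := by
    rw [← hs, Submodule.span_le]
    intro g hg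
    exact hK (Finset.le_sup hg) (hkk g hg)
  exact hN₀K hry

end Stab

section GFsec

variable (R : Type u) [CommRing R]

/-- Every finite `B`-module is generically free over `R`. -/
def GF (B : Type u) [CommRing B] [Algebra R B] : Prop :=
  ∀ (M : Type u) [AddCommGroup M] [Module R M] [Module B M] [IsScalarTower R B M]
    [Module.Finite B M], ∃ f : R, f ≠ 0 ∧ AwayFree f M

variable {R}

theorem GF.of_finite [IsDomain R] (B : Type u) [CommRing B] [Algebra R B] [Module.Finite R B] :
    GF R B := by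
  intro M _ _ _ _ _
  haveI : Module.Finite R M := Module.Finite.trans B M
  exact awayFree_of_finite M

theorem GF.of_surjective {B B' : Type u} [CommRing B] [CommRing B'] [Algebra R B] [Algebra R B']
    (φ : B' →ₐ[R] B) (hφ : Function.Surjective φ) (h : GF R B') : GF R B := by
  intro M _ _ _ _ _
  letI : Algebra B' B := φ.toRingHom.toAlgebra
  letI : Module B' M := Module.compHom M (algebraMap B' B)
  haveI : IsScalarTower B' B M := ⟨fun b' b m => by
    change (φ b' * b) • m = φ b' • (b • m)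
    rw [mul_smul]⟩
  haveI : IsScalarTower R B' M := ⟨fun r b m => by
    change φ (r • b) • m = r • (φ b • m)
    rw [map_smul, smul_assoc]⟩
  haveI : Module.Finite B' B := Module.Finite.of_surjective (Algebra.linearMap B' B) hφ
  haveI : Module.Finite B' M := Module.Finite.trans B M
  exact h M

theorem GF.polynomial [IsDomain R] {B : Type u} [CommRing B] [Algebra R B]
    [IsNoetherianRing (Localization (Algebra.algebraMapSubmonoid B (nonZeroDivisors R)))]
    (hB : GF R B) : GF R B[X] := by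
  intro M _ _ _ _ _
  classical
  letI instBM : Module B M := Module.compHom M (Polynomial.C : B →+* B[X])
  have hCsmul : ∀ (b : B) (m : M), b • m = (C b : B[X]) • m := fun _ _ => rfl
  haveI : IsScalarTower B B[X] M := ⟨fun b p m => by
    rw [hCsmul, Polynomial.smul_eq_C_mul, mul_smul]⟩
  haveI : IsScalarTower R B M := ⟨fun r b m => by
    rw [hCsmul, hCsmul, ← Polynomial.smul_C, smul_assoc]⟩
  obtain ⟨G, hG⟩ := (Module.Finite.fg_top : (⊤ : Submodule B[X] M).FG)
  let F : ℕ → Submodule B M := fun k =>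
    Submodule.span B {x | ∃ j < k, ∃ g ∈ G, x = (X ^ j : B[X]) • g}
  have hF0 : F 0 = ⊥ := Submodule.span_eq_bot.mpr (by
    rintro x ⟨j, hj, _⟩
    exact absurd hj (Nat.not_lt_zero _))
  have hFmono : Monotone F := fun a b hab => Submodule.span_mono (by
    rintro x ⟨j, hj, g, hg, rfl⟩
    exact ⟨j, lt_of_lt_of_le hj hab, g, hg, rfl⟩)
  let mulX : ℕ → (M →ₗ[B] M) := fun j => DistribSMul.toLinearMap B M (X ^ j : B[X])
  have hmulX : ∀ j m, mulX j m = (X ^ j : B[X]) • m := fun _ _ => rfl
  let mX : M →ₗ[B] M := DistribSMul.toLinearMap B M (X : B[X])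
  have hmX : ∀ m, mX m = (X : B[X]) • m := fun _ => rfl
  have hFX : ∀ j k, ∀ x ∈ F k, (X ^ j : B[X]) • x ∈ F (k + j) := by
    intro j k x hx
    have hle : F k ≤ (F (k + j)).comap (mulX j) := by
      apply Submodule.span_le.mpr
      rintro _ ⟨i, hi, g, hg, rfl⟩
      show (X ^ j : B[X]) • ((X ^ i : B[X]) • g) ∈ F (k + j)
      rw [smul_smul, ← pow_add]
      exact Submodule.subset_span ⟨j + i, by omega, g, hg, rfl⟩
    exact hle hx
  have hFX1 : ∀ k, ∀ x ∈ F k, (X : B[X]) • x ∈ F (k + 1) := by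
    intro k x hx
    have h1 := hFX 1 k x hx
    rwa [pow_one] at h1
  have hFex : ∀ m : M, ∃ k, m ∈ F k := by
    intro m
    have hm : m ∈ Submodule.span B[X] (G : Set M) := by rw [hG]; exact Submodule.mem_top
    refine Submodule.span_induction (p := fun m _ => ∃ k, m ∈ F k) ?_ ?_ ?_ ?_ hm
    · intro x hx
      exact ⟨1, Submodule.subset_span ⟨0, Nat.one_pos, x, hx, by rw [pow_zero, one_smul]⟩⟩
    · exact ⟨0, Submodule.zero_mem _⟩
    · rintro x y _ _ ⟨a, ha⟩ ⟨b, hb⟩
      exact ⟨max a b, Submodule.add_mem _ (hFmono (le_max_left a b) ha)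
        (hFmono (le_max_right a b) hb)⟩
    · rintro p x _ ⟨k, hk⟩
      refine Polynomial.induction_on' p (fun p q hp hq => ?_) (fun n b => ?_)
      · obtain ⟨a, ha⟩ := hp
        obtain ⟨b, hb⟩ := hq
        refine ⟨max a b, ?_⟩
        rw [add_smul]
        exact Submodule.add_mem _ (hFmono (le_max_left a b) ha) (hFmono (le_max_right a b) hb)
      · refine ⟨k + n, ?_⟩
        rw [← Polynomial.C_mul_X_pow_eq_monomial, mul_smul, ← hCsmul]
        exact Submodule.smul_mem _ _ (hFX n k x hk)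
  have hFsucc : ∀ k, 1 ≤ k → F (k + 1) ≤ (F k).map mX ⊔ F k := by
    intro k hk
    apply Submodule.span_le.mpr
    rintro _ ⟨j, hj, g, hg, rfl⟩
    rcases Nat.eq_zero_or_pos j with rfl | hjpos
    · exact Submodule.mem_sup_right (Submodule.subset_span ⟨0, hk, g, hg, rfl⟩)
    · refine Submodule.mem_sup_left ⟨(X ^ (j - 1) : B[X]) • g,
        Submodule.subset_span ⟨j - 1, by omega, g, hg, rfl⟩, ?_⟩
      have hj1 : j - 1 + 1 = j := by omega
      rw [hmX, smul_smul, ← pow_succ', hj1]
  have hFdecomp : ∀ k, ∀ w ∈ F (k + 1), ∃ y ∈ F 1, ∃ z ∈ F k,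
      w = (X ^ k : B[X]) • y + z := by
    intro k
    induction k with
    | zero =>
      intro w hw
      exact ⟨w, hw, 0, Submodule.zero_mem _, by rw [pow_zero, one_smul, add_zero]⟩
    | succ k ih =>
      intro w hw
      obtain ⟨a, ha, z', hz', rfl⟩ :=
        Submodule.mem_sup.mp (hFsucc (k + 1) (Nat.le_add_left 1 k) hw)
      obtain ⟨w', hw', rfl⟩ := ha
      obtain ⟨y, hy, z, hz, rfl⟩ := ih w' hw'
      refine ⟨y, hy, (X : B[X]) • z + z', Submodule.add_mem _ (hFX1 k z hz) hz', ?_⟩
      rw [hmX, smul_add, smul_smul, ← pow_succ', add_assoc]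
  let K : ℕ → Submodule B M := fun k => F 1 ⊓ (F k).comap (mulX k)
  have hKmono : Monotone K := by
    apply monotone_nat_of_le_succ
    intro k y hy
    obtain ⟨hy1, hy2⟩ := Submodule.mem_inf.mp hy
    refine Submodule.mem_inf.mpr ⟨hy1, Submodule.mem_comap.mpr ?_⟩
    have h1 := hFX1 k _ (Submodule.mem_comap.mp hy2)
    rw [hmulX, smul_smul, ← pow_succ'] at h1
    exact h1
  have hKle : ∀ k, K k ≤ F 1 := fun k => inf_le_left
  have hF1fg : (F 1).FG := Submodule.fg_span (Set.Finite.subset G.finite_toSet (by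
    rintro x ⟨j, hj, g, hg, rfl⟩
    obtain rfl : j = 0 := by omega
    simpa using hg))
  obtain ⟨k₀, hk₀⟩ := generic_stabilize (R := R) (F 1) hF1fg K hKmono hKle
  have hStab : ∀ k, k₀ ≤ k → ∀ w ∈ F (k + 1), (X : B[X]) • w ∈ F (k + 1) →
      ∃ r : R, r ≠ 0 ∧ r • w ∈ F k := by
    intro k hk w hw hXw
    obtain ⟨y, hy, z, hz, rfl⟩ := hFdecomp k w hw
    have hXz : (X : B[X]) • z ∈ F (k + 1) := hFX1 k z hz
    have hy' : y ∈ K (k + 1) := by
      refine Submodule.mem_inf.mpr ⟨hy, Submodule.mem_comap.mpr ?_⟩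
      rw [hmulX]
      have e : (X ^ (k + 1) : B[X]) • y =
          (X : B[X]) • ((X ^ k : B[X]) • y + z) - (X : B[X]) • z := by
        rw [smul_add, add_sub_cancel_right, smul_smul, ← pow_succ']
      rw [e]
      exact Submodule.sub_mem _ hXw hXz
    obtain ⟨r, hr, hry⟩ := hk₀ (k + 1) (le_trans hk (Nat.le_succ k)) y hy'
    refine ⟨r, hr, ?_⟩
    rw [algebraMap_smul] at hry
    obtain ⟨-, hry2⟩ := Submodule.mem_inf.mp hry
    have h1 : (X ^ k₀ : B[X]) • (r • y) ∈ F k₀ := Submodule.mem_comap.mp hry2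
    have h2 : (X ^ k : B[X]) • (r • y) ∈ F k := by
      have h3 := hFX (k - k₀) k₀ _ h1
      rw [smul_smul, ← pow_add] at h3
      have e : k - k₀ + k₀ = k := by omega
      have e' : k₀ + (k - k₀) = k := by omega
      rw [e, e'] at h3
      exact h3
    rw [smul_add, smul_comm r (X ^ k : B[X]) y]
    exact Submodule.add_mem _ h2 (Submodule.smul_of_tower_mem _ r hz)
  have hFfg : ∀ k, (F k).FG := fun k => Submodule.fg_span (Set.Finite.subset
    ((Finset.range k ×ˢ G).finite_toSet.image (fun p : ℕ × M => (X ^ p.1 : B[X]) • p.2)) (by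
      rintro x ⟨j, hj, g, hg, rfl⟩
      exact ⟨(j, g), by simp [hj, hg], rfl⟩))
  have hGF : ∀ k, ∃ f : R, f ≠ 0 ∧ AwayFree f ↥((F (k + 1)).map (F k).mkQ) := fun k => by
    haveI : Module.Finite B ↥((F (k + 1)).map (F k).mkQ) :=
      Module.Finite.iff_fg.mpr ((hFfg (k + 1)).map _)
    exact hB _
  choose fk hfk0 hfk using hGF
  let f : R := ∏ k ∈ Finset.range (k₀ + 1), fk k
  have hf0 : f ≠ 0 := Finset.prod_ne_zero_iff.mpr (fun k _ => hfk0 k)
  have hrel0 : ∀ k, k ≤ k₀ →
      AwayFreeRel f ((F k).restrictScalars R) ((F (k + 1)).restrictScalars R) := fun k hk =>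
    AwayFreeRel.of_map_mkQ (F k) (F (k + 1)) (AwayFreeRel.of_dvd (hfk k)
      (Finset.dvd_prod_of_mem _ (Finset.mem_range.mpr (Nat.lt_succ_of_le hk))) hf0)
  have hstep : ∀ k, k₀ ≤ k →
      AwayFreeRel f ((F k).restrictScalars R) ((F (k + 1)).restrictScalars R) →
      AwayFreeRel f ((F (k + 1)).restrictScalars R) ((F (k + 1 + 1)).restrictScalars R) := by
    rintro k hk ⟨ι, b, hb, hind, hsp⟩
    refine ⟨ι, fun i => (X : B[X]) • b i, fun i => hFX1 (k + 1) (b i) (hb i), ?_, ?_⟩
    · rintro s g ⟨n, hn⟩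
      have hw : f ^ n • ∑ i ∈ s, g i • b i ∈ F (k + 1) :=
        Submodule.smul_of_tower_mem _ _ (Submodule.sum_mem _ fun i _ =>
          Submodule.smul_of_tower_mem _ _ (hb i))
      have hXw : (X : B[X]) • (f ^ n • ∑ i ∈ s, g i • b i) ∈ F (k + 1) := by
        have e : (X : B[X]) • (f ^ n • ∑ i ∈ s, g i • b i) =
            f ^ n • ∑ i ∈ s, g i • ((X : B[X]) • b i) := by
          rw [smul_comm (X : B[X]) (f ^ n), Finset.smul_sum (r := (X : B[X]))]
          congr 1
          apply Finset.sum_congr rfl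
          intro i _
          rw [smul_comm]
        rw [e]; exact hn
      obtain ⟨r, hr, hrw⟩ := hStab k hk _ hw hXw
      have h1 : ∀ i ∈ s, r * g i = 0 := by
        apply hind s (fun i => r * g i)
        refine ⟨n, ?_⟩
        have e : f ^ n • ∑ i ∈ s, (r * g i) • b i = r • (f ^ n • ∑ i ∈ s, g i • b i) := by
          rw [smul_comm r (f ^ n), Finset.smul_sum (r := r)]
          congr 1
          apply Finset.sum_congr rfl
          intro i _
          rw [mul_smul]
        rw [e]; exact hrw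
      intro i hi
      exact (mul_eq_zero.mp (h1 i hi)).resolve_left hr
    · intro m hm
      obtain ⟨a, ha, z, hz, rfl⟩ :=
        Submodule.mem_sup.mp (hFsucc (k + 1) (Nat.le_add_left 1 k) hm)
      obtain ⟨m', hm', rfl⟩ := ha
      obtain ⟨n, y, hy, z', hz', e⟩ := hsp m' hm'
      refine ⟨n, (X : B[X]) • y, ?_, (X : B[X]) • z' + f ^ n • z,
        Submodule.add_mem _ (hFX1 k z' hz') (Submodule.smul_of_tower_mem _ _ hz), ?_⟩
      · have h0 := Submodule.apply_mem_span_image_of_mem_span (mX.restrictScalars R) hy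
        rw [← Set.range_comp] at h0
        exact h0
      · rw [smul_add, hmX, smul_comm (f ^ n) (X : B[X]) m', e, smul_add, add_assoc]
  have hrel : ∀ k, AwayFreeRel f ((F k).restrictScalars R) ((F (k + 1)).restrictScalars R) := by
    intro k
    rcases le_total k k₀ with hk | hk
    · exact hrel0 k hk
    · induction k, hk using Nat.le_induction with
      | base => exact hrel0 k₀ le_rfl
      | succ k hk ih => exact hstep k hk ih
  have hfinal : AwayFreeRel f ((F 0).restrictScalars R) ⊤ :=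
    AwayFreeRel.of_filtration (fun k => (F k).restrictScalars R)
      (fun a b hab x hx => hFmono hab hx) hFex hrel
  rw [hF0, Submodule.restrictScalars_bot] at hfinal
  exact ⟨f, hf0, hfinal⟩

lemma noethK_of_surjective {B' B : Type u} [CommRing B'] [CommRing B] [Algebra R B']
    [Algebra R B] (φ : B' →ₐ[R] B) (hφ : Function.Surjective φ)
    [IsNoetherianRing (Localization (Algebra.algebraMapSubmonoid B' (nonZeroDivisors R)))] :
    IsNoetherianRing (Localization (Algebra.algebraMapSubmonoid B (nonZeroDivisors R))) := by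
  have hle : Algebra.algebraMapSubmonoid B' (nonZeroDivisors R) ≤
      (Algebra.algebraMapSubmonoid B (nonZeroDivisors R)).comap (φ : B' →+* B) := by
    rintro _ ⟨r, hr, rfl⟩
    exact ⟨r, hr, (φ.commutes r).symm⟩
  refine isNoetherianRing_of_surjective _ _
    (IsLocalization.map (S := Localization (Algebra.algebraMapSubmonoid B' (nonZeroDivisors R)))
      (Localization (Algebra.algebraMapSubmonoid B (nonZeroDivisors R)))
      (φ : B' →+* B) hle) ?_
  intro z
  obtain ⟨⟨b, s⟩, rfl⟩ := IsLocalization.mk'_surjective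
    (S := Localization (Algebra.algebraMapSubmonoid B (nonZeroDivisors R)))
    (Algebra.algebraMapSubmonoid B (nonZeroDivisors R)) z
  obtain ⟨r, hr, hrs⟩ := Submonoid.mem_map.mp s.2
  obtain ⟨b', rfl⟩ := hφ b
  refine ⟨IsLocalization.mk' (Localization (Algebra.algebraMapSubmonoid B' (nonZeroDivisors R)))
    b' (⟨algebraMap R B' r, ⟨r, hr, rfl⟩⟩ : Algebra.algebraMapSubmonoid B' (nonZeroDivisors R)), ?_⟩
  rw [IsLocalization.map_mk']
  congr 1
  apply Subtype.ext
  exact (φ.commutes r).trans hrs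

attribute [local instance] MvPolynomial.algebraMvPolynomial in
lemma noethK_mvPolynomial [IsDomain R] (n : ℕ) :
    IsNoetherianRing (Localization
      (Algebra.algebraMapSubmonoid (MvPolynomial (Fin n) R) (nonZeroDivisors R))) := by
  haveI : IsLocalization (Algebra.algebraMapSubmonoid (MvPolynomial (Fin n) R) (nonZeroDivisors R))
      (MvPolynomial (Fin n) (FractionRing R)) :=
    MvPolynomial.isLocalization (nonZeroDivisors R) (FractionRing R)
  exact isNoetherianRing_of_ringEquiv (MvPolynomial (Fin n) (FractionRing R))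
    (IsLocalization.algEquiv
      (Algebra.algebraMapSubmonoid (MvPolynomial (Fin n) R) (nonZeroDivisors R))
      (MvPolynomial (Fin n) (FractionRing R)) (Localization _)).toRingEquiv

theorem GF.mvPolynomial [IsDomain R] (n : ℕ) : GF R (MvPolynomial (Fin n) R) := by
  induction n with
  | zero =>
    refine GF.of_surjective (Algebra.ofId R (MvPolynomial (Fin 0) R)) ?_ (GF.of_finite R)
    intro p
    obtain ⟨r, rfl⟩ := MvPolynomial.C_surjective (R := R) (Fin 0) p
    exact ⟨r, rfl⟩
  | succ n ih =>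
    haveI := noethK_mvPolynomial (R := R) n
    exact GF.of_surjective
      ((MvPolynomial.finSuccEquiv R n).symm :
        (MvPolynomial (Fin n) R)[X] →ₐ[R] MvPolynomial (Fin (n + 1)) R)
      (MvPolynomial.finSuccEquiv R n).symm.surjective (GF.polynomial ih)

theorem GF.of_finiteType [IsDomain R] (S : Type u) [CommRing S] [Algebra R S]
    [Algebra.FiniteType R S] : GF R S := by
  obtain ⟨n, φ, hφ⟩ := Algebra.FiniteType.iff_quotient_mvPolynomial''.mp
    (inferInstance : Algebra.FiniteType R S)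
  exact GF.of_surjective φ hφ (GF.mvPolynomial n)

lemma noethK_of_finiteType [IsDomain R] (S : Type u) [CommRing S] [Algebra R S]
    [Algebra.FiniteType R S] :
    IsNoetherianRing (Localization (Algebra.algebraMapSubmonoid S (nonZeroDivisors R))) := by
  obtain ⟨n, φ, hφ⟩ := Algebra.FiniteType.iff_quotient_mvPolynomial''.mp
    (inferInstance : Algebra.FiniteType R S)
  haveI := noethK_mvPolynomial (R := R) n
  exact noethK_of_surjective φ hφ

end GFsec

end Groth.Agent.Helper18.GenFree
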