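import Mathlib
import Groth.Agent.Lib.Helper18.GenFree

/-!
# Generic freeness over arbitrary domains: localization forms and finite presentation
-/

set_option autoImplicit false
universe u

open TensorProduct

namespace Groth.Agent.Helper18.GenFree

lemma isLocalizedModule_comp {A : Type*} [CommRing A] (p : Submonoid A) {M' M Mp : Type*}
    [AddCommGroup M'] [AddCommGroup M] [AddCommGroup Mp] [Module A M'] [Module A M] [Module A Mp]
    (g : M →ₗ[A] Mp) [IsLocalizedModule p g] (ψ : M' →ₗ[A] M)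
    (hs : ∀ m, ∃ c ∈ p, ∃ m', ψ m' = c • m) (hk : ∀ x, ψ x = 0 → ∃ c ∈ p, c • x = 0) :
    IsLocalizedModule p (g ∘ₗ ψ) where
  map_units := IsLocalizedModule.map_units g
  surj y := by
    obtain ⟨⟨m, s⟩, h⟩ := IsLocalizedModule.surj p g y
    obtain ⟨c, hc, m', hm'⟩ := hs m
    refine ⟨⟨m', ⟨c, hc⟩ * s⟩, ?_⟩
    show ((⟨c, hc⟩ * s : p)) • y = g (ψ m')
    rw [hm', map_smul, mul_smul]
    show (⟨c, hc⟩ : p) • (s • y) = c • g m
    rw [h]
    rfl
  exists_of_eq {x₁ x₂} h := by
    have h' : g (ψ x₁) = g (ψ x₂) := h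
    obtain ⟨s, hs'⟩ := IsLocalizedModule.exists_of_eq (S := p) (f := g) h'
    have h0 : ψ ((s : A) • (x₁ - x₂)) = 0 := by
      rw [map_smul, map_sub, smul_sub, sub_eq_zero]
      exact hs'
    obtain ⟨c, hc, hc0⟩ := hk _ h0
    refine ⟨⟨c, hc⟩ * s, ?_⟩
    rw [← sub_eq_zero, ← smul_sub, mul_smul]
    exact hc0

variable {R : Type u} [CommRing R]

lemma AwayFree.free_of_isLocalizedModule {f : R} {M : Type u} [AddCommGroup M] [Module R M]
    (h : AwayFree f M) {Rf Mf : Type*} [CommRing Rf] [Algebra R Rf] [IsLocalization.Away f Rf]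
    [AddCommGroup Mf] [Module R Mf] [Module Rf Mf] [IsScalarTower R Rf Mf]
    (g : M →ₗ[R] Mf) [IsLocalizedModule (Submonoid.powers f) g] : Module.Free Rf Mf := by
  obtain ⟨ι, b, -, hind, hsp⟩ := h
  haveI : IsLocalizedModule (Submonoid.powers f) (g ∘ₗ Finsupp.linearCombination R b) := by
    apply isLocalizedModule_comp
    · intro m
      obtain ⟨n, y, hy, z, hz, e⟩ := hsp m Submodule.mem_top
      rw [Submodule.mem_bot] at hz
      subst hz
      rw [add_zero] at e
      rw [← Finsupp.range_linearCombination] at hy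
      obtain ⟨c, rfl⟩ := hy
      exact ⟨f ^ n, ⟨n, rfl⟩, c, e.symm⟩
    · intro c hc
      refine ⟨1, Submonoid.one_mem _, ?_⟩
      rw [one_smul]
      have h0 : ∀ i ∈ c.support, c i = 0 := by
        apply hind c.support c
        refine ⟨0, ?_⟩
        rw [pow_zero, one_smul, Submodule.mem_bot]
        have e : ∑ i ∈ c.support, c i • b i = Finsupp.linearCombination R b c :=
          (Finsupp.linearCombination_apply R c).symm
        rw [e, hc]
      ext i
      by_cases hi : i ∈ c.support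
      · exact h0 i hi
      · exact Finsupp.notMem_support_iff.mp hi
  exact Module.free_of_isLocalizedModule (Submonoid.powers f)
    (g ∘ₗ Finsupp.linearCombination R b)

lemma AwayFree.free_localizedModule {f : R} {M : Type u} [AddCommGroup M] [Module R M]
    (h : AwayFree f M) :
    Module.Free (Localization.Away f) (LocalizedModule (Submonoid.powers f) M) :=
  h.free_of_isLocalizedModule (LocalizedModule.mkLinearMap (Submonoid.powers f) M)

lemma AwayFree.free_tensor {f : R} {M : Type u} [AddCommGroup M] [Module R M]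
    (h : AwayFree f M) : Module.Free (Localization.Away f) (Localization.Away f ⊗[R] M) := by
  haveI : IsLocalizedModule (Submonoid.powers f) (TensorProduct.mk R (Localization.Away f) M 1) :=
    (isLocalizedModule_iff_isBaseChange (Submonoid.powers f) (Localization.Away f) _).mpr
      (TensorProduct.isBaseChange R M (Localization.Away f))
  exact h.free_of_isLocalizedModule (TensorProduct.mk R (Localization.Away f) M 1)

lemma approx_ideal [IsDomain R] {B : Type u} [CommRing B] [Algebra R B]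
    [IsNoetherianRing (Localization (Algebra.algebraMapSubmonoid B (nonZeroDivisors R)))]
    (I : Ideal B) :
    ∃ I₀ : Ideal B, I₀ ≤ I ∧ I₀.FG ∧ ∀ x ∈ I, ∃ r : R, r ≠ 0 ∧ (algebraMap R B r) * x ∈ I₀ := by
  obtain ⟨I₀, h1, h2, h3⟩ := approx (R := R) (M := B) ⊤ Module.Finite.fg_top I le_top
  refine ⟨I₀, h1, h2, fun x hx => ?_⟩
  obtain ⟨r, hr, h⟩ := h3 x hx
  exact ⟨r, hr, by rwa [smul_eq_mul] at h⟩

/-- Generic freeness with finite presentation, over an arbitrary domain. -/
theorem exists_models [IsDomain R] (S : Type u) [CommRing S] [Algebra R S]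
    [Algebra.FiniteType R S] (M : Type u) [AddCommGroup M] [Module R M] [Module S M]
    [IsScalarTower R S M] [Module.Finite S M] :
    ∃ f : R, f ≠ 0 ∧ AwayFree f M ∧ AwayFree f S ∧
      Module.FinitePresentation (Localization.Away (algebraMap R S f))
        (LocalizedModule (Submonoid.powers (algebraMap R S f)) M) ∧
      (∀ (T : Type u) [CommRing T] [Algebra R T] [Algebra S T] [IsScalarTower R S T]
        [IsLocalization.Away (algebraMap R S f) T], Algebra.FinitePresentation R T) := by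
  classical
  obtain ⟨n, φ, hφ⟩ := Algebra.FiniteType.iff_quotient_mvPolynomial''.mp
    (inferInstance : Algebra.FiniteType R S)
  haveI hNP := noethK_mvPolynomial (R := R) n
  haveI hNS := noethK_of_finiteType (R := R) S
  -- algebra model
  obtain ⟨I₀, hI₀le, hI₀fg, hI₀⟩ := approx_ideal (R := R)
    (RingHom.ker (φ : MvPolynomial (Fin n) R →+* S))
  haveI : Algebra.FinitePresentation R (MvPolynomial (Fin n) R ⧸ I₀) :=
    Algebra.FinitePresentation.quotient hI₀fg
  let ψA : (MvPolynomial (Fin n) R ⧸ I₀) →ₐ[R] S :=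
    Ideal.Quotient.liftₐ I₀ φ (fun a ha => RingHom.mem_ker.mp (hI₀le ha))
  have hψAmk : ∀ p, ψA (Ideal.Quotient.mk I₀ p) = φ p := fun _ => rfl
  have hψAsurj : Function.Surjective ψA := fun s => by
    obtain ⟨p, rfl⟩ := hφ s
    exact ⟨Ideal.Quotient.mk I₀ p, rfl⟩
  have hψAker : ∀ x, ψA x = 0 → ∃ r : R, r ≠ 0 ∧ r • x = 0 := by
    intro x hx
    obtain ⟨p, rfl⟩ := Ideal.Quotient.mk_surjective x
    have hp : p ∈ RingHom.ker (φ : MvPolynomial (Fin n) R →+* S) := by
      rw [RingHom.mem_ker]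
      exact hx
    obtain ⟨r, hr, hrp⟩ := hI₀ p hp
    refine ⟨r, hr, ?_⟩
    have e : r • (Ideal.Quotient.mk I₀ p) =
        Ideal.Quotient.mk I₀ (algebraMap R (MvPolynomial (Fin n) R) r * p) := by
      rw [← Algebra.smul_def]
      exact (map_smul (Ideal.Quotient.mkₐ R I₀) r p).symm
    rw [e]
    exact Ideal.Quotient.eq_zero_iff_mem.mpr hrp
  -- module model
  obtain ⟨t, π, hπ⟩ := Module.Finite.exists_fin' S M
  obtain ⟨N₀, hN₀le, hN₀fg, hN₀⟩ := approx (R := R) (B := S) (M := Fin t → S) ⊤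
    Module.Finite.fg_top (LinearMap.ker π) le_top
  haveI : Module.FinitePresentation S ((Fin t → S) ⧸ N₀) :=
    Module.finitePresentation_of_free_of_surjective N₀.mkQ N₀.mkQ_surjective
      (by rw [Submodule.ker_mkQ]; exact hN₀fg)
  let ψM : ((Fin t → S) ⧸ N₀) →ₗ[S] M := N₀.liftQ π hN₀le
  have hψMsurj : Function.Surjective ψM := fun m => by
    obtain ⟨v, rfl⟩ := hπ m
    exact ⟨N₀.mkQ v, rfl⟩
  have hψMker : ∀ x, ψM x = 0 → ∃ r : R, r ≠ 0 ∧ r • x = 0 := by
    intro x hx
    obtain ⟨v, rfl⟩ := N₀.mkQ_surjective x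
    have hv : v ∈ LinearMap.ker π := LinearMap.mem_ker.mpr hx
    obtain ⟨r, hr, hrv⟩ := hN₀ v hv
    refine ⟨r, hr, ?_⟩
    rw [← algebraMap_smul S r (N₀.mkQ v), ← map_smul]
    exact (Submodule.Quotient.mk_eq_zero N₀).mpr hrv
  -- generic freeness of the models
  obtain ⟨f₁, hf₁, hfree₁⟩ := GF.of_finiteType (R := R) (MvPolynomial (Fin n) R ⧸ I₀)
    (MvPolynomial (Fin n) R ⧸ I₀)
  obtain ⟨f₂, hf₂, hfree₂⟩ := GF.of_finiteType (R := R) S ((Fin t → S) ⧸ N₀)
  have hf : f₁ * f₂ ≠ 0 := mul_ne_zero hf₁ hf₂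
  have hA' : AwayFree (f₁ * f₂) (MvPolynomial (Fin n) R ⧸ I₀) :=
    AwayFreeRel.of_dvd hfree₁ (dvd_mul_right f₁ f₂) hf
  have hM' : AwayFree (f₁ * f₂) ((Fin t → S) ⧸ N₀) :=
    AwayFreeRel.of_dvd hfree₂ (dvd_mul_left f₂ f₁) hf
  have hkA : ∀ x, ψA x = 0 → ∃ k : ℕ, (f₁ * f₂) ^ k • x = 0 := fun x hx => by
    obtain ⟨r, hr, h⟩ := hψAker x hx
    exact hA'.exists_pow_smul_eq_zero hr h
  have hkM : ∀ x, ψM x = 0 → ∃ k : ℕ, (f₁ * f₂) ^ k • x = 0 := fun x hx => by
    obtain ⟨r, hr, h⟩ := hψMker x hx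
    exact hM'.exists_pow_smul_eq_zero hr h
  have hS : AwayFree (f₁ * f₂) S := AwayFree.of_surjective ψA.toLinearMap hψAsurj hkA hA'
  have hM : AwayFree (f₁ * f₂) M :=
    AwayFree.of_surjective (ψM.restrictScalars R) hψMsurj hkM hM'
  have h4 : Module.FinitePresentation (Localization.Away (algebraMap R S (f₁ * f₂)))
      (LocalizedModule (Submonoid.powers (algebraMap R S (f₁ * f₂))) M) := by
    haveI : IsLocalizedModule (Submonoid.powers (algebraMap R S (f₁ * f₂)))
        ((LocalizedModule.mkLinearMap (Submonoid.powers (algebraMap R S (f₁ * f₂))) M) ∘ₗ ψM) := by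
      apply isLocalizedModule_comp
      · intro m
        obtain ⟨m', hm'⟩ := hψMsurj m
        exact ⟨1, Submonoid.one_mem _, m', by rw [hm', one_smul]⟩
      · intro x hx
        obtain ⟨k, hk⟩ := hkM x hx
        refine ⟨(algebraMap R S (f₁ * f₂)) ^ k, ⟨k, rfl⟩, ?_⟩
        rw [← map_pow, algebraMap_smul]
        exact hk
    exact FinitePresentation.of_isBaseChange
      ((LocalizedModule.mkLinearMap (Submonoid.powers (algebraMap R S (f₁ * f₂))) M) ∘ₗ ψM)
      ((isLocalizedModule_iff_isBaseChange (Submonoid.powers (algebraMap R S (f₁ * f₂)))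
        (Localization.Away (algebraMap R S (f₁ * f₂)))
        ((LocalizedModule.mkLinearMap (Submonoid.powers (algebraMap R S (f₁ * f₂))) M) ∘ₗ ψM)).mp
        this)
  refine ⟨f₁ * f₂, hf, hM, hS, h4, ?_⟩
  intro T _ _ _ _ _
  letI : Algebra (MvPolynomial (Fin n) R ⧸ I₀) T :=
    ((algebraMap S T).comp (ψA : (MvPolynomial (Fin n) R ⧸ I₀) →+* S)).toAlgebra
  have halg : ∀ x : MvPolynomial (Fin n) R ⧸ I₀,
      algebraMap (MvPolynomial (Fin n) R ⧸ I₀) T x = algebraMap S T (ψA x) := fun _ => rfl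
  haveI : IsScalarTower R (MvPolynomial (Fin n) R ⧸ I₀) T :=
    IsScalarTower.of_algebraMap_eq (fun r => by
      rw [halg, ψA.commutes, ← IsScalarTower.algebraMap_apply])
  haveI : IsLocalization.Away (algebraMap R (MvPolynomial (Fin n) R ⧸ I₀) (f₁ * f₂)) T := by
    apply (isLocalization_iff _ _).mpr
    refine ⟨?_, ?_, ?_⟩
    · rintro ⟨_, k, rfl⟩
      show IsUnit (algebraMap (MvPolynomial (Fin n) R ⧸ I₀) T
        ((algebraMap R (MvPolynomial (Fin n) R ⧸ I₀) (f₁ * f₂)) ^ k))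
      rw [halg, map_pow, ψA.commutes, map_pow]
      exact (IsLocalization.Away.algebraMap_isUnit (algebraMap R S (f₁ * f₂))).pow k
    · intro z
      obtain ⟨⟨s, ⟨_, k, rfl⟩⟩, hz⟩ :=
        IsLocalization.surj (Submonoid.powers (algebraMap R S (f₁ * f₂))) z
      obtain ⟨s', rfl⟩ := hψAsurj s
      refine ⟨⟨s', ⟨(algebraMap R (MvPolynomial (Fin n) R ⧸ I₀) (f₁ * f₂)) ^ k, k, rfl⟩⟩, ?_⟩
      show z * algebraMap (MvPolynomial (Fin n) R ⧸ I₀) T
        ((algebraMap R (MvPolynomial (Fin n) R ⧸ I₀) (f₁ * f₂)) ^ k) =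
          algebraMap (MvPolynomial (Fin n) R ⧸ I₀) T s'
      rw [halg, halg, map_pow, ψA.commutes]
      exact hz
    · intro x y hxy
      have hxy' : algebraMap S T (ψA x) = algebraMap S T (ψA y) := hxy
      obtain ⟨⟨_, k, rfl⟩, hc⟩ := IsLocalization.exists_of_eq
        (M := Submonoid.powers (algebraMap R S (f₁ * f₂))) hxy'
      have h0 : ψA ((f₁ * f₂) ^ k • (x - y)) = 0 := by
        rw [map_smul, map_sub, smul_sub, sub_eq_zero, Algebra.smul_def, Algebra.smul_def, map_pow]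
        exact hc
      obtain ⟨k', hk'⟩ := hkA _ h0
      refine ⟨⟨(algebraMap R (MvPolynomial (Fin n) R ⧸ I₀) (f₁ * f₂)) ^ (k' + k), k' + k, rfl⟩, ?_⟩
      show (algebraMap R (MvPolynomial (Fin n) R ⧸ I₀) (f₁ * f₂)) ^ (k' + k) * x =
        (algebraMap R (MvPolynomial (Fin n) R ⧸ I₀) (f₁ * f₂)) ^ (k' + k) * y
      rw [← sub_eq_zero, ← mul_sub, ← map_pow, ← Algebra.smul_def, pow_add, mul_smul]
      exact hk'
  exact Algebra.FinitePresentation.of_isLocalizationAway
    (algebraMap R (MvPolynomial (Fin n) R ⧸ I₀) (f₁ * f₂))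

end Groth.Agent.Helper18.GenFree
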