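import Mathlib
import Groth.Agent.Lib.Helper18.GenFree
import Groth.Agent.Lib.Helper18.GenFree2

/-!
# Generic freeness of cokernels (relative version)

`R` domain, `R → A → B` of finite type, `u : M → N` an `A`-linear map from a finite `A`-module to
a finite `B`-module: `coker u` is generically free over `R`.
-/

set_option autoImplicit false
universe u

open Polynomial

namespace Groth.Agent.Helper18.GenFree

section RelBasic

variable {R : Type u} [CommRing R] {M : Type u} [AddCommGroup M] [Module R M]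

lemma AwayFreeRel.refl (f : R) (N : Submodule R M) : AwayFreeRel f N N :=
  ⟨PEmpty, fun i => i.elim, fun i => i.elim, fun _ _ _ i _ => i.elim,
    fun m hm => ⟨0, 0, Submodule.zero_mem _, m, hm, by simp⟩⟩

lemma AwayFreeRel.trans {f : R} {N₀ N₁ : Submodule R M} (hle : N₀ ≤ N₁)
    (h₀ : AwayFreeRel f N₀ N₁) (h₁ : AwayFreeRel f N₁ ⊤) : AwayFreeRel f N₀ ⊤ := by
  let N : ℕ → Submodule R M := fun k =>
    match k with
    | 0 => N₀
    | 1 => N₁
    | _ + 2 => ⊤
  have hmono : Monotone N := by
    apply monotone_nat_of_le_succ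
    intro k
    match k with
    | 0 => exact hle
    | 1 => exact le_top
    | k + 2 => exact le_rfl
  have hrel : ∀ k, AwayFreeRel f (N k) (N (k + 1)) := by
    intro k
    match k with
    | 0 => exact h₀
    | 1 => exact h₁
    | k + 2 => exact AwayFreeRel.refl f ⊤
  exact AwayFreeRel.of_filtration N hmono (fun m => ⟨2, Submodule.mem_top⟩) hrel

lemma AwayFreeRel.of_subtype {f : R} {N₁ : Submodule R M} {N₀' : Submodule R ↥N₁}
    (h : AwayFreeRel f N₀' ⊤) : AwayFreeRel f (N₀'.map N₁.subtype) N₁ := by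
  obtain ⟨ι, b, -, hind, hsp⟩ := h
  refine ⟨ι, fun i => (b i : M), fun i => (b i).2, ?_, ?_⟩
  · rintro s g ⟨n, hn⟩
    apply hind s g
    refine ⟨n, ?_⟩
    obtain ⟨y, hy, hye⟩ := hn
    have e : y = f ^ n • ∑ i ∈ s, g i • b i := by
      apply Subtype.ext
      rw [← Submodule.subtype_apply, hye]
      simp [Submodule.coe_sum]
    rw [← e]
    exact hy
  · intro m hm
    obtain ⟨n, y, hy, z, hz, e⟩ := hsp ⟨m, hm⟩ Submodule.mem_top
    refine ⟨n, (y : M), ?_, (z : M), ⟨z, hz, rfl⟩, ?_⟩
    · have h0 := Submodule.apply_mem_span_image_of_mem_span N₁.subtype hy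
      rw [← Set.range_comp] at h0
      exact h0
    · have e' := congrArg (Subtype.val) e
      simpa using e'

lemma AwayFreeRel.to_quotient {f : R} {N' : Submodule R M} (h : AwayFreeRel f N' ⊤) :
    AwayFree f (M ⧸ N') := by
  obtain ⟨ι, b, -, hind, hsp⟩ := h
  refine ⟨ι, fun i => N'.mkQ (b i), fun _ => Submodule.mem_top, ?_, ?_⟩
  · rintro s g ⟨n, hn⟩
    apply hind s g
    refine ⟨n, ?_⟩
    rw [Submodule.mem_bot] at hn
    have e : N'.mkQ (f ^ n • ∑ i ∈ s, g i • b i) = f ^ n • ∑ i ∈ s, g i • N'.mkQ (b i) := by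
      simp only [map_smul, map_sum]
    rw [← e] at hn
    exact (Submodule.Quotient.mk_eq_zero N').mp hn
  · intro q _
    obtain ⟨m, rfl⟩ := N'.mkQ_surjective q
    obtain ⟨n, y, hy, z, hz, e⟩ := hsp m Submodule.mem_top
    refine ⟨n, N'.mkQ y, ?_, 0, Submodule.zero_mem _, ?_⟩
    · have h0 := Submodule.apply_mem_span_image_of_mem_span N'.mkQ hy
      rw [← Set.range_comp] at h0
      exact h0
    · have hz0 : N'.mkQ z = 0 := (Submodule.Quotient.mk_eq_zero N').mpr hz
      rw [add_zero, ← map_smul, e, map_add, hz0, add_zero]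

end RelBasic

section PolyRel

variable {R : Type u} [CommRing R]

theorem GF.polynomial_rel [IsDomain R] {B : Type u} [CommRing B] [Algebra R B]
    [IsNoetherianRing (Localization (Algebra.algebraMapSubmonoid B (nonZeroDivisors R)))]
    (hB : GF R B) (M : Type u) [AddCommGroup M] [Module R M] [Module B[X] M]
    [IsScalarTower R B[X] M] [Module B M] [IsScalarTower B B[X] M] [IsScalarTower R B M]
    (G : Finset M) (hG : Submodule.span B[X] (G : Set M) = ⊤) :
    ∃ f : R, f ≠ 0 ∧ AwayFreeRel f ((Submodule.span B (G : Set M)).restrictScalars R) ⊤ := by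
  classical
  have hCsmul : ∀ (b : B) (m : M), b • m = (C b : B[X]) • m := fun b m => by
    rw [Polynomial.C_eq_algebraMap, algebraMap_smul]
  let F : ℕ → Submodule B M := fun k =>
    Submodule.span B {x | ∃ j < k, ∃ g ∈ G, x = (X ^ j : B[X]) • g}
  have hF0 : F 0 = ⊥ := Submodule.span_eq_bot.mpr (by
    rintro x ⟨j, hj, _⟩
    exact absurd hj (Nat.not_lt_zero _))
  have hFmono : Monotone F := fun a b hab => Submodule.span_mono (by
    rintro x ⟨j, hj, g, hg, rfl⟩
    exact ⟨j, lt_of_lt_of_le hj hab, g, hg, rfl⟩)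
  let mulX : ℕ → (M →ₗ[B] M) := fun j => DistribSMul.toLinearMap B M (X ^ j : B[X])
  have hmulX : ∀ j m, mulX j m = (X ^ j : B[X]) • m := fun _ _ => rfl
  let mX : M →ₗ[B] M := DistribSMul.toLinearMap B M (X : B[X])
  have hmX : ∀ m, mX m = (X : B[X]) • m := fun _ => rfl
  have hFX : ∀ j k, ∀ x ∈ F k, (X ^ j : B[X]) • x ∈ F (k + j) := by
    intro j k x hx
    have hle : F k ≤ (F (k + j)).comap (mulX j) := by
      apply Submodule.span_le.mpr
      rintro _ ⟨i, hi, g, hg, rfl⟩
      show (X ^ j : B[X]) • ((X ^ i : B[X]) • g) ∈ F (k + j)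
      rw [smul_smul, ← pow_add]
      exact Submodule.subset_span ⟨j + i, by omega, g, hg, rfl⟩
    exact hle hx
  have hFX1 : ∀ k, ∀ x ∈ F k, (X : B[X]) • x ∈ F (k + 1) := by
    intro k x hx
    have h1 := hFX 1 k x hx
    rwa [pow_one] at h1
  have hFex : ∀ m : M, ∃ k, m ∈ F k := by
    intro m
    have hm : m ∈ Submodule.span B[X] (G : Set M) := by rw [hG]; exact Submodule.mem_top
    refine Submodule.span_induction (p := fun m _ => ∃ k, m ∈ F k) ?_ ?_ ?_ ?_ hm
    · intro x hx
      exact ⟨1, Submodule.subset_span ⟨0, Nat.one_pos, x, hx, by rw [pow_zero, one_smul]⟩⟩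
    · exact ⟨0, Submodule.zero_mem _⟩
    · rintro x y _ _ ⟨a, ha⟩ ⟨b, hb⟩
      exact ⟨max a b, Submodule.add_mem _ (hFmono (le_max_left a b) ha)
        (hFmono (le_max_right a b) hb)⟩
    · rintro p x _ ⟨k, hk⟩
      refine Polynomial.induction_on' p (fun p q hp hq => ?_) (fun n b => ?_)
      · obtain ⟨a, ha⟩ := hp
        obtain ⟨b, hb⟩ := hq
        refine ⟨max a b, ?_⟩
        rw [add_smul]
        exact Submodule.add_mem _ (hFmono (le_max_left a b) ha) (hFmono (le_max_right a b) hb)
      · refine ⟨k + n, ?_⟩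
        rw [← Polynomial.C_mul_X_pow_eq_monomial, mul_smul, ← hCsmul]
        exact Submodule.smul_mem _ _ (hFX n k x hk)
  have hFsucc : ∀ k, 1 ≤ k → F (k + 1) ≤ (F k).map mX ⊔ F k := by
    intro k hk
    apply Submodule.span_le.mpr
    rintro _ ⟨j, hj, g, hg, rfl⟩
    rcases Nat.eq_zero_or_pos j with rfl | hjpos
    · exact Submodule.mem_sup_right (Submodule.subset_span ⟨0, hk, g, hg, rfl⟩)
    · refine Submodule.mem_sup_left ⟨(X ^ (j - 1) : B[X]) • g,
        Submodule.subset_span ⟨j - 1, by omega, g, hg, rfl⟩, ?_⟩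
      have hj1 : j - 1 + 1 = j := by omega
      rw [hmX, smul_smul, ← pow_succ', hj1]
  have hFdecomp : ∀ k, ∀ w ∈ F (k + 1), ∃ y ∈ F 1, ∃ z ∈ F k,
      w = (X ^ k : B[X]) • y + z := by
    intro k
    induction k with
    | zero =>
      intro w hw
      exact ⟨w, hw, 0, Submodule.zero_mem _, by rw [pow_zero, one_smul, add_zero]⟩
    | succ k ih =>
      intro w hw
      obtain ⟨a, ha, z', hz', rfl⟩ :=
        Submodule.mem_sup.mp (hFsucc (k + 1) (Nat.le_add_left 1 k) hw)
      obtain ⟨w', hw', rfl⟩ := ha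
      obtain ⟨y, hy, z, hz, rfl⟩ := ih w' hw'
      refine ⟨y, hy, (X : B[X]) • z + z', Submodule.add_mem _ (hFX1 k z hz) hz', ?_⟩
      rw [hmX, smul_add, smul_smul, ← pow_succ', add_assoc]
  let K : ℕ → Submodule B M := fun k => F 1 ⊓ (F k).comap (mulX k)
  have hKmono : Monotone K := by
    apply monotone_nat_of_le_succ
    intro k y hy
    obtain ⟨hy1, hy2⟩ := Submodule.mem_inf.mp hy
    refine Submodule.mem_inf.mpr ⟨hy1, Submodule.mem_comap.mpr ?_⟩
    have h1 := hFX1 k _ (Submodule.mem_comap.mp hy2)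
    rw [hmulX, smul_smul, ← pow_succ'] at h1
    exact h1
  have hKle : ∀ k, K k ≤ F 1 := fun k => inf_le_left
  have hF1fg : (F 1).FG := Submodule.fg_span (Set.Finite.subset G.finite_toSet (by
    rintro x ⟨j, hj, g, hg, rfl⟩
    obtain rfl : j = 0 := by omega
    simpa using hg))
  obtain ⟨k₀, hk₀⟩ := generic_stabilize (R := R) (F 1) hF1fg K hKmono hKle
  have hStab : ∀ k, k₀ ≤ k → ∀ w ∈ F (k + 1), (X : B[X]) • w ∈ F (k + 1) →
      ∃ r : R, r ≠ 0 ∧ r • w ∈ F k := by
    intro k hk w hw hXw
    obtain ⟨y, hy, z, hz, rfl⟩ := hFdecomp k w hw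
    have hXz : (X : B[X]) • z ∈ F (k + 1) := hFX1 k z hz
    have hy' : y ∈ K (k + 1) := by
      refine Submodule.mem_inf.mpr ⟨hy, Submodule.mem_comap.mpr ?_⟩
      rw [hmulX]
      have e : (X ^ (k + 1) : B[X]) • y =
          (X : B[X]) • ((X ^ k : B[X]) • y + z) - (X : B[X]) • z := by
        rw [smul_add, add_sub_cancel_right, smul_smul, ← pow_succ']
      rw [e]
      exact Submodule.sub_mem _ hXw hXz
    obtain ⟨r, hr, hry⟩ := hk₀ (k + 1) (le_trans hk (Nat.le_succ k)) y hy'
    refine ⟨r, hr, ?_⟩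
    rw [algebraMap_smul] at hry
    obtain ⟨-, hry2⟩ := Submodule.mem_inf.mp hry
    have h1 : (X ^ k₀ : B[X]) • (r • y) ∈ F k₀ := Submodule.mem_comap.mp hry2
    have h2 : (X ^ k : B[X]) • (r • y) ∈ F k := by
      have h3 := hFX (k - k₀) k₀ _ h1
      rw [smul_smul, ← pow_add] at h3
      have e : k - k₀ + k₀ = k := by omega
      have e' : k₀ + (k - k₀) = k := by omega
      rw [e, e'] at h3
      exact h3
    rw [smul_add, smul_comm r (X ^ k : B[X]) y]
    exact Submodule.add_mem _ h2 (Submodule.smul_of_tower_mem _ r hz)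
  have hFfg : ∀ k, (F k).FG := fun k => Submodule.fg_span (Set.Finite.subset
    ((Finset.range k ×ˢ G).finite_toSet.image (fun p : ℕ × M => (X ^ p.1 : B[X]) • p.2)) (by
      rintro x ⟨j, hj, g, hg, rfl⟩
      exact ⟨(j, g), by simp [hj, hg], rfl⟩))
  have hGF : ∀ k, ∃ f : R, f ≠ 0 ∧ AwayFree f ↥((F (k + 1)).map (F k).mkQ) := fun k => by
    haveI : Module.Finite B ↥((F (k + 1)).map (F k).mkQ) :=
      Module.Finite.iff_fg.mpr ((hFfg (k + 1)).map _)
    exact hB _
  choose fk hfk0 hfk using hGF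
  let f : R := ∏ k ∈ Finset.range (k₀ + 1), fk k
  have hf0 : f ≠ 0 := Finset.prod_ne_zero_iff.mpr (fun k _ => hfk0 k)
  have hrel0 : ∀ k, k ≤ k₀ →
      AwayFreeRel f ((F k).restrictScalars R) ((F (k + 1)).restrictScalars R) := fun k hk =>
    AwayFreeRel.of_map_mkQ (F k) (F (k + 1)) (AwayFreeRel.of_dvd (hfk k)
      (Finset.dvd_prod_of_mem _ (Finset.mem_range.mpr (Nat.lt_succ_of_le hk))) hf0)
  have hstep : ∀ k, k₀ ≤ k →
      AwayFreeRel f ((F k).restrictScalars R) ((F (k + 1)).restrictScalars R) →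
      AwayFreeRel f ((F (k + 1)).restrictScalars R) ((F (k + 1 + 1)).restrictScalars R) := by
    rintro k hk ⟨ι, b, hb, hind, hsp⟩
    refine ⟨ι, fun i => (X : B[X]) • b i, fun i => hFX1 (k + 1) (b i) (hb i), ?_, ?_⟩
    · rintro s g ⟨n, hn⟩
      have hw : f ^ n • ∑ i ∈ s, g i • b i ∈ F (k + 1) :=
        Submodule.smul_of_tower_mem _ _ (Submodule.sum_mem _ fun i _ =>
          Submodule.smul_of_tower_mem _ _ (hb i))
      have hXw : (X : B[X]) • (f ^ n • ∑ i ∈ s, g i • b i) ∈ F (k + 1) := by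
        have e : (X : B[X]) • (f ^ n • ∑ i ∈ s, g i • b i) =
            f ^ n • ∑ i ∈ s, g i • ((X : B[X]) • b i) := by
          rw [smul_comm (X : B[X]) (f ^ n), Finset.smul_sum (r := (X : B[X]))]
          congr 1
          apply Finset.sum_congr rfl
          intro i _
          rw [smul_comm]
        rw [e]; exact hn
      obtain ⟨r, hr, hrw⟩ := hStab k hk _ hw hXw
      have h1 : ∀ i ∈ s, r * g i = 0 := by
        apply hind s (fun i => r * g i)
        refine ⟨n, ?_⟩
        have e : f ^ n • ∑ i ∈ s, (r * g i) • b i = r • (f ^ n • ∑ i ∈ s, g i • b i) := by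
          rw [smul_comm r (f ^ n), Finset.smul_sum (r := r)]
          congr 1
          apply Finset.sum_congr rfl
          intro i _
          rw [mul_smul]
        rw [e]; exact hrw
      intro i hi
      exact (mul_eq_zero.mp (h1 i hi)).resolve_left hr
    · intro m hm
      obtain ⟨a, ha, z, hz, rfl⟩ :=
        Submodule.mem_sup.mp (hFsucc (k + 1) (Nat.le_add_left 1 k) hm)
      obtain ⟨m', hm', rfl⟩ := ha
      obtain ⟨n, y, hy, z', hz', e⟩ := hsp m' hm'
      refine ⟨n, (X : B[X]) • y, ?_, (X : B[X]) • z' + f ^ n • z,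
        Submodule.add_mem _ (hFX1 k z' hz') (Submodule.smul_of_tower_mem _ _ hz), ?_⟩
      · have h0 := Submodule.apply_mem_span_image_of_mem_span (mX.restrictScalars R) hy
        rw [← Set.range_comp] at h0
        exact h0
      · rw [smul_add, hmX, smul_comm (f ^ n) (X : B[X]) m', e, smul_add, add_assoc]
  have hrel : ∀ k, AwayFreeRel f ((F k).restrictScalars R) ((F (k + 1)).restrictScalars R) := by
    intro k
    rcases le_total k k₀ with hk | hk
    · exact hrel0 k hk
    · induction k, hk using Nat.le_induction with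
      | base => exact hrel0 k₀ le_rfl
      | succ k hk ih => exact hstep k hk ih
  have hfinal : AwayFreeRel f ((F 1).restrictScalars R) ⊤ :=
    AwayFreeRel.of_filtration (fun k => (F (k + 1)).restrictScalars R)
      (fun a b hab x hx => hFmono (Nat.succ_le_succ hab) hx)
      (fun m => by
        obtain ⟨k, hk⟩ := hFex m
        exact ⟨k, hFmono (Nat.le_succ k) hk⟩)
      (fun k => hrel (k + 1))
  have hF1 : F 1 = Submodule.span B (G : Set M) := by
    apply le_antisymm
    · apply Submodule.span_le.mpr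
      rintro x ⟨j, hj, g, hg, rfl⟩
      obtain rfl : j = 0 := by omega
      rw [pow_zero, one_smul]
      exact Submodule.subset_span hg
    · apply Submodule.span_mono
      intro g hg
      exact ⟨0, Nat.one_pos, g, hg, by rw [pow_zero, one_smul]⟩
  rw [hF1] at hfinal
  exact ⟨f, hf0, hfinal⟩

end PolyRel

section RelSec

variable (R A : Type u) [CommRing R] [CommRing A] [Algebra R A]

/-- For `T`-modules `Q` generated by a finite `A`-submodule `P₀`, `Q / P₀` is generically free. -/
def Rel (T : Type u) [CommRing T] [Algebra A T] [Algebra R T] : Prop :=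
  ∀ (Q : Type u) [AddCommGroup Q] [Module R Q] [Module A Q] [Module T Q] [IsScalarTower R A Q]
    [IsScalarTower R T Q] [IsScalarTower A T Q] (P₀ : Submodule A Q), P₀.FG →
    Submodule.span T (P₀ : Set Q) = ⊤ →
    ∃ f : R, f ≠ 0 ∧ AwayFreeRel f (P₀.restrictScalars R) ⊤

variable {R A}

theorem Rel.zero [IsDomain R] : Rel R A (MvPolynomial (Fin 0) A) := by
  intro Q _ _ _ _ _ _ _ P₀ _ hspan
  have hall : ∀ q : Q, q ∈ P₀ := by
    intro q
    have hq : q ∈ Submodule.span (MvPolynomial (Fin 0) A) (P₀ : Set Q) := by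
      rw [hspan]; trivial
    refine Submodule.span_induction (p := fun q _ => q ∈ P₀) ?_ ?_ ?_ ?_ hq
    · intro x hx
      exact hx
    · exact P₀.zero_mem
    · intro x y _ _ hx hy
      exact P₀.add_mem hx hy
    · intro t x _ hx
      obtain ⟨a, rfl⟩ := MvPolynomial.C_surjective (R := A) (Fin 0) t
      rw [← MvPolynomial.algebraMap_eq, algebraMap_smul]
      exact P₀.smul_mem a hx
  refine ⟨1, one_ne_zero, ?_⟩
  have e : P₀.restrictScalars R = ⊤ := by
    rw [eq_top_iff]
    intro q _
    exact hall q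
  rw [e]
  exact AwayFreeRel.refl 1 ⊤

theorem Rel.of_surjective {T T' : Type u} [CommRing T] [CommRing T'] [Algebra A T] [Algebra R T]
    [Algebra A T'] [Algebra R T'] [IsScalarTower R A T] [IsScalarTower R A T']
    (φ : T →ₐ[A] T') (hφ : Function.Surjective φ) (h : Rel R A T) : Rel R A T' := by
  intro Q _ _ _ _ _ _ _ P₀ hfg hspan
  letI : Module T Q := Module.compHom Q (φ : T →+* T')
  have hsm : ∀ (t : T) (q : Q), t • q = φ t • q := fun _ _ => rfl
  haveI : IsScalarTower A T Q := ⟨fun a t q => by rw [hsm, hsm, map_smul, smul_assoc]⟩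
  haveI : IsScalarTower R T Q := ⟨fun r t q => by
    rw [hsm, hsm, ← IsScalarTower.algebraMap_smul A r t, map_smul,
      IsScalarTower.algebraMap_smul, smul_assoc]⟩
  have hspan' : Submodule.span T (P₀ : Set Q) = ⊤ := by
    rw [eq_top_iff]
    intro q _
    have hq : q ∈ Submodule.span T' (P₀ : Set Q) := by rw [hspan]; trivial
    refine Submodule.span_induction (p := fun q _ => q ∈ Submodule.span T (P₀ : Set Q))
      ?_ ?_ ?_ ?_ hq
    · intro x hx
      exact Submodule.subset_span hx
    · exact Submodule.zero_mem _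
    · intro x y _ _ hx hy
      exact Submodule.add_mem _ hx hy
    · intro t' x _ hx
      obtain ⟨t, rfl⟩ := hφ t'
      rw [← hsm]
      exact Submodule.smul_mem _ t hx
  exact h Q P₀ hfg hspan'

/-- The sub-step: inside `span T G`, the quotient by `span A G` is generically free. -/
theorem Rel.apply_sub {T : Type u} [CommRing T] [Algebra A T] [Algebra R T] (h : Rel R A T)
    (Q : Type u) [AddCommGroup Q] [Module R Q] [Module A Q] [Module T Q] [IsScalarTower R A Q]
    [IsScalarTower R T Q] [IsScalarTower A T Q] (G : Finset Q) :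
    ∃ f : R, f ≠ 0 ∧ AwayFreeRel f ((Submodule.span A (G : Set Q)).restrictScalars R)
      ((Submodule.span T (G : Set Q)).restrictScalars R) := by
  classical
  let P₁ : Submodule T Q := Submodule.span T (G : Set Q)
  let G' : Set ↥P₁ := Set.range (fun g : G => (⟨g.1, Submodule.subset_span g.2⟩ : ↥P₁))
  let P₀' : Submodule A ↥P₁ := Submodule.span A G'
  have hfg : P₀'.FG := Submodule.fg_span (Set.finite_range _)
  have hspan : Submodule.span T (P₀' : Set ↥P₁) = ⊤ := by
    apply Submodule.map_injective_of_injective P₁.injective_subtype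
    rw [Submodule.map_span, Submodule.map_top, Submodule.range_subtype]
    apply le_antisymm
    · apply Submodule.span_le.mpr
      rintro _ ⟨y, _, rfl⟩
      exact y.2
    · apply Submodule.span_mono
      intro g hg
      exact ⟨⟨g, Submodule.subset_span hg⟩, Submodule.subset_span ⟨⟨g, hg⟩, rfl⟩, rfl⟩
  obtain ⟨f, hf, hrel⟩ := h ↥P₁ P₀' hfg hspan
  refine ⟨f, hf, ?_⟩
  have h2 := AwayFreeRel.of_subtype (N₁ := P₁.restrictScalars R)
    (N₀' := P₀'.restrictScalars R) hrel
  have e : (P₀'.restrictScalars R).map (P₁.restrictScalars R).subtype =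
      (Submodule.span A (G : Set Q)).restrictScalars R := by
    ext x
    constructor
    · rintro ⟨y, hy, rfl⟩
      have hy' : y ∈ P₀' := hy
      have hle : P₀' ≤ (Submodule.span A (G : Set Q)).comap
          ((P₁.subtype).restrictScalars A) := by
        apply Submodule.span_le.mpr
        rintro _ ⟨g, rfl⟩
        exact Submodule.subset_span g.2
      exact hle hy'
    · intro hx
      have hx' : x ∈ Submodule.span A (G : Set Q) := hx
      have hle : Submodule.span A (G : Set Q) ≤
          P₀'.map ((P₁.subtype).restrictScalars A) := by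
        apply Submodule.span_le.mpr
        intro g hg
        exact ⟨⟨g, Submodule.subset_span hg⟩, Submodule.subset_span ⟨⟨g, hg⟩, rfl⟩, rfl⟩
      obtain ⟨y, hy, hyx⟩ := hle hx'
      exact ⟨y, hy, hyx⟩
  rw [e] at h2
  exact h2

theorem Rel.polynomial [IsDomain R] {T : Type u} [CommRing T] [Algebra A T] [Algebra R T]
    [IsScalarTower R A T]
    [IsNoetherianRing (Localization (Algebra.algebraMapSubmonoid T (nonZeroDivisors R)))]
    (hGF : GF R T) (h : Rel R A T) : Rel R A T[X] := by
  intro Q _ _ _ _ _ _ _ P₀ hfg hspan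
  classical
  letI instTQ : Module T Q := Module.compHom Q (Polynomial.C : T →+* T[X])
  have hCsmul : ∀ (t : T) (q : Q), t • q = (C t : T[X]) • q := fun _ _ => rfl
  haveI : IsScalarTower T T[X] Q := ⟨fun t p q => by
    rw [hCsmul, Polynomial.smul_eq_C_mul, mul_smul]⟩
  haveI : IsScalarTower R T Q := ⟨fun r t q => by
    rw [hCsmul, hCsmul, ← Polynomial.smul_C, smul_assoc]⟩
  haveI : IsScalarTower A T Q := ⟨fun a t q => by
    rw [hCsmul, hCsmul, ← Polynomial.smul_C, smul_assoc]⟩
  obtain ⟨G, hG⟩ := hfg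
  have hgenG : Submodule.span T[X] (G : Set Q) = ⊤ := by
    rw [eq_top_iff, ← hspan, Submodule.span_le, ← hG]
    exact Submodule.span_subset_span A T[X] (G : Set Q)
  obtain ⟨f₁, hf₁, h₁⟩ := GF.polynomial_rel hGF Q G hgenG
  obtain ⟨f₂, hf₂, h₂⟩ := Rel.apply_sub h Q G
  have hf : f₁ * f₂ ≠ 0 := mul_ne_zero hf₁ hf₂
  have h₂' := AwayFreeRel.of_dvd h₂ (dvd_mul_left f₂ f₁) hf
  have h₁' := AwayFreeRel.of_dvd h₁ (dvd_mul_right f₁ f₂) hf
  have hle : (Submodule.span A (G : Set Q)).restrictScalars R ≤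
      (Submodule.span T (G : Set Q)).restrictScalars R :=
    fun x hx => Submodule.span_subset_span A T _ hx
  have hfin := AwayFreeRel.trans hle h₂' h₁'
  rw [hG] at hfin
  exact ⟨f₁ * f₂, hf, hfin⟩

theorem Rel.mvPolynomial [IsDomain R] [Algebra.FiniteType R A] (n : ℕ) :
    Rel R A (MvPolynomial (Fin n) A) := by
  induction n with
  | zero => exact Rel.zero
  | succ n ih =>
    haveI : Algebra.FiniteType R (MvPolynomial (Fin n) A) :=
      Algebra.FiniteType.trans (S := A) inferInstance inferInstance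
    haveI := noethK_of_finiteType (R := R) (MvPolynomial (Fin n) A)
    have hGF : GF R (MvPolynomial (Fin n) A) := GF.of_finiteType _
    exact Rel.of_surjective
      ((MvPolynomial.finSuccEquiv A n).symm :
        (MvPolynomial (Fin n) A)[X] →ₐ[A] MvPolynomial (Fin (n + 1)) A)
      (MvPolynomial.finSuccEquiv A n).symm.surjective (Rel.polynomial hGF ih)

theorem Rel.of_finiteType [IsDomain R] [Algebra.FiniteType R A] (B : Type u) [CommRing B]
    [Algebra A B] [Algebra R B] [IsScalarTower R A B] [Algebra.FiniteType A B] : Rel R A B := by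
  obtain ⟨n, φ, hφ⟩ := Algebra.FiniteType.iff_quotient_mvPolynomial''.mp
    (inferInstance : Algebra.FiniteType A B)
  exact Rel.of_surjective φ hφ (Rel.mvPolynomial n)

end RelSec

theorem coker_generic_flat {R A B : Type u} [CommRing R] [IsDomain R]
    [CommRing A] [CommRing B]
    [Algebra R A] [Algebra A B] [Algebra R B] [IsScalarTower R A B] [Algebra.FiniteType R A]
    [Algebra.FiniteType A B]
    {M N : Type u} [AddCommGroup M] [Module A M] [Module R M] [IsScalarTower R A M]
    [Module.Finite A M]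
    [AddCommGroup N] [Module B N] [Module A N] [Module R N] [IsScalarTower A B N]
    [IsScalarTower R A N] [Module.Finite B N]
    (u : M →ₗ[A] N) :
    ∃ f : R, f ≠ 0 ∧ Module.Flat (Localization.Away f)
      (LocalizedModule (Submonoid.powers f) (N ⧸ (LinearMap.range u).restrictScalars R)) := by
  classical
  haveI : Algebra.FiniteType R B := Algebra.FiniteType.trans (S := A) inferInstance inferInstance
  haveI : IsScalarTower R B N := ⟨fun r b n => by
    rw [← IsScalarTower.algebraMap_smul A r b, smul_assoc, IsScalarTower.algebraMap_smul]⟩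
  have hRel : Rel R A B := Rel.of_finiteType B
  have hGF : GF R B := GF.of_finiteType B
  obtain ⟨G, hG⟩ : (LinearMap.range u).FG := by
    rw [LinearMap.range_eq_map]
    exact (Module.Finite.fg_top).map u
  obtain ⟨f₂, hf₂, h₂⟩ := Rel.apply_sub hRel N G
  let N₁ : Submodule B N := Submodule.span B (G : Set N)
  haveI : Module.Finite B ↥((⊤ : Submodule B N).map N₁.mkQ) :=
    Module.Finite.iff_fg.mpr ((Module.Finite.fg_top).map _)
  obtain ⟨f₁, hf₁, h₁⟩ := hGF ↥((⊤ : Submodule B N).map N₁.mkQ)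
  have h₁' := AwayFreeRel.of_map_mkQ N₁ ⊤ h₁
  rw [Submodule.restrictScalars_top] at h₁'
  have hf : f₁ * f₂ ≠ 0 := mul_ne_zero hf₁ hf₂
  have h₂'' := AwayFreeRel.of_dvd h₂ (dvd_mul_left f₂ f₁) hf
  have h₁'' := AwayFreeRel.of_dvd h₁' (dvd_mul_right f₁ f₂) hf
  have hle : (Submodule.span A (G : Set N)).restrictScalars R ≤ N₁.restrictScalars R :=
    fun x hx => Submodule.span_subset_span A B _ hx
  have hfin := AwayFreeRel.trans hle h₂'' h₁''
  rw [hG] at hfin
  have hq := AwayFreeRel.to_quotient hfin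
  haveI := hq.free_localizedModule
  exact ⟨f₁ * f₂, hf, inferInstance⟩

end Groth.Agent.Helper18.GenFree
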