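import Mathlib

/-!
# Lifting primes generically along finite type extensions of domains

For domains `A ⊆ B` with `B` of finite type over `A` and `v ≠ 0` in `B` there is `u ≠ 0` in `A`
such that every prime of `A` not containing `u` is the contraction of a prime of `B` not
containing `v`.
-/

set_option autoImplicit false
universe u

namespace Groth.Agent.Helper18.GenericImage

open Polynomial

section G1

variable {A B : Type u} [CommRing A] [IsDomain A] [CommRing B] [IsDomain B] [Algebra A B]

/-- transcendental generator -/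
theorem g1_transc (b : B)
    (hb : Algebra.adjoin A ({b} : Set B) = ⊤)
    (htr : Transcendental A b) (v : B) (hv : v ≠ 0) :
    ∃ u : A, u ≠ 0 ∧ ∀ P : Ideal A, P.IsPrime → u ∉ P →
      ∃ Q : Ideal B, Q.IsPrime ∧ Q.comap (algebraMap A B) = P ∧ v ∉ Q := by
  have hbij : Function.Bijective (aeval (R := A) b) := by
    refine ⟨transcendental_iff_injective.1 htr, ?_⟩
    rw [← AlgHom.range_eq_top, ← Algebra.adjoin_singleton_eq_range_aeval, hb]
  let e : A[X] ≃ₐ[A] B := AlgEquiv.ofBijective (aeval b) hbij
  obtain ⟨p, hp⟩ : ∃ p, e p = v := e.surjective v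
  have hp0 : p ≠ 0 := by
    rintro rfl
    exact hv (by rw [← hp, map_zero])
  refine ⟨p.leadingCoeff, leadingCoeff_ne_zero.2 hp0, ?_⟩
  intro P hP hu
  haveI hQ0 : (P.map (C : A →+* A[X])).IsPrime := (Ideal.isPrime_map_C_iff_isPrime P).2 hP
  refine ⟨(P.map (C : A →+* A[X])).comap (e.symm : B →+* A[X]), Ideal.comap_isPrime _ _, ?_, ?_⟩
  · ext a
    rw [Ideal.mem_comap, Ideal.mem_comap]
    have h1 : (e.symm : B →+* A[X]) (algebraMap A B a) = C a := by
      change e.symm (algebraMap A B a) = C a
      rw [e.symm.commutes]; rfl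
    rw [h1, Ideal.mem_map_C_iff]
    constructor
    · intro h
      simpa using h 0
    · intro h n
      rw [coeff_C]
      split_ifs
      · exact h
      · exact P.zero_mem
  · intro hmem
    rw [Ideal.mem_comap] at hmem
    have h1 : (e.symm : B →+* A[X]) v = p := by
      change e.symm v = p
      rw [← hp, e.symm_apply_apply]
    rw [h1, Ideal.mem_map_C_iff] at hmem
    exact hu (hmem _)

/-- algebraic generator -/
theorem g1_alg (hinj : Function.Injective (algebraMap A B)) (b : B)
    (hb : Algebra.adjoin A ({b} : Set B) = ⊤)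
    (halg : IsAlgebraic A b) (v : B) (hv : v ≠ 0) :
    ∃ u : A, u ≠ 0 ∧ ∀ P : Ideal A, P.IsPrime → u ∉ P →
      ∃ Q : Ideal B, Q.IsPrime ∧ Q.comap (algebraMap A B) = P ∧ v ∉ Q := by
  obtain ⟨g, hg0, hgb⟩ := halg
  have hvalg : IsAlgebraic A v := by
    have hle : (⊤ : Subalgebra A B) ≤ Subalgebra.algebraicClosure A B := by
      rw [← hb, Algebra.adjoin_le_iff]
      intro x hx
      rw [Set.mem_singleton_iff] at hx
      subst hx
      exact ⟨g, hg0, hgb⟩
    exact hle Algebra.mem_top
  obtain ⟨h, hh0, hhv⟩ :=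
    hvalg.exists_nonzero_coeff_and_aeval_eq_zero (mem_nonZeroDivisors_of_ne_zero hv)
  obtain ⟨a, ha⟩ : ∃ a, a = g.leadingCoeff := ⟨_, rfl⟩
  have ha0 : a ≠ 0 := by rw [ha]; exact leadingCoeff_ne_zero.2 hg0
  refine ⟨a * h.coeff 0, mul_ne_zero ha0 hh0, ?_⟩
  intro P hP hu
  have haP : a ∉ P := fun h' => hu (P.mul_mem_right _ h')
  have hcP : h.coeff 0 ∉ P := fun h' => hu (P.mul_mem_left _ h')
  -- localization
  obtain ⟨M, hM⟩ : ∃ M : Submonoid A, M = Submonoid.powers a := ⟨_, rfl⟩
  have haM : g.leadingCoeff ∈ M := by rw [hM, ← ha]; exact Submonoid.mem_powers a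
  let gm : Localization M →+* Localization (Algebra.algebraMapSubmonoid B M) :=
    IsLocalization.map (Localization (Algebra.algebraMapSubmonoid B M)) (algebraMap A B)
      (show M ≤ (Algebra.algebraMapSubmonoid B M).comap _ from M.le_comap_map)
  letI : Algebra (Localization M) (Localization (Algebra.algebraMapSubmonoid B M)) := gm.toAlgebra
  have hgm : ∀ x : Localization M,
      algebraMap (Localization M) (Localization (Algebra.algebraMapSubmonoid B M)) x = gm x :=
    fun _ => rfl
  have hcomm : ∀ c : A, algebraMap B (Localization (Algebra.algebraMapSubmonoid B M))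
      (algebraMap A B c) = algebraMap (Localization M)
        (Localization (Algebra.algebraMapSubmonoid B M)) (algebraMap A (Localization M) c) := by
    intro c
    rw [hgm, IsLocalization.map_eq]
  have hintb : IsIntegral (Localization M)
      (algebraMap B (Localization (Algebra.algebraMapSubmonoid B M)) b) :=
    is_integral_localization_at_leadingCoeff g hgb haM
  have hintB : ∀ y : B, IsIntegral (Localization M)
      (algebraMap B (Localization (Algebra.algebraMapSubmonoid B M)) y) := by
    intro y
    have hy : y ∈ Algebra.adjoin A ({b} : Set B) := by rw [hb]; trivial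
    induction hy using Algebra.adjoin_induction with
    | mem x hx =>
      rw [Set.mem_singleton_iff] at hx
      subst hx
      exact hintb
    | algebraMap c =>
      rw [hcomm]
      exact isIntegral_algebraMap
    | add x y _ _ hx hy =>
      rw [map_add]
      exact hx.add hy
    | mul x y _ _ hx hy =>
      rw [map_mul]
      exact hx.mul hy
  haveI hintAll : Algebra.IsIntegral (Localization M)
      (Localization (Algebra.algebraMapSubmonoid B M)) := by
    refine ⟨fun x => ?_⟩
    obtain ⟨⟨y, s⟩, rfl⟩ := IsLocalization.mk'_surjective (Algebra.algebraMapSubmonoid B M) x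
    obtain ⟨m, hm, hms⟩ := s.2
    have hform : IsLocalization.mk' (Localization (Algebra.algebraMapSubmonoid B M)) y s =
        algebraMap B _ y * algebraMap (Localization M) _
          (IsLocalization.mk' (Localization M) (1 : A) (⟨m, hm⟩ : M)) := by
      rw [IsLocalization.mk'_eq_iff_eq_mul, mul_assoc]
      have hs : algebraMap B (Localization (Algebra.algebraMapSubmonoid B M)) (s : B) =
          algebraMap (Localization M) _ (algebraMap A (Localization M) m) := by
        rw [← hcomm]
        congr 1
        exact hms.symm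
      rw [hs, ← map_mul, IsLocalization.mk'_spec, map_one, map_one, mul_one]
    change IsIntegral (Localization M)
      (IsLocalization.mk' (Localization (Algebra.algebraMapSubmonoid B M)) y s)
    rw [hform]
    exact (hintB y).mul isIntegral_algebraMap
  haveI : IsLocalization (Submonoid.map (algebraMap A B) M)
      (Localization (Algebra.algebraMapSubmonoid B M)) :=
    inferInstanceAs (IsLocalization (Algebra.algebraMapSubmonoid B M)
      (Localization (Algebra.algebraMapSubmonoid B M)))
  have hgminj : Function.Injective gm :=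
    IsLocalization.map_injective_of_injective M (Localization M)
      (Localization (Algebra.algebraMapSubmonoid B M)) hinj
  have hdisj : Disjoint (M : Set A) (P : Set A) := by
    rw [hM]
    exact (Ideal.disjoint_powers_iff_notMem_of_isPrime a).2 haP
  haveI hP' : (P.map (algebraMap A (Localization M))).IsPrime :=
    IsLocalization.isPrime_of_isPrime_disjoint M (Localization M) P hP hdisj
  have hP'c : (P.map (algebraMap A (Localization M))).comap (algebraMap A (Localization M)) = P :=
    IsLocalization.under_map_of_isPrime_disjoint M (Localization M) hP hdisj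
  obtain ⟨Q', -, hQ'prime, hQ'over⟩ :=
    Ideal.exists_ideal_over_prime_of_isIntegral (P.map (algebraMap A (Localization M)))
      (⊥ : Ideal (Localization (Algebra.algebraMapSubmonoid B M)))
      (by
        have : Ideal.comap (algebraMap (Localization M)
            (Localization (Algebra.algebraMapSubmonoid B M))) ⊥ = ⊥ :=
          Ideal.comap_bot_of_injective _ hgminj
        rw [this]; exact bot_le)
  haveI := hQ'prime
  have hover : (Q'.comap (algebraMap B (Localization (Algebra.algebraMapSubmonoid B M)))).comap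
      (algebraMap A B) = P := by
    rw [Ideal.comap_comap]
    have hce : (algebraMap B (Localization (Algebra.algebraMapSubmonoid B M))).comp
        (algebraMap A B) = (algebraMap (Localization M)
          (Localization (Algebra.algebraMapSubmonoid B M))).comp
          (algebraMap A (Localization M)) := RingHom.ext hcomm
    rw [hce, ← Ideal.comap_comap, hQ'over, hP'c]
  refine ⟨Q'.comap (algebraMap B (Localization (Algebra.algebraMapSubmonoid B M))),
    Ideal.comap_isPrime _ _, hover, ?_⟩
  intro hvQ
  apply hcP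
  rw [← hover, Ideal.mem_comap]
  have e1 := congrArg (aeval v) (Polynomial.divX_mul_X_add h)
  simp only [map_add, map_mul, aeval_X, aeval_C] at e1
  rw [hhv] at e1
  have key : algebraMap A B (h.coeff 0) = -(aeval v h.divX * v) := by
    rw [eq_neg_iff_add_eq_zero, add_comm]
    exact e1
  rw [key]
  exact Ideal.neg_mem_iff _ |>.2 (Ideal.mul_mem_left _ _ hvQ)

theorem g1 (hinj : Function.Injective (algebraMap A B)) (b : B)
    (hb : Algebra.adjoin A ({b} : Set B) = ⊤) (v : B) (hv : v ≠ 0) :
    ∃ u : A, u ≠ 0 ∧ ∀ P : Ideal A, P.IsPrime → u ∉ P →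
      ∃ Q : Ideal B, Q.IsPrime ∧ Q.comap (algebraMap A B) = P ∧ v ∉ Q := by
  by_cases halg : IsAlgebraic A b
  · exact g1_alg hinj b hb halg v hv
  · exact g1_transc b hb halg v hv

end G1

/-- Atiyah–Macdonald 5.23 in terms of primes. -/
theorem main (n : ℕ) : ∀ (A B : Type u) [CommRing A] [IsDomain A] [CommRing B] [IsDomain B]
    [Algebra A B], Function.Injective (algebraMap A B) → ∀ (s : Fin n → B),
    Algebra.adjoin A (Set.range s) = ⊤ → ∀ (v : B), v ≠ 0 →
    ∃ u : A, u ≠ 0 ∧ ∀ P : Ideal A, P.IsPrime → u ∉ P →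
      ∃ Q : Ideal B, Q.IsPrime ∧ Q.comap (algebraMap A B) = P ∧ v ∉ Q := by
  induction n with
  | zero =>
    intro A B _ _ _ _ _ hinj s hs v hv
    have hsurj : Function.Surjective (algebraMap A B) := by
      rw [Algebra.surjective_algebraMap_iff, ← hs]
      have : Set.range s = ∅ := Set.range_eq_empty s
      rw [this, Algebra.adjoin_empty]
    let e : A ≃+* B := RingEquiv.ofBijective (algebraMap A B) ⟨hinj, hsurj⟩
    obtain ⟨u, hu⟩ := hsurj v
    refine ⟨u, ?_, ?_⟩
    · rintro rfl
      exact hv (by rw [← hu, map_zero])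
    · intro P hP huP
      haveI := hP
      refine ⟨P.comap (e.symm : B →+* A), Ideal.comap_isPrime _ _, ?_, ?_⟩
      · ext a
        rw [Ideal.mem_comap, Ideal.mem_comap]
        have : (e.symm : B →+* A) (algebraMap A B a) = a := e.symm_apply_apply a
        rw [this]
      · intro hmem
        rw [Ideal.mem_comap] at hmem
        have : (e.symm : B →+* A) v = u := by
          rw [← hu]; exact e.symm_apply_apply u
        rw [this] at hmem
        exact huP hmem
  | succ n ih =>
    intro A B _ _ _ _ _ hinj s hs v hv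
    -- the intermediate subalgebra
    obtain ⟨A', hA'⟩ : ∃ A' : Subalgebra A B, A' = Algebra.adjoin A ({s 0} : Set B) := ⟨_, rfl⟩
    have hs0 : s 0 ∈ A' := by rw [hA']; exact Algebra.subset_adjoin (Set.mem_singleton _)
    have hinj' : Function.Injective (algebraMap A' B) := Subtype.val_injective
    have hinjA : Function.Injective (algebraMap A A') := by
      intro x y hxy
      apply hinj
      have := congrArg (algebraMap A' B) hxy
      rwa [← IsScalarTower.algebraMap_apply, ← IsScalarTower.algebraMap_apply] at this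
    have hgen' : Algebra.adjoin A' (Set.range (Fin.tail s)) = ⊤ := by
      apply Subalgebra.restrictScalars_injective A
      rw [Subalgebra.restrictScalars_top, eq_top_iff, ← hs, Algebra.adjoin_le_iff]
      rintro _ ⟨i, rfl⟩
      change s i ∈ Algebra.adjoin A' (Set.range (Fin.tail s))
      refine Fin.cases ?_ (fun j => ?_) i
      · exact Subalgebra.algebraMap_mem _ (⟨s 0, hs0⟩ : A')
      · exact Algebra.subset_adjoin ⟨j, rfl⟩
    obtain ⟨u', hu'0, hu'⟩ := ih A' B hinj' (Fin.tail s) hgen' v hv
    -- A' is generated by s 0 over A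
    have hgenA' : Algebra.adjoin A ({(⟨s 0, hs0⟩ : A')} : Set A') = ⊤ := by
      subst hA'
      have := Algebra.adjoin_adjoin_coe_preimage (R := A) (s := ({s 0} : Set B))
      convert this using 2
      ext x
      simp only [Set.mem_singleton_iff, Set.mem_preimage]
      exact ⟨fun h => by rw [h], fun h => Subtype.ext h⟩
    obtain ⟨u, hu0, hu⟩ := g1 hinjA (⟨s 0, hs0⟩ : A') hgenA' u' hu'0
    refine ⟨u, hu0, ?_⟩
    intro P hP huP
    obtain ⟨P', hP'prime, hP'over, hP'u⟩ := hu P hP huP
    obtain ⟨Q, hQprime, hQover, hQv⟩ := hu' P' hP'prime hP'u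
    refine ⟨Q, hQprime, ?_, hQv⟩
    rw [IsScalarTower.algebraMap_eq A A' B, ← Ideal.comap_comap, hQover, hP'over]

/-- ring-level statement: finite type algebra, prime `q` of `B` over a prime contained in all
primes of `A`. -/
theorem exists_notMem_lift (A B : Type u) [CommRing A] [CommRing B] [Algebra A B]
    [Algebra.FiniteType A B] (q : Ideal B) [q.IsPrime]
    (hmin : ∀ P : Ideal A, P.IsPrime → q.comap (algebraMap A B) ≤ P) :
    ∃ a : A, a ∉ q.comap (algebraMap A B) ∧ ∀ P : Ideal A, P.IsPrime → a ∉ P →
      ∃ Q : Ideal B, Q.IsPrime ∧ Q.comap (algebraMap A B) = P := by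
  classical
  haveI : (q.comap (algebraMap A B)).IsPrime := Ideal.comap_isPrime _ _
  have hinj : Function.Injective
      (algebraMap (A ⧸ q.comap (algebraMap A B)) (B ⧸ q)) := Ideal.algebraMap_quotient_injective
  haveI : Algebra.FiniteType A (B ⧸ q) :=
    Algebra.FiniteType.of_surjective (Ideal.Quotient.mkₐ A q) Ideal.Quotient.mk_surjective
  haveI : Algebra.FiniteType (A ⧸ q.comap (algebraMap A B)) (B ⧸ q) :=
    Algebra.FiniteType.of_restrictScalars_finiteType A _ _
  obtain ⟨S, hS⟩ := (Algebra.FiniteType.out :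
    (⊤ : Subalgebra (A ⧸ q.comap (algebraMap A B)) (B ⧸ q)).FG)
  let s : Fin S.card → B ⧸ q := fun i => ((S.equivFin.symm i : S) : B ⧸ q)
  have hrange : Set.range s = (S : Set (B ⧸ q)) := by
    ext x
    constructor
    · rintro ⟨i, rfl⟩
      exact (S.equivFin.symm i).2
    · intro hx
      exact ⟨S.equivFin ⟨x, hx⟩, by simp [s]⟩
  obtain ⟨u', hu'0, hu'⟩ := main S.card (A ⧸ q.comap (algebraMap A B)) (B ⧸ q) hinj s
    (by rw [hrange, hS]) 1 one_ne_zero
  obtain ⟨a, rfl⟩ := Ideal.Quotient.mk_surjective u'
  refine ⟨a, fun ha => hu'0 (Ideal.Quotient.eq_zero_iff_mem.2 ha), ?_⟩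
  intro P hP haP
  have hle : q.comap (algebraMap A B) ≤ P := hmin P hP
  have hker : RingHom.ker (Ideal.Quotient.mk (q.comap (algebraMap A B))) ≤ P := by
    rw [Ideal.mk_ker]; exact hle
  haveI := hP
  have hP'prime : (P.map (Ideal.Quotient.mk (q.comap (algebraMap A B)))).IsPrime :=
    Ideal.map_isPrime_of_surjective Ideal.Quotient.mk_surjective hker
  have hP'c : (P.map (Ideal.Quotient.mk (q.comap (algebraMap A B)))).comap
      (Ideal.Quotient.mk (q.comap (algebraMap A B))) = P := by
    rw [Ideal.comap_map_of_surjective _ Ideal.Quotient.mk_surjective, ← RingHom.ker_eq_comap_bot]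
    exact sup_eq_left.2 hker
  have hu'P : Ideal.Quotient.mk (q.comap (algebraMap A B)) a ∉
      P.map (Ideal.Quotient.mk (q.comap (algebraMap A B))) := by
    intro h
    apply haP
    rw [← hP'c, Ideal.mem_comap]
    exact h
  obtain ⟨Q', hQ'prime, hQ'over, -⟩ := hu' _ hP'prime hu'P
  haveI := hQ'prime
  refine ⟨Q'.comap (Ideal.Quotient.mk q), Ideal.comap_isPrime _ _, ?_⟩
  rw [Ideal.comap_comap]
  have hce : (Ideal.Quotient.mk q).comp (algebraMap A B) =
      (algebraMap (A ⧸ q.comap (algebraMap A B)) (B ⧸ q)).comp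
        (Ideal.Quotient.mk (q.comap (algebraMap A B))) := by
    ext x
    rfl
  rw [hce, ← Ideal.comap_comap, hQ'over, hP'c]

/-- variant keeping track of an element `v ∉ q` and of `q ≤ Q`. -/
theorem exists_notMem_lift' (A B : Type u) [CommRing A] [CommRing B] [Algebra A B]
    [Algebra.FiniteType A B] (q : Ideal B) [q.IsPrime] (v : B) (hv : v ∉ q) :
    ∃ a : A, a ∉ q.comap (algebraMap A B) ∧ ∀ P : Ideal A, P.IsPrime →
      q.comap (algebraMap A B) ≤ P → a ∉ P →
      ∃ Q : Ideal B, Q.IsPrime ∧ q ≤ Q ∧ Q.comap (algebraMap A B) = P ∧ v ∉ Q := by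
  classical
  haveI : (q.comap (algebraMap A B)).IsPrime := Ideal.comap_isPrime _ _
  have hinj : Function.Injective
      (algebraMap (A ⧸ q.comap (algebraMap A B)) (B ⧸ q)) := Ideal.algebraMap_quotient_injective
  haveI : Algebra.FiniteType A (B ⧸ q) :=
    Algebra.FiniteType.of_surjective (Ideal.Quotient.mkₐ A q) Ideal.Quotient.mk_surjective
  haveI : Algebra.FiniteType (A ⧸ q.comap (algebraMap A B)) (B ⧸ q) :=
    Algebra.FiniteType.of_restrictScalars_finiteType A _ _
  obtain ⟨S, hS⟩ := (Algebra.FiniteType.out :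
    (⊤ : Subalgebra (A ⧸ q.comap (algebraMap A B)) (B ⧸ q)).FG)
  let s : Fin S.card → B ⧸ q := fun i => ((S.equivFin.symm i : S) : B ⧸ q)
  have hrange : Set.range s = (S : Set (B ⧸ q)) := by
    ext x
    constructor
    · rintro ⟨i, rfl⟩
      exact (S.equivFin.symm i).2
    · intro hx
      exact ⟨S.equivFin ⟨x, hx⟩, by simp [s]⟩
  have hv0 : Ideal.Quotient.mk q v ≠ 0 := fun h => hv (Ideal.Quotient.eq_zero_iff_mem.1 h)
  obtain ⟨u', hu'0, hu'⟩ := main S.card (A ⧸ q.comap (algebraMap A B)) (B ⧸ q) hinj s
    (by rw [hrange, hS]) (Ideal.Quotient.mk q v) hv0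
  obtain ⟨a, rfl⟩ := Ideal.Quotient.mk_surjective u'
  refine ⟨a, fun ha => hu'0 (Ideal.Quotient.eq_zero_iff_mem.2 ha), ?_⟩
  intro P hP hle haP
  have hker : RingHom.ker (Ideal.Quotient.mk (q.comap (algebraMap A B))) ≤ P := by
    rw [Ideal.mk_ker]; exact hle
  haveI := hP
  have hP'prime : (P.map (Ideal.Quotient.mk (q.comap (algebraMap A B)))).IsPrime :=
    Ideal.map_isPrime_of_surjective Ideal.Quotient.mk_surjective hker
  have hP'c : (P.map (Ideal.Quotient.mk (q.comap (algebraMap A B)))).comap
      (Ideal.Quotient.mk (q.comap (algebraMap A B))) = P := by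
    rw [Ideal.comap_map_of_surjective _ Ideal.Quotient.mk_surjective, ← RingHom.ker_eq_comap_bot]
    exact sup_eq_left.2 hker
  have hu'P : Ideal.Quotient.mk (q.comap (algebraMap A B)) a ∉
      P.map (Ideal.Quotient.mk (q.comap (algebraMap A B))) := by
    intro h
    apply haP
    rw [← hP'c, Ideal.mem_comap]
    exact h
  obtain ⟨Q', hQ'prime, hQ'over, hQ'v⟩ := hu' _ hP'prime hu'P
  haveI := hQ'prime
  refine ⟨Q'.comap (Ideal.Quotient.mk q), Ideal.comap_isPrime _ _, ?_, ?_, ?_⟩
  · intro x hx
    rw [Ideal.mem_comap, Ideal.Quotient.eq_zero_iff_mem.2 hx]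
    exact Q'.zero_mem
  · rw [Ideal.comap_comap]
    have hce : (Ideal.Quotient.mk q).comp (algebraMap A B) =
        (algebraMap (A ⧸ q.comap (algebraMap A B)) (B ⧸ q)).comp
          (Ideal.Quotient.mk (q.comap (algebraMap A B))) := by
      ext x
      rfl
    rw [hce, ← Ideal.comap_comap, hQ'over, hP'c]
  · intro h
    exact hQ'v h

end Groth.Agent.Helper18.GenericImage
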