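import Mathlib
import Groth.Prelude
import Groth.Agent.S2502

set_option autoImplicit false
universe u
open CategoryTheory CategoryTheory.Limits AlgebraicGeometry

namespace Groth.Agent.Helper18.GeomConnSub

/-- composing a geometrically connected morphism with a surjective closed immersion. -/
theorem geomConn_comp {Y' Y S : Scheme.{u}} (j : Y' ⟶ Y) [IsClosedImmersion j] [Surjective j]
    (g : Y ⟶ S) [GeometricallyConnected g] : GeometricallyConnected (j ≫ g) := by
  refine ⟨geometrically_iff_of_isClosedUnderIsomorphisms.mpr fun K _ y => ?_⟩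
  haveI hX : ConnectedSpace ↥(pullback g y) :=
    GeometricallyConnected.geometrically_connectedSpace _ _ _ (IsPullback.of_hasPullback g y)
  let q := pullback.snd j (pullback.fst g y)
  have hq : Topology.IsClosedEmbedding q := q.isClosedEmbedding
  have hs : Function.Surjective q := q.surjective
  let e : ↥(pullback j (pullback.fst g y)) ≃ₜ ↥(pullback g y) :=
    (Equiv.ofBijective q ⟨hq.injective, hs⟩).toHomeomorphOfIsInducing hq.isInducing
  haveI hW : ConnectedSpace ↥(pullback j (pullback.fst g y)) :=
    e.symm.surjective.connectedSpace e.symm.continuous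
  exact (pullbackRightPullbackFstIso g y j).hom.homeomorph.surjective.connectedSpace
    (pullbackRightPullbackFstIso g y j).hom.homeomorph.continuous

/-- the preimage in `X_K` of the range of a geometrically connected `Z' ⟶ X`. -/
theorem isConnected_preimage_range {k K : Type u} [Field k] [Field K] [Algebra k K]
    {X Z : Scheme.{u}} (f : X ⟶ Spec (CommRingCat.of k)) (ι : Z ⟶ X)
    [GeometricallyConnected (ι ≫ f)] :
    _root_.IsConnected (⇑(FBase.bcπ f K) ⁻¹' Set.range ι) := by
  let s := Spec.map (CommRingCat.ofHom (algebraMap k K))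
  let π : FBase.bc f K ⟶ X := FBase.bcπ f K
  have h1 : IsPullback (pullback.snd ι π) (pullback.fst ι π) π ι :=
    (IsPullback.of_hasPullback ι π).flip
  have h2 : IsPullback (FBase.bcStr f K) π s f := (IsPullback.of_hasPullback f s).flip
  have h3 := (h1.paste_horiz h2).flip
  haveI : ConnectedSpace ↥(pullback ι π) :=
    GeometricallyConnected.geometrically_connectedSpace (f := ι ≫ f) _ _ _ h3
  have h4 : Set.range (pullback.snd ι π) = ⇑π ⁻¹' Set.range ι := Scheme.Pullback.range_snd ι π
  rw [show (⇑(FBase.bcπ f K) ⁻¹' Set.range ι) = Set.range (pullback.snd ι π) from h4.symm]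
  exact isConnected_range (pullback.snd ι π).continuous

/-- closed connected subset `C` of `X`, a nonempty geometrically connected `Y` mapping into `C`. -/
theorem isConnected_preimage_closed {k K : Type u} [Field k] [Field K] [Algebra k K]
    {X Y : Scheme.{u}} (f : X ⟶ Spec (CommRingCat.of k)) (h : Y ⟶ X) [GeometricallyConnected (h ≫ f)]
    [Nonempty Y] (C : Set X) (hC : IsClosed C) (hconn : _root_.IsConnected C)
    (hYC : Set.range h ⊆ C) :
    _root_.IsConnected (⇑(FBase.bcπ f K) ⁻¹' C) := by
  let I := Scheme.IdealSheafData.vanishingIdeal (X := X) ⟨C, hC⟩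
  let ι := I.subschemeι
  have hr : Set.range ι = C := by
    rw [Scheme.IdealSheafData.range_subschemeι, Scheme.IdealSheafData.coe_support_vanishingIdeal]
    rfl
  haveI : ConnectedSpace ↥I.subscheme := by
    have e : ↥I.subscheme ≃ₜ Set.range ι := ι.isEmbedding.toHomeomorph
    have : ConnectedSpace (Set.range ι) := by
      rw [hr]; exact isConnected_iff_connectedSpace.mp hconn
    exact e.symm.surjective.connectedSpace e.symm.continuous
  -- Y' = Y ×_X Z
  let j := pullback.fst h ι
  haveI : Surjective j := by
    refine ⟨fun y => ?_⟩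
    have : y ∈ ⇑h ⁻¹' Set.range ι := by rw [hr]; exact hYC ⟨y, rfl⟩
    rw [← Scheme.Pullback.range_fst h ι] at this
    exact this
  haveI : GeometricallyConnected (j ≫ h ≫ f) := geomConn_comp j (h ≫ f)
  haveI : Nonempty ↥(pullback h ι) := by
    obtain ⟨y⟩ := ‹Nonempty Y›
    obtain ⟨z, _⟩ := j.surjective y
    exact ⟨z⟩
  haveI : GeometricallyConnected (pullback.snd h ι ≫ ι ≫ f) := by
    have : pullback.snd h ι ≫ ι ≫ f = j ≫ h ≫ f := by
      rw [← Category.assoc, ← pullback.condition, Category.assoc]
    rw [this]; infer_instance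
  haveI : GeometricallyConnected (ι ≫ f) := Groth.Agent.S2502.result (pullback.snd h ι) (ι ≫ f)
  rw [← hr]
  exact isConnected_preimage_range f ι

/-- a closed immersion whose range has connected preimage in every `X_L` is geometrically connected. -/
theorem geomConn_of_preimage {k : Type u} [Field k] {X Z : Scheme.{u}}
    (f : X ⟶ Spec (CommRingCat.of k)) (ι : Z ⟶ X) [IsClosedImmersion ι]
    (hgi : ∀ (L : Type u) [Field L] [Algebra k L],
      _root_.IsConnected (⇑(FBase.bcπ f L) ⁻¹' Set.range ι)) :
    GeometricallyConnected (ι ≫ f) := by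
  refine ⟨geometrically_iff_of_commRing_of_isClosedUnderIsomorphisms.mpr fun K _ _ => ?_⟩
  let s := Spec.map (CommRingCat.ofHom (algebraMap k K))
  let π : FBase.bc f K ⟶ X := FBase.bcπ f K
  let q := pullback.snd ι π
  have hq : Topology.IsClosedEmbedding q := q.isClosedEmbedding
  have hr : Set.range q = ⇑π ⁻¹' Set.range ι := Scheme.Pullback.range_snd ι π
  have hW : ConnectedSpace ↥(pullback ι π) := by
    have e : ↥(pullback ι π) ≃ₜ Set.range q := hq.isEmbedding.toHomeomorph
    have : ConnectedSpace (Set.range q) := by
      rw [hr]; exact isConnected_iff_connectedSpace.mp (hgi K)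
    exact e.symm.surjective.connectedSpace e.symm.continuous
  haveI : ConnectedSpace ↥(pullback ι (pullback.fst f s)) := hW
  exact (pullbackRightPullbackFstIso f s ι).hom.homeomorph.surjective.connectedSpace
    (pullbackRightPullbackFstIso f s ι).hom.homeomorph.continuous

end Groth.Agent.Helper18.GeomConnSub
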