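import Mathlib
import Groth.Prelude.Def_MoreMor
import Groth.Prelude.Def_EGA43
import Groth.Agent.Lib.Helper18.GeomFibreCount

set_option autoImplicit false

namespace Groth.Agent.Helper18.Weighting

open AlgebraicGeometry CategoryTheory Limits IsLocalRing Topology

universe u

variable {X Y : Scheme.{u}}

theorem lqf_of_etale (f : X ⟶ Y) [Etale f] : LocallyQuasiFinite f := by
  rw [HasRingHomProperty.iff_appLE (P := @LocallyQuasiFinite)]
  intro U V e
  have h := Etale.etale_appLE f U.2 V.2 e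
  letI := (f.appLE U V e).hom.toAlgebra
  haveI : Algebra.Etale Γ(Y, U) Γ(X, V) := h
  exact (inferInstance : Algebra.QuasiFinite Γ(Y, U) Γ(X, V))

theorem discreteTopology_geomFiber (f : X ⟶ Y) [LocallyOfFiniteType f] [LocallyQuasiFinite f]
    (y : Y) : DiscreteTopology ↑(MoreMor.geomFiber f y) := by
  obtain ⟨h, π, hc⟩ := isPullback_geomFiber f y
  haveI : LocallyOfFiniteType π :=
    MorphismProperty.of_isPullback (P := @LocallyOfFiniteType) hc inferInstance
  haveI : LocallyQuasiFinite π :=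
    MorphismProperty.of_isPullback (P := @LocallyQuasiFinite) hc inferInstance
  haveI hsub : Subsingleton ↑(Spec (CommRingCat.of (SeparableClosure (Y.residueField y)))) :=
    show Subsingleton (PrimeSpectrum (SeparableClosure (Y.residueField y))) from inferInstance
  rw [← isDiscrete_univ_iff]
  have h1 := π.isDiscrete_preimage_singleton
    (closedPoint (SeparableClosure (Y.residueField y)))
  have h2 : π ⁻¹' {closedPoint (SeparableClosure (Y.residueField y))} = Set.univ := by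
    ext z
    simp only [Set.mem_preimage, Set.mem_univ, iff_true]
    exact Subsingleton.elim _ _
  convert h1
  exact h2.symm

theorem card_geomFiber_eq (f : X ⟶ Y) [LocallyOfFiniteType f] [LocallyQuasiFinite f] (y : Y) :
    ENat.card ↥(MoreMor.geomFiber f y) = MoreMor.nGeomConnComp f y := by
  haveI := discreteTopology_geomFiber f y
  unfold MoreMor.nGeomConnComp
  rw [card_connectedComponents_of_discrete]

lemma uniGeo_of_unique {U V : Scheme.{u}} (π : U ⟶ V) [LocallyQuasiFinite π]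
    [LocallyOfFiniteType π] (t : V)
    (hsub : ∀ z z' : U, π z = t → π z' = t → z = z')
    (hs : ∀ z : U, π z = t → sdeg π z = 1) : UniGeo π t := by
  intro Ω _ _ τ hpt
  constructor
  intro a a'
  have hFsub : ∀ z z' : {z : U // π z = τ (closedPoint Ω)}, z = z' := by
    intro z z'
    apply Subtype.ext
    exact hsub _ _ (z.2.trans hpt) (z'.2.trans hpt)
  have hcard := card_liftFibre π Ω τ (liftPt π Ω τ a)
  rw [hs (liftPt π Ω τ a).1 ((liftPt π Ω τ a).2.trans hpt)] at hcard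
  haveI hsub' := (Nat.card_eq_one_iff_unique.mp hcard).1
  have e1 : (⟨a, rfl⟩ : {ū // liftPt π Ω τ ū = liftPt π Ω τ a}) =
      ⟨a', hFsub _ _⟩ := Subsingleton.elim _ _
  exact congrArg Subtype.val e1

lemma isOpen_uniGeo {O V : Scheme.{u}} (ρ : O ⟶ V) [IsFinite ρ] [Etale ρ] :
    ∃ N : Set V, IsOpen N ∧ (∀ v ∈ N, UniGeo ρ v) ∧ (∀ v, UniGeo ρ v → v ∈ N) := by
  have hC : IsClosed (Set.range (pullback.diagonal ρ))ᶜ :=
    (pullback.diagonal ρ).isOpenEmbedding.isOpen_range.isClosed_compl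
  refine ⟨((pullback.fst ρ ρ ≫ ρ) '' (Set.range (pullback.diagonal ρ))ᶜ)ᶜ,
    ((pullback.fst ρ ρ ≫ ρ).isClosedMap _ hC).isOpen_compl, ?_, ?_⟩
  · intro v hv Ω _ _ τ hpt
    constructor
    rintro ⟨ū₁, h₁⟩ ⟨ū₂, h₂⟩
    apply Subtype.ext
    show ū₁ = ū₂
    have h12 : ū₁ ≫ ρ = ū₂ ≫ ρ := h₁.trans h₂.symm
    have hc : pullback.lift ū₁ ū₂ h12 (closedPoint Ω) ∈ Set.range (pullback.diagonal ρ) := by
      by_contra hcon
      apply hv
      refine ⟨_, hcon, ?_⟩
      rw [← Scheme.Hom.comp_apply, ← Category.assoc, pullback.lift_fst, h₁, hpt]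
    have hrange : Set.range (pullback.lift ū₁ ū₂ h12) ⊆ Set.range (pullback.diagonal ρ) := by
      rintro _ ⟨z, rfl⟩
      have hz : z = closedPoint Ω :=
        @Subsingleton.elim _ (show Subsingleton (PrimeSpectrum Ω) from inferInstance) _ _
      rw [hz]
      exact hc
    have hl := IsOpenImmersion.lift_fac (pullback.diagonal ρ) (pullback.lift ū₁ ū₂ h12) hrange
    have e1 : IsOpenImmersion.lift (pullback.diagonal ρ) (pullback.lift ū₁ ū₂ h12) hrange = ū₁ := by
      have h3 := congrArg (fun m => m ≫ pullback.fst ρ ρ) hl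
      simp only [Category.assoc, pullback.diagonal_fst, Category.comp_id,
        pullback.lift_fst] at h3
      exact h3
    have e2 : IsOpenImmersion.lift (pullback.diagonal ρ) (pullback.lift ū₁ ū₂ h12) hrange = ū₂ := by
      have h3 := congrArg (fun m => m ≫ pullback.snd ρ ρ) hl
      simp only [Category.assoc, pullback.diagonal_snd, Category.comp_id,
        pullback.lift_snd] at h3
      exact h3
    exact e1.symm.trans e2
  · rintro v hv ⟨c, hcC, hcv⟩
    obtain ⟨Ω, _, _, zb, hpt⟩ : ∃ (Ω : Type u) (_ : Field Ω) (_ : IsAlgClosed Ω)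
        (zb : Spec (CommRingCat.of Ω) ⟶ pullback ρ ρ), zb (closedPoint Ω) = c :=
      ⟨AlgebraicClosure ((pullback ρ ρ).residueField c), inferInstance, inferInstance,
        Spec.map (CommRingCat.ofHom (algebraMap ((pullback ρ ρ).residueField c)
          (AlgebraicClosure ((pullback ρ ρ).residueField c)))) ≫
          (pullback ρ ρ).fromSpecResidueField c,
        Scheme.fromSpecResidueField_apply c _⟩
    have hτ : (zb ≫ pullback.fst ρ ρ ≫ ρ) (closedPoint Ω) = v := by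
      rw [Scheme.Hom.comp_apply, hpt]
      exact hcv
    haveI := hv Ω (zb ≫ pullback.fst ρ ρ ≫ ρ) hτ
    have h2 : (zb ≫ pullback.snd ρ ρ) ≫ ρ = zb ≫ pullback.fst ρ ρ ≫ ρ := by
      rw [Category.assoc, ← pullback.condition]
    have h12 : (⟨zb ≫ pullback.fst ρ ρ, Category.assoc _ _ _⟩ :
        {ū : Spec (CommRingCat.of Ω) ⟶ O // ū ≫ ρ = zb ≫ pullback.fst ρ ρ ≫ ρ}) =
        ⟨zb ≫ pullback.snd ρ ρ, h2⟩ := Subsingleton.elim _ _
    have h12' : zb ≫ pullback.fst ρ ρ = zb ≫ pullback.snd ρ ρ := congrArg Subtype.val h12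
    have hzb : zb = (zb ≫ pullback.fst ρ ρ) ≫ pullback.diagonal ρ := by
      apply pullback.hom_ext
      · rw [Category.assoc, pullback.diagonal_fst, Category.comp_id]
      · rw [Category.assoc, pullback.diagonal_snd, Category.comp_id, h12']
    apply hcC
    rw [← hpt, hzb, Scheme.Hom.comp_apply]
    exact ⟨_, rfl⟩

/-- For a finite étale morphism the number of geometric points of the fibres is locally
constant. -/
theorem locConst_count_finite_etale (f : X ⟶ Y) [IsFinite f] [Etale f] :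
    IsLocallyConstant (MoreMor.fibreIntegral f (fun _ => 1)) := by
  classical
  have hfin : ∀ y : Y, (f ⁻¹' {y}).Finite := fun y => f.finite_preimage_singleton y
  rw [IsLocallyConstant.iff_exists_open]
  intro y₀
  obtain ⟨V, g, v₀, hg, hgv, K, hK, O, hOfin, hOdisj, hOcov, hOpt⟩ :=
    etale_local_structure_pi f hfin y₀
  haveI := hg
  haveI := hK
  have hpb : IsPullback (pullback.fst f g) (pullback.snd f g) f g :=
    IsPullback.of_hasPullback f g
  have hfin' : ∀ v : V, ((pullback.snd f g) ⁻¹' {v}).Finite :=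
    finite_fibre_baseChange f hfin _ _ _ hpb
  have hbc : ∀ v : V, MoreMor.fibreIntegral (pullback.snd f g) (fun _ => 1) v =
      MoreMor.fibreIntegral f (fun _ => 1) (g v) :=
    fun v => fibreIntegral_baseChange f hfin _ _ _ hpb (fun _ => 1) v
  choose q hqO hqv hquniq hqs using hOpt
  have hWcl : IsClosed ((⋃ k, (O k : Set ↑(pullback f g)))ᶜ) :=
    (isOpen_iUnion fun k => (O k).isOpen).isClosed_compl
  have hN₁ : IsOpen ((pullback.snd f g '' (⋃ k, (O k : Set ↑(pullback f g)))ᶜ)ᶜ) :=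
    ((pullback.snd f g).isClosedMap _ hWcl).isOpen_compl
  have hv₀N₁ : v₀ ∈ (pullback.snd f g '' (⋃ k, (O k : Set ↑(pullback f g)))ᶜ)ᶜ := by
    rintro ⟨p, hp, hpv⟩
    obtain ⟨k, hk⟩ := hOcov p hpv
    exact hp (Set.mem_iUnion.mpr ⟨k, hk⟩)
  have hk : ∀ k, ∃ N : Set V, IsOpen N ∧ v₀ ∈ N ∧ ∀ v ∈ N,
      MoreMor.fibreIntegral ((O k).ι ≫ pullback.snd f g) (fun _ => 1) v = 1 := by
    intro k
    haveI := hOfin k
    obtain ⟨N₂, hN₂o, hN₂a, hN₂b⟩ := isOpen_uniGeo ((O k).ι ≫ pullback.snd f g)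
    have hu₀ : UniGeo ((O k).ι ≫ pullback.snd f g) v₀ := by
      refine uniGeo_of_unique _ v₀ ?_ ?_
      · intro z z' hz hz'
        apply Subtype.ext
        rw [hquniq k z.1 z.2 hz, hquniq k z'.1 z'.2 hz']
      · intro z hz
        rw [sdeg_comp_of_isOpenImmersion]
        have hzq : (O k).ι z = q k := hquniq k z.1 z.2 hz
        rw [hzq]
        exact hqs k
    refine ⟨N₂ ∩ ((O k).ι ≫ pullback.snd f g) '' Set.univ,
      hN₂o.inter (((O k).ι ≫ pullback.snd f g).isOpenMap _ isOpen_univ),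
      ⟨hN₂b v₀ hu₀, ⟨⟨q k, hqO k⟩, trivial, hqv k⟩⟩, ?_⟩
    rintro v ⟨hv1, ⟨p, -, hpv⟩⟩
    obtain ⟨hu1, hu2⟩ := (hN₂a v hv1).unique
    rw [fibreIntegral_of_unique _ _ v p hpv (fun z hz => hu1 z p hz hpv), hu2 p hpv]
    norm_num
  choose Nk hNko hNkv hNk1 using hk
  refine ⟨g '' ((pullback.snd f g '' (⋃ k, (O k : Set ↑(pullback f g)))ᶜ)ᶜ ∩ ⋂ k, Nk k),
    g.isOpenMap _ (hN₁.inter (isOpen_iInter_of_finite hNko)),
    ⟨v₀, ⟨hv₀N₁, Set.mem_iInter.mpr hNkv⟩, hgv⟩, ?_⟩
  rintro _ ⟨v, ⟨hv1, hv2⟩, rfl⟩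
  rw [← hgv, ← hbc v, ← hbc v₀]
  have hcov_v : ∀ p, pullback.snd f g p = v → ∃ k, p ∈ O k := by
    intro p hp
    by_contra hcon
    refine hv1 ⟨p, fun hmem => hcon ?_, hp⟩
    obtain ⟨k, hk⟩ := Set.mem_iUnion.mp hmem
    exact ⟨k, hk⟩
  rw [← sum_fibreIntegral_opens_eq (pullback.snd f g) (fun _ => 1) O hOdisj v (hfin' v) hcov_v,
    ← sum_fibreIntegral_opens_eq (pullback.snd f g) (fun _ => 1) O hOdisj v₀ (hfin' v₀)
      (fun p hp => hOcov p hp)]
  refine Finset.sum_congr rfl (fun k _ => ?_)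
  exact (hNk1 k v (Set.mem_iInter.mp hv2 k)).trans (hNk1 k v₀ (hNkv k)).symm

/-- S3411. -/
theorem nGeom_le_nhds (f : X ⟶ Y) [IsSeparated f] [LocallyQuasiFinite f] [LocallyOfFiniteType f]
    [QuasiCompact f] (y : Y) (h : ∀ x : X, f x = y → EGA43.IsUnivOpenAt f x) :
    ∃ V ∈ nhds y, ∀ z ∈ V, MoreMor.nGeomConnComp f y ≤ MoreMor.nGeomConnComp f z := by
  have hfin : ∀ y : Y, (f ⁻¹' {y}).Finite := fun y => f.finite_preimage_singleton y
  obtain ⟨⟨W, hWo, hyW, hW⟩, _⟩ := count_local f hfin y h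
  refine ⟨W, hWo.mem_nhds hyW, fun z hz => ?_⟩
  rw [(nGeomConnComp_eq_integral f hfin y).1, (nGeomConnComp_eq_integral f hfin z).1]
  exact_mod_cast Int.toNat_le_toNat (hW z hz)

theorem nGeom_finite_at (f : X ⟶ Y) [IsSeparated f] [LocallyQuasiFinite f]
    [LocallyOfFiniteType f] [QuasiCompact f] (y₀ : Y)
    (h : ∀ x : X, f x = y₀ → EGA43.IsUnivOpenAt f x)
    (hc : ∃ V ∈ 𝓝 y₀, ∀ z ∈ V, MoreMor.nGeomConnComp f z = MoreMor.nGeomConnComp f y₀) :
    ∃ U : Y.Opens, y₀ ∈ U ∧ IsFinite (f ∣_ U) := by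
  have hfin : ∀ y : Y, (f ⁻¹' {y}).Finite := fun y => f.finite_preimage_singleton y
  obtain ⟨N, hN, hNeq⟩ := hc
  refine (count_local f hfin y₀ h).2 ⟨N, hN, fun y hy => ?_⟩
  have h1 := hNeq y hy
  rw [(nGeomConnComp_eq_integral f hfin y).1, (nGeomConnComp_eq_integral f hfin y₀).1] at h1
  have h2 : (MoreMor.fibreIntegral f (fun _ => 1) y).toNat =
      (MoreMor.fibreIntegral f (fun _ => 1) y₀).toNat := by exact_mod_cast h1
  have h3 := Int.toNat_of_nonneg (nGeomConnComp_eq_integral f hfin y).2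
  have h4 := Int.toNat_of_nonneg (nGeomConnComp_eq_integral f hfin y₀).2
  rw [← h3, ← h4, h2]

/-- S5051. -/
theorem etale_lsc (f : X ⟶ Y) [Etale f] [IsSeparated f] [LocallyOfFiniteType f]
    [QuasiCompact f] :
    LowerSemicontinuous (fun y : Y => ENat.card ↥(MoreMor.geomFiber f y)) := by
  haveI := lqf_of_etale f
  have hfun : (fun y : Y => ENat.card ↥(MoreMor.geomFiber f y)) =
      (fun y : Y => MoreMor.nGeomConnComp f y) := funext fun y => card_geomFiber_eq f y
  rw [hfun]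
  intro y₀
  exact (nGeom_lsc_at f y₀ (fun x _ => isUnivOpenAt_of_universallyOpen f x)).1

/-- S5052. -/
theorem etale_const_iff_finite (f : X ⟶ Y) [Etale f] [IsSeparated f] [LocallyOfFiniteType f]
    [QuasiCompact f] (y : Y) :
    (∃ U : Y.Opens, y ∈ U ∧ ∀ y' : Y, y' ∈ U →
        ENat.card ↥(MoreMor.geomFiber f y') = ENat.card ↥(MoreMor.geomFiber f y)) ↔
      ∃ U : Y.Opens, y ∈ U ∧ IsFinite (f ∣_ U) := by
  haveI := lqf_of_etale f
  have hfin : ∀ y : Y, (f ⁻¹' {y}).Finite := fun y => f.finite_preimage_singleton y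
  constructor
  · rintro ⟨U, hyU, hU⟩
    refine nGeom_finite_at f y (fun x _ => isUnivOpenAt_of_universallyOpen f x)
      ⟨(U : Set Y), U.isOpen.mem_nhds hyU, fun z hz => ?_⟩
    rw [← card_geomFiber_eq, ← card_geomFiber_eq]
    exact hU z hz
  · rintro ⟨U, hyU, hU⟩
    haveI := hU
    have hpb : IsPullback (f ⁻¹ᵁ U).ι (f ∣_ U) f U.ι := (isPullback_morphismRestrict f U).flip
    haveI : Etale (f ∣_ U) := MorphismProperty.of_isPullback (P := @Etale) hpb inferInstance
    have hlc := locConst_count_finite_etale (f ∣_ U)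
    have hbc : ∀ z : ↥(U : Scheme.{u}), MoreMor.fibreIntegral (f ∣_ U) (fun _ => 1) z =
        MoreMor.fibreIntegral f (fun _ => 1) (U.ι z) :=
      fun z => fibreIntegral_baseChange f hfin _ _ _ hpb (fun _ => 1) z
    have hNo : IsOpen {z : ↥(U : Scheme.{u}) | MoreMor.fibreIntegral (f ∣_ U) (fun _ => 1) z =
        MoreMor.fibreIntegral (f ∣_ U) (fun _ => 1) ⟨y, hyU⟩} := hlc.isOpen_fiber _
    refine ⟨U.ι ''ᵁ ⟨_, hNo⟩, ⟨⟨y, hyU⟩, rfl, rfl⟩, ?_⟩
    rintro y' ⟨z, hz, rfl⟩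
    show ENat.card ↥(MoreMor.geomFiber f (U.ι z)) = ENat.card ↥(MoreMor.geomFiber f y)
    have hz' : MoreMor.fibreIntegral (f ∣_ U) (fun _ => 1) z =
        MoreMor.fibreIntegral (f ∣_ U) (fun _ => 1) ⟨y, hyU⟩ := hz
    have e : MoreMor.fibreIntegral f (fun _ => 1) (U.ι z) =
        MoreMor.fibreIntegral f (fun _ => 1) y := by
      rw [← hbc z, hz', hbc]
      rfl
    rw [card_geomFiber_eq, card_geomFiber_eq, (nGeomConnComp_eq_integral f hfin _).1,
      (nGeomConnComp_eq_integral f hfin y).1, e]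

/-- S5053. -/
theorem etale_finite_iff_const [ConnectedSpace ↥Y] (f : X ⟶ Y) [Etale f] [IsSeparated f]
    [LocallyOfFiniteType f] [QuasiCompact f] :
    IsFinite f ↔ ∃ n : ℕ∞, ∀ y : Y, ENat.card ↥(MoreMor.geomFiber f y) = n := by
  haveI := lqf_of_etale f
  have hfin : ∀ y : Y, (f ⁻¹' {y}).Finite := fun y => f.finite_preimage_singleton y
  constructor
  · intro hf
    haveI := hf
    have hlc := locConst_count_finite_etale f
    obtain ⟨y₀⟩ : Nonempty ↥Y := inferInstance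
    refine ⟨ENat.card ↥(MoreMor.geomFiber f y₀), fun y => ?_⟩
    rw [card_geomFiber_eq, card_geomFiber_eq, (nGeomConnComp_eq_integral f hfin y).1,
      (nGeomConnComp_eq_integral f hfin y₀).1, hlc.apply_eq_of_preconnectedSpace y y₀]
  · rintro ⟨n, hn⟩
    apply IsZariskiLocalAtTarget.of_forall_exists_morphismRestrict (P := @IsFinite)
    intro y
    refine nGeom_finite_at f y (fun x _ => isUnivOpenAt_of_universallyOpen f x)
      ⟨Set.univ, Filter.univ_mem, fun z _ => ?_⟩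
    rw [← card_geomFiber_eq, ← card_geomFiber_eq, hn z, hn y]

end Groth.Agent.Helper18.Weighting
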