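import Mathlib
import Groth.Prelude

set_option autoImplicit false

namespace Groth.Agent.Helper18.GraphLift

open AlgebraicGeometry CategoryTheory Limits

universe u

/-- A section of an etale morphism is an open immersion. -/
lemma isOpenImmersion_of_isSection {A B : Scheme.{u}} (s : A ⟶ B) (r : B ⟶ A) [Etale r]
    (hs : s ≫ r = 𝟙 A) : IsOpenImmersion s := by
  haveI : Mono (s ≫ r) := by rw [hs]; infer_instance
  haveI : Mono s := mono_of_mono s r
  haveI : Etale (s ≫ r) := by rw [hs]; infer_instance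
  haveI : Etale s := Etale.of_comp s r
  exact IsOpenImmersion.of_flat_of_mono s

/-- Scheme level statement: a morphism between the base changes to a closed subscheme of two etale
schemes is induced, on an open subscheme `W` of the fibre product, by the two projections. -/
theorem main {Z X U₀ U₀' : Scheme.{u}} (i : Z ⟶ X) [IsClosedImmersion i] (υ : U₀ ⟶ X) [Etale υ]
    (υ' : U₀' ⟶ X) [Etale υ'] (h : pullback υ i ⟶ pullback υ' i)
    (hh : h ≫ pullback.snd υ' i = pullback.snd υ i) :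
    ∃ (W : (pullback υ υ').Opens) (ρ : pullback υ i ⟶ pullback (W.ι ≫ pullback.fst υ υ' ≫ υ) i),
      IsIso ρ ∧
      ρ ≫ pullback.lift (pullback.fst (W.ι ≫ pullback.fst υ υ' ≫ υ) i ≫ W.ι ≫ pullback.fst υ υ')
        (pullback.snd (W.ι ≫ pullback.fst υ υ' ≫ υ) i)
        (by simp only [Category.assoc]; exact pullback.condition) = 𝟙 _ ∧
      ρ ≫ pullback.lift (pullback.fst (W.ι ≫ pullback.fst υ υ' ≫ υ) i ≫ W.ι ≫ pullback.snd υ υ')
        (pullback.snd (W.ι ≫ pullback.fst υ υ' ≫ υ) i)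
        (by
          simp only [Category.assoc]
          rw [← pullback.condition (f := υ) (g := υ')]
          exact pullback.condition) = h := by
  let π : pullback υ υ' ⟶ X := pullback.fst υ υ' ≫ υ
  have hcond : pullback.fst υ i ≫ υ = (h ≫ pullback.fst υ' i) ≫ υ' := by
    rw [pullback.condition, Category.assoc, pullback.condition, ← Category.assoc, hh]
  let γ : pullback υ i ⟶ pullback υ υ' := pullback.lift (pullback.fst υ i) (h ≫ pullback.fst υ' i) hcond
  have hγ1 : γ ≫ pullback.fst υ υ' = pullback.fst υ i := pullback.lift_fst _ _ _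
  have hγ2 : γ ≫ pullback.snd υ υ' = h ≫ pullback.fst υ' i := pullback.lift_snd _ _ _
  have hγπ : γ ≫ π = pullback.snd υ i ≫ i := by
    change γ ≫ pullback.fst υ υ' ≫ υ = _
    rw [← Category.assoc, hγ1, pullback.condition]
  let j : pullback π i ⟶ pullback υ υ' := pullback.fst π i
  let r : pullback π i ⟶ pullback υ i :=
    pullback.lift (j ≫ pullback.fst υ υ') (pullback.snd π i) (by
      rw [Category.assoc]
      exact pullback.condition)
  have hr1 : r ≫ pullback.fst υ i = j ≫ pullback.fst υ υ' := pullback.lift_fst _ _ _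
  have hr2 : r ≫ pullback.snd υ i = pullback.snd π i := pullback.lift_snd _ _ _
  haveI : Etale π := inferInstanceAs (Etale (pullback.fst υ υ' ≫ υ))
  haveI : Etale (r ≫ pullback.snd υ i) := by rw [hr2]; infer_instance
  haveI : Etale r := Etale.of_comp r (pullback.snd υ i)
  let γZ : pullback υ i ⟶ pullback π i := pullback.lift γ (pullback.snd υ i) hγπ
  have hγZ1 : γZ ≫ j = γ := pullback.lift_fst _ _ _
  have hγZ2 : γZ ≫ pullback.snd π i = pullback.snd υ i := pullback.lift_snd _ _ _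
  have hsec : γZ ≫ r = 𝟙 _ := by
    apply pullback.hom_ext
    · rw [Category.assoc, hr1, ← Category.assoc, hγZ1, hγ1, Category.id_comp]
    · rw [Category.assoc, hr2, hγZ2, Category.id_comp]
  haveI : IsOpenImmersion γZ := isOpenImmersion_of_isSection γZ r hsec
  haveI : IsClosedImmersion j := inferInstanceAs (IsClosedImmersion (pullback.fst π i))
  have hWopen : IsOpen (j '' (Set.range γZ)ᶜ)ᶜ := by
    rw [isOpen_compl_iff]
    exact j.isClosedEmbedding.isClosedMap _ γZ.isOpenEmbedding.isOpen_range.isClosed_compl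
  let W : (pullback υ υ').Opens := ⟨(j '' (Set.range γZ)ᶜ)ᶜ, hWopen⟩
  have hW1 : ∀ y, γ y ∈ W := by
    rintro y ⟨t, ht, hty⟩
    apply ht
    rw [← hγZ1, Scheme.Hom.comp_apply] at hty
    exact ⟨y, (j.isClosedEmbedding.injective hty).symm⟩
  have hW2 : ∀ w ∈ W, π w ∈ Set.range i → w ∈ Set.range γ := by
    rintro w hw ⟨z, hz⟩
    obtain ⟨t, ht1, -⟩ := Scheme.Pullback.exists_preimage_pullback (f := π) (g := i) w z hz.symm
    have ht : t ∈ Set.range γZ := by
      by_contra hcon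
      exact hw ⟨t, hcon, ht1⟩
    obtain ⟨y, rfl⟩ := ht
    refine ⟨y, ?_⟩
    rw [← hγZ1, Scheme.Hom.comp_apply]
    exact ht1
  let γ' : pullback υ i ⟶ (W : Scheme.{u}) := IsOpenImmersion.lift W.ι γ (by
    rw [Scheme.Opens.range_ι]
    rintro _ ⟨y, rfl⟩
    exact hW1 y)
  have hγ' : γ' ≫ W.ι = γ := IsOpenImmersion.lift_fac _ _ _
  let ρ : pullback υ i ⟶ pullback (W.ι ≫ pullback.fst υ υ' ≫ υ) i :=
    pullback.lift γ' (pullback.snd υ i) (by
      rw [← Category.assoc, hγ']
      exact hγπ)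
  have hρ1 : ρ ≫ pullback.fst (W.ι ≫ pullback.fst υ υ' ≫ υ) i = γ' := pullback.lift_fst _ _ _
  have hρ2 : ρ ≫ pullback.snd (W.ι ≫ pullback.fst υ υ' ≫ υ) i = pullback.snd υ i :=
    pullback.lift_snd _ _ _
  let aZ : pullback (W.ι ≫ pullback.fst υ υ' ≫ υ) i ⟶ pullback υ i :=
    pullback.lift (pullback.fst (W.ι ≫ pullback.fst υ υ' ≫ υ) i ≫ W.ι ≫ pullback.fst υ υ')
      (pullback.snd (W.ι ≫ pullback.fst υ υ' ≫ υ) i)
      (by simp only [Category.assoc]; exact pullback.condition)
  have haZ1 : aZ ≫ pullback.fst υ i =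
      pullback.fst (W.ι ≫ pullback.fst υ υ' ≫ υ) i ≫ W.ι ≫ pullback.fst υ υ' := pullback.lift_fst _ _ _
  have haZ2 : aZ ≫ pullback.snd υ i = pullback.snd (W.ι ≫ pullback.fst υ υ' ≫ υ) i :=
    pullback.lift_snd _ _ _
  have hρa : ρ ≫ aZ = 𝟙 _ := by
    apply pullback.hom_ext
    · rw [Category.assoc, haZ1, ← Category.assoc, hρ1, ← Category.assoc, hγ', hγ1, Category.id_comp]
    · rw [Category.assoc, haZ2, hρ2, Category.id_comp]
  haveI : Etale (W.ι ≫ pullback.fst υ υ' ≫ υ) := inferInstance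
  haveI : Etale (aZ ≫ pullback.snd υ i) := by rw [haZ2]; infer_instance
  haveI : Etale aZ := Etale.of_comp aZ (pullback.snd υ i)
  haveI : IsOpenImmersion ρ := isOpenImmersion_of_isSection ρ aZ hρa
  haveI : Surjective ρ := by
    refine ⟨fun t => ?_⟩
    have h1 : (W.ι ≫ pullback.fst υ υ' ≫ υ) (pullback.fst (W.ι ≫ pullback.fst υ υ' ≫ υ) i t) =
        i (pullback.snd (W.ι ≫ pullback.fst υ υ' ≫ υ) i t) := by
      have e := pullback.condition (f := W.ι ≫ pullback.fst υ υ' ≫ υ) (g := i)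
      calc _ = (pullback.fst (W.ι ≫ pullback.fst υ υ' ≫ υ) i ≫
            (W.ι ≫ pullback.fst υ υ' ≫ υ)) t := (Scheme.Hom.comp_apply _ _ _).symm
        _ = (pullback.snd (W.ι ≫ pullback.fst υ υ' ≫ υ) i ≫ i) t := by rw [e]
        _ = _ := Scheme.Hom.comp_apply _ _ _
    have h2 : W.ι (pullback.fst (W.ι ≫ pullback.fst υ υ' ≫ υ) i t) ∈ Set.range γ := by
      refine hW2 _ (pullback.fst (W.ι ≫ pullback.fst υ υ' ≫ υ) i t).2
        ⟨pullback.snd (W.ι ≫ pullback.fst υ υ' ≫ υ) i t, ?_⟩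
      rw [← h1, Scheme.Hom.comp_apply]
    obtain ⟨y, hy⟩ := h2
    refine ⟨y, ?_⟩
    haveI : IsClosedImmersion (pullback.fst (W.ι ≫ pullback.fst υ υ' ≫ υ) i) := inferInstance
    apply (pullback.fst (W.ι ≫ pullback.fst υ υ' ≫ υ) i).isClosedEmbedding.injective
    rw [← Scheme.Hom.comp_apply, hρ1]
    apply W.ι.injective
    rw [← Scheme.Hom.comp_apply, hγ']
    exact hy
  haveI : IsIso ρ := (isIso_iff_isOpenImmersion_and_surjective _).mpr ⟨inferInstance, inferInstance⟩
  refine ⟨W, ρ, inferInstance, hρa, ?_⟩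
  apply pullback.hom_ext
  · rw [Category.assoc, pullback.lift_fst, ← Category.assoc, hρ1, ← Category.assoc, hγ', hγ2]
  · rw [Category.assoc, pullback.lift_snd, hρ2, hh]

end Groth.Agent.Helper18.GraphLift
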