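import Mathlib

/-!
# Finite presentation of invariant rings (order invertible)

`fp_of_retraction`: a subalgebra `D ⊆ A` of a finitely presented `R`-algebra `A` such that `A` is
integral over the image of a polynomial ring in `D` and `D` is a `D`-linear retract of `A`, is
finitely presented.  `main`: invariants under a finite group of invertible order.
-/

namespace Groth.Agent.Helper18.InvFP

open Polynomial

universe u v w

theorem fp_of_retraction {R : Type u} {A : Type v} [CommRing R] [CommRing A] [Algebra R A]
    [Algebra.FinitePresentation R A] (D : Subalgebra R A)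
    {ι : Type w} [Finite ι] (c : ι → D)
    (s : Finset A) (hs : Algebra.adjoin R (s : Set A) = ⊤)
    (hint : ∀ a ∈ s, ∃ P : Polynomial (MvPolynomial ι R), P.Monic ∧
        Polynomial.eval₂ (D.val.toRingHom.comp
          (MvPolynomial.aeval c : MvPolynomial ι R →ₐ[R] D).toRingHom) a P = 0)
    (ρ : A →+ D) (hρ : ∀ (d : D) (a : A), ρ ((d : A) * a) = d * ρ a)
    (hρ1 : ∀ d : D, ρ (d : A) = d) :
    Algebra.FinitePresentation R D := by
  classical
  let φ : MvPolynomial ι R →ₐ[R] D := MvPolynomial.aeval c
  letI algD : Algebra (MvPolynomial ι R) D := φ.toRingHom.toAlgebra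
  letI algA : Algebra (MvPolynomial ι R) A := (D.val.toRingHom.comp φ.toRingHom).toAlgebra
  haveI t1 : IsScalarTower R (MvPolynomial ι R) D :=
    IsScalarTower.of_algebraMap_eq' φ.comp_algebraMap.symm
  haveI t2 : IsScalarTower R (MvPolynomial ι R) A :=
    IsScalarTower.of_algebraMap_eq' (by
      ext r
      simp only [RingHom.algebraMap_toAlgebra, RingHom.comp_apply]
      change algebraMap R A r = D.val (φ (algebraMap R _ r))
      rw [φ.commutes]
      rfl)
  haveI t3 : IsScalarTower (MvPolynomial ι R) D A := IsScalarTower.of_algebraMap_eq' rfl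
  have hint' : ∀ a ∈ (s : Set A), IsIntegral (MvPolynomial ι R) a := by
    intro a ha
    obtain ⟨P, hP, h0⟩ := hint a ha
    exact ⟨P, hP, h0⟩
  have hfin : Module.Finite (MvPolynomial ι R) A := by
    have h1 := fg_adjoin_of_finite s.finite_toSet hint'
    have h2 : Algebra.adjoin (MvPolynomial ι R) (s : Set A) = ⊤ := by
      rw [eq_top_iff]
      intro x _
      have hx : x ∈ Algebra.adjoin R (s : Set A) := by rw [hs]; trivial
      exact Algebra.adjoin_le
        (S := (Algebra.adjoin (MvPolynomial ι R) (s : Set A)).restrictScalars R)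
        Algebra.subset_adjoin hx
    rw [h2, Algebra.top_toSubmodule] at h1
    exact ⟨h1⟩
  haveI : Algebra.FinitePresentation (MvPolynomial ι R) A :=
    Algebra.FinitePresentation.of_restrict_scalars_finitePresentation R (MvPolynomial ι R) A
  haveI : Module.FinitePresentation (MvPolynomial ι R) A :=
    Module.FinitePresentation.of_finite_of_finitePresentation (MvPolynomial ι R) A
  let ρl : A →ₗ[MvPolynomial ι R] D :=
    { toFun := ρ
      map_add' := map_add ρ
      map_smul' := fun p a => by
        simp only [RingHom.id_apply, Algebra.smul_def]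
        exact hρ (φ p) a }
  have hsurj : Function.Surjective ρl := fun d => ⟨(d : A), hρ1 d⟩
  have hker : (LinearMap.ker ρl).FG := by
    let incl : D →ₗ[MvPolynomial ι R] A :=
      (IsScalarTower.toAlgHom (MvPolynomial ι R) D A).toLinearMap
    have hk : LinearMap.ker ρl = LinearMap.range (LinearMap.id - incl.comp ρl) := by
      ext x
      constructor
      · intro hx
        refine ⟨x, ?_⟩
        have hx0 : ρl x = 0 := hx
        simp [hx0]
      · rintro ⟨y, rfl⟩
        change ρl (y - incl (ρl y)) = 0
        rw [map_sub]
        have h2 : ρl (incl (ρl y)) = ρl y := hρ1 (ρl y)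
        rw [h2, sub_self]
    rw [hk]
    exact Module.Finite.iff_fg.mp (Module.Finite.range _)
  haveI : Module.FinitePresentation (MvPolynomial ι R) D :=
    Module.finitePresentation_of_surjective ρl hsurj hker
  haveI : Algebra.FinitePresentation (MvPolynomial ι R) D := inferInstance
  exact Algebra.FinitePresentation.trans R (MvPolynomial ι R) D

theorem main {R : Type u} {A : Type v} [CommRing R] [CommRing A]
    [Algebra R A] [Algebra.FinitePresentation R A]
    {G : Type w} [Group G] [Finite G] [MulSemiringAction G A] [SMulCommClass G R A]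
    (hG : IsUnit ((Nat.card G : ℕ) : R)) :
    Algebra.FinitePresentation R (FixedPoints.subalgebra R A G) := by
  classical
  cases nonempty_fintype G
  obtain ⟨s, hs⟩ := (Algebra.FiniteType.of_finitePresentation (R := R) (A := A)).out
  obtain ⟨u, hu⟩ := hG.exists_right_inv
  rw [Nat.card_eq_fintype_card] at hu
  let c : (↥s × Fin (Fintype.card G)) → FixedPoints.subalgebra R A G := fun p =>
    ⟨(MulSemiringAction.charpoly G (p.1 : A)).coeff p.2,
      fun g => MulSemiringAction.smul_coeff_charpoly _ _ g⟩
  have hinv : ∀ a : A, ∀ h : G, h • (u • ∑ g : G, g • a) = u • ∑ g : G, g • a := by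
    intro a h
    rw [smul_comm h u, Finset.smul_sum]
    congr 1
    simp_rw [smul_smul]
    exact Fintype.sum_bijective (fun g => h * g) (Group.mulLeft_bijective h) _ _ (fun g => rfl)
  let ρ : A →+ FixedPoints.subalgebra R A G :=
    { toFun := fun a => ⟨u • ∑ g : G, g • a, fun h => hinv a h⟩
      map_zero' := by
        apply Subtype.ext
        simp
      map_add' := fun a b => by
        apply Subtype.ext
        simp [smul_add, Finset.sum_add_distrib] }
  refine fp_of_retraction (FixedPoints.subalgebra R A G) c s hs ?_ ρ ?_ ?_
  · intro a ha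
    refine ⟨X ^ (Fintype.card G) + ∑ j : Fin (Fintype.card G),
      C (MvPolynomial.X ((⟨a, ha⟩ : ↥s), j)) * X ^ (j : ℕ),
      Polynomial.monic_X_pow_add (Polynomial.degree_sum_fin_lt _), ?_⟩
    rcases subsingleton_or_nontrivial A with hA | hA
    · exact Subsingleton.elim _ _
    have hdeg : (MulSemiringAction.charpoly G a).natDegree = Fintype.card G := by
      rw [MulSemiringAction.charpoly_eq,
        Polynomial.natDegree_prod_of_monic _ _ (fun g _ => Polynomial.monic_X_sub_C _)]
      simp [Polynomial.natDegree_X_sub_C]
    have key : Polynomial.eval a (X ^ (Fintype.card G) +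
        ∑ i ∈ Finset.range (Fintype.card G),
          C ((MulSemiringAction.charpoly G a).coeff i) * X ^ i) = 0 := by
      have h := MulSemiringAction.eval_charpoly G a
      have h2 := (MulSemiringAction.monic_charpoly G a).as_sum
      rw [hdeg] at h2
      rw [← h2]
      exact h
    simp only [Polynomial.eval_add, Polynomial.eval_pow, Polynomial.eval_X,
      Polynomial.eval_finset_sum, Polynomial.eval_mul, Polynomial.eval_C] at key
    rw [Finset.sum_range] at key
    simp only [Polynomial.eval₂_add, Polynomial.eval₂_pow, Polynomial.eval₂_X,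
      Polynomial.eval₂_finset_sum, Polynomial.eval₂_mul, Polynomial.eval₂_C,
      RingHom.comp_apply, AlgHom.toRingHom_eq_coe, RingHom.coe_coe, MvPolynomial.aeval_X,
      Subalgebra.coe_val]
    exact key
  · intro d a
    apply Subtype.ext
    change u • ∑ g : G, g • ((d : A) * a) = (d : A) * (u • ∑ g : G, g • a)
    have hd : ∀ g : G, g • (d : A) = d := fun g => d.2 g
    simp_rw [smul_mul', hd]
    rw [← Finset.mul_sum, mul_smul_comm]
  · intro d
    apply Subtype.ext
    change u • ∑ g : G, g • (d : A) = d
    have hd : ∀ g : G, g • (d : A) = d := fun g => d.2 g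
    simp_rw [hd]
    rw [Finset.sum_const, Finset.card_univ, ← Nat.cast_smul_eq_nsmul R, smul_smul, mul_comm, hu,
      one_smul]

end Groth.Agent.Helper18.InvFP
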