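import Groth.Agent.S0108
import Groth.Prelude.Def_Dix
import Mathlib.Algebra.Homology.DerivedCategory.Ext.ExactSequences

/-!
# Kummer theory at finite level
-/

set_option autoImplicit false
open CategoryTheory CategoryTheory.Limits AlgebraicGeometry Opposite
universe u

namespace Groth.Agent.Helper18.KummerFinite

theorem isUnit_of_invertibleOn (X : Scheme.{u}) (n : ℕ) (hX : Dix.InvertibleOn X n) :
    IsUnit (n : Γ(X, ⊤)) := by
  apply X.toRingedSpace.isUnit_of_isUnit_germ ⊤
  intro x hx
  have h1 : x ∈ X.basicOpen (n : Γ(X, ⊤)) := by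
    rw [← X.evaluation_ne_zero_iff_mem_basicOpen (U := ⊤) x (by trivial), map_natCast]
    exact hX x
  exact (X.toRingedSpace.mem_basicOpen _ x hx).1 h1

theorem main (X : Scheme.{u}) (n : ℕ) (hX : Dix.InvertibleOn X n) (i : ℕ) :
    Set.range ⇑((EtCoh.HF X i).map (EtCoh.muι X n)) =
      {ξ : (EtCoh.HF X i).obj (EtCoh.Gm X) | n • ξ = 0} := by
  have hunit : IsUnit (n : Γ(X, ⊤)) := isUnit_of_invertibleOn X n hX
  haveI : Epi (EtCoh.powMap X n) := Groth.Agent.S0108.result X n hunit
  let S : ShortComplex (EtCoh.Ab X) :=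
    ShortComplex.mk (EtCoh.muι X n) (EtCoh.powMap X n) (kernel.condition _)
  have hS : S.ShortExact :=
    { exact := ShortComplex.exact_of_f_is_kernel _ (kernelIsKernel _)
      mono_f := (inferInstance : Mono (kernel.ι (EtCoh.powMap X n)))
      epi_g := (inferInstance : Epi (EtCoh.powMap X n)) }
  haveI : (EtCoh.HF X i).Additive := by
    unfold EtCoh.HF
    infer_instance
  have hpow : ∀ ξ : (EtCoh.HF X i).obj (EtCoh.Gm X),
      (EtCoh.HF X i).map (EtCoh.powMap X n) ξ = n • ξ := by
    intro ξ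
    have h1 : (EtCoh.HF X i).map (EtCoh.powMap X n) = n • 𝟙 _ := by
      unfold EtCoh.powMap
      rw [Functor.map_nsmul, CategoryTheory.Functor.map_id]
    rw [h1]
    rfl
  ext ξ
  simp only [Set.mem_range, Set.mem_ofPred_eq]
  constructor
  · rintro ⟨x, rfl⟩
    rw [← hpow]
    have h2 : (EtCoh.HF X i).map (EtCoh.muι X n) ≫ (EtCoh.HF X i).map (EtCoh.powMap X n) = 0 := by
      rw [← Functor.map_comp]
      have : EtCoh.muι X n ≫ EtCoh.powMap X n = 0 := kernel.condition _
      rw [this, Functor.map_zero]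
    have h3 := congrArg (fun k => k.hom x) h2
    exact h3
  · intro h
    rw [← hpow] at h
    obtain ⟨x₁, hx₁⟩ := Abelian.Ext.covariant_sequence_exact₂ _ hS (n := i) ξ h
    exact ⟨x₁, hx₁⟩

end Groth.Agent.Helper18.KummerFinite
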