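import Groth.Agent.Lib.Helper18.KummerFinite

/-!
# Primary torsion in the cohomology of `G_m` above the cohomological dimension
-/

set_option autoImplicit false
open CategoryTheory CategoryTheory.Limits AlgebraicGeometry Opposite
universe u

namespace Groth.Agent.Helper18.KummerTorsion

open CategoryTheory.Abelian

variable {X : Scheme.{u}}

theorem map_nsmul_id (A : EtCoh.Ab X) (m i : ℕ) (ξ : EtCoh.H X A i) :
    Sheaf.H.map (m • 𝟙 A) i ξ = m • ξ := by
  have h1 : (EtCoh.HF X i).map (m • 𝟙 A) = m • 𝟙 _ := by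
    haveI : (EtCoh.HF X i).Additive := by
      unfold EtCoh.HF
      infer_instance
    rw [Functor.map_nsmul, CategoryTheory.Functor.map_id]
  have h2 := congrArg (fun k => k.hom ξ) h1
  exact h2

/-- If `H^i` of the kernel and `H^{i-1}` of the cokernel of multiplication by `m` on `A` vanish,
then `H^i(A)` has no `m`-torsion. -/
theorem torsion_zero (A : EtCoh.Ab X) (m i j : ℕ) (hj : j + 1 = i)
    (hK : Subsingleton (EtCoh.H X (kernel (m • 𝟙 A)) i))
    (hC : Subsingleton (EtCoh.H X (cokernel (m • 𝟙 A)) j))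
    (ξ : EtCoh.H X A i) (h : m • ξ = 0) : ξ = 0 := by
  obtain ⟨f, hf⟩ : ∃ f : A ⟶ A, f = m • 𝟙 A := ⟨_, rfl⟩
  rw [← hf] at hK hC
  rw [← map_nsmul_id, ← hf] at h
  let S₁ : ShortComplex (EtCoh.Ab X) :=
    ShortComplex.mk (kernel.ι f) (Abelian.factorThruImage f) (by
      rw [← cancel_mono (Abelian.image.ι f), Category.assoc, Abelian.image.fac, kernel.condition,
        zero_comp])
  have hS₁ : S₁.ShortExact :=
    { exact := by
        apply ShortComplex.exact_of_f_is_kernel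
        refine KernelFork.IsLimit.ofι _ _ (fun {W} k hk => kernel.lift f k ?_)
          (fun k hk => kernel.lift_ι _ _ _) (fun k hk b hb => ?_)
        · have h3 : k ≫ Abelian.factorThruImage f = 0 := hk
          have h4 := congrArg (fun z => z ≫ Abelian.image.ι f) h3
          simp only [Category.assoc, Abelian.image.fac, zero_comp] at h4
          exact h4
        · rw [← cancel_mono (kernel.ι f), hb, kernel.lift_ι]
      mono_f := (inferInstance : Mono (kernel.ι f))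
      epi_g := (inferInstance : Epi (Abelian.factorThruImage f)) }
  let S₂ : ShortComplex (EtCoh.Ab X) :=
    ShortComplex.mk (Abelian.image.ι f) (cokernel.π f) (kernel.condition _)
  have hS₂ : S₂.ShortExact :=
    { exact := ShortComplex.exact_of_f_is_kernel _ (kernelIsKernel _)
      mono_f := (inferInstance : Mono (Abelian.image.ι f))
      epi_g := (inferInstance : Epi (cokernel.π f)) }
  have h1 : (Sheaf.H.map (Abelian.factorThruImage f) i ξ) = 0 := by
    have h2 : Sheaf.H.map (Abelian.image.ι f) i (Sheaf.H.map (Abelian.factorThruImage f) i ξ)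
        = 0 := by
      rw [← Sheaf.H.map_comp_apply, Abelian.image.fac]
      exact h
    obtain ⟨x₃, hx₃⟩ := Abelian.Ext.covariant_sequence_exact₁ _ hS₂
      (Sheaf.H.map (Abelian.factorThruImage f) i ξ) h2 hj
    have : x₃ = 0 := Subsingleton.elim (α := EtCoh.H X (cokernel f) j) _ _
    rw [← hx₃, this, Abelian.Ext.zero_comp]
  obtain ⟨x₁, hx₁⟩ := Abelian.Ext.covariant_sequence_exact₂ _ hS₁ ξ h1
  have : x₁ = 0 := Subsingleton.elim (α := EtCoh.H X (kernel f) i) _ _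
  rw [← hx₁, this, Abelian.Ext.zero_comp]

theorem isPrimaryTorsion_of_nsmul_id (F : EtCoh.Ab X) (ℓ k : ℕ) (h : (ℓ ^ k) • 𝟙 F = 0) :
    Dix.IsPrimaryTorsion ℓ F := by
  intro U s x
  refine ⟨U, 𝟙 U, ⟨x, rfl⟩, k, ?_⟩
  let E : EtCoh.Ab X ⥤ AddCommGrpCat.{u + 1} :=
    sheafToPresheaf _ _ ⋙ (evaluation _ _).obj (op U)
  haveI : E.Additive := by
    dsimp only [E]
    infer_instance
  have h1 : E.map ((ℓ ^ k) • 𝟙 F) = 0 := by rw [h, Functor.map_zero]
  rw [Functor.map_nsmul, CategoryTheory.Functor.map_id] at h1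
  have h2 := congrArg (fun z => z.hom s) h1
  have h3 : F.obj.map (𝟙 U).op s = s := by
    rw [op_id, F.obj.map_id]
    rfl
  rw [h3]
  simpa using h2

theorem nsmul_id_kernel (A : EtCoh.Ab X) (m : ℕ) : m • 𝟙 (kernel (m • 𝟙 A)) = 0 := by
  rw [← cancel_mono (kernel.ι (m • 𝟙 A)), zero_comp, Preadditive.nsmul_comp, Category.id_comp]
  have h := kernel.condition (m • 𝟙 A)
  rwa [Preadditive.comp_nsmul, Category.comp_id] at h

theorem nsmul_id_cokernel (A : EtCoh.Ab X) (m : ℕ) : m • 𝟙 (cokernel (m • 𝟙 A)) = 0 := by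
  rw [← cancel_epi (cokernel.π (m • 𝟙 A)), comp_zero, Preadditive.comp_nsmul, Category.comp_id]
  have h := cokernel.condition (m • 𝟙 A)
  rwa [Preadditive.nsmul_comp, Category.id_comp] at h

theorem main (X : Scheme.{u}) (ℓ : ℕ) (n : ℕ) (hcd : Dix.CohDimLEAt X ℓ n) :
    (∀ i : ℕ, n + 1 < i → ∀ ξ : EtCoh.H X (EtCoh.Gm X) i, (∃ k : ℕ, ℓ ^ k • ξ = 0) → ξ = 0) ∧
    (Dix.InvertibleOn X ℓ → ∀ i : ℕ, n < i → ∀ ξ : EtCoh.H X (EtCoh.Gm X) i,
      (∃ k : ℕ, ℓ ^ k • ξ = 0) → ξ = 0) := by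
  have hK : ∀ k i, n < i → Subsingleton (EtCoh.H X (kernel ((ℓ ^ k) • 𝟙 (EtCoh.Gm X))) i) :=
    fun k i hi => hcd _ (isPrimaryTorsion_of_nsmul_id _ ℓ k (nsmul_id_kernel _ _)) i hi
  have hC : ∀ k i, n < i → Subsingleton (EtCoh.H X (cokernel ((ℓ ^ k) • 𝟙 (EtCoh.Gm X))) i) :=
    fun k i hi => hcd _ (isPrimaryTorsion_of_nsmul_id _ ℓ k (nsmul_id_cokernel _ _)) i hi
  constructor
  · rintro i hi ξ ⟨k, hk⟩
    obtain ⟨j, rfl⟩ : ∃ j, i = j + 1 := ⟨i - 1, by omega⟩
    exact torsion_zero (EtCoh.Gm X) (ℓ ^ k) (j + 1) j rfl (hK k _ (by omega)) (hC k _ (by omega))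
      ξ hk
  · rintro hX i hi ξ ⟨k, hk⟩
    have hX' : Dix.InvertibleOn X (ℓ ^ k) := by
      intro x
      rw [Nat.cast_pow]
      exact pow_ne_zero _ (hX x)
    have hm := Groth.Agent.Helper18.KummerFinite.main X (ℓ ^ k) hX' i
    have hmem : ξ ∈ {ξ : (EtCoh.HF X i).obj (EtCoh.Gm X) | (ℓ ^ k) • ξ = 0} := hk
    rw [← hm] at hmem
    obtain ⟨x, hx⟩ := hmem
    haveI : Subsingleton (EtCoh.H X (EtCoh.mu X (ℓ ^ k)) i) := hK k i hi
    have h0 : x = 0 := Subsingleton.elim (α := EtCoh.H X (EtCoh.mu X (ℓ ^ k)) i) _ _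
    rw [← hx, h0, map_zero]
    rfl

end Groth.Agent.Helper18.KummerTorsion
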