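import Mathlib
import Groth.Prelude.Def_KRR
import Groth.Prelude.Def_W4bkmilneecrracsp2Inv
import Groth.Agent.Lib.Helper8.LambdaSplit
import Groth.Agent.Lib.Helper8.LambdaAdams
import Groth.Agent.Lib.Helper8.LambdaGamma2

set_option autoImplicit false
universe u

namespace Groth.Agent.Helper18.LamSplit

open LambdaRing

section Multiset

variable {R : Type*} [CommRing R]

theorem esymm_zero' (s : Multiset R) : s.esymm 0 = 1 := by
  simp [Multiset.esymm, Multiset.powersetCard_zero_left]

theorem esymm_cons_succ (a : R) (s : Multiset R) (n : ℕ) :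
    (a ::ₘ s).esymm (n + 1) = s.esymm (n + 1) + a * s.esymm n := by
  simp only [Multiset.esymm, Multiset.powersetCard_cons, Multiset.map_add, Multiset.sum_add,
    Multiset.map_map, Function.comp, Multiset.prod_cons]
  rw [Multiset.sum_map_mul_left]

theorem esymm_eq_zero_of_card_lt (s : Multiset R) (n : ℕ) (h : Multiset.card s < n) :
    s.esymm n = 0 := by
  simp [Multiset.esymm, Multiset.powersetCard_eq_empty n h]

theorem esymm_card (s : Multiset R) : s.esymm (Multiset.card s) = s.prod := by
  induction s using Multiset.induction_on with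
  | empty => simp [esymm_zero']
  | cons a t ih =>
    rw [Multiset.card_cons, esymm_cons_succ, ih,
      esymm_eq_zero_of_card_lt t _ (Nat.lt_succ_self _), zero_add, Multiset.prod_cons]

theorem esymm_dual (g : R → R) (s : Multiset R) (hg : ∀ v ∈ s, g v * v = 1) (i : ℕ)
    (hi : i ≤ Multiset.card s) :
    s.esymm i = (s.map g).esymm (Multiset.card s - i) * s.prod := by
  induction s using Multiset.induction_on generalizing i with
  | empty =>
    have : i = 0 := by simpa using hi
    subst this
    simp [esymm_zero']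
  | cons a t ih =>
    have hg' : ∀ v ∈ t, g v * v = 1 := fun v hv => hg v (Multiset.mem_cons_of_mem hv)
    have hga : g a * a = 1 := hg a (Multiset.mem_cons_self a t)
    have hcard : Multiset.card (t.map g) = Multiset.card t := Multiset.card_map g t
    rw [Multiset.card_cons] at hi ⊢
    rw [Multiset.map_cons, Multiset.prod_cons]
    rcases i with _ | j
    · -- i = 0
      rw [esymm_zero', Nat.sub_zero, esymm_cons_succ,
        esymm_eq_zero_of_card_lt (t.map g) _ (by rw [hcard]; exact Nat.lt_succ_self _), zero_add]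
      have h0 := ih hg' 0 (Nat.zero_le _)
      rw [esymm_zero', Nat.sub_zero] at h0
      calc (1 : R) = (g a * a) * 1 := by rw [hga, one_mul]
        _ = (g a * a) * ((t.map g).esymm (Multiset.card t) * t.prod) := by rw [← h0]
        _ = g a * (t.map g).esymm (Multiset.card t) * (a * t.prod) := by ring
    · have hj : j ≤ Multiset.card t := Nat.le_of_succ_le_succ hi
      rw [esymm_cons_succ, Nat.succ_sub_succ]
      rcases Nat.lt_or_ge j (Multiset.card t) with hlt | hge
      · obtain ⟨c, hc⟩ : ∃ c, Multiset.card t - j = c + 1 := ⟨Multiset.card t - j - 1, by omega⟩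
        have hc' : Multiset.card t - (j + 1) = c := by omega
        have h1 := ih hg' j hj
        have h2 := ih hg' (j + 1) hlt
        rw [hc] at h1
        rw [hc'] at h2
        rw [hc, esymm_cons_succ, h1, h2]
        linear_combination (-(t.map g).esymm c * t.prod) * hga
      · have hjn : j = Multiset.card t := le_antisymm hj hge
        subst hjn
        rw [Nat.sub_self, esymm_zero', esymm_eq_zero_of_card_lt t _ (Nat.lt_succ_self _), zero_add,
          esymm_card, one_mul]

theorem sum_neg_one_pow_esymm (s : Multiset R) :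
    ∑ i ∈ Finset.range (Multiset.card s + 1), (-1 : R) ^ i * s.esymm i =
      (s.map (fun v => 1 - v)).prod := by
  have h := Multiset.prod_X_add_C_eq_sum_esymm (s.map Neg.neg)
  have h2 := congrArg (Polynomial.eval 1) h
  rw [Polynomial.eval_multiset_prod, Polynomial.eval_finsetSum, Multiset.map_map,
    Multiset.card_map] at h2
  have h3 : (s.map (fun v => 1 - v)).prod =
      (Multiset.map (Polynomial.eval 1 ∘ fun r => Polynomial.X + Polynomial.C r)
        (Multiset.map Neg.neg s)).prod := by
    rw [Multiset.map_map]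
    congr 1
    refine Multiset.map_congr rfl (fun v _ => ?_)
    simp [sub_eq_add_neg]
  rw [h3, h2]
  refine Finset.sum_congr rfl (fun i _ => ?_)
  rw [Multiset.esymm_neg]
  simp

end Multiset

section Lam

variable {K : Type u} [CommRing K] [LambdaOps K]

theorem lam_succ_zero (k : ℕ) : LambdaOps.lam (k + 1) (0 : K) = 0 := by
  have h := congrArg (PowerSeries.coeff (k + 1)) (Groth.Agent.Helper8.lamSeries_zero (K := K))
  simpa [lamSeries, PowerSeries.coeff_one] using h

theorem lam_succ_line_add (P : PosStructure K) (l x : K) (hl : P.IsLine l) (k : ℕ) :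
    LambdaOps.lam (k + 1) (l + x) = LambdaOps.lam (k + 1) x + l * LambdaOps.lam k x := by
  have h := Groth.Agent.Helper8.lamSeries_add l x
  rw [Groth.Agent.Helper8.lamSeries_line P hl] at h
  have h2 := congrArg (PowerSeries.coeff (k + 1)) h
  rw [add_mul, one_mul, map_add, mul_assoc, PowerSeries.coeff_C_mul,
    PowerSeries.coeff_succ_X_mul] at h2
  simpa [lamSeries] using h2

theorem lam_sum_lines (P : PosStructure K) (s : Multiset K) (hs : ∀ x ∈ s, P.IsLine x) (k : ℕ) :
    LambdaOps.lam k s.sum = s.esymm k := by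
  induction s using Multiset.induction_on generalizing k with
  | empty =>
    rcases k with _ | k
    · simp [LambdaOps.lam_zero, esymm_zero']
    · rw [Multiset.sum_zero, lam_succ_zero, esymm_eq_zero_of_card_lt]
      simp
  | cons a t ih =>
    have ht : ∀ x ∈ t, P.IsLine x := fun x hx => hs x (Multiset.mem_cons_of_mem hx)
    rcases k with _ | k
    · simp [LambdaOps.lam_zero, esymm_zero']
    · rw [Multiset.sum_cons, lam_succ_line_add P a t.sum (hs a (Multiset.mem_cons_self a t)) k,
        ih ht, ih ht, esymm_cons_succ]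

/-- `γ^m(e - m) = (-1)^m λ_{-1}(e)` as soon as `λ^i(e) = 0` for `i > m`. -/
theorem gamma_top (P : PosStructure K) (e : K) (m : ℕ)
    (h : ∀ i, m < i → LambdaOps.lam i e = 0) :
    gamma m (e - (m : K)) =
      (-1 : K) ^ m * ∑ i ∈ Finset.range (m + 1), (-1 : K) ^ i * LambdaOps.lam i e := by
  rw [Groth.Agent.Helper8.gamma_sub_natCast P e m h m, Groth.Agent.Helper8.gammaPoly,
    Polynomial.finsetSum_coeff, Finset.mul_sum]
  refine Finset.sum_congr rfl (fun i hi => ?_)
  have hi' : i ≤ m := Nat.lt_succ_iff.mp (Finset.mem_range.mp hi)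
  have h1 : (1 - Polynomial.X : Polynomial K) ^ (m - i) =
      Polynomial.C ((-1 : K) ^ (m - i)) * (Polynomial.X + Polynomial.C (-1)) ^ (m - i) := by
    rw [map_pow, ← mul_pow]
    congr 1
    simp only [map_neg, map_one]
    ring
  rw [mul_assoc, Polynomial.coeff_C_mul, Polynomial.coeff_X_pow_mul', if_pos hi', h1,
    Polynomial.coeff_C_mul, Polynomial.coeff_X_add_C_pow]
  have h2 : (-1 : K) ^ m = (-1) ^ (m - i) * (-1) ^ i := by
    rw [← pow_add]; congr 1; omega
  have h3 : ((-1 : K) ^ i) * (-1) ^ i = 1 := by rw [← mul_pow]; simp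
  simp only [Nat.sub_self, pow_zero, Nat.choose_self, Nat.cast_one, mul_one]
  rw [h2]
  linear_combination (-(LambdaOps.lam i e) * (-1 : K) ^ (m - i)) * h3

end Lam

section Inv

variable {K : Type u} [CommRing K] [LambdaOps K]

theorem inv_zero {P : PosStructure K} {inv : K → K} (hV : IsInvolution P inv) : inv 0 = 0 := by
  have h := hV.map_add 0 0
  rw [add_zero] at h
  linear_combination (-1 : K) * h

theorem inv_multiset_sum {P : PosStructure K} {inv : K → K} (hV : IsInvolution P inv)
    (s : Multiset K) : inv s.sum = (s.map inv).sum := by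
  induction s using Multiset.induction_on with
  | empty => simpa using inv_zero hV
  | cons a t ih => rw [Multiset.sum_cons, hV.map_add, ih, Multiset.map_cons, Multiset.sum_cons]

/-- the data of an involutive splitting of a positive element, repackaged -/
theorem exists_inv_split (P : PosStructure K) (inv : K → K) (hS : HasInvSplitting P inv)
    (e : K) (he : e ∈ P.pos) :
    ∃ (L : PosLambdaRing.{u}) (inv' : L.carrier → L.carrier) (f : K →+* L.carrier)
      (s : Multiset L.carrier),
      IsExtension P L.posStr f ∧ IsInvolution L.posStr inv' ∧ (∀ x : K, f (inv x) = inv' (f x)) ∧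
      (∀ v ∈ s, L.posStr.IsLine v) ∧ s.sum = f e ∧ Multiset.card s = (P.aug e).toNat ∧
      (∀ i : ℕ, f (LambdaOps.lam i e) = s.esymm i) ∧
      (∀ i : ℕ, f (LambdaOps.lam i (inv e)) = (s.map inv').esymm i) := by
  obtain ⟨L, inv', f, hf, hV', hc, s, hs, hsum⟩ := hS e he
  refine ⟨L, inv', f, s, hf, hV', hc, hs, hsum, ?_, ?_, ?_⟩
  · have h3 : L.posStr.aug (f e) = P.aug e := hf.aug_comp e
    have h4 : L.posStr.aug s.sum = (Multiset.card s : ℤ) :=
      Groth.Agent.Helper8.aug_multiset_sum_of_lines L.posStr s hs
    rw [← h3, ← hsum, h4]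
    simp
  · intro i
    rw [hf.isLambdaHom, ← hsum, lam_sum_lines L.posStr s hs]
  · intro i
    have hs' : ∀ v ∈ s.map inv', L.posStr.IsLine v := by
      intro v hv
      obtain ⟨w, hw, rfl⟩ := Multiset.mem_map.mp hv
      exact hV'.inv_line w (hs w hw)
    rw [hf.isLambdaHom, hc, ← hsum, inv_multiset_sum hV', lam_sum_lines L.posStr _ hs']

theorem lam_eq_lam_inv_mul (P : PosStructure K) (inv : K → K) (hS : HasInvSplitting P inv)
    (e : K) (he : e ∈ P.pos) (i : ℕ) (hi : i ≤ (P.aug e).toNat) :
    LambdaOps.lam i e =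
      LambdaOps.lam ((P.aug e).toNat - i) (inv e) * LambdaOps.lam (P.aug e).toNat e := by
  obtain ⟨L, inv', f, s, hf, hV', hc, hs, hsum, hcard, h1, h2⟩ := exists_inv_split P inv hS e he
  apply hf.injective
  rw [map_mul, h1, h2, h1, ← hcard, esymm_card]
  exact esymm_dual inv' s (fun v hv => hV'.inv_mul_self v (hs v hv)) i (hcard ▸ hi)

theorem lam_inv_eq_lam_mul (P : PosStructure K) (inv : K → K) (hS : HasInvSplitting P inv)
    (e : K) (he : e ∈ P.pos) (i : ℕ) (hi : i ≤ (P.aug e).toNat) :
    LambdaOps.lam i (inv e) =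
      LambdaOps.lam ((P.aug e).toNat - i) e * LambdaOps.lam (P.aug e).toNat (inv e) := by
  obtain ⟨L, inv', f, s, hf, hV', hc, hs, hsum, hcard, h1, h2⟩ := exists_inv_split P inv hS e he
  apply hf.injective
  rw [map_mul, h1, h2, h2, ← hcard]
  have hcard' : Multiset.card (s.map inv') = Multiset.card s := Multiset.card_map _ _
  have hmm : (s.map inv').map inv' = s := by
    rw [Multiset.map_map]
    conv_rhs => rw [← Multiset.map_id s]
    refine Multiset.map_congr rfl (fun v _ => ?_)
    simp [hV'.inv_inv]
  have hd := esymm_dual inv' (s.map inv') (fun w hw => by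
    obtain ⟨v, hv, rfl⟩ := Multiset.mem_map.mp hw
    rw [hV'.inv_inv, mul_comm]
    exact hV'.inv_mul_self v (hs v hv)) i (by rw [hcard', hcard]; exact hi)
  rw [hd, hmm, hcard']
  congr 1
  rw [← hcard', esymm_card]

theorem lam_inv_eq_zero (P : PosStructure K) (inv : K → K) (hS : HasInvSplitting P inv)
    (e : K) (he : e ∈ P.pos) (i : ℕ) (hi : (P.aug e).toNat < i) :
    LambdaOps.lam i (inv e) = 0 := by
  obtain ⟨L, inv', f, s, hf, hV', hc, hs, hsum, hcard, h1, h2⟩ := exists_inv_split P inv hS e he
  apply hf.injective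
  rw [map_zero, h2, esymm_eq_zero_of_card_lt]
  rw [Multiset.card_map, hcard]
  exact hi

theorem aug_lam_top_inv (P : PosStructure K) (inv : K → K) (hS : HasInvSplitting P inv)
    (e : K) (he : e ∈ P.pos) :
    P.aug (LambdaOps.lam (P.aug e).toNat (inv e)) = 1 := by
  obtain ⟨L, inv', f, s, hf, hV', hc, hs, hsum, hcard, h1, h2⟩ := exists_inv_split P inv hS e he
  rw [← hf.aug_comp, h2, ← hcard]
  have hcard' : Multiset.card (s.map inv') = Multiset.card s := Multiset.card_map _ _
  rw [← hcard', esymm_card, map_multiset_prod, Multiset.map_map]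
  have : (Multiset.map (⇑L.posStr.aug ∘ inv') s) = Multiset.map (fun _ => (1 : ℤ)) s := by
    refine Multiset.map_congr rfl (fun v hv => ?_)
    exact (hV'.inv_line v (hs v hv)).2
  rw [this]
  simp

end Inv

end Groth.Agent.Helper18.LamSplit
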