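import Mathlib
import Groth.Prelude.Def_LambdaRing
import Groth.Agent.Lib.Helper8.LambdaSplit
import Groth.Agent.Lib.Helper8.LambdaAdams
import Groth.Agent.Lib.Helper8.LambdaGamma2
import Groth.Agent.Lib.Helper18.LamSplit

/-! Helper lemmas (helper18): the determinant `det : (K,+) → Kˣ` of a λ-ring with positive
structure, and its vanishing on `F^2` of the γ-filtration. -/

set_option autoImplicit false
universe u

namespace Groth.Agent.Helper18.LamDet

open LambdaRing Groth.Agent.Helper8 Groth.Agent.Helper18.LamSplit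

section Basic

variable {K : Type u} [CommRing K] [LambdaOps K]

/-- the top exterior power `λ^{ε e}(e)` -/
def D (P : PosStructure K) (e : K) : K := LambdaOps.lam (P.aug e).toNat e

theorem toNat_aug_add (P : PosStructure K) {e f : K} (he : e ∈ P.pos) (hf : f ∈ P.pos) :
    (P.aug (e + f)).toNat = (P.aug e).toNat + (P.aug f).toNat := by
  rw [map_add]
  exact Int.toNat_add (P.aug_pos e he).le (P.aug_pos f hf).le

theorem lam_eq_zero_of_toNat_lt (P : PosStructure K) {e : K} (he : e ∈ P.pos) {i : ℕ}
    (hi : (P.aug e).toNat < i) : LambdaOps.lam i e = 0 :=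
  P.lam_eq_zero e he i (Int.lt_of_toNat_lt hi)

theorem lam_add_top (x y : K) (m n : ℕ) (hx : ∀ i, m < i → LambdaOps.lam i x = 0)
    (hy : ∀ i, n < i → LambdaOps.lam i y = 0) :
    LambdaOps.lam (m + n) (x + y) = LambdaOps.lam m x * LambdaOps.lam n y := by
  rw [LambdaOps.lam_add, Finset.sum_eq_single m]
  · rw [Nat.add_sub_cancel_left]
  · intro i _ hi
    rcases Nat.lt_or_gt_of_ne hi with h | h
    · rw [hy (m + n - i) (by omega), mul_zero]
    · rw [hx i h, zero_mul]
  · intro h
    exact absurd (Finset.mem_range.mpr (by omega)) h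

theorem D_add (P : PosStructure K) {e f : K} (he : e ∈ P.pos) (hf : f ∈ P.pos) :
    D P (e + f) = D P e * D P f := by
  unfold D
  rw [toNat_aug_add P he hf]
  exact lam_add_top e f _ _ (fun i hi => lam_eq_zero_of_toNat_lt P he hi)
    (fun i hi => lam_eq_zero_of_toNat_lt P hf hi)

/-- `D e` as a unit -/
noncomputable def unitD (P : PosStructure K) (e : K) (he : e ∈ P.pos) : Kˣ :=
  (P.isUnit_lam e he).unit

theorem unitD_val (P : PosStructure K) (e : K) (he : e ∈ P.pos) :
    (unitD P e he : K) = D P e := rfl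

theorem unitD_congr (P : PosStructure K) {e f : K} (he : e ∈ P.pos) (hf : f ∈ P.pos)
    (h : e = f) : unitD P e he = unitD P f hf := by
  subst h
  rfl

theorem unitD_add (P : PosStructure K) {e f : K} (he : e ∈ P.pos) (hf : f ∈ P.pos) :
    unitD P (e + f) (P.add_mem e f he hf) = unitD P e he * unitD P f hf :=
  Units.ext (by rw [Units.val_mul, unitD_val, unitD_val, unitD_val, D_add P he hf])

theorem unitD_well (P : PosStructure K) {e f e' f' : K} (he : e ∈ P.pos) (hf : f ∈ P.pos)
    (he' : e' ∈ P.pos) (hf' : f' ∈ P.pos) (h : e - f = e' - f') :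
    unitD P e he / unitD P f hf = unitD P e' he' / unitD P f' hf' := by
  have h1 : e + f' = e' + f := by linear_combination h
  rw [div_eq_div_iff_mul_eq_mul, ← unitD_add, ← unitD_add]
  exact unitD_congr P _ _ h1

/-- the determinant -/
noncomputable def detU (P : PosStructure K) (x : K) : Kˣ :=
  unitD P (P.exists_sub x).choose (P.exists_sub x).choose_spec.choose_spec.1 /
    unitD P (P.exists_sub x).choose_spec.choose (P.exists_sub x).choose_spec.choose_spec.2.1

theorem detU_sub (P : PosStructure K) {e f : K} (he : e ∈ P.pos) (hf : f ∈ P.pos) :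
    detU P (e - f) = unitD P e he / unitD P f hf := by
  unfold detU
  exact unitD_well P _ _ _ _ (P.exists_sub (e - f)).choose_spec.choose_spec.2.2.symm

theorem detU_add (P : PosStructure K) (x y : K) : detU P (x + y) = detU P x * detU P y := by
  obtain ⟨e, f, he, hf, rfl⟩ := P.exists_sub x
  obtain ⟨e', f', he', hf', rfl⟩ := P.exists_sub y
  have h1 : e - f + (e' - f') = (e + e') - (f + f') := by ring
  rw [h1, detU_sub P (P.add_mem _ _ he he') (P.add_mem _ _ hf hf'), detU_sub P he hf,
    detU_sub P he' hf', unitD_add, unitD_add, mul_div_mul_comm]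

theorem detU_zero (P : PosStructure K) : detU P 0 = 1 := by
  have h := detU_add P 0 0
  rw [add_zero] at h
  exact (mul_eq_left.mp h.symm)

theorem detU_neg (P : PosStructure K) (x : K) : detU P (-x) = (detU P x)⁻¹ := by
  have h := detU_add P (-x) x
  rw [neg_add_cancel, detU_zero] at h
  exact eq_inv_of_mul_eq_one_left h.symm

theorem one_mem_pos (P : PosStructure K) : (1 : K) ∈ P.pos := by
  have := P.natCast_mem 1 Nat.one_pos
  simpa using this

theorem detU_pos (P : PosStructure K) {e : K} (he : e ∈ P.pos) : detU P e = unitD P e he := by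
  have h1 : e = (e + 1) - 1 := by ring
  conv_lhs => rw [h1]
  rw [detU_sub P (P.add_mem _ _ he (one_mem_pos P)) (one_mem_pos P),
    unitD_add P he (one_mem_pos P), mul_div_cancel_right]

theorem D_line (P : PosStructure K) {w : K} (hw : P.IsLine w) : D P w = w := by
  unfold D
  rw [hw.2]
  exact LambdaOps.lam_one w

theorem detU_line (P : PosStructure K) {w : K} (hw : P.IsLine w) : (detU P w : K) = w := by
  rw [detU_pos P hw.1, unitD_val, D_line P hw]

theorem detU_sum (P : PosStructure K) {ι : Type*} (s : Finset ι) (g : ι → K) :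
    detU P (∑ i ∈ s, g i) = ∏ i ∈ s, detU P (g i) := by
  classical
  induction s using Finset.induction_on with
  | empty => simp [detU_zero]
  | insert a s ha ih => rw [Finset.sum_insert ha, Finset.prod_insert ha, detU_add, ih]

section Ext

variable {K' : Type u} [CommRing K'] [LambdaOps K']

theorem map_D {P : PosStructure K} {P' : PosStructure K'} {f : K →+* K'}
    (hf : IsExtension P P' f) (e : K) : f (D P e) = D P' (f e) := by
  unfold D
  rw [hf.isLambdaHom, hf.aug_comp]

theorem map_detU {P : PosStructure K} {P' : PosStructure K'} {f : K →+* K'}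
    (hf : IsExtension P P' f) (x : K) : Units.map (f : K →* K') (detU P x) = detU P' (f x) := by
  obtain ⟨e, e', he, he', rfl⟩ := P.exists_sub x
  rw [map_sub, detU_sub P he he', detU_sub P' (hf.pos_subset e he) (hf.pos_subset e' he'),
    map_div]
  congr 1
  · exact Units.ext (by simp [unitD_val, map_D hf])
  · exact Units.ext (by simp [unitD_val, map_D hf])

theorem detU_eq_one_of_map {P : PosStructure K} {P' : PosStructure K'} {f : K →+* K'}
    (hf : IsExtension P P' f) (x : K) (h : detU P' (f x) = 1) : detU P x = 1 := by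
  rw [← map_detU hf] at h
  apply Units.ext
  apply hf.injective
  have := congrArg Units.val h
  simpa using this

/-- λ-homomorphisms commute with the γ-operations -/
theorem map_gamma (g : K →+* K') (hg : IsLambdaHom g) (k : ℕ) (y : K) :
    g (gamma k y) = gamma k (g y) := by
  unfold gamma
  split_ifs with hk
  · simp
  · rw [map_sum]
    refine Finset.sum_congr rfl (fun j _ => ?_)
    rw [map_mul, map_natCast]
    split_ifs with hj
    · simp
    · rw [hg j y]

end Ext

end Basic

section Line

variable {K : Type u} [CommRing K] [LambdaOps K]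

theorem lineSpan_mul (P : PosStructure K) {x y : K}
    (hx : x ∈ lineSpan P) (hy : y ∈ lineSpan P) : x * y ∈ lineSpan P := by
  induction hy using AddSubgroup.closure_induction with
  | mem b hb =>
    induction hx using AddSubgroup.closure_induction with
    | mem a ha => exact AddSubgroup.subset_closure (IsLine.mul P ha hb)
    | zero => rw [zero_mul]; exact zero_mem _
    | add a c _ _ iha ihc => rw [add_mul]; exact add_mem iha ihc
    | neg a _ iha => rw [neg_mul]; exact neg_mem iha
  | zero => rw [mul_zero]; exact zero_mem _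
  | add a c _ _ iha ihc => rw [mul_add]; exact add_mem iha ihc
  | neg a _ iha => rw [mul_neg]; exact neg_mem iha

theorem one_mem_lineSpan (P : PosStructure K) : (1 : K) ∈ lineSpan P :=
  AddSubgroup.subset_closure (isLine_one P)

theorem line_sub_one_mem (P : PosStructure K) {w : K} (hw : P.IsLine w) : w - 1 ∈ lineSpan P :=
  sub_mem (AddSubgroup.subset_closure hw) (one_mem_lineSpan P)

/-- elements of the span of the lines of augmentation zero -/
def Jsub (P : PosStructure K) : AddSubgroup K where
  carrier := {z | z ∈ lineSpan P ∧ P.aug z = 0}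
  zero_mem' := ⟨zero_mem _, map_zero _⟩
  add_mem' := fun {a b} ha hb => ⟨add_mem ha.1 hb.1, by rw [map_add, ha.2, hb.2, add_zero]⟩
  neg_mem' := fun {a} ha => ⟨neg_mem ha.1, by rw [map_neg, ha.2, neg_zero]⟩

/-- the "square" of `Jsub` -/
def Tsub (P : PosStructure K) : AddSubgroup K :=
  AddSubgroup.closure {y | ∃ w z, P.IsLine w ∧ z ∈ Jsub P ∧ y = (w - 1) * z}

theorem line_sub_one_mem_Jsub (P : PosStructure K) {w : K} (hw : P.IsLine w) : w - 1 ∈ Jsub P :=
  ⟨line_sub_one_mem P hw, by rw [map_sub, hw.2, map_one, sub_self]⟩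

theorem Tsub_le_Jsub (P : PosStructure K) : Tsub P ≤ Jsub P := by
  unfold Tsub
  rw [AddSubgroup.closure_le]
  rintro y ⟨w, z, hw, hz, rfl⟩
  exact ⟨lineSpan_mul P (line_sub_one_mem P hw) hz.1, by rw [map_mul, hz.2, mul_zero]⟩

theorem Jsub_mul_mem_Tsub (P : PosStructure K) {a b : K} (ha : a ∈ Jsub P) (hb : b ∈ Jsub P) :
    a * b ∈ Tsub P := by
  have key : ∀ a ∈ lineSpan P, (a - ((P.aug a : ℤ) : K)) * b ∈ Tsub P := by
    intro a ha
    induction ha using AddSubgroup.closure_induction with
    | mem w hw =>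
      rw [hw.2, Int.cast_one]
      exact AddSubgroup.subset_closure ⟨w, b, hw, hb, rfl⟩
    | zero => simp
    | add a c _ _ iha ihc =>
      have e1 : (a + c - ((P.aug (a + c) : ℤ) : K)) * b =
          (a - ((P.aug a : ℤ) : K)) * b + (c - ((P.aug c : ℤ) : K)) * b := by
        rw [map_add]
        push_cast
        ring
      rw [e1]
      exact add_mem iha ihc
    | neg a _ iha =>
      have e1 : (-a - ((P.aug (-a) : ℤ) : K)) * b = -((a - ((P.aug a : ℤ) : K)) * b) := by
        rw [map_neg]
        push_cast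
        ring
      rw [e1]
      exact neg_mem iha
  have h := key a ha.1
  rwa [ha.2, Int.cast_zero, sub_zero] at h

theorem detU_line_sub_one_mul (P : PosStructure K) {w : K} (hw : P.IsLine w) {z : K}
    (hz : z ∈ lineSpan P) : detU P ((w - 1) * z) = (detU P w) ^ (P.aug z) := by
  induction hz using AddSubgroup.closure_induction with
  | mem a ha =>
    have ha' : P.IsLine a := ha
    have h1 : (w - 1) * a = w * a - a := by ring
    have hwa : P.IsLine (w * a) := IsLine.mul P hw ha'
    have h2 : detU P w ^ P.aug a = detU P w := by rw [ha'.2, zpow_one]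
    rw [h2, h1, detU_sub P hwa.1 ha'.1, detU_pos P hw.1, div_eq_iff_eq_mul]
    apply Units.ext
    rw [Units.val_mul, unitD_val, unitD_val, unitD_val, D_line P hwa, D_line P hw, D_line P ha']
  | zero => simp [detU_zero]
  | add a b _ _ iha ihb => rw [mul_add, detU_add, iha, ihb, map_add, zpow_add]
  | neg a _ iha => rw [mul_neg, detU_neg, iha, map_neg, zpow_neg]

theorem detU_eq_one_of_mem_Tsub (P : PosStructure K) {z : K} (hz : z ∈ Tsub P) :
    detU P z = 1 := by
  induction hz using AddSubgroup.closure_induction with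
  | mem y hy =>
    obtain ⟨w, z, hw, hz, rfl⟩ := hy
    rw [detU_line_sub_one_mul P hw hz.1, hz.2, zpow_zero]
  | zero => exact detU_zero P
  | add a b _ _ iha ihb => rw [detU_add, iha, ihb, one_mul]
  | neg a _ iha => rw [detU_neg, iha, inv_one]

/-- power series with constant term `1`, higher coefficients in `Jsub`, and coefficients of
degree `≥ 2` in `Tsub` -/
def InS (P : PosStructure K) (φ : PowerSeries K) : Prop :=
  PowerSeries.coeff 0 φ = 1 ∧ (∀ k, 1 ≤ k → PowerSeries.coeff k φ ∈ Jsub P) ∧
    (∀ k, 2 ≤ k → PowerSeries.coeff k φ ∈ Tsub P)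

theorem InS.one (P : PosStructure K) : InS P (1 : PowerSeries K) := by
  refine ⟨by simp, fun k hk => ?_, fun k hk => ?_⟩
  · rw [PowerSeries.coeff_one, if_neg (by omega)]
    exact zero_mem _
  · rw [PowerSeries.coeff_one, if_neg (by omega)]
    exact zero_mem _

theorem InS.mul (P : PosStructure K) {φ ψ : PowerSeries K} (hφ : InS P φ) (hψ : InS P ψ) :
    InS P (φ * ψ) := by
  obtain ⟨a0, aJ, aT⟩ := hφ
  obtain ⟨b0, bJ, bT⟩ := hψ
  refine ⟨?_, fun k hk => ?_, fun k hk => ?_⟩
  · rw [PowerSeries.coeff_mul]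
    simp [a0, b0]
  · rw [PowerSeries.coeff_mul]
    refine AddSubgroup.sum_mem _ (fun p hp => ?_)
    have hpk : p.1 + p.2 = k := Finset.HasAntidiagonal.mem_antidiagonal.mp hp
    rcases Nat.eq_zero_or_pos p.1 with h1 | h1
    · rw [h1, a0, one_mul]
      exact bJ _ (by omega)
    · rcases Nat.eq_zero_or_pos p.2 with h2 | h2
      · rw [h2, b0, mul_one]
        exact aJ _ h1
      · exact Tsub_le_Jsub P (Jsub_mul_mem_Tsub P (aJ _ h1) (bJ _ h2))
  · rw [PowerSeries.coeff_mul]
    refine AddSubgroup.sum_mem _ (fun p hp => ?_)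
    have hpk : p.1 + p.2 = k := Finset.HasAntidiagonal.mem_antidiagonal.mp hp
    rcases Nat.eq_zero_or_pos p.1 with h1 | h1
    · rw [h1, a0, one_mul]
      exact bT _ (by omega)
    · rcases Nat.eq_zero_or_pos p.2 with h2 | h2
      · rw [h2, b0, mul_one]
        exact aT _ (by omega)
      · exact Jsub_mul_mem_Tsub P (aJ _ h1) (bJ _ h2)

theorem InS.linear (P : PosStructure K) {a : K} (ha : a ∈ Jsub P) :
    InS P (1 + PowerSeries.C a * PowerSeries.X) := by
  have hc : ∀ k, PowerSeries.coeff k (1 + PowerSeries.C a * PowerSeries.X) =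
      (if k = 0 then 1 else 0) + a * (if k = 1 then 1 else 0) := by
    intro k
    rw [map_add, PowerSeries.coeff_one, PowerSeries.coeff_C_mul, PowerSeries.coeff_X]
  refine ⟨by rw [hc]; simp, fun k hk => ?_, fun k hk => ?_⟩
  · rw [hc, if_neg (by omega), zero_add]
    split_ifs
    · rw [mul_one]; exact ha
    · rw [mul_zero]; exact zero_mem _
  · rw [hc, if_neg (by omega), if_neg (by omega), zero_add, mul_zero]
    exact zero_mem _

theorem InS.geom (P : PosStructure K) {b : K} (hb : b ∈ Jsub P) :
    InS P (PowerSeries.mk fun k => b ^ k) := by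
  have hJ : ∀ k, 1 ≤ k → b ^ k ∈ Jsub P := by
    intro k hk
    induction k with
    | zero => omega
    | succ k ih =>
      rcases Nat.eq_zero_or_pos k with h0 | h0
      · subst h0
        simpa using hb
      · rw [pow_succ]
        exact Tsub_le_Jsub P (Jsub_mul_mem_Tsub P (ih h0) hb)
  refine ⟨by simp, fun k hk => by rw [PowerSeries.coeff_mk]; exact hJ k hk, fun k hk => ?_⟩
  rw [PowerSeries.coeff_mk]
  obtain ⟨k', rfl⟩ : ∃ k', k = k' + 1 := ⟨k - 1, by omega⟩
  rw [pow_succ]
  exact Jsub_mul_mem_Tsub P (hJ k' (by omega)) hb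

theorem gammaSeries_line_sub_one (P : PosStructure K) {u : K} (hu : P.IsLine u) :
    gammaSeries (u - 1) = 1 + PowerSeries.C (u - 1) * PowerSeries.X := by
  have hvan : ∀ i, 1 < i → LambdaOps.lam i u = 0 := fun i hi =>
    P.lam_eq_zero u hu.1 i (by rw [hu.2]; exact_mod_cast hi)
  have h := gammaSeries_sub_natCast P u 1 hvan
  rw [Nat.cast_one] at h
  rw [h]
  have hp : gammaPoly u 1 = 1 + Polynomial.C (u - 1) * Polynomial.X := by
    unfold gammaPoly
    rw [Finset.sum_range_succ, Finset.sum_range_one]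
    simp only [LambdaOps.lam_zero, LambdaOps.lam_one, pow_zero, pow_one, Nat.sub_zero,
      Nat.sub_self, map_one, mul_one, one_mul, map_sub]
    ring
  rw [hp]
  simp

theorem gammaSeries_neg_line_sub_one (P : PosStructure K) {v : K} (hv : P.IsLine v) :
    gammaSeries (-(v - 1)) = PowerSeries.mk fun k => (1 - v) ^ k := by
  have h1 : gammaSeries (-(v - 1)) * gammaSeries (v - 1) = 1 := by
    rw [← gammaSeries_add, neg_add_cancel, gammaSeries_zero]
  have h2 := geom_mul (1 - v)
  rw [gammaSeries_line_sub_one P hv] at h1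
  have h3 : (1 : PowerSeries K) - PowerSeries.C (1 - v) * PowerSeries.X =
      1 + PowerSeries.C (v - 1) * PowerSeries.X := by
    rw [show (1 - v : K) = -(v - 1) by ring, map_neg]
    ring
  rw [h3] at h2
  calc gammaSeries (-(v - 1))
      = gammaSeries (-(v - 1)) * ((1 + PowerSeries.C (v - 1) * PowerSeries.X) *
          PowerSeries.mk fun k => (1 - v) ^ k) := by rw [h2, mul_one]
    _ = (gammaSeries (-(v - 1)) * (1 + PowerSeries.C (v - 1) * PowerSeries.X)) *
          PowerSeries.mk fun k => (1 - v) ^ k := by rw [mul_assoc]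
    _ = PowerSeries.mk fun k => (1 - v) ^ k := by rw [h1, one_mul]

theorem inS_gammaSeries_split (P : PosStructure K) (s₁ s₂ : Multiset K)
    (h₁ : ∀ x ∈ s₁, P.IsLine x) (h₂ : ∀ x ∈ s₂, P.IsLine x) :
    InS P (gammaSeries ((s₁.map (fun u => u - 1)).sum + (s₂.map (fun v => -(v - 1))).sum)) := by
  rw [gammaSeries_add]
  apply InS.mul
  · induction s₁ using Multiset.induction_on with
    | empty => simpa [gammaSeries_zero] using InS.one P
    | cons a t ih =>
      rw [Multiset.map_cons, Multiset.sum_cons, gammaSeries_add,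
        gammaSeries_line_sub_one P (h₁ a (Multiset.mem_cons_self a t))]
      exact InS.mul P (InS.linear P (line_sub_one_mem_Jsub P (h₁ a (Multiset.mem_cons_self a t))))
        (ih (fun x hx => h₁ x (Multiset.mem_cons_of_mem hx)))
  · induction s₂ using Multiset.induction_on with
    | empty => simpa [gammaSeries_zero] using InS.one P
    | cons a t ih =>
      rw [Multiset.map_cons, Multiset.sum_cons, gammaSeries_add,
        gammaSeries_neg_line_sub_one P (h₂ a (Multiset.mem_cons_self a t))]
      refine InS.mul P (InS.geom P ?_) (ih (fun x hx => h₂ x (Multiset.mem_cons_of_mem hx)))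
      have h := neg_mem (line_sub_one_mem_Jsub P (h₂ a (Multiset.mem_cons_self a t)))
      rwa [neg_sub] at h

end Line

section Split

variable {K : Type u} [CommRing K] [LambdaOps K]

theorem exists_split_aug_zero (C : Set PosLambdaRing.{u}) (hC : SplitClass C)
    (L : PosLambdaRing.{u}) (hL : L ∈ C) (y : L.carrier) (hy : L.posStr.aug y = 0) :
    ∃ L' ∈ C, ∃ f : L.carrier →+* L'.carrier, IsExtension L.posStr L'.posStr f ∧
      ∃ s₁ s₂ : Multiset L'.carrier, (∀ x ∈ s₁, L'.posStr.IsLine x) ∧
        (∀ x ∈ s₂, L'.posStr.IsLine x) ∧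
        f y = (s₁.map (fun u => u - 1)).sum + (s₂.map (fun v => -(v - 1))).sum := by
  obtain ⟨e, e', he, he', rfl⟩ := L.posStr.exists_sub y
  obtain ⟨L1, hL1, f1, hf1, s1, hs1, hsum1⟩ := hC L hL e he
  obtain ⟨L2, hL2, f2, hf2, s2, hs2, hsum2⟩ := hC L1 hL1 (f1 e') (hf1.pos_subset e' he')
  refine ⟨L2, hL2, f2.comp f1, isExtension_comp hf1 hf2, s1.map f2, s2, ?_, hs2, ?_⟩
  · intro x hx
    obtain ⟨w, hw, rfl⟩ := Multiset.mem_map.mp hx
    exact isExtension_isLine hf2 (hs1 w hw)
  · have hc1 : (Multiset.card s1 : ℤ) = L.posStr.aug e := by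
      rw [← aug_multiset_sum_of_lines L1.posStr s1 hs1, hsum1, hf1.aug_comp]
    have hc2 : (Multiset.card s2 : ℤ) = L.posStr.aug e' := by
      rw [← aug_multiset_sum_of_lines L2.posStr s2 hs2, hsum2, hf2.aug_comp, hf1.aug_comp]
    have hcard : Multiset.card s1 = Multiset.card s2 := by
      rw [map_sub, sub_eq_zero] at hy
      exact_mod_cast (hc1.trans (hy.trans hc2.symm))
    have e1 : ∀ (s : Multiset L2.carrier),
        (s.map (fun u => u - 1)).sum = s.sum - (Multiset.card s : L2.carrier) := by
      intro s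
      induction s using Multiset.induction_on with
      | empty => simp
      | cons a t ih =>
        rw [Multiset.map_cons, Multiset.sum_cons, ih, Multiset.sum_cons, Multiset.card_cons]
        push_cast
        ring
    have e2 : ∀ (s : Multiset L2.carrier),
        (s.map (fun v => -(v - 1))).sum = -(s.sum - (Multiset.card s : L2.carrier)) := by
      intro s
      induction s using Multiset.induction_on with
      | empty => simp
      | cons a t ih =>
        rw [Multiset.map_cons, Multiset.sum_cons, ih, Multiset.sum_cons, Multiset.card_cons]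
        push_cast
        ring
    rw [e1, e2, Multiset.card_map, hcard, map_sub, RingHom.comp_apply, RingHom.comp_apply,
      ← hsum2, ← hsum1, map_multiset_sum]
    ring

theorem aug_gamma_eq_zero (P : PosStructure K) (hK : HasSplitting K P) (y : K)
    (hy : P.aug y = 0) (r : ℕ) (hr : 1 ≤ r) : P.aug (gamma r y) = 0 := by
  obtain ⟨C, hKC, hC⟩ := hK
  obtain ⟨L, hL, (f : K →+* L.carrier), (hf : IsExtension P L.posStr f), s₁, s₂, h₁, h₂, hfy⟩ :=
    exists_split_aug_zero C hC ⟨K, P⟩ hKC y hy
  have hS := inS_gammaSeries_split L.posStr s₁ s₂ h₁ h₂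
  rw [← hfy] at hS
  have h1 := hS.2.1 r hr
  rw [gammaSeries, PowerSeries.coeff_mk, ← map_gamma f hf.isLambdaHom] at h1
  rw [← hf.aug_comp]
  exact h1.2

theorem detU_gamma_eq_one (P : PosStructure K) (hK : HasSplitting K P) (y : K)
    (hy : P.aug y = 0) (r : ℕ) (hr : 2 ≤ r) : detU P (gamma r y) = 1 := by
  obtain ⟨C, hKC, hC⟩ := hK
  obtain ⟨L, hL, (f : K →+* L.carrier), (hf : IsExtension P L.posStr f), s₁, s₂, h₁, h₂, hfy⟩ :=
    exists_split_aug_zero C hC ⟨K, P⟩ hKC y hy
  have hS := inS_gammaSeries_split L.posStr s₁ s₂ h₁ h₂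
  rw [← hfy] at hS
  have h1 := hS.2.2 r hr
  rw [gammaSeries, PowerSeries.coeff_mk, ← map_gamma f hf.isLambdaHom] at h1
  exact detU_eq_one_of_map hf _ (detU_eq_one_of_mem_Tsub _ h1)

theorem detU_mul_eq_one (P : PosStructure K) (hK : HasSplitting K P) (a b : K)
    (ha : P.aug a = 0) (hb : P.aug b = 0) : detU P (a * b) = 1 := by
  obtain ⟨C, hKC, hC⟩ := hK
  obtain ⟨L, hL, (f : K →+* L.carrier), (hf : IsExtension P L.posStr f), hfa, hfb⟩ :=
    exists_split₂ C hC ⟨K, P⟩ hKC a b
  apply detU_eq_one_of_map hf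
  rw [map_mul]
  apply detU_eq_one_of_mem_Tsub
  exact Jsub_mul_mem_Tsub _ ⟨hfa, by rw [hf.aug_comp, ha]⟩ ⟨hfb, by rw [hf.aug_comp, hb]⟩

theorem list_prod_facts (P : PosStructure K) (hK : HasSplitting K P) (l : List (ℕ × K))
    (hl : ∀ p ∈ l, P.aug p.2 = 0) :
    ((l.map Prod.fst).sum = 0 → (l.map fun p => gamma p.1 p.2).prod = 1) ∧
    (1 ≤ (l.map Prod.fst).sum → P.aug ((l.map fun p => gamma p.1 p.2).prod) = 0) ∧
    (2 ≤ (l.map Prod.fst).sum → detU P ((l.map fun p => gamma p.1 p.2).prod) = 1) := by
  induction l with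
  | nil => simp
  | cons a t ih =>
    obtain ⟨ih0, ih1, ih2⟩ := ih (fun p hp => hl p (List.mem_cons_of_mem _ hp))
    have ha : P.aug a.2 = 0 := hl a (by simp)
    simp only [List.map_cons, List.sum_cons, List.prod_cons]
    have hg0 : a.1 = 0 → gamma a.1 a.2 = 1 := by
      intro h
      rw [h]
      simp [gamma]
    refine ⟨?_, ?_, ?_⟩
    · intro h
      have h1 : a.1 = 0 := by omega
      have h2 : (t.map Prod.fst).sum = 0 := by omega
      rw [hg0 h1, ih0 h2, mul_one]
    · intro h
      rw [map_mul]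
      rcases Nat.eq_zero_or_pos a.1 with h1 | h1
      · rw [ih1 (by omega), mul_zero]
      · rw [aug_gamma_eq_zero P hK a.2 ha a.1 h1, zero_mul]
    · intro h
      rcases Nat.eq_zero_or_pos a.1 with h1 | h1
      · rw [hg0 h1, one_mul]
        exact ih2 (by omega)
      · rcases Nat.eq_zero_or_pos (t.map Prod.fst).sum with h2 | h2
        · rw [ih0 h2, mul_one]
          exact detU_gamma_eq_one P hK a.2 ha a.1 (by omega)
        · exact detU_mul_eq_one P hK _ _ (aug_gamma_eq_zero P hK a.2 ha a.1 h1) (ih1 h2)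

theorem aug_eq_zero_of_mem_F1 (P : PosStructure K) (hK : HasSplitting K P) {x : K}
    (hx : x ∈ gammaFiltration P 1) : P.aug x = 0 := by
  rw [gammaFiltration, if_neg one_ne_zero] at hx
  induction hx using AddSubgroup.closure_induction with
  | mem y hy =>
    obtain ⟨l, hl, hsum, rfl⟩ := hy
    exact (list_prod_facts P hK l hl).2.1 hsum
  | zero => exact map_zero _
  | add a b _ _ iha ihb => rw [map_add, iha, ihb, add_zero]
  | neg a _ iha => rw [map_neg, iha, neg_zero]

theorem detU_eq_one_of_mem_F2 (P : PosStructure K) (hK : HasSplitting K P) {x : K}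
    (hx : x ∈ gammaFiltration P 2) : detU P x = 1 := by
  rw [gammaFiltration, if_neg (by norm_num)] at hx
  induction hx using AddSubgroup.closure_induction with
  | mem y hy =>
    obtain ⟨l, hl, hsum, rfl⟩ := hy
    exact (list_prod_facts P hK l hl).2.2 hsum
  | zero => exact detU_zero P
  | add a b _ _ iha ihb => rw [detU_add, iha, ihb, one_mul]
  | neg a _ iha => rw [detU_neg, iha, inv_one]

end Split

section Top

variable {K : Type u} [CommRing K] [LambdaOps K]

theorem gamma_one' (b : K) : gamma 1 b = b := by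
  unfold gamma
  simp [Finset.sum_range_succ, LambdaOps.lam_one]

theorem mul_mem_F2 (P : PosStructure K) {a b : K} (ha : P.aug a = 0) (hb : P.aug b = 0) :
    a * b ∈ gammaFiltration P 2 := by
  rw [gammaFiltration, if_neg (by norm_num)]
  apply AddSubgroup.subset_closure
  refine ⟨[(1, a), (1, b)], ?_, ?_, ?_⟩
  · intro p hp
    simp only [List.mem_cons, List.not_mem_nil, or_false] at hp
    rcases hp with rfl | rfl
    · exact ha
    · exact hb
  · simp
  · simp [gamma_one']

theorem gamma_mem_F2 (P : PosStructure K) {y : K} (hy : P.aug y = 0) {k : ℕ} (hk : 2 ≤ k) :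
    gamma k y ∈ gammaFiltration P 2 := by
  rw [gammaFiltration, if_neg (by norm_num)]
  apply AddSubgroup.subset_closure
  refine ⟨[(k, y)], ?_, ?_, ?_⟩
  · intro p hp
    simp only [List.mem_cons, List.not_mem_nil, or_false] at hp
    subst hp
    exact hy
  · simpa using hk
  · simp

theorem natDegree_gammaPoly_le (e : K) (m : ℕ) : (gammaPoly e m).natDegree ≤ m := by
  unfold gammaPoly
  apply Polynomial.natDegree_sum_le_of_forall_le
  intro i hi
  have hi' : i ≤ m := Nat.lt_succ_iff.mp (Finset.mem_range.mp hi)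
  have h1 : (Polynomial.C (LambdaOps.lam i e) * Polynomial.X ^ i).natDegree ≤ i :=
    (Polynomial.natDegree_C_mul_le _ _).trans (Polynomial.natDegree_X_pow_le i)
  have h2 : ((1 - Polynomial.X : Polynomial K) ^ (m - i)).natDegree ≤ m - i := by
    refine (Polynomial.natDegree_pow_le).trans ?_
    have h3 : (1 - Polynomial.X : Polynomial K).natDegree ≤ 1 := by
      refine (Polynomial.natDegree_sub_le _ _).trans ?_
      exact max_le (by simp) Polynomial.natDegree_X_le
    calc (m - i) * (1 - Polynomial.X : Polynomial K).natDegree ≤ (m - i) * 1 :=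
          Nat.mul_le_mul_left _ h3
      _ = m - i := mul_one _
  calc _ ≤ (Polynomial.C (LambdaOps.lam i e) * Polynomial.X ^ i).natDegree +
        ((1 - Polynomial.X : Polynomial K) ^ (m - i)).natDegree := Polynomial.natDegree_mul_le
    _ ≤ i + (m - i) := add_le_add h1 h2
    _ = m := by omega

theorem sum_gamma_eq_lam_top (P : PosStructure K) (e : K) (m : ℕ)
    (h : ∀ i, m < i → LambdaOps.lam i e = 0) :
    ∑ k ∈ Finset.range (m + 1), gamma k (e - (m : K)) = LambdaOps.lam m e := by
  simp_rw [gamma_sub_natCast P e m h]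
  have hdeg : (gammaPoly e m).natDegree < m + 1 := Nat.lt_succ_of_le (natDegree_gammaPoly_le e m)
  have h1 := Polynomial.eval_eq_sum_range' hdeg (1 : K)
  simp only [one_pow, mul_one] at h1
  rw [← h1]
  unfold gammaPoly
  rw [Polynomial.eval_finsetSum, Finset.sum_eq_single m]
  · simp
  · intro i hi hne
    have hi' : i < m := lt_of_le_of_ne (Nat.lt_succ_iff.mp (Finset.mem_range.mp hi)) hne
    simp [zero_pow (show m - i ≠ 0 by omega)]
  · intro h
    exact absurd (Finset.mem_range.mpr (Nat.lt_succ_self m)) h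

theorem sub_sub_lam_top_mem_F2 (P : PosStructure K) (e : K) (m : ℕ) (hm : 1 ≤ m)
    (haug : P.aug e = (m : ℤ)) (h : ∀ i, m < i → LambdaOps.lam i e = 0) :
    (e - (m : K)) - (LambdaOps.lam m e - 1) ∈ gammaFiltration P 2 := by
  obtain ⟨m', rfl⟩ : ∃ m', m = m' + 1 := ⟨m - 1, by omega⟩
  have hid := sum_gamma_eq_lam_top P e (m' + 1) h
  rw [Finset.sum_range_succ', Finset.sum_range_succ'] at hid
  have h0 : gamma 0 (e - ((m' + 1 : ℕ) : K)) = 1 := by simp [gamma]
  have h1 : gamma (0 + 1) (e - ((m' + 1 : ℕ) : K)) = e - ((m' + 1 : ℕ) : K) := gamma_one' _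
  rw [h0, h1] at hid
  have hy : P.aug (e - ((m' + 1 : ℕ) : K)) = 0 := by
    rw [map_sub, haug, map_natCast, sub_self]
  have key : (e - ((m' + 1 : ℕ) : K)) - (LambdaOps.lam (m' + 1) e - 1) =
      -∑ k ∈ Finset.range m', gamma (k + 1 + 1) (e - ((m' + 1 : ℕ) : K)) := by
    linear_combination hid
  rw [key]
  apply neg_mem
  exact AddSubgroup.sum_mem _ (fun k _ => gamma_mem_F2 P hy (by omega))

end Top

end Groth.Agent.Helper18.LamDet
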