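import Mathlib

/-! Helper lemmas (helper18): weights in the fundamental theorem of symmetric polynomials. -/

set_option autoImplicit false

namespace Groth.Agent.Helper18.SymmWeight

open MvPolynomial

theorem esymm_isHomogeneous (σ : Type*) [Fintype σ] (R : Type*) [CommSemiring R] (n : ℕ) :
    (esymm σ R n).IsHomogeneous n := by
  unfold esymm
  apply IsHomogeneous.sum
  intro t ht
  have hcard : t.card = n := (Finset.mem_powersetCard.mp ht).2
  have h := IsHomogeneous.prod t (fun i => (X i : MvPolynomial σ R)) (fun _ => 1)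
    (fun i _ => isHomogeneous_X R i)
  simpa [hcard] using h

/-- the weights `i ↦ i + 1` -/
def w (m : ℕ) : Fin m → ℕ := fun i => i.1 + 1

theorem aeval_esymm_monomial_isHomogeneous {m : ℕ} (a : Fin m →₀ ℕ) (c : ℤ) :
    (aeval (fun i : Fin m => esymm (Fin m) ℤ (i.1 + 1)) (monomial a c)).IsHomogeneous
      (Finsupp.weight (w m) a) := by
  rw [aeval_monomial, Finsupp.weight_apply, MvPolynomial.algebraMap_eq]
  refine IsHomogeneous.C_mul ?_ c
  unfold Finsupp.prod Finsupp.sum
  apply IsHomogeneous.prod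
  intro i _
  have h := (esymm_isHomogeneous (Fin m) ℤ (i.1 + 1)).pow (a i)
  simpa [w, smul_eq_mul, mul_comm] using h

theorem weight_ge {m : ℕ} (D : ℕ) (H S : MvPolynomial (Fin m) ℤ)
    (hHS : aeval (fun i : Fin m => esymm (Fin m) ℤ (i.1 + 1)) H = S)
    (hS : ∀ d ∈ S.support, D ≤ d.degree) :
    ∀ a ∈ H.support, D ≤ Finsupp.weight (w m) a := by
  classical
  intro a ha
  by_contra hlt
  rw [not_le] at hlt
  have h1 : homogeneousComponent (Finsupp.weight (w m) a) S =
      aeval (fun i : Fin m => esymm (Fin m) ℤ (i.1 + 1))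
        (weightedHomogeneousComponent (w m) (Finsupp.weight (w m) a) H) := by
    have e1 : aeval (fun i : Fin m => esymm (Fin m) ℤ (i.1 + 1)) H =
        ∑ v ∈ H.support, aeval (fun i : Fin m => esymm (Fin m) ℤ (i.1 + 1))
          (monomial v (coeff v H)) := by
      conv_lhs => rw [← support_sum_monomial_coeff H]
      rw [map_sum]
    rw [← hHS, e1, weightedHomogeneousComponent_apply, map_sum, map_sum, Finset.sum_filter]
    refine Finset.sum_congr rfl (fun v _ => ?_)
    rw [homogeneousComponent_of_mem (aeval_esymm_monomial_isHomogeneous v (coeff v H))]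
    by_cases hv : Finsupp.weight (w m) v = Finsupp.weight (w m) a
    · rw [if_pos hv, if_pos hv.symm]
    · rw [if_neg hv, if_neg (Ne.symm hv)]
  have h2 : homogeneousComponent (Finsupp.weight (w m) a) S = 0 := by
    apply homogeneousComponent_eq_zero'
    intro d hd
    have := hS d hd
    omega
  have h3 : weightedHomogeneousComponent (w m) (Finsupp.weight (w m) a) H = 0 := by
    have hinj := esymmAlgHom_injective (σ := Fin m) ℤ (n := m) (by simp)
    apply hinj
    apply Subtype.ext
    rw [esymmAlgHom_apply, map_zero, ZeroMemClass.coe_zero]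
    exact h1.symm.trans h2
  have h4 := coeff_weightedHomogeneousComponent (w := w m) (Finsupp.weight (w m) a) H a
  rw [h3, if_pos rfl, coeff_zero] at h4
  exact (mem_support_iff.mp ha) h4.symm

section Spoly

/-- `(1 + X_i)^j - 1` -/
noncomputable def gvar (m j : ℕ) (i : Fin m) : MvPolynomial (Fin m) ℤ := (1 + X i) ^ j - 1

/-- `e_r((1+t_i)^j - 1) - j^r e_r(t)` -/
noncomputable def Spoly (m r j : ℕ) : MvPolynomial (Fin m) ℤ :=
  aeval (gvar m j) (esymm (Fin m) ℤ r) - C ((j : ℤ) ^ r) * esymm (Fin m) ℤ r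

theorem Spoly_isSymmetric (m r j : ℕ) : (Spoly m r j).IsSymmetric := by
  intro σ
  unfold Spoly
  have h1 : rename σ (aeval (gvar m j) (esymm (Fin m) ℤ r)) =
      aeval (gvar m j) (esymm (Fin m) ℤ r) := by
    rw [comp_aeval_apply]
    have e1 : (fun i => rename σ (gvar m j i)) = gvar m j ∘ σ := by
      funext i
      simp [gvar]
    rw [e1, ← aeval_rename, esymm_isSymmetric (Fin m) ℤ r σ]
  rw [map_sub, map_mul, rename_C, esymm_isSymmetric (Fin m) ℤ r σ, h1]

theorem gvar_mem (m j : ℕ) (i : Fin m) : gvar m j i ∈ idealOfVars (Fin m) ℤ := by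
  have h := mul_geom_sum (1 + X i : MvPolynomial (Fin m) ℤ) j
  rw [add_sub_cancel_left] at h
  unfold gvar
  rw [← h]
  exact Ideal.mul_mem_right _ _ (Ideal.subset_span (Set.mem_range_self i))

theorem gvar_sub_mem (m j : ℕ) (i : Fin m) :
    gvar m j i - C (j : ℤ) * X i ∈ idealOfVars (Fin m) ℤ ^ 2 := by
  have h := mul_geom_sum (1 + X i : MvPolynomial (Fin m) ℤ) j
  rw [add_sub_cancel_left] at h
  have hC : (C (j : ℤ) : MvPolynomial (Fin m) ℤ) = (j : MvPolynomial (Fin m) ℤ) := map_natCast C j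
  have e : gvar m j i - C (j : ℤ) * X i = X i * ∑ l ∈ Finset.range j, gvar m l i := by
    unfold gvar
    rw [Finset.sum_sub_distrib, mul_sub, h, hC]
    simp
    ring
  rw [e, pow_two]
  exact Ideal.mul_mem_mul (Ideal.subset_span (Set.mem_range_self i))
    (Ideal.sum_mem _ (fun l _ => gvar_mem m l i))

theorem prod_sub_prod_mem {R : Type*} [CommRing R] (I : Ideal R) {ι : Type*} [DecidableEq ι]
    (A : Finset ι) (a b : ι → R)
    (ha : ∀ i ∈ A, a i ∈ I) (hb : ∀ i ∈ A, b i - a i ∈ I ^ 2) :
    (∏ i ∈ A, a i ∈ I ^ A.card) ∧ (∏ i ∈ A, b i - ∏ i ∈ A, a i ∈ I ^ (A.card + 1)) := by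
  induction A using Finset.induction_on with
  | empty => simp
  | insert i A hi ih =>
    obtain ⟨ih1, ih2⟩ := ih (fun k hk => ha k (Finset.mem_insert_of_mem hk))
      (fun k hk => hb k (Finset.mem_insert_of_mem hk))
    have hai := ha i (Finset.mem_insert_self i A)
    have hbi := hb i (Finset.mem_insert_self i A)
    rw [Finset.prod_insert hi, Finset.prod_insert hi, Finset.card_insert_of_notMem hi]
    refine ⟨?_, ?_⟩
    · rw [pow_succ']
      exact Ideal.mul_mem_mul hai ih1
    · have e : b i * ∏ k ∈ A, b k - a i * ∏ k ∈ A, a k =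
          a i * (∏ k ∈ A, b k - ∏ k ∈ A, a k) + (b i - a i) * ∏ k ∈ A, b k := by ring
      rw [e]
      apply add_mem
      · rw [pow_succ' I (A.card + 1)]
        exact Ideal.mul_mem_mul hai ih2
      · have hb' : ∏ k ∈ A, b k ∈ I ^ A.card := by
          have e2 : ∏ k ∈ A, b k = (∏ k ∈ A, b k - ∏ k ∈ A, a k) + ∏ k ∈ A, a k := by ring
          rw [e2]
          exact add_mem (Ideal.pow_le_pow_right (Nat.le_succ _) ih2) ih1
        have e3 : I ^ (A.card + 1 + 1) = I ^ 2 * I ^ A.card := by
          rw [← pow_add]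
          congr 1
          ring
        rw [e3]
        exact Ideal.mul_mem_mul hbi hb'

theorem Spoly_mem (m r j : ℕ) : Spoly m r j ∈ idealOfVars (Fin m) ℤ ^ (r + 1) := by
  classical
  have e : Spoly m r j = ∑ A ∈ Finset.powersetCard r (Finset.univ : Finset (Fin m)),
      (∏ i ∈ A, gvar m j i - ∏ i ∈ A, (C (j : ℤ) * X i)) := by
    unfold Spoly esymm
    rw [map_sum, Finset.mul_sum, ← Finset.sum_sub_distrib]
    refine Finset.sum_congr rfl (fun A hA => ?_)
    have hcard : A.card = r := (Finset.mem_powersetCard.mp hA).2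
    rw [map_prod, Finset.prod_mul_distrib, Finset.prod_const, hcard, ← map_pow]
    simp only [aeval_X]
  rw [e]
  refine Ideal.sum_mem _ (fun A hA => ?_)
  have hcard : A.card = r := (Finset.mem_powersetCard.mp hA).2
  have h := (prod_sub_prod_mem (idealOfVars (Fin m) ℤ) A (fun i => C (j : ℤ) * X i) (gvar m j)
    (fun i _ => Ideal.mul_mem_left _ _ (Ideal.subset_span (Set.mem_range_self i)))
    (fun i _ => gvar_sub_mem m j i)).2
  rwa [hcard] at h

theorem exists_H (m r j : ℕ) : ∃ H : MvPolynomial (Fin m) ℤ,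
    aeval (fun i : Fin m => esymm (Fin m) ℤ (i.1 + 1)) H = Spoly m r j ∧
      ∀ a ∈ H.support, r + 1 ≤ Finsupp.weight (w m) a := by
  have hH : aeval (fun i : Fin m => esymm (Fin m) ℤ (i.1 + 1))
      ((esymmAlgEquiv (Fin m) ℤ (Fintype.card_fin m)).symm
        ⟨Spoly m r j, Spoly_isSymmetric m r j⟩) = Spoly m r j := by
    rw [← esymmAlgHom_apply]
    have e1 : esymmAlgHom (Fin m) ℤ m ((esymmAlgEquiv (Fin m) ℤ (Fintype.card_fin m)).symm
        ⟨Spoly m r j, Spoly_isSymmetric m r j⟩) = ⟨Spoly m r j, Spoly_isSymmetric m r j⟩ :=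
      (esymmAlgEquiv (Fin m) ℤ (Fintype.card_fin m)).apply_symm_apply _
    rw [e1]
  exact ⟨_, hH, weight_ge (r + 1) _ _ hH
    ((mem_pow_idealOfVars_iff _ _).mp (Spoly_mem m r j))⟩

theorem aeval_Spoly_list {R : Type*} [CommRing R] (r j : ℕ) (l : List R)
    (H : MvPolynomial (Fin l.length) ℤ)
    (hH : aeval (fun i : Fin l.length => esymm (Fin l.length) ℤ (i.1 + 1)) H =
      Spoly l.length r j) :
    aeval (fun i : Fin l.length => (l : Multiset R).esymm (i.1 + 1)) H =
      ((l : Multiset R).map (fun t => (1 + t) ^ j - 1)).esymm r -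
        (j : R) ^ r * (l : Multiset R).esymm r := by
  have hv : (Finset.univ.val.map l.get : Multiset R) = (l : Multiset R) := by
    rw [Fin.univ_val_map, List.ofFn_get]
  have h2 := congrArg (aeval (R := ℤ) l.get) hH
  rw [comp_aeval_apply] at h2
  simp only [aeval_esymm_eq_multiset_esymm, hv] at h2
  rw [h2]
  unfold Spoly
  rw [map_sub, map_mul, comp_aeval_apply, aeval_esymm_eq_multiset_esymm,
    aeval_esymm_eq_multiset_esymm, hv, aeval_C]
  congr 1
  · congr 1
    rw [← hv, Multiset.map_map]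
    refine Multiset.map_congr rfl (fun i _ => ?_)
    simp [gvar]
  · simp

theorem aeval_Spoly {R : Type*} [CommRing R] (m r j : ℕ) (T : Multiset R)
    (hT : Multiset.card T = m) (H : MvPolynomial (Fin m) ℤ)
    (hH : aeval (fun i : Fin m => esymm (Fin m) ℤ (i.1 + 1)) H = Spoly m r j) :
    aeval (fun i : Fin m => T.esymm (i.1 + 1)) H =
      (T.map (fun t => (1 + t) ^ j - 1)).esymm r - (j : R) ^ r * T.esymm r := by
  induction T using Quotient.inductionOn with
  | _ l =>
    change Multiset.card (l : Multiset R) = m at hT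
    rw [Multiset.coe_card] at hT
    subst hT
    exact aeval_Spoly_list r j l H hH

end Spoly

end Groth.Agent.Helper18.SymmWeight
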