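import Mathlib
import Groth.Prelude.Def_LambdaRing
import Groth.Agent.Lib.Helper8.LambdaSplit
import Groth.Agent.Lib.Helper8.LambdaAdams
import Groth.Agent.Lib.Helper8.LambdaGamma2
import Groth.Agent.Lib.Helper18.LamSplit
import Groth.Agent.Lib.Helper18.LamDet
import Groth.Agent.Lib.Helper18.SymmWeight
import Groth.Agent.S3285
import Groth.Agent.S3291

/-! Helper lemmas (helper18): the Adams operation `ψ^j` acts as `j^n` on `F^n/F^(n+1)` of the
γ-filtration of a λ-ring with positive structure having the splitting property. -/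

set_option autoImplicit false
universe u

namespace Groth.Agent.Helper18.LamAdamsFil

open LambdaRing Groth.Agent.Helper8 Groth.Agent.Helper18.LamSplit Groth.Agent.Helper18.LamDet

section Fil

variable {K : Type u} [CommRing K] [LambdaOps K]

theorem F_mono (P : PosStructure K) {n n' : ℕ} (h : n' ≤ n) :
    gammaFiltration P n ≤ gammaFiltration P n' := by
  by_cases hn' : n' = 0
  · subst hn'
    intro x _
    unfold gammaFiltration
    simp
  · have hn : n ≠ 0 := by omega
    rw [Groth.Agent.S3291.gammaFiltration_pos P n hn, Groth.Agent.S3291.gammaFiltration_pos P n' hn']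
    apply AddSubgroup.closure_mono
    rintro y ⟨l, hl, hsum, rfl⟩
    exact ⟨l, hl, le_trans h hsum, rfl⟩

theorem one_mem_F0 (P : PosStructure K) : (1 : K) ∈ gammaFiltration P 0 := by
  unfold gammaFiltration
  simp

theorem gamma_mem_F (P : PosStructure K) {y : K} (hy : P.aug y = 0) (k : ℕ) :
    gamma k y ∈ gammaFiltration P k := by
  by_cases hk : k = 0
  · subst hk
    unfold gammaFiltration
    simp
  · rw [Groth.Agent.S3291.gammaFiltration_pos P k hk]
    apply AddSubgroup.subset_closure
    refine ⟨[(k, y)], ?_, ?_, ?_⟩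
    · intro p hp
      simp only [List.mem_cons, List.not_mem_nil, or_false] at hp
      subst hp
      exact hy
    · simp
    · simp

theorem mul_mem_F (P : PosStructure K) {a b : ℕ} {x z : K} (hx : x ∈ gammaFiltration P a)
    (hz : z ∈ gammaFiltration P b) : x * z ∈ gammaFiltration P (a + b) :=
  (Groth.Agent.S3291.result K P).2 a b x z hx hz

theorem smul_mem_F (P : PosStructure K) {a : ℕ} (c : K) {x : K} (hx : x ∈ gammaFiltration P a) :
    c * x ∈ gammaFiltration P a :=
  (Groth.Agent.S3291.result K P).1 a c x hx

theorem pow_mem_F (P : PosStructure K) {k : ℕ} {x : K} (hx : x ∈ gammaFiltration P k) (n : ℕ) :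
    x ^ n ∈ gammaFiltration P (k * n) := by
  induction n with
  | zero =>
    rw [pow_zero, Nat.mul_zero]
    exact one_mem_F0 P
  | succ n ih =>
    rw [pow_succ, Nat.mul_succ]
    exact mul_mem_F P ih hx

theorem prod_mem_F (P : PosStructure K) {ι : Type*} (A : Finset ι) (x : ι → K) (k : ι → ℕ)
    (h : ∀ i ∈ A, x i ∈ gammaFiltration P (k i)) :
    ∏ i ∈ A, x i ∈ gammaFiltration P (∑ i ∈ A, k i) := by
  classical
  induction A using Finset.induction_on with
  | empty => simpa using one_mem_F0 P
  | insert i A hi ih =>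
    rw [Finset.prod_insert hi, Finset.sum_insert hi]
    exact mul_mem_F P (h i (Finset.mem_insert_self i A))
      (ih (fun k hk => h k (Finset.mem_insert_of_mem hk)))

theorem aeval_gamma_mem_F (P : PosStructure K) {m : ℕ} {y : K} (hy : P.aug y = 0) (D : ℕ)
    (H : MvPolynomial (Fin m) ℤ)
    (hw : ∀ a ∈ H.support, D ≤ Finsupp.weight (SymmWeight.w m) a) :
    MvPolynomial.aeval (fun i : Fin m => gamma (i.1 + 1) y) H ∈ gammaFiltration P D := by
  rw [MvPolynomial.aeval_def, MvPolynomial.eval₂_eq]
  refine AddSubgroup.sum_mem _ (fun a ha => ?_)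
  rw [← Algebra.smul_def]
  apply AddSubgroup.zsmul_mem
  apply F_mono P (hw a ha)
  have h1 := prod_mem_F P a.support (fun i => gamma (i.1 + 1) y ^ a i)
    (fun i => (i.1 + 1) * a i) (fun i _ => pow_mem_F P (gamma_mem_F P hy (i.1 + 1)) (a i))
  have hwt : Finsupp.weight (SymmWeight.w m) a = ∑ i ∈ a.support, (i.1 + 1) * a i := by
    rw [Finsupp.weight_apply, Finsupp.sum]
    exact Finset.sum_congr rfl (fun i _ => by simp [SymmWeight.w, mul_comm])
  rw [hwt]
  exact h1

end Fil

section Series

variable {K : Type u} [CommRing K] [LambdaOps K]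

theorem coeff_prod_one_add (t : Multiset K) (k : ℕ) :
    PowerSeries.coeff k
      ((t.map fun a => (1 : PowerSeries K) + PowerSeries.C a * PowerSeries.X).prod) =
        t.esymm k := by
  induction t using Multiset.induction_on generalizing k with
  | empty =>
    rcases k with _ | k
    · simp [esymm_zero']
    · rw [esymm_eq_zero_of_card_lt _ _ (by simp)]
      simp [PowerSeries.coeff_one]
  | cons a t ih =>
    rw [Multiset.map_cons, Multiset.prod_cons, add_mul, one_mul, map_add, mul_assoc,
      PowerSeries.coeff_C_mul]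
    rcases k with _ | k
    · rw [PowerSeries.coeff_zero_X_mul, mul_zero, add_zero, ih, esymm_zero', esymm_zero']
    · rw [PowerSeries.coeff_succ_X_mul, ih, ih, esymm_cons_succ]

theorem gammaSeries_multiset_sum (s : Multiset K) :
    gammaSeries s.sum = (s.map gammaSeries).prod := by
  induction s using Multiset.induction_on with
  | empty => simp [gammaSeries_zero]
  | cons a s ih => simp [gammaSeries_add, ih]

theorem gamma_sum_line_sub_one (P : PosStructure K) (s : Multiset K)
    (hs : ∀ x ∈ s, P.IsLine x) (k : ℕ) :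
    gamma k ((s.map (fun u => u - 1)).sum) = (s.map (fun u => u - 1)).esymm k := by
  have h1 : gammaSeries ((s.map (fun u => u - 1)).sum) =
      ((s.map (fun u => u - 1)).map
        fun a => (1 : PowerSeries K) + PowerSeries.C a * PowerSeries.X).prod := by
    rw [gammaSeries_multiset_sum, Multiset.map_map, Multiset.map_map]
    congr 1
    refine Multiset.map_congr rfl (fun u hu => ?_)
    simp only [Function.comp_apply]
    exact gammaSeries_line_sub_one P (hs u hu)
  have h2 := congrArg (PowerSeries.coeff k) h1
  rw [coeff_prod_one_add] at h2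
  rw [← h2]
  simp [gammaSeries]

theorem sum_map_sub_one (s : Multiset K) :
    (s.map (fun u => u - 1)).sum = s.sum - (Multiset.card s : K) := by
  induction s using Multiset.induction_on with
  | empty => simp
  | cons a t ih =>
    rw [Multiset.map_cons, Multiset.sum_cons, ih, Multiset.sum_cons, Multiset.card_cons]
    push_cast
    ring

theorem gamma_succ_zero (r : ℕ) (hr : 1 ≤ r) : gamma r (0 : K) = 0 := by
  have h := congrArg (PowerSeries.coeff r) (gammaSeries_zero (K := K))
  have hr' : r ≠ 0 := by omega
  simpa [gammaSeries, PowerSeries.coeff_one, hr'] using h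

theorem gamma_zero' (x : K) : gamma 0 x = 1 := by
  simp [gamma]

end Series

section AdamsLine

variable {K : Type u} [CommRing K] [LambdaOps K]

theorem adams_multiset_prod (P : PosStructure K)
    (j : ℕ) (t : Multiset K) (ht : ∀ x ∈ t, x ∈ lineSpan P) :
    t.prod ∈ lineSpan P ∧ adams P j t.prod = (t.map (adams P j)).prod := by
  induction t using Multiset.induction_on with
  | empty =>
    refine ⟨?_, ?_⟩
    · rw [Multiset.prod_zero]
      exact AddSubgroup.subset_closure (isLine_one P)
    · rw [Multiset.prod_zero, Multiset.map_zero, Multiset.prod_zero, adams_line P (isLine_one P),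
        one_pow]
  | cons a t ih =>
    have hta := ht a (Multiset.mem_cons_self a t)
    obtain ⟨h1, h2⟩ := ih (fun x hx => ht x (Multiset.mem_cons_of_mem hx))
    refine ⟨by rw [Multiset.prod_cons]; exact lineSpan_mul P hta h1, ?_⟩
    rw [Multiset.prod_cons, adams_mul_of_mem_lineSpan P j hta h1, h2, Multiset.map_cons,
      Multiset.prod_cons]

theorem adams_multiset_sum (P : PosStructure K) (j : ℕ) (t : Multiset K) :
    adams P j t.sum = (t.map (adams P j)).sum := by
  induction t using Multiset.induction_on with
  | empty => simp [adams_zero]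
  | cons a t ih => rw [Multiset.sum_cons, adams_add, ih, Multiset.map_cons, Multiset.sum_cons]

theorem adams_esymm (P : PosStructure K) (j : ℕ) (T : Multiset K)
    (hT : ∀ x ∈ T, x ∈ lineSpan P) (r : ℕ) :
    adams P j (T.esymm r) = (T.map (adams P j)).esymm r := by
  unfold Multiset.esymm
  rw [adams_multiset_sum, Multiset.map_map, Multiset.powersetCard_map, Multiset.map_map]
  congr 1
  refine Multiset.map_congr rfl (fun A hA => ?_)
  simp only [Function.comp_apply]
  have hA' : ∀ x ∈ A, x ∈ lineSpan P := fun x hx =>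
    hT x (Multiset.mem_of_le (Multiset.mem_powersetCard.mp hA).1 hx)
  exact (adams_multiset_prod P j A hA').2

theorem aug_adams_lineSpan (P : PosStructure K) (j : ℕ) {z : K} (hz : z ∈ lineSpan P) :
    P.aug (adams P j z) = P.aug z := by
  induction hz using AddSubgroup.closure_induction with
  | mem u hu =>
    have hu' : P.IsLine u := hu
    rw [adams_line P hu', map_pow, hu'.2, one_pow]
  | zero => rw [adams_zero]
  | add a b _ _ iha ihb => rw [adams_add, map_add, map_add, iha, ihb]
  | neg a _ iha => rw [adams_neg, map_neg, map_neg, iha]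

theorem aug_adams (P : PosStructure K) (hK : HasSplitting K P) (j : ℕ) (x : K) :
    P.aug (adams P j x) = P.aug x := by
  obtain ⟨C, hKC, hC⟩ := hK
  obtain ⟨L, hL, (f : K →+* L.carrier), (hf : IsExtension P L.posStr f), hfx⟩ :=
    exists_split C hC ⟨K, P⟩ hKC x
  rw [← hf.aug_comp, adams_map hf, aug_adams_lineSpan _ j hfx, hf.aug_comp]

end AdamsLine

section Main

variable {K : Type u} [CommRing K] [LambdaOps K]

theorem aug_sub_toNat (P : PosStructure K) {e : K} (he : e ∈ P.pos) :
    P.aug (e - ((P.aug e).toNat : K)) = 0 := by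
  rw [map_sub, map_natCast, Int.toNat_of_nonneg (P.aug_pos e he).le, sub_self]

theorem adams_gamma_pos (P : PosStructure K) (hK : HasSplitting K P) (e : K) (he : e ∈ P.pos)
    (j r : ℕ) :
    adams P j (gamma r (e - ((P.aug e).toNat : K))) -
        (j : K) ^ r * gamma r (e - ((P.aug e).toNat : K)) ∈ gammaFiltration P (r + 1) := by
  obtain ⟨H, hH, hw⟩ := SymmWeight.exists_H (P.aug e).toNat r j
  have hy : P.aug (e - ((P.aug e).toNat : K)) = 0 := aug_sub_toNat P he
  have key : adams P j (gamma r (e - ((P.aug e).toNat : K))) -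
      (j : K) ^ r * gamma r (e - ((P.aug e).toNat : K)) =
      MvPolynomial.aeval
        (fun i : Fin (P.aug e).toNat => gamma (i.1 + 1) (e - ((P.aug e).toNat : K))) H := by
    obtain ⟨C, hKC, hC⟩ := hK
    obtain ⟨L, hL, (f : K →+* L.carrier), (hf : IsExtension P L.posStr f), s, hs, hsum⟩ :=
      hC ⟨K, P⟩ hKC e he
    have hcard : Multiset.card s = (P.aug e).toNat := by
      have h3 : L.posStr.aug (f e) = P.aug e := hf.aug_comp e
      have h4 : L.posStr.aug s.sum = (Multiset.card s : ℤ) :=
        aug_multiset_sum_of_lines L.posStr s hs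
      rw [← h3, ← hsum, h4]
      simp
    apply hf.injective
    have hfy : f (e - ((P.aug e).toNat : K)) = (s.map (fun u => u - 1)).sum := by
      rw [map_sub, map_natCast, ← hsum, ← hcard, sum_map_sub_one]
    have hg : ∀ k, f (gamma k (e - ((P.aug e).toNat : K))) =
        (s.map (fun u => u - 1)).esymm k := by
      intro k
      rw [map_gamma f hf.isLambdaHom, hfy, gamma_sum_line_sub_one L.posStr s hs]
    have hT : ∀ x ∈ s.map (fun u => u - 1), x ∈ lineSpan L.posStr := by
      intro x hx
      obtain ⟨u, hu, rfl⟩ := Multiset.mem_map.mp hx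
      exact line_sub_one_mem _ (hs u hu)
    have hmap : (s.map (fun u => u - 1)).map (adams L.posStr j) =
        (s.map (fun u => u - 1)).map (fun t => (1 + t) ^ j - 1) := by
      rw [Multiset.map_map, Multiset.map_map]
      refine Multiset.map_congr rfl (fun u hu => ?_)
      simp only [Function.comp_apply]
      rw [adams_sub, adams_line _ (hs u hu), adams_line _ (isLine_one _), one_pow,
        add_sub_cancel]
    rw [map_sub, map_mul, map_pow, map_natCast, adams_map hf, hg, adams_esymm L.posStr j _ hT,
      hmap]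
    have h1 := MvPolynomial.comp_aeval_apply
      (f := fun i : Fin (P.aug e).toNat => gamma (i.1 + 1) (e - ((P.aug e).toNat : K)))
      f.toIntAlgHom H
    have h2 := congrArg (fun g : Fin (P.aug e).toNat → L.carrier => MvPolynomial.aeval g H)
      (funext fun i : Fin (P.aug e).toNat => hg (i.1 + 1))
    refine Eq.trans ?_ (h1.trans h2).symm
    rw [SymmWeight.aeval_Spoly _ r j (s.map (fun u => u - 1))
      (by rw [Multiset.card_map, hcard]) H hH]
  rw [key]
  exact aeval_gamma_mem_F P hy (r + 1) H hw

/-- `z ∈ F^n` and `ψ^j z ≡ j^n z` modulo `F^(n+1)` -/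
def Good (P : PosStructure K) (j n : ℕ) (z : K) : Prop :=
  z ∈ gammaFiltration P n ∧ adams P j z - (j : K) ^ n * z ∈ gammaFiltration P (n + 1)

theorem Good.add {P : PosStructure K} {j n : ℕ} {z w : K} (hz : Good P j n z)
    (hw : Good P j n w) : Good P j n (z + w) := by
  refine ⟨add_mem hz.1 hw.1, ?_⟩
  have e1 : adams P j (z + w) - (j : K) ^ n * (z + w) =
      (adams P j z - (j : K) ^ n * z) + (adams P j w - (j : K) ^ n * w) := by
    rw [adams_add]
    ring
  rw [e1]
  exact add_mem hz.2 hw.2

theorem Good.neg {P : PosStructure K} {j n : ℕ} {z : K} (hz : Good P j n z) :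
    Good P j n (-z) := by
  refine ⟨neg_mem hz.1, ?_⟩
  have e1 : adams P j (-z) - (j : K) ^ n * (-z) = -(adams P j z - (j : K) ^ n * z) := by
    rw [adams_neg]
    ring
  rw [e1]
  exact neg_mem hz.2

theorem Good.zero {P : PosStructure K} {j n : ℕ} : Good P j n (0 : K) := by
  refine ⟨zero_mem _, ?_⟩
  rw [adams_zero, mul_zero, sub_zero]
  exact zero_mem _

theorem Good.sum {P : PosStructure K} {j n : ℕ} {ι : Type*} (s : Finset ι) (g : ι → K)
    (h : ∀ i ∈ s, Good P j n (g i)) : Good P j n (∑ i ∈ s, g i) := by
  classical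
  induction s using Finset.induction_on with
  | empty => simpa using Good.zero
  | insert a s ha ih =>
    rw [Finset.sum_insert ha]
    exact Good.add (h a (Finset.mem_insert_self a s))
      (ih (fun i hi => h i (Finset.mem_insert_of_mem hi)))

theorem Good.one {P : PosStructure K} {j : ℕ} : Good P j 0 (1 : K) := by
  refine ⟨one_mem_F0 P, ?_⟩
  rw [adams_line P (isLine_one P), one_pow, pow_zero, mul_one, sub_self]
  exact zero_mem _

theorem Good.mul {P : PosStructure K} (hK : HasSplitting K P) {j a b : ℕ} {z w : K}
    (hz : Good P j a z) (hw : Good P j b w) : Good P j (a + b) (z * w) := by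
  obtain ⟨ψ, hψ⟩ := Groth.Agent.S3285.result K P hK j
  refine ⟨mul_mem_F P hz.1 hw.1, ?_⟩
  have hψw : adams P j w ∈ gammaFiltration P b := by
    have e1 : adams P j w = (adams P j w - (j : K) ^ b * w) + (j : K) ^ b * w := by ring
    rw [e1]
    exact add_mem (F_mono P (Nat.le_succ b) hw.2) (smul_mem_F P _ hw.1)
  have e : adams P j (z * w) - (j : K) ^ (a + b) * (z * w) =
      (adams P j z - (j : K) ^ a * z) * adams P j w +
        ((j : K) ^ a * z) * (adams P j w - (j : K) ^ b * w) := by
    rw [← hψ, ← hψ, ← hψ, map_mul, pow_add]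
    ring
  rw [e]
  apply add_mem
  · have h1 := mul_mem_F P hz.2 hψw
    rwa [show a + 1 + b = a + b + 1 by ring] at h1
  · have h1 := mul_mem_F P (smul_mem_F P ((j : K) ^ a) hz.1) hw.2
    rwa [show a + (b + 1) = a + b + 1 by ring] at h1

theorem Good.mono {P : PosStructure K} {j n : ℕ} {z : K} (hz : Good P j (n + 1) z) :
    Good P j n z := by
  refine ⟨F_mono P (Nat.le_succ n) hz.1, ?_⟩
  have e : adams P j z - (j : K) ^ n * z =
      (adams P j z - (j : K) ^ (n + 1) * z) + ((j : K) ^ (n + 1) - (j : K) ^ n) * z := by ring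
  rw [e]
  exact add_mem (F_mono P (Nat.le_succ _) hz.2) (smul_mem_F P _ hz.1)

theorem Good.mono' {P : PosStructure K} {j n N : ℕ} {z : K} (h : n ≤ N) (hz : Good P j N z) :
    Good P j n z := by
  induction N, h using Nat.le_induction with
  | base => exact hz
  | succ N _ ih => exact ih hz.mono

theorem Good_gamma_pos (P : PosStructure K) (hK : HasSplitting K P) (j : ℕ) {e : K}
    (he : e ∈ P.pos) (r : ℕ) : Good P j r (gamma r (e - ((P.aug e).toNat : K))) :=
  ⟨gamma_mem_F P (aug_sub_toNat P he) r, adams_gamma_pos P hK e he j r⟩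

theorem Good_gamma_neg (P : PosStructure K) (hK : HasSplitting K P) (j : ℕ) {b : K}
    (hb : ∀ i, Good P j i (gamma i b)) : ∀ r, Good P j r (gamma r (-b)) := by
  intro r
  induction r using Nat.strong_induction_on with
  | _ r ih =>
    rcases Nat.eq_zero_or_pos r with h0 | h0
    · subst h0
      rw [gamma_zero']
      exact Good.one
    · have h1 := gamma_add' r b (-b)
      rw [add_neg_cancel, gamma_succ_zero r h0, Finset.sum_range_succ', gamma_zero', one_mul,
        Nat.sub_zero] at h1
      have e : gamma r (-b) =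
          -∑ i ∈ Finset.range r, gamma (i + 1) b * gamma (r - (i + 1)) (-b) := by
        linear_combination (-1 : K) * h1
      rw [e]
      apply Good.neg
      apply Good.sum
      intro i hi
      have hi' : i < r := Finset.mem_range.mp hi
      have h2 := Good.mul hK (hb (i + 1)) (ih (r - (i + 1)) (by omega))
      rwa [show i + 1 + (r - (i + 1)) = r by omega] at h2

theorem Good_gamma_add (P : PosStructure K) (hK : HasSplitting K P) (j : ℕ) {a c : K}
    (ha : ∀ i, Good P j i (gamma i a)) (hc : ∀ i, Good P j i (gamma i c)) (r : ℕ) :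
    Good P j r (gamma r (a + c)) := by
  rw [gamma_add']
  apply Good.sum
  intro i hi
  have hi' : i < r + 1 := Finset.mem_range.mp hi
  have h2 := Good.mul hK (ha i) (hc (r - i))
  rwa [show i + (r - i) = r by omega] at h2

theorem Good_gamma_aug_zero (P : PosStructure K) (hK : HasSplitting K P) (j : ℕ) (y : K)
    (hy : P.aug y = 0) (r : ℕ) : Good P j r (gamma r y) := by
  obtain ⟨e, e', he, he', rfl⟩ := P.exists_sub y
  have hm : ((P.aug e).toNat : K) = ((P.aug e').toNat : K) := by
    rw [map_sub, sub_eq_zero] at hy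
    rw [hy]
  have e1 : e - e' = (e - ((P.aug e).toNat : K)) + -(e' - ((P.aug e').toNat : K)) := by
    rw [hm]
    ring
  rw [e1]
  exact Good_gamma_add P hK j (fun i => Good_gamma_pos P hK j he i)
    (Good_gamma_neg P hK j (fun i => Good_gamma_pos P hK j he' i)) r

theorem Good_list (P : PosStructure K) (hK : HasSplitting K P) (j : ℕ) (l : List (ℕ × K))
    (hl : ∀ p ∈ l, P.aug p.2 = 0) :
    Good P j (l.map Prod.fst).sum (l.map fun p => gamma p.1 p.2).prod := by
  induction l with
  | nil => simpa using Good.one
  | cons a t ih =>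
    simp only [List.map_cons, List.sum_cons, List.prod_cons]
    exact Good.mul hK (Good_gamma_aug_zero P hK j a.2 (hl a (by simp)) a.1)
      (ih (fun p hp => hl p (List.mem_cons_of_mem _ hp)))

/-- `ψ^j` acts as `j^n` on `F^n/F^(n+1)`. -/
theorem adams_sub_pow_mul_mem (P : PosStructure K) (hK : HasSplitting K P) (j n : ℕ) {x : K}
    (hx : x ∈ gammaFiltration P n) :
    adams P j x - (j : K) ^ n * x ∈ gammaFiltration P (n + 1) := by
  by_cases hn : n = 0
  · subst hn
    rw [pow_zero, one_mul]
    have h0 : P.aug (adams P j x - x) = 0 := by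
      rw [map_sub, aug_adams P hK, sub_self]
    have h1 := gamma_mem_F P h0 1
    rwa [gamma_one'] at h1
  · rw [Groth.Agent.S3291.gammaFiltration_pos P n hn] at hx
    have hgood : Good P j n x := by
      induction hx using AddSubgroup.closure_induction with
      | mem y hy =>
        obtain ⟨l, hl, hsum, rfl⟩ := hy
        exact Good.mono' hsum (Good_list P hK j l hl)
      | zero => exact Good.zero
      | add a b _ _ iha ihb => exact Good.add iha ihb
      | neg a _ iha => exact Good.neg iha
    exact hgood.2

end Main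

end Groth.Agent.Helper18.LamAdamsFil
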