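import Mathlib
import Groth.Prelude.Def_KRR

set_option autoImplicit false
universe v

namespace Groth.Agent.Helper18.LamSig

open LambdaRing KRR

variable {K : Type v} [CommRing K] [LambdaRing.LambdaOps K]

/-- the coefficients `(-1)^i λ^i(e)` -/
def acoef (e : K) (i : ℕ) : K := (-1 : K) ^ i * LambdaOps.lam i e

theorem acoef_zero (e : K) : acoef e 0 = 1 := by simp [acoef, LambdaOps.lam_zero]

theorem acoef_eq_zero (P : PosStructure K) (e : K) (he : e ∈ P.pos) (i : ℕ)
    (hi : P.aug e < i) : acoef e i = 0 := by
  rw [acoef, P.lam_eq_zero e he i hi, mul_zero]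

theorem sigma_rel (e : K) (N : ℕ) (hN : 1 ≤ N) :
    ∑ i ∈ Finset.range (N + 1), acoef e i * KRR.sigma (N - i) e = 0 := by
  have h : PowerSeries.rescale (-1 : K) (lamSeries e) * sigmaSeries e = 1 := by
    unfold sigmaSeries
    exact PowerSeries.mul_invOfUnit _ 1 (by
      rw [← PowerSeries.coeff_zero_eq_constantCoeff_apply, PowerSeries.coeff_rescale, lamSeries,
        PowerSeries.coeff_mk, LambdaOps.lam_zero]
      simp)
  have h2 := congrArg (PowerSeries.coeff N) h
  rw [PowerSeries.coeff_mul, Finset.Nat.sum_antidiagonal_eq_sum_range_succ_mk,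
    PowerSeries.coeff_one, if_neg (by omega)] at h2
  simpa [PowerSeries.coeff_rescale, lamSeries, acoef, sigma] using h2

theorem sigma_zero (e : K) : KRR.sigma 0 e = 1 := by
  have h : PowerSeries.rescale (-1 : K) (lamSeries e) * sigmaSeries e = 1 := by
    unfold sigmaSeries
    exact PowerSeries.mul_invOfUnit _ 1 (by
      rw [← PowerSeries.coeff_zero_eq_constantCoeff_apply, PowerSeries.coeff_rescale, lamSeries,
        PowerSeries.coeff_mk, LambdaOps.lam_zero]
      simp)
  have h2 := congrArg (PowerSeries.coeff 0) h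
  simpa [PowerSeries.coeff_mul, PowerSeries.coeff_rescale, lamSeries, sigma,
    LambdaOps.lam_zero] using h2

/-- the defining relation of the root in the elementary extension, in `smul` form, shifted -/
theorem root_rel (P : PosStructure K) (e : K) (m : ℕ) (hm : (P.aug e).toNat = m)
    (y : AdjoinRoot (KRR.extPoly P e)) :
    ∑ j ∈ Finset.range (m + 1),
      acoef e j • (AdjoinRoot.root (KRR.extPoly P e) ^ (m - j) * y) = 0 := by
  have h := AdjoinRoot.eval₂_root (KRR.extPoly P e)
  have hp : KRR.extPoly P e = ∑ i ∈ Finset.range (m + 1),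
      Polynomial.C ((-1 : K) ^ i * LambdaOps.lam i e) * Polynomial.X ^ (m - i) := by
    rw [← hm]
    rfl
  have h2 : ∀ q : Polynomial K, q = (∑ i ∈ Finset.range (m + 1),
      Polynomial.C ((-1 : K) ^ i * LambdaOps.lam i e) * Polynomial.X ^ (m - i)) →
      Polynomial.eval₂ (AdjoinRoot.of (KRR.extPoly P e)) (AdjoinRoot.root (KRR.extPoly P e)) q =
      ∑ j ∈ Finset.range (m + 1),
        AdjoinRoot.of (KRR.extPoly P e) (acoef e j) * AdjoinRoot.root (KRR.extPoly P e) ^ (m - j) := by
    rintro q rfl
    rw [Polynomial.eval₂_finsetSum]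
    refine Finset.sum_congr rfl (fun j _ => ?_)
    rw [Polynomial.eval₂_mul, Polynomial.eval₂_C, Polynomial.eval₂_pow, Polynomial.eval₂_X]
    rfl
  replace h2 := h2 _ hp
  rw [h2] at h
  have h3 := congrArg (· * y) h
  simp only [zero_mul, Finset.sum_mul] at h3
  rw [← h3]
  refine Finset.sum_congr rfl (fun j _ => ?_)
  rw [Algebra.smul_def, AdjoinRoot.algebraMap_eq, mul_assoc]

/-- a `K`-linear functional on the elementary extension with the right values on the first powers
of the root has the right values on all powers. -/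
theorem f_root_pow (P : PosStructure K) (e : K) (he : e ∈ P.pos) (r : ℕ) (hr : P.aug e = r + 1)
    (f : AdjoinRoot (KRR.extPoly P e) →ₗ[K] K)
    (hf : ∀ i : ℕ, i ≤ r → f (AdjoinRoot.root (KRR.extPoly P e) ^ i) = KRR.sigma i e) :
    ∀ i : ℕ, f (AdjoinRoot.root (KRR.extPoly P e) ^ i) = KRR.sigma i e := by
  have hm : (P.aug e).toNat = r + 1 := by rw [hr]; omega
  have ha0 : acoef e 0 = 1 := acoef_zero e
  intro i
  induction i using Nat.strong_induction_on with
  | _ i ih =>
    by_cases hi : i ≤ r
    · exact hf i hi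
    · rw [not_le] at hi
      obtain ⟨k, rfl⟩ : ∃ k, i = (r + 1) + k := ⟨i - (r + 1), by omega⟩
      have h1 := congrArg f (root_rel P e (r + 1) hm (AdjoinRoot.root (KRR.extPoly P e) ^ k))
      rw [map_sum, map_zero] at h1
      simp only [map_smul, smul_eq_mul, ← pow_add] at h1
      have h2 := sigma_rel e (r + 1 + k) (by omega)
      have h2' : ∑ j ∈ Finset.range (r + 1 + 1), acoef e j * KRR.sigma (r + 1 - j + k) e = 0 := by
        rw [← h2]
        have hsub : Finset.range (r + 1 + 1) ⊆ Finset.range (r + 1 + k + 1) :=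
          Finset.range_subset_range.mpr (by omega)
        rw [← Finset.sum_subset hsub]
        · refine Finset.sum_congr rfl (fun j hj => ?_)
          have := Finset.mem_range.mp hj
          have e1 : r + 1 - j + k = r + 1 + k - j := by omega
          rw [e1]
        · intro j _ hj'
          have hj2 : r + 1 < j := by
            have := Finset.mem_range.not.mp hj'
            omega
          rw [acoef_eq_zero P e he j (by rw [hr]; exact_mod_cast hj2), zero_mul]
      have h3 : ∑ j ∈ Finset.range (r + 1 + 1), acoef e j *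
          (f (AdjoinRoot.root (KRR.extPoly P e) ^ (r + 1 - j + k)) -
            KRR.sigma (r + 1 - j + k) e) = 0 := by
        simp only [mul_sub, Finset.sum_sub_distrib, h1, h2', sub_zero]
      rw [Finset.sum_range_succ'] at h3
      have h4 : ∑ j ∈ Finset.range (r + 1), acoef e (j + 1) *
          (f (AdjoinRoot.root (KRR.extPoly P e) ^ (r + 1 - (j + 1) + k)) -
            KRR.sigma (r + 1 - (j + 1) + k) e) = 0 := by
        refine Finset.sum_eq_zero (fun j hj => ?_)
        have := Finset.mem_range.mp hj
        rw [ih (r + 1 - (j + 1) + k) (by omega), sub_self, mul_zero]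
      rw [h4, zero_add, ha0, one_mul, Nat.sub_zero] at h3
      exact sub_eq_zero.mp h3

/-- the alternating convolution of `λ` and `σ` vanishes in positive degrees -/
theorem lam_sigma_conv (e : K) (i : ℕ) :
    ∑ j ∈ Finset.range (i + 1), LambdaOps.lam (i - j) e * ((-1 : K) ^ j * KRR.sigma j e) =
      if i = 0 then 1 else 0 := by
  rcases Nat.eq_zero_or_pos i with rfl | hi
  · simp [LambdaOps.lam_zero, sigma_zero]
  · rw [if_neg (by omega)]
    have h := sigma_rel e i hi
    rw [← Finset.sum_flip] at h
    have h2 : ∑ j ∈ Finset.range (i + 1), LambdaOps.lam (i - j) e * ((-1 : K) ^ j * KRR.sigma j e) =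
        (-1 : K) ^ i * ∑ j ∈ Finset.range (i + 1), acoef e (i - j) * KRR.sigma (i - (i - j)) e := by
      rw [Finset.mul_sum]
      refine Finset.sum_congr rfl (fun j hj => ?_)
      have hj1 : j ≤ i := Nat.lt_succ_iff.mp (Finset.mem_range.mp hj)
      have e1 : i - (i - j) = j := by omega
      have e2 : (-1 : K) ^ i = (-1) ^ (i - j) * (-1) ^ j := by rw [← pow_add]; congr 1; omega
      have e3 : ((-1 : K) ^ (i - j)) * (-1) ^ (i - j) = 1 := by
        rw [← mul_pow]; simp
      rw [e1, acoef, e2]
      linear_combination (-(-1 : K) ^ j * LambdaOps.lam (i - j) e * sigma j e) * e3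
    rw [h2, h, mul_zero]

end Groth.Agent.Helper18.LamSig
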