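import Mathlib

/-!
# Trace on a finite local algebra over a field

`Tr_{C/k}(c) = length(C) • Tr_{k'/k}(c mod m)`.
-/

set_option autoImplicit false
universe u

namespace Groth.Agent.Helper18.LocalTrace

open Module

section T

variable {k V : Type*} [Field k] [AddCommGroup V] [Module k V] [FiniteDimensional k V]

/-- trace is additive along an invariant subspace -/
theorem trace_eq_restrict_add_mapQ (φ : V →ₗ[k] V) (W : Submodule k V)
    (hW : W ≤ W.comap φ) :
    LinearMap.trace k V φ =
      LinearMap.trace k W (φ.restrict hW) + LinearMap.trace k (V ⧸ W) (W.mapQ W φ hW) := by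
  obtain ⟨W', hc⟩ := Submodule.exists_isCompl W
  let πW : V →ₗ[k] W := W.projectionOnto W' hc
  let πW' : V →ₗ[k] W' := W'.projectionOnto W hc.symm
  have hsum : ∀ v : V, ((πW v : V) + (πW' v : V)) = v := fun v =>
    Submodule.projection_add_projection_eq_self hc v
  have hφ : φ = (φ ∘ₗ W.subtype) ∘ₗ πW + (φ ∘ₗ W'.subtype) ∘ₗ πW' := by
    ext v
    simp only [LinearMap.add_apply, LinearMap.comp_apply, Submodule.subtype_apply]
    rw [← map_add, hsum v]
  have h1 : πW ∘ₗ (φ ∘ₗ W.subtype) = φ.restrict hW := by
    ext w
    simp only [LinearMap.comp_apply, Submodule.subtype_apply, LinearMap.restrict_coe_apply]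
    have hmem : φ (w : V) ∈ W := hW w.2
    have : πW (φ (w : V)) = ⟨φ (w : V), hmem⟩ := Submodule.projectionOnto_apply_of_mem_left hc hmem
    rw [this]
  let e : (V ⧸ W) ≃ₗ[k] W' := Submodule.quotientEquivOfIsCompl W W' hc
  have h2 : πW' ∘ₗ (φ ∘ₗ W'.subtype) = e.conj (W.mapQ W φ hW) := by
    ext w'
    simp only [LinearMap.comp_apply, Submodule.subtype_apply, LinearEquiv.conj_apply,
      LinearEquiv.coe_coe]
    have hs : e.symm w' = Submodule.Quotient.mk (w' : V) := rfl
    rw [hs, Submodule.mapQ_apply]
    rfl
  calc LinearMap.trace k V φ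
      = LinearMap.trace k V ((φ ∘ₗ W.subtype) ∘ₗ πW + (φ ∘ₗ W'.subtype) ∘ₗ πW') := by rw [← hφ]
    _ = LinearMap.trace k V ((φ ∘ₗ W.subtype) ∘ₗ πW)
        + LinearMap.trace k V ((φ ∘ₗ W'.subtype) ∘ₗ πW') := map_add _ _ _
    _ = LinearMap.trace k W (πW ∘ₗ (φ ∘ₗ W.subtype))
        + LinearMap.trace k W' (πW' ∘ₗ (φ ∘ₗ W'.subtype)) := by
        rw [LinearMap.trace_comp_comm', LinearMap.trace_comp_comm' (φ ∘ₗ W'.subtype)]
    _ = _ := by rw [h1, h2, LinearMap.trace_conj']

end T

section P

variable (k : Type u) [Field k] (C : Type u) [CommRing C] [Algebra k C] [IsLocalRing C]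
  [Module.Finite k C]

theorem trace_lsmul (n : ℕ) : ∀ (M : Type u) [AddCommGroup M] [Module C M] [Module k M]
    [IsScalarTower k C M] [Module.Finite k M], finrank k M = n → ∀ (c : C),
    LinearMap.trace k M (Algebra.lsmul k k M c) =
      (Module.length C M).toNat • Algebra.trace k (IsLocalRing.ResidueField C)
        (IsLocalRing.residue C c) := by
  induction n using Nat.strong_induction_on with
  | _ n ih =>
  intro M _ _ _ _ _ hn c
  by_cases hM : Subsingleton M
  · have h0 : Algebra.lsmul k k M c = 0 := by
      ext x; exact Subsingleton.elim _ _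
    rw [h0, map_zero, Module.length_eq_zero, ENat.toNat_zero, zero_smul]
  · rw [not_subsingleton_iff_nontrivial] at hM
    haveI : IsArtinian C M := isArtinian_of_tower k inferInstance
    haveI : IsNoetherian C M := isNoetherian_of_tower k inferInstance
    obtain ⟨N, hN⟩ := IsAtomic.exists_atom (Submodule C M)
    haveI : IsSimpleModule C N := isSimpleModule_iff_isAtom.2 hN
    obtain ⟨I, hI, ⟨e⟩⟩ := isSimpleModule_iff_quot_maximal.1 (inferInstance : IsSimpleModule C N)
    have hIm : I = IsLocalRing.maximalIdeal C := IsLocalRing.eq_maximalIdeal hI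
    subst hIm
    -- the k-subspace
    obtain ⟨W, hWdef⟩ : ∃ W : Submodule k M, W = N.restrictScalars k := ⟨_, rfl⟩
    have hW : W ≤ W.comap (Algebra.lsmul k k M c) := by
      intro x hx
      rw [hWdef] at hx ⊢
      exact N.smul_mem c hx
    rw [trace_eq_restrict_add_mapQ _ W hW]
    -- first term
    have hfirst : LinearMap.trace k W ((Algebra.lsmul k k M c).restrict hW) =
        Algebra.trace k (IsLocalRing.ResidueField C) (IsLocalRing.residue C c) := by
      subst hWdef
      let e' : (N.restrictScalars k) ≃ₗ[k] IsLocalRing.ResidueField C :=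
        (N.restrictScalarsEquiv k).restrictScalars k ≪≫ₗ e.restrictScalars k
      rw [Algebra.trace_apply, ← LinearMap.trace_conj' _ e']
      congr 1
      ext y
      obtain ⟨x, rfl⟩ := e'.surjective y
      simp only [LinearEquiv.conj_apply, LinearMap.comp_apply, LinearEquiv.coe_coe,
        LinearEquiv.symm_apply_apply]
      change e' (((Algebra.lsmul k k M c).restrict hW) x) = _
      have h2 : e' (((Algebra.lsmul k k M c).restrict hW) x) = e (c • (⟨x.1, x.2⟩ : N)) := rfl
      rw [h2, map_smul]
      have h3 : e' x = e (⟨x.1, x.2⟩ : N) := rfl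
      rw [h3]
      simp only [Algebra.lmul_algebraMap, Algebra.coe_lmul_eq_mul, LinearMap.mul_apply']
      rw [Algebra.smul_def]
      rfl
    -- second term
    have hlt : finrank k (M ⧸ N) < n := by
      have h1 : finrank k (M ⧸ W) + finrank k W = finrank k M :=
        Submodule.finrank_quotient_add_finrank W
      have h2 : finrank k (M ⧸ W) = finrank k (M ⧸ N) := by
        rw [hWdef]
        exact (Submodule.Quotient.restrictScalarsEquiv k N).finrank_eq
      have h3 : 0 < finrank k W := by
        rw [Module.finrank_pos_iff]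
        rw [hWdef]
        have : Nontrivial N := IsSimpleModule.nontrivial C N
        obtain ⟨a, b, hab⟩ := exists_pair_ne N
        exact ⟨⟨⟨a.1, a.2⟩, ⟨b.1, b.2⟩, fun h => hab (Subtype.ext (congrArg Subtype.val h))⟩⟩
      omega
    have hsecond : LinearMap.trace k (M ⧸ W) (W.mapQ W (Algebra.lsmul k k M c) hW) =
        (Module.length C (M ⧸ N)).toNat • Algebra.trace k (IsLocalRing.ResidueField C)
          (IsLocalRing.residue C c) := by
      rw [← ih _ hlt (M ⧸ N) rfl c]
      subst hWdef
      rw [← LinearMap.trace_conj' _ (Submodule.Quotient.restrictScalarsEquiv k N)]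
      congr 1
      apply LinearMap.ext
      intro y
      obtain ⟨y', rfl⟩ := (Submodule.Quotient.restrictScalarsEquiv k N).surjective y
      obtain ⟨x, rfl⟩ := Submodule.Quotient.mk_surjective _ y'
      rfl
    rw [hfirst, hsecond]
    have hlen : Module.length C M = Module.length C N + Module.length C (M ⧸ N) :=
      Module.length_eq_add_of_exact N.subtype N.mkQ N.injective_subtype
        (Submodule.mkQ_surjective N) (LinearMap.exact_subtype_mkQ N)
    have hone : Module.length C N = 1 := Module.length_eq_one_iff.2 inferInstance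
    rw [hlen, hone, ENat.toNat_add (by simp) Module.length_ne_top, add_smul,
      ENat.toNat_one, one_smul]

/-- The trace on a finite local `k`-algebra is the length times the residue trace. -/
theorem trace_eq (c : C) :
    Algebra.trace k C c = (Module.length C C).toNat • Algebra.trace k (IsLocalRing.ResidueField C)
        (IsLocalRing.residue C c) := by
  rw [Algebra.trace_apply, ← trace_lsmul k C _ C rfl c]
  rfl

include k in
theorem length_toNat_ne_zero : (Module.length C C).toNat ≠ 0 := by
  haveI : IsArtinian C C := isArtinian_of_tower k inferInstance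
  haveI : IsNoetherian C C := isNoetherian_of_tower k inferInstance
  intro h
  rw [ENat.toNat_eq_zero] at h
  rcases h with h | h
  · rw [Module.length_eq_zero_iff] at h
    exact not_subsingleton C h
  · exact Module.length_ne_top h

instance : Module.Finite k (IsLocalRing.ResidueField C) :=
  Module.Finite.of_surjective (IsScalarTower.toAlgHom k C (IsLocalRing.ResidueField C)).toLinearMap
    Ideal.Quotient.mk_surjective

theorem trace_ne_zero_iff : Algebra.trace k C ≠ 0 ↔
    (Algebra.IsSeparable k (IsLocalRing.ResidueField C) ∧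
      ((Module.length C C).toNat : k) ≠ 0) := by
  constructor
  · intro h
    have hex : ∃ c, Algebra.trace k C c ≠ 0 := by
      by_contra hno
      apply h
      ext c
      by_contra hc
      exact hno ⟨c, hc⟩
    obtain ⟨c, hc⟩ := hex
    rw [trace_eq, nsmul_eq_mul] at hc
    constructor
    · by_contra hsep
      rw [Algebra.trace_eq_zero_of_not_isSeparable hsep] at hc
      simp at hc
    · intro h0
      rw [h0, zero_mul] at hc
      exact hc rfl
  · rintro ⟨hsep, hl⟩ h
    obtain ⟨z, hz⟩ := Algebra.trace_surjective k (IsLocalRing.ResidueField C) 1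
    obtain ⟨c, rfl⟩ := IsLocalRing.residue_surjective z
    have := trace_eq k C c
    rw [h, hz, nsmul_eq_mul, mul_one] at this
    exact hl this.symm

theorem trace_surjective_iff : Function.Surjective (Algebra.trace k C) ↔
    (Algebra.IsSeparable k (IsLocalRing.ResidueField C) ∧
      ((Module.length C C).toNat : k) ≠ 0) := by
  rw [← trace_ne_zero_iff]
  constructor
  · intro h h0
    obtain ⟨c, hc⟩ := h 1
    rw [h0] at hc
    simp at hc
  · intro h y
    have hex : ∃ c, Algebra.trace k C c ≠ 0 := by
      by_contra hno
      apply h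
      ext c
      by_contra hc
      exact hno ⟨c, hc⟩
    obtain ⟨c, hc⟩ := hex
    refine ⟨(y / Algebra.trace k C c) • c, ?_⟩
    rw [map_smul, smul_eq_mul, div_mul_cancel₀ _ hc]

end P

end Groth.Agent.Helper18.LocalTrace
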