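import Groth.Agent.Lib.Helper18.StalkClosed

/-!
# Geometric stalks of direct images along open immersions, at points of the open subscheme
-/

set_option autoImplicit false
open CategoryTheory CategoryTheory.Limits AlgebraicGeometry Opposite
universe u

namespace Groth.Agent.Helper18.StalkOpen

open Groth.Agent.Helper18.StalkClosed

variable {V X : Scheme.{u}} (j : V ⟶ X) [IsOpenImmersion j] {Ω : Type u} [Field Ω]
  [IsSepClosed Ω] (ζ : Spec (CommRingCat.of Ω) ⟶ V)

theorem exists_nbhd_lift (W : V.Etale) (w : (Scheme.pointSmallEtale ζ).fiber.obj W) :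
    ∃ (U : X.Etale) (m : (EtCoh.bc j).obj U ⟶ W)
      (w' : (Scheme.pointSmallEtale ζ).fiber.obj ((EtCoh.bc j).obj U)),
      (Scheme.pointSmallEtale ζ).fiber.map m w' = w := by
  obtain ⟨wl, hwl⟩ : ∃ wl : Spec (CommRingCat.of Ω) ⟶ W.left, wl = w.left := ⟨w.left, rfl⟩
  have hw : wl ≫ W.hom = ζ := by
    rw [hwl]
    exact Over.w w
  haveI : Etale W.hom := W.prop
  let U : X.Etale := MorphismProperty.Over.mk ⊤ (W.hom ≫ j) inferInstance
  have hm : pullback.fst (W.hom ≫ j) j ≫ W.hom = pullback.snd (W.hom ≫ j) j := by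
    rw [← cancel_mono j, Category.assoc]
    exact pullback.condition
  let m : (EtCoh.bc j).obj U ⟶ W := MorphismProperty.Over.homMk (pullback.fst (W.hom ≫ j) j) hm
    trivial
  let l : Spec (CommRingCat.of Ω) ⟶ pullback (W.hom ≫ j) j :=
    pullback.lift wl ζ (by rw [← Category.assoc, hw])
  have hl : l ≫ pullback.snd (W.hom ≫ j) j = ζ := pullback.lift_snd _ _ _
  let w' : (Scheme.pointSmallEtale ζ).fiber.obj ((EtCoh.bc j).obj U) := Over.homMk l hl
  refine ⟨U, m, w', ?_⟩
  apply Over.OverMorphism.ext
  exact (pullback.lift_fst _ _ _).trans hwl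

omit [Field Ω] [IsSepClosed Ω] in
theorem exists_hom_lift (T U : X.Etale) (h : (EtCoh.bc j).obj T ⟶ (EtCoh.bc j).obj U) :
    ∃ (W : X.Etale) (a : W ⟶ T) (b : W ⟶ U), IsIso ((EtCoh.bc j).map a) ∧
      (EtCoh.bc j).map a ≫ h = (EtCoh.bc j).map b := by
  haveI : Etale T.hom := T.prop
  haveI : Etale U.hom := U.prop
  have hh : h.left ≫ pullback.snd U.hom j = pullback.snd T.hom j := MorphismProperty.Over.w h
  let W : X.Etale := MorphismProperty.Over.mk ⊤ (pullback.snd T.hom j ≫ j) inferInstance
  let a : W ⟶ T := MorphismProperty.Over.homMk (pullback.fst T.hom j) pullback.condition trivial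
  let b : W ⟶ U := MorphismProperty.Over.homMk (h.left ≫ pullback.fst U.hom j) (by
    exact (Category.assoc _ _ _).trans ((congrArg (fun m => h.left ≫ m)
      (pullback.condition (f := U.hom) (g := j))).trans ((Category.assoc _ _ _).symm.trans
        (congrArg (fun m => m ≫ j) hh)))) trivial
  have hW : pullback.fst (pullback.snd T.hom j ≫ j) j ≫ pullback.snd T.hom j =
      pullback.snd (pullback.snd T.hom j ≫ j) j := by
    rw [← cancel_mono j, Category.assoc]
    exact pullback.condition
  have ha : ((EtCoh.bc j).map a).left = pullback.fst (pullback.snd T.hom j ≫ j) j := by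
    apply pullback.hom_ext
    · dsimp [EtCoh.bc]
      exact pullback.lift_fst _ _ _
    · dsimp [EtCoh.bc]
      exact (pullback.lift_snd _ _ _).trans hW.symm
  have hb1 : ((EtCoh.bc j).map b).left ≫ pullback.fst U.hom j =
      pullback.fst (pullback.snd T.hom j ≫ j) j ≫ h.left ≫ pullback.fst U.hom j := by
    dsimp [EtCoh.bc]
    exact pullback.lift_fst _ _ _
  have hb2 : ((EtCoh.bc j).map b).left ≫ pullback.snd U.hom j =
      pullback.snd (pullback.snd T.hom j ≫ j) j := by
    dsimp [EtCoh.bc]
    exact pullback.lift_snd _ _ _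
  haveI hiso : IsIso (pullback.fst (pullback.snd T.hom j ≫ j) j) := by
    refine ⟨pullback.lift (𝟙 _) (pullback.snd T.hom j) (by simp), ?_, ?_⟩
    · apply pullback.hom_ext
      · rw [Category.assoc, pullback.lift_fst, Category.comp_id, Category.id_comp]
      · rw [Category.assoc, pullback.lift_snd, Category.id_comp, hW]
    · exact pullback.lift_fst _ _ _
  refine ⟨W, a, b, ?_, ?_⟩
  · haveI : IsIso ((EtCoh.bc j).map a).left := by rw [ha]; exact hiso
    haveI : IsIso ((Scheme.Etale.forget V).map ((EtCoh.bc j).map a)) := by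
      haveI : IsIso ((CategoryTheory.Over.forget V).map
          ((Scheme.Etale.forget V).map ((EtCoh.bc j).map a))) := by
        change IsIso ((EtCoh.bc j).map a).left
        infer_instance
      exact isIso_of_reflects_iso _ (CategoryTheory.Over.forget V)
    exact isIso_of_reflects_iso _ (Scheme.Etale.forget V)
  · apply MorphismProperty.Over.Hom.ext
    change ((EtCoh.bc j).map a).left ≫ h.left = ((EtCoh.bc j).map b).left
    rw [ha]
    apply pullback.hom_ext
    · exact (Category.assoc _ _ _).trans hb1.symm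
    · exact (Category.assoc _ _ _).trans
        ((congrArg (fun m => pullback.fst (pullback.snd T.hom j ≫ j) j ≫ m) hh).trans
          (hW.trans hb2.symm))

/-- The stalk of `j_* G` at `ζ ≫ j` is the stalk of `G` at `ζ`, for an open immersion `j`. -/
theorem stalk_push_iso (G : EtCoh.Ab V) :
    Nonempty ((EtCoh.stalk (ζ ≫ j)).obj ((EtCoh.push j).obj G) ≅ (EtCoh.stalk ζ).obj G) :=
  stalk_push_iso_of j ζ (exists_nbhd_lift j ζ) (exists_hom_lift j) G

end Groth.Agent.Helper18.StalkOpen
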