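import Groth.Agent.Lib.Helper18.ClosedDense
import Groth.Agent.Lib.Helper18.StalkOpen

/-!
# Base change to an open subscheme is cover-dense and locally full; full faithfulness of direct
images along immersions
-/

set_option autoImplicit false
open CategoryTheory CategoryTheory.Limits AlgebraicGeometry Opposite
universe u v' u'

namespace Groth.Agent.Helper18.OpenDense

section General

variable {Z X : Scheme.{u}} (i : Z ⟶ X) [(EtCoh.bc i).IsCoverDense Z.smallEtaleTopology]
  [(EtCoh.bc i).IsLocallyFull Z.smallEtaleTopology] (A : Type u') [Category.{v'} A]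

/-- Direct image along `i` is full as soon as base change is cover-dense and locally full. -/
theorem full_of_dense :
    ((EtCoh.bc i).sheafPushforwardContinuous A X.smallEtaleTopology Z.smallEtaleTopology).Full := by
  constructor
  intro F G φ
  let α : (EtCoh.bc i).op ⋙ F.obj ⟶ (EtCoh.bc i).op ⋙ G.obj := φ.hom
  refine ⟨⟨Functor.IsCoverDense.restrictHomEquivHom (G := EtCoh.bc i) (ℱ' := G) α⟩, ?_⟩
  apply ObjectProperty.hom_ext
  exact Functor.IsCoverDense.sheafHom_restrict_eq (G := EtCoh.bc i) (ℱ' := G) α

theorem faithful_of_dense :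
    ((EtCoh.bc i).sheafPushforwardContinuous A X.smallEtaleTopology
      Z.smallEtaleTopology).Faithful := by
  constructor
  intro F G a b hab
  apply ObjectProperty.hom_ext
  apply (Functor.IsCoverDense.restrictHomEquivHom (G := EtCoh.bc i) (ℱ := F.obj)
    (ℱ' := G)).symm.injective
  exact congrArg (fun m => m.hom) hab

end General

variable {V X : Scheme.{u}} (j : V ⟶ X) [IsOpenImmersion j]

instance isCoverDense : (EtCoh.bc j).IsCoverDense V.smallEtaleTopology where
  is_cover W := by
    haveI : Etale W.hom := W.prop
    let U : X.Etale := MorphismProperty.Over.mk ⊤ (W.hom ≫ j) inferInstance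
    have hm : pullback.fst (W.hom ≫ j) j ≫ W.hom = pullback.snd (W.hom ≫ j) j := by
      rw [← cancel_mono j, Category.assoc]
      exact pullback.condition
    let m : (EtCoh.bc j).obj U ⟶ W :=
      MorphismProperty.Over.homMk (pullback.fst (W.hom ≫ j) j) hm trivial
    refine Groth.Agent.Helper18.StalkSets.mem_smallEtaleTopology _ ?_
    intro x
    obtain ⟨y, hy1, -⟩ := Scheme.Pullback.exists_preimage_pullback (f := W.hom ≫ j) (g := j) x
      (W.hom x) (by rw [Scheme.Hom.comp_apply])
    exact ⟨(EtCoh.bc j).obj U, m, y, Presieve.in_coverByImage (EtCoh.bc j) m, hy1⟩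

instance isLocallyFull : (EtCoh.bc j).IsLocallyFull V.smallEtaleTopology where
  functorPushforward_imageSieve_mem {U W} f := by
    obtain ⟨T, a, b, ha, hab⟩ := Groth.Agent.Helper18.StalkOpen.exists_hom_lift j U W f
    have hmem : ((EtCoh.bc j).imageSieve f).functorPushforward (EtCoh.bc j)
        ((EtCoh.bc j).map a) :=
      Sieve.image_mem_functorPushforward (EtCoh.bc j) _ ⟨b, hab.symm⟩
    have htop : ((EtCoh.bc j).imageSieve f).functorPushforward (EtCoh.bc j) = ⊤ := by
      rw [← Sieve.id_mem_iff_eq_top]
      have := (((EtCoh.bc j).imageSieve f).functorPushforward (EtCoh.bc j)).downward_closed hmem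
        (inv ((EtCoh.bc j).map a))
      rwa [IsIso.inv_hom_id] at this
    rw [htop]
    exact V.smallEtaleTopology.top_mem _

section Immersion

variable {X Y : Scheme.{u}} (f : X ⟶ Y) [IsImmersion f]

theorem full_pushSh : (EtDesc.pushSh f).Full := by
  haveI : (EtDesc.pushSh f.liftCoborder).Full := full_of_dense f.liftCoborder (Type (u + 1))
  haveI : (EtDesc.pushSh f.coborderRange.ι).Full := full_of_dense f.coborderRange.ι (Type (u + 1))
  have e : EtDesc.pushSh f.liftCoborder ⋙ EtDesc.pushSh f.coborderRange.ι ≅ EtDesc.pushSh f :=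
    (EtDesc.pushCompSh f.coborderRange.ι f.liftCoborder).trans
      (eqToIso (by rw [f.liftCoborder_ι]))
  exact Functor.Full.of_iso e

theorem faithful_pushSh : (EtDesc.pushSh f).Faithful := by
  haveI : (EtDesc.pushSh f.liftCoborder).Faithful :=
    faithful_of_dense f.liftCoborder (Type (u + 1))
  haveI : (EtDesc.pushSh f.coborderRange.ι).Faithful :=
    faithful_of_dense f.coborderRange.ι (Type (u + 1))
  have e : EtDesc.pushSh f.liftCoborder ⋙ EtDesc.pushSh f.coborderRange.ι ≅ EtDesc.pushSh f :=
    (EtDesc.pushCompSh f.coborderRange.ι f.liftCoborder).trans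
      (eqToIso (by rw [f.liftCoborder_ι]))
  exact Functor.Faithful.of_iso e

/-- For an immersion `f`, the counit `f^* f_* F ⟶ F` on sheaves of sets is an isomorphism. -/
theorem isIso_counit_sets (F : EtDesc.Sh X) : IsIso ((EtDesc.adjSh f).counit.app F) := by
  haveI := full_pushSh f
  haveI := faithful_pushSh f
  infer_instance

end Immersion

end Groth.Agent.Helper18.OpenDense
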