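import Mathlib
import Groth.Prelude.Def_ProCons
import Groth.Agent.H11.ProCons

set_option autoImplicit false

namespace Groth.Agent.Helper18.ProConsImage

open AlgebraicGeometry CategoryTheory Topology Set Set.Notation

universe u

/-- Points of a T0 prespectral quasi-separated space are separated by constructible sets. -/
lemma exists_isConstructible_sep {V : Type*} [TopologicalSpace V] [T0Space V] [PrespectralSpace V]
    [QuasiSeparatedSpace V] {v v' : V} (h : v' ≠ v) :
    ∃ D : Set V, IsConstructible D ∧ v ∈ D ∧ v' ∉ D := by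
  obtain ⟨U, hU, hx⟩ := exists_isOpen_xor'_mem h
  rcases hx with ⟨h1, h2⟩ | ⟨h1, h2⟩
  · obtain ⟨K, ⟨hKo, hKc⟩, hK, hKU⟩ :=
      (PrespectralSpace.isTopologicalBasis (X := V)).mem_nhds_iff.mp (hU.mem_nhds h1)
    exact ⟨Kᶜ, (hKc.isConstructible hKo).compl, fun hv => h2 (hKU hv), fun hv => hv hK⟩
  · obtain ⟨K, ⟨hKo, hKc⟩, hK, hKU⟩ :=
      (PrespectralSpace.isTopologicalBasis (X := V)).mem_nhds_iff.mp (hU.mem_nhds h1)
    exact ⟨K, hKc.isConstructible hKo, hK, fun hv => h2 (hKU hv)⟩

/-- The image of a set closed for the constructible topology under a spectral map of spectral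
spaces is the intersection of the constructible sets containing it. -/
theorem image_eq_sInter {W V : Type*} [TopologicalSpace W] [TopologicalSpace V]
    [CompactSpace W] [QuasiSober W] [PrespectralSpace W] [QuasiSeparatedSpace W]
    [T0Space V] [PrespectralSpace V] [QuasiSeparatedSpace V]
    (g : W → V) (hg : ∀ D : Set V, IsConstructible D → IsConstructible (g ⁻¹' D))
    (E : Set W)
    (hE : IsClosed (WithTopology.ofTopology ⁻¹' E : Set (WithConstructibleTopology W))) :
    g '' E = ⋂₀ {D : Set V | IsConstructible D ∧ g '' E ⊆ D} := by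
  classical
  apply subset_antisymm
  · exact subset_sInter fun D hD => hD.2
  · intro v hv
    by_contra hvE
    have hcomp : IsCompact (WithTopology.ofTopology ⁻¹' E : Set (WithConstructibleTopology W)) :=
      hE.isCompact
    obtain ⟨J, hJ⟩ := hcomp.elim_finite_subfamily_closed
      (fun D : {D : Set V // IsConstructible D ∧ v ∈ D} =>
        (WithTopology.ofTopology ⁻¹' (g ⁻¹' (D : Set V)) : Set (WithConstructibleTopology W)))
      (fun D => (Groth.Agent.H11.isClopen_cons_of_isConstructible (hg D.1 D.2.1)).1) (by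
        rw [eq_empty_iff_forall_notMem]
        rintro w ⟨hw1, hw2⟩
        apply hvE
        refine ⟨WithTopology.ofTopology w, hw1, ?_⟩
        by_contra hne
        obtain ⟨D, hD, hvD, hgD⟩ := exists_isConstructible_sep hne
        rw [mem_iInter] at hw2
        exact hgD (hw2 ⟨D, hD, hvD⟩))
    have hD₀ : IsConstructible (⋂ D ∈ J, (D : Set V)) :=
      IsConstructible.biInter J.finite_toSet (fun D _ => D.2.1)
    have hsub : g '' E ⊆ (⋂ D ∈ J, (D : Set V))ᶜ := by
      rintro _ ⟨w, hw, rfl⟩ hgw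
      have : WithTopology.toTopology _ w ∈ (∅ : Set (WithConstructibleTopology W)) := by
        rw [← hJ]
        refine ⟨hw, ?_⟩
        simp only [mem_iInter] at hgw ⊢
        exact fun D hD => hgw D hD
      exact this
    have := hv _ ⟨hD₀.compl, hsub⟩
    apply this
    simp only [mem_iInter]
    exact fun D _ => D.2.2

theorem main {X' X : Scheme.{u}} (f : X' ⟶ X) [QuasiCompact f]
    (E' : Set X') (hE' : ProCons.IsProConstructible E') :
    ProCons.IsProConstructible (f.base '' E') := by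
  classical
  intro y
  obtain ⟨_, ⟨V, hV, rfl⟩, hyV, -⟩ :=
    (X.isBasis_affineOpens).exists_subset_of_mem_open (Set.mem_univ y) isOpen_univ
  have hV' : IsAffineOpen V := hV
  have hc : IsCompact (f ⁻¹ᵁ V : Set X') :=
    QuasiCompact.isCompact_preimage (f := f) _ V.isOpen hV'.isCompact
  obtain ⟨s, hs, hU⟩ := (isCompact_iff_finite_and_eq_biUnion_affineOpens (U := f ⁻¹ᵁ V)).mp hc
  refine ⟨(V : Set X), V.isOpen, hyV, ?_⟩
  haveI : T0Space ↥(V : Set X) := inferInstance
  haveI : PrespectralSpace ↥(V : Set X) := V.isOpen.isOpenEmbedding_subtypeVal.prespectralSpace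
  haveI : QuasiSeparatedSpace ↥(V : Set X) :=
    (isQuasiSeparated_iff_quasiSeparatedSpace _ V.isOpen).mp hV'.isQuasiSeparated
  have key : ∀ W : X'.affineOpens, W ∈ s → ∃ S : Set (Set ↥(V : Set X)),
      (∀ D ∈ S, IsConstructible D) ∧
      (Subtype.val ⁻¹' (f.base '' (E' ∩ (W.1 : Set X'))) : Set ↥(V : Set X)) = ⋂₀ S := by
    intro W hWs
    have hWV : W.1 ≤ f ⁻¹ᵁ V := by
      rw [hU]; exact le_iSup₂ (f := fun (i : X'.affineOpens) (_ : i ∈ s) => (i : X'.Opens)) W hWs
    have hWaff : IsAffineOpen W.1 := W.2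
    haveI : CompactSpace ↥(W.1 : Set X') := isCompact_iff_compactSpace.mp hWaff.isCompact
    haveI : QuasiSober ↥(W.1 : Set X') := W.1.isOpen.isOpenEmbedding_subtypeVal.quasiSober
    haveI : PrespectralSpace ↥(W.1 : Set X') :=
      W.1.isOpen.isOpenEmbedding_subtypeVal.prespectralSpace
    haveI : QuasiSeparatedSpace ↥(W.1 : Set X') :=
      (isQuasiSeparated_iff_quasiSeparatedSpace _ W.1.isOpen).mp hWaff.isQuasiSeparated
    have hcl := Groth.Agent.H11.isClosed_cons_of_isProConstructible hE' (W.1 : Set X') W.1.isOpen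
    let g : ↥(W.1 : Set X') → ↥(V : Set X) := fun w => ⟨f.base w.1, hWV w.2⟩
    have hg : ∀ D : Set ↥(V : Set X), IsConstructible D → IsConstructible (g ⁻¹' D) := by
      intro D hD
      have hfun : g = fun w => (f.resLE V W.1 hWV) w := by
        funext w; exact Subtype.ext (Scheme.Hom.coe_resLE_apply f hWV w).symm
      rw [hfun]; exact Scheme.Hom.isConstructible_preimage (f.resLE V W.1 hWV) hD
    refine ⟨{D | IsConstructible D ∧ g '' (Subtype.val ⁻¹' E' : Set ↥(W.1 : Set X')) ⊆ D},
      fun D hD => hD.1, ?_⟩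
    refine Eq.trans ?_ (image_eq_sInter g hg _ hcl)
    ext v
    simp only [mem_preimage, mem_image, mem_inter_iff]
    constructor
    · rintro ⟨x, ⟨hxE, hxW⟩, hfx⟩
      exact ⟨⟨x, hxW⟩, hxE, Subtype.ext hfx⟩
    · rintro ⟨w, hw, rfl⟩
      exact ⟨w.1, ⟨hw, w.2⟩, rfl⟩
  choose! S hS hSeq using key
  refine ⟨{D | ∃ c : X'.affineOpens → Set ↥(V : Set X), (∀ W ∈ s, c W ∈ S W) ∧
      D = ⋃ W ∈ s, c W}, ?_, ?_⟩
  · rintro _ ⟨c, hcS, rfl⟩
    exact (IsConstructible.biUnion hs (fun W hW => hS W hW _ (hcS W hW))).isLocallyConstructible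
  · ext v
    simp only [mem_preimage, mem_sInter, Set.mem_ofPred_eq]
    constructor
    · rintro ⟨x, hxE, hfx⟩ _ ⟨c, hcS, rfl⟩
      have hxV : x ∈ f ⁻¹ᵁ V := by
        show f.base x ∈ V
        have hfx' : f.base x = v.1 := hfx
        rw [hfx']; exact v.2
      rw [hU] at hxV
      simp only [TopologicalSpace.Opens.mem_iSup] at hxV
      obtain ⟨W, hWs, hxW⟩ := hxV
      have hmem : v ∈ (Subtype.val ⁻¹' (f.base '' (E' ∩ (W.1 : Set X'))) : Set ↥(V : Set X)) :=
        ⟨x, ⟨hxE, hxW⟩, hfx⟩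
      rw [hSeq W hWs] at hmem
      exact mem_iUnion₂.mpr ⟨W, hWs, hmem _ (hcS W hWs)⟩
    · intro hall
      by_contra hv
      have hex : ∀ W ∈ s, ∃ D ∈ S W, v ∉ D := by
        intro W hWs
        by_contra hcon
        push_neg at hcon
        have hmem : v ∈ ⋂₀ S W := hcon
        rw [← hSeq W hWs] at hmem
        obtain ⟨x, ⟨hxE, -⟩, hfx⟩ := hmem
        exact hv ⟨x, hxE, hfx⟩
      choose! c hcS hcv using hex
      have hmem := hall _ ⟨c, hcS, rfl⟩
      obtain ⟨W, hWs, hvW⟩ := mem_iUnion₂.mp hmem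
      exact hcv W hWs hvW

end Groth.Agent.Helper18.ProConsImage
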