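import Mathlib
import Groth.Prelude.Def_ProCons
import Groth.Agent.H11.ProCons
import Groth.Agent.H21.ProConsPre
import Groth.Agent.Lib.Helper18.ProConsImage

set_option autoImplicit false

namespace Groth.Agent.Helper18.ProConsAffine

open AlgebraicGeometry CategoryTheory Topology Set Set.Notation Limits

universe u

/-- In a spectral space, a point outside a pro-constructible set has a constructible neighbourhood
(for the constructible topology) disjoint from it. -/
lemma exists_isConstructible_disjoint {Z : Type*} [TopologicalSpace Z] [CompactSpace Z]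
    [PrespectralSpace Z] [QuasiSeparatedSpace Z] {E : Set Z} (hE : ProCons.IsProConstructible E)
    {p : Z} (hp : p ∉ E) : ∃ C : Set Z, IsConstructible C ∧ p ∈ C ∧ ∀ x ∈ C, x ∉ E := by
  haveI : CompactSpace ↥(univ : Set Z) := isCompact_iff_compactSpace.mp isCompact_univ
  haveI : PrespectralSpace ↥(univ : Set Z) :=
    isOpen_univ.isOpenEmbedding_subtypeVal.prespectralSpace
  haveI : QuasiSeparatedSpace ↥(univ : Set Z) :=
    (isQuasiSeparated_iff_quasiSeparatedSpace _ isOpen_univ).mp isQuasiSeparated_univ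
  have hcl := Groth.Agent.H11.isClosed_cons_of_isProConstructible hE univ isOpen_univ
  obtain ⟨C', hC', hpC', hsub⟩ := Groth.Agent.H11.exists_isConstructible_of_isOpen_cons
    (A := ((univ : Set Z) ↓∩ E)ᶜ) (by rw [preimage_compl]; exact hcl.isOpen_compl)
    ⟨p, mem_univ p⟩ hp
  refine ⟨Subtype.val '' C', ?_, ⟨_, hpC', rfl⟩, ?_⟩
  · exact hC'.image_of_isOpenEmbedding isOpen_univ.isOpenEmbedding_subtypeVal
      (by rw [Subtype.range_val]; exact IsRetrocompact.univ)
  · rintro _ ⟨c, hc, rfl⟩ hcE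
    exact hsub hc hcE

/-- The algebraic heart: in the product of the residue fields at the points of `E`, the image of
`f` is a combination of the images of the `g i` as soon as `V(g) \ V(f)` misses `E`. -/
lemma mem_of_basic {A : Type u} [CommRing A] (E : Set (PrimeSpectrum A))
    (P : Ideal (∀ x : ↥E, x.1.asIdeal.ResidueField))
    (f : A) (n : ℕ) (g : Fin n → A)
    (hg : ∀ i, (Pi.ringHom fun x : ↥E => algebraMap A x.1.asIdeal.ResidueField) (g i) ∈ P)
    (hE : ∀ x ∈ E, (∀ i, g i ∈ x.asIdeal) → f ∈ x.asIdeal) :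
    (Pi.ringHom fun x : ↥E => algebraMap A x.1.asIdeal.ResidueField) f ∈ P := by
  classical
  have hidx : ∀ x : ↥E, f ∉ x.1.asIdeal → ∃ i, g i ∉ x.1.asIdeal := by
    intro x hx
    by_contra hcon
    push_neg at hcon
    exact hx (hE x.1 x.2 hcon)
  choose idx hidx' using hidx
  let b : Fin n → (∀ x : ↥E, x.1.asIdeal.ResidueField) := fun i x =>
    if h : f ∈ x.1.asIdeal then 0
    else if i = idx x h then
      algebraMap A x.1.asIdeal.ResidueField f * (algebraMap A x.1.asIdeal.ResidueField (g i))⁻¹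
    else 0
  have hsum : (Pi.ringHom fun x : ↥E => algebraMap A x.1.asIdeal.ResidueField) f =
      ∑ i, (Pi.ringHom fun x : ↥E => algebraMap A x.1.asIdeal.ResidueField) (g i) * b i := by
    funext x
    rw [Finset.sum_apply]
    show algebraMap A x.1.asIdeal.ResidueField f =
      ∑ i, algebraMap A x.1.asIdeal.ResidueField (g i) * b i x
    by_cases h : f ∈ x.1.asIdeal
    · have h0 : algebraMap A x.1.asIdeal.ResidueField f = 0 :=
        Ideal.algebraMap_residueField_eq_zero.mpr h
      rw [h0]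
      symm
      apply Finset.sum_eq_zero
      intro i _
      simp only [b, dif_pos h, mul_zero]
    · have hne : algebraMap A x.1.asIdeal.ResidueField (g (idx x h)) ≠ 0 :=
        fun h0 => hidx' x h (Ideal.algebraMap_residueField_eq_zero.mp h0)
      rw [Finset.sum_eq_single (idx x h)]
      · simp only [b, dif_neg h, if_true]
        field_simp
      · intro j _ hj
        simp only [b, dif_neg h, if_neg hj, mul_zero]
      · intro hni; exact absurd (Finset.mem_univ _) hni
  rw [hsum]
  exact P.sum_mem fun i _ => P.mul_mem_right _ (hg i)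

theorem affine_case (A : CommRingCat.{u}) (E : Set (Spec A))
    (hE : ProCons.IsProConstructible E) :
    ∃ (B : CommRingCat.{u}) (φ : A ⟶ B), Set.range (Spec.map φ).base = E := by
  classical
  let E₀ : Set (PrimeSpectrum A) := E
  let B := ∀ x : ↥E₀, x.1.asIdeal.ResidueField
  let φ' : A →+* B := Pi.ringHom fun x : ↥E₀ => algebraMap A x.1.asIdeal.ResidueField
  refine ⟨CommRingCat.of B, CommRingCat.ofHom φ', ?_⟩
  apply subset_antisymm
  · rintro _ ⟨P, rfl⟩
    let P' : PrimeSpectrum B := P
    let p : PrimeSpectrum A := PrimeSpectrum.comap φ' P'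
    show p ∈ E₀
    by_contra hp
    obtain ⟨C, hC, hpC, hCE⟩ := exists_isConstructible_disjoint hE (p := (p : Spec A)) hp
    obtain ⟨S, hS⟩ := PrimeSpectrum.exists_constructibleSetData_iff.mpr
      (show IsConstructible (C : Set (PrimeSpectrum A)) from hC)
    have hpS : p ∈ S.toSet := by rw [hS]; exact hpC
    simp only [PrimeSpectrum.ConstructibleSetData.toSet, Set.mem_iUnion] at hpS
    obtain ⟨C₀, hC₀S, hpC₀⟩ := hpS
    have hp1 : p ∈ PrimeSpectrum.zeroLocus (Set.range C₀.g) := hpC₀.1
    have hp2 : p ∉ PrimeSpectrum.zeroLocus {C₀.f} := hpC₀.2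
    have hgP : ∀ i, φ' (C₀.g i) ∈ P'.asIdeal :=
      fun i => ((PrimeSpectrum.mem_zeroLocus _ _).mp hp1) ⟨i, rfl⟩
    have hEx : ∀ x ∈ E₀, (∀ i, C₀.g i ∈ x.asIdeal) → C₀.f ∈ x.asIdeal := by
      intro x hxE hgx
      by_contra hfx
      refine hCE x ?_ hxE
      show x ∈ C
      rw [← hS]
      refine Set.mem_biUnion hC₀S ⟨(PrimeSpectrum.mem_zeroLocus _ _).mpr ?_, fun h => hfx
        ((PrimeSpectrum.mem_zeroLocus _ _).mp h (Set.mem_singleton _))⟩
      rintro _ ⟨i, rfl⟩
      exact hgx i
    have key := mem_of_basic E₀ P'.asIdeal C₀.f C₀.n C₀.g hgP hEx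
    apply hp2
    rw [PrimeSpectrum.mem_zeroLocus]
    intro a ha
    rw [Set.mem_singleton_iff] at ha
    subst ha
    exact key
  · intro x hxE
    let x' : PrimeSpectrum A := x
    have hx : x' ∈ E₀ := hxE
    let idx : ↥E₀ := ⟨x', hx⟩
    let ev : B →+* idx.1.asIdeal.ResidueField := Pi.evalRingHom _ idx
    let Q : PrimeSpectrum B := PrimeSpectrum.comap ev ⟨⊥, Ideal.isPrime_bot⟩
    have hcomp : ev.comp φ' = algebraMap A idx.1.asIdeal.ResidueField :=
      RingHom.ext fun a => rfl
    refine ⟨(Q : Spec (CommRingCat.of B)), ?_⟩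
    show PrimeSpectrum.comap φ' Q = x'
    apply PrimeSpectrum.ext
    show Ideal.comap φ' (Ideal.comap ev ⊥) = x'.asIdeal
    rw [Ideal.comap_comap, hcomp, ← RingHom.ker_eq_comap_bot, Ideal.ker_algebraMap_residueField]

theorem main (X : Scheme.{u}) [CompactSpace X] [QuasiSeparatedSpace X] (E : Set X) :
    ProCons.IsProConstructible E ↔
      ∃ (X' : Scheme.{u}) (f : X' ⟶ X), IsAffine X' ∧ Set.range f.base = E := by
  constructor
  · intro hE
    obtain ⟨s, hs, hU⟩ :=
      (isCompact_iff_finite_and_eq_biUnion_affineOpens (U := (⊤ : X.Opens))).mp isCompact_univ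
    haveI : Finite ↥s := hs.to_subtype
    have key : ∀ W : ↥s, ∃ (B : CommRingCat.{u}) (φ : Γ(X, W.1.1) ⟶ B),
        Set.range (Spec.map φ).base = (W.1.2.fromSpec).base ⁻¹' E :=
      fun W => affine_case _ _ (Groth.Agent.H21.proCons_preimage _ E hE)
    choose B φ hφ using key
    let g : ↥s → Scheme.{u} := fun W => Spec (B W)
    haveI : ∀ W, IsAffine (g W) := fun W => inferInstanceAs (IsAffine (Spec (B W)))
    let F : ∀ W : ↥s, g W ⟶ X := fun W => Spec.map (φ W) ≫ W.1.2.fromSpec
    refine ⟨∐ g, Sigma.desc F, inferInstance, ?_⟩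
    have hdesc : ∀ (W : ↥s) (y : g W), (Sigma.desc F).base ((Sigma.ι g W).base y) =
        (W.1.2.fromSpec).base ((Spec.map (φ W)).base y) :=
      fun W y => congrArg (fun k => k.base y) (Sigma.ι_desc F W)
    apply subset_antisymm
    · rintro _ ⟨z, rfl⟩
      obtain ⟨⟨W, y⟩, rfl⟩ := (sigmaMk g).surjective z
      rw [sigmaMk_mk]
      have h1 := hdesc W y
      have h2 : (Spec.map (φ W)).base y ∈ (W.1.2.fromSpec).base ⁻¹' E := by
        rw [← hφ W]; exact ⟨y, rfl⟩
      have h3 : (Sigma.desc F).base ((Sigma.ι g W).base y) ∈ E := by rw [h1]; exact h2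
      exact h3
    · intro x hxE
      have hx : x ∈ (⊤ : X.Opens) := trivial
      rw [hU] at hx
      simp only [TopologicalSpace.Opens.mem_iSup] at hx
      obtain ⟨W, hWs, hxW⟩ := hx
      have hxr : x ∈ Set.range (W.2.fromSpec) := by rw [W.2.range_fromSpec]; exact hxW
      obtain ⟨q, rfl⟩ := hxr
      have hq : q ∈ Set.range (Spec.map (φ ⟨W, hWs⟩)).base := by rw [hφ]; exact hxE
      obtain ⟨y, rfl⟩ := hq
      exact ⟨(Sigma.ι g ⟨W, hWs⟩).base y, hdesc ⟨W, hWs⟩ y⟩
  · rintro ⟨X', f, hX', rfl⟩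
    haveI : IsAffine X' := hX'
    haveI : QuasiCompact f := inferInstance
    have huniv : ProCons.IsProConstructible (univ : Set X') := by
      intro x
      exact ⟨univ, isOpen_univ, mem_univ x, ∅, by simp, by simp⟩
    have := ProConsImage.main f univ huniv
    rwa [Set.image_univ] at this

end Groth.Agent.Helper18.ProConsAffine
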