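import Mathlib
import Groth.Prelude.Def_QuotSh

universe u
open CategoryTheory CategoryTheory.Limits AlgebraicGeometry Opposite

namespace Groth.Agent.Helper18.QuotShLib

variable (K : Precoverage Scheme.{u}) {S : Scheme.{u}}

/-- the presheaf `h_V`, lifted one universe -/
abbrev yU (V : Over S) : (Over S)ᵒᵖ ⥤ Type (u + 1) := yoneda.obj V ⋙ uliftFunctor.{u + 1, u}

/-- the map `h_V ⟶ h_W` -/
abbrev yMap {V W : Over S} (g : V ⟶ W) : yU V ⟶ yU W :=
  Functor.whiskerRight (yoneda.map g) uliftFunctor.{u + 1, u}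

lemma yU_map_apply {V T T' : Over S} (f : T' ⟶ T) (a : T ⟶ V) :
    (yU V).map f.op (ULift.up a) = ULift.up (f ≫ a) := rfl

lemma yMap_app_apply {V W T : Over S} (g : V ⟶ W) (a : T ⟶ V) :
    (yMap g).app (op T) (ULift.up a) = ULift.up (a ≫ g) := rfl

lemma yMap_comp {V W X : Over S} (g : V ⟶ W) (h : W ⟶ X) : yMap (g ≫ h) = yMap g ≫ yMap h := by
  simp [yMap]

lemma repMap_eq {V W : Over S} (g : V ⟶ W) :
    QuotSh.repMap K g = (presheafToSheaf (QuotSh.J K S) (Type (u + 1))).map (yMap g) := rfl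

lemma epi_repMap_of_generate_mem {U M : Over S} (q : U ⟶ M)
    (hq : Sieve.generate (Presieve.singleton q) ∈ QuotSh.J K S M) :
    Epi (QuotSh.repMap K q) := by
  rw [← Sheaf.isLocallySurjective_iff_epi, repMap_eq,
    Presheaf.isLocallySurjective_presheafToSheaf_map_iff]
  constructor
  intro T x
  refine (QuotSh.J K S).superset_covering ?_ ((QuotSh.J K S).pullback_stable x.down hq)
  intro T' f hf
  obtain ⟨W, g, h, hh, hcomp⟩ := hf
  cases hh
  exact ⟨ULift.up g, by
    rw [yMap_app_apply, hcomp]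
    rfl⟩

/-- `V ↦ h_V` as a functor to sheaves. -/
noncomputable def repF : Over S ⥤ QuotSh.Sh K S :=
  yoneda ⋙ (Functor.whiskeringRight _ _ _).obj uliftFunctor.{u + 1, u} ⋙
    presheafToSheaf (QuotSh.J K S) (Type (u + 1))

lemma repF_obj (V : Over S) : (repF K).obj V = QuotSh.rep K V := rfl

lemma repF_map {V W : Over S} (g : V ⟶ W) : (repF K).map g = QuotSh.repMap K g := rfl

instance : PreservesLimitsOfShape WalkingCospan (repF K (S := S)) := by
  unfold repF
  infer_instance

lemma isPullback_repMap {R U M : Over S} {s t : R ⟶ U} {q : U ⟶ M} (h : IsPullback s t q q) :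
    IsPullback (QuotSh.repMap K s) (QuotSh.repMap K t) (QuotSh.repMap K q) (QuotSh.repMap K q) :=
  h.map (repF K)

/-- If `repMap q` is the coequalizer of `repMap s, repMap t`, then `q` is a quotient. -/
lemma isQuotient_of_isColimit {R U M : Over S} {s t : R ⟶ U} {q : U ⟶ M} (w : s ≫ q = t ≫ q)
    (w' : QuotSh.repMap K s ≫ QuotSh.repMap K q = QuotSh.repMap K t ≫ QuotSh.repMap K q)
    (hc : IsColimit (Cofork.ofπ (QuotSh.repMap K q) w')) : QuotSh.IsQuotient K s t q := by
  refine ⟨w, ?_⟩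
  have h1 : QuotSh.quotDesc K q w =
      ((coequalizerIsCoequalizer (QuotSh.repMap K s) (QuotSh.repMap K t)).coconePointUniqueUpToIso
        hc).hom := by
    apply coequalizer.hom_ext
    have h2 := (coequalizerIsCoequalizer (QuotSh.repMap K s)
      (QuotSh.repMap K t)).comp_coconePointUniqueUpToIso_hom hc WalkingParallelPair.one
    simp only [Cofork.ofπ_pt, Cofork.ofπ_ι_app] at h2
    rw [h2]
    simp [QuotSh.quotDesc]
  rw [h1]
  infer_instance

lemma isQuotient_of_isPullback_of_epi {R U M : Over S} {s t : R ⟶ U} {q : U ⟶ M}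
    (h : IsPullback s t q q) [Epi (QuotSh.repMap K q)] : QuotSh.IsQuotient K s t q := by
  have hpb := isPullback_repMap K h
  haveI : IsRegularEpi (QuotSh.repMap K q) := IsRegularEpiCategory.regularEpiOfEpi _
  haveI : EffectiveEpi (QuotSh.repMap K q) := inferInstance
  exact isQuotient_of_isColimit K h.w hpb.w
    ((EffectiveEpi.getStruct (QuotSh.repMap K q)).isColimitCoforkOfIsPullback hpb)

/-- abstract construction of a kernel pair from existence/uniqueness of lifts -/
lemma isPullback_of_exists {C : Type*} [Category C] {R U M : C} {s t : R ⟶ U} {q : U ⟶ M}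
    (w : s ≫ q = t ≫ q)
    (hmono : ∀ {T : C} (f g : T ⟶ R), f ≫ s = g ≫ s → f ≫ t = g ≫ t → f = g)
    (hex : ∀ {T : C} (a b : T ⟶ U), a ≫ q = b ≫ q → ∃ r : T ⟶ R, r ≫ s = a ∧ r ≫ t = b) :
    IsPullback s t q q :=
  ⟨⟨w⟩, ⟨PullbackCone.IsLimit.mk w
    (fun c => (hex c.fst c.snd c.condition).choose)
    (fun c => (hex c.fst c.snd c.condition).choose_spec.1)
    (fun c => (hex c.fst c.snd c.condition).choose_spec.2)
    (fun c m h1 h2 => hmono _ _
      (h1.trans (hex c.fst c.snd c.condition).choose_spec.1.symm)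
      (h2.trans (hex c.fst c.snd c.condition).choose_spec.2.symm))⟩⟩

lemma rel_equiv {C : Type*} [Category C] {R U : C} {s t : R ⟶ U} (e : EquivalenceRelation s t)
    (T : C) : Equivalence (fun a b : T ⟶ U => ∃ r : T ⟶ R, r ≫ s = a ∧ r ≫ t = b) where
  refl a := ⟨a ≫ e.r, by simp, by simp⟩
  symm := by
    rintro a b ⟨r, rfl, rfl⟩
    exact ⟨r ≫ e.s, by rw [Category.assoc, e.symmetry₁], by rw [Category.assoc, e.symmetry₂]⟩
  trans := by
    rintro a b c ⟨r₁, rfl, h1⟩ ⟨r₂, h2, rfl⟩
    have hc : r₁ ≫ t = r₂ ≫ s := h1.trans h2.symm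
    refine ⟨PullbackCone.IsLimit.lift e.isLimit r₁ r₂ hc ≫ e.t, ?_, ?_⟩
    · rw [Category.assoc, e.transitivity₁, ← Category.assoc, PullbackCone.IsLimit.lift_fst]
    · rw [Category.assoc, e.transitivity₂, ← Category.assoc, PullbackCone.IsLimit.lift_snd]

lemma exists_of_coequalizer_eq {R U : Over S} {s t : R ⟶ U} (e : EquivalenceRelation s t)
    {T : Over S} (c d : T ⟶ U)
    (h : (coequalizer.π (yMap s) (yMap t)).app (op T) (ULift.up c) =
      (coequalizer.π (yMap s) (yMap t)).app (op T) (ULift.up d)) :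
    ∃ r : T ⟶ R, r ≫ s = c ∧ r ≫ t = d := by
  have hE := isColimitOfHasCoequalizerOfPreservesColimit
    ((evaluation (Over S)ᵒᵖ (Type (u + 1))).obj (op T)) (yMap s) (yMap t)
  obtain ⟨ζ, hζ⟩ : ∃ ζ : (coequalizer (yMap s) (yMap t)).obj (op T) ≅
      Function.Coequalizer ((yMap s).app (op T)) ((yMap t).app (op T)),
      (coequalizer.π (yMap s) (yMap t)).app (op T) ≫ ζ.hom =
        ↾(Function.Coequalizer.mk ((yMap s).app (op T)) ((yMap t).app (op T))) :=
    ⟨hE.coconePointUniqueUpToIso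
      (Types.coequalizerColimit ((yMap s).app (op T)) ((yMap t).app (op T))).isColimit,
      hE.comp_coconePointUniqueUpToIso_hom
        (Types.coequalizerColimit ((yMap s).app (op T)) ((yMap t).app (op T))).isColimit
        WalkingParallelPair.one⟩
  have hζ' : ∀ x : (yU U).obj (op T),
      ζ.hom ((coequalizer.π (yMap s) (yMap t)).app (op T) x) =
        Function.Coequalizer.mk ((yMap s).app (op T)) ((yMap t).app (op T)) x := by
    intro x
    calc ζ.hom ((coequalizer.π (yMap s) (yMap t)).app (op T) x)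
        = ((coequalizer.π (yMap s) (yMap t)).app (op T) ≫ ζ.hom) x := rfl
      _ = Function.Coequalizer.mk ((yMap s).app (op T)) ((yMap t).app (op T)) x := by
          rw [hζ]; rfl
  have h3 : Function.Coequalizer.mk ((yMap s).app (op T)) ((yMap t).app (op T)) (ULift.up c) =
      Function.Coequalizer.mk ((yMap s).app (op T)) ((yMap t).app (op T)) (ULift.up d) := by
    rw [← hζ', ← hζ', h]
  have h4 := Quot.eqvGen_exact h3
  have hρ : Equivalence (fun x y : ULift.{u + 1} (T ⟶ U) =>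
      ∃ r : T ⟶ R, r ≫ s = x.down ∧ r ≫ t = y.down) := by
    have h0 := rel_equiv e T
    exact ⟨fun x => h0.refl x.down, fun h => h0.symm h, fun h h' => h0.trans h h'⟩
  have h7 := hρ.eqvGen_iff.mp (Relation.EqvGen.mono (r := Function.Coequalizer.Rel _ _) ?_ _ _ h4)
  · exact h7
  · rintro _ _ ⟨x⟩
    exact ⟨x.down, rfl, rfl⟩

lemma toSheafify_coeq_eq {R U M : Over S} {s t : R ⟶ U} {q : U ⟶ M}
    (hq : QuotSh.IsQuotient K s t q) {T : Over S} (a b : T ⟶ U) (hab : a ≫ q = b ≫ q) :
    (toSheafify (QuotSh.J K S) (coequalizer (yMap s) (yMap t))).app (op T)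
        ((coequalizer.π (yMap s) (yMap t)).app (op T) (ULift.up a)) =
      (toSheafify (QuotSh.J K S) (coequalizer (yMap s) (yMap t))).app (op T)
        ((coequalizer.π (yMap s) (yMap t)).app (op T) (ULift.up b)) := by
  obtain ⟨w, hiso⟩ := hq
  have h₁ := isColimitOfHasCoequalizerOfPreservesColimit
    (presheafToSheaf (QuotSh.J K S) (Type (u + 1))) (yMap s) (yMap t)
  have w' : QuotSh.repMap K s ≫ QuotSh.repMap K q = QuotSh.repMap K t ≫ QuotSh.repMap K q := by
    change (repF K).map s ≫ (repF K).map q = (repF K).map t ≫ (repF K).map q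
    rw [← Functor.map_comp, ← Functor.map_comp, w]
  haveI := hiso
  have h₂ : IsColimit (Cofork.ofπ (QuotSh.repMap K q) w') := by
    let i : QuotSh.quot K s t ≅ QuotSh.rep K M := asIso (QuotSh.quotDesc K q w)
    refine IsColimit.ofIsoColimit
      (coequalizerIsCoequalizer (QuotSh.repMap K s) (QuotSh.repMap K t)) (Cofork.ext i ?_)
    show coequalizer.π _ _ ≫ QuotSh.quotDesc K q w = _
    exact coequalizer.π_desc _ _
  obtain ⟨θ, hθ⟩ : ∃ θ : (presheafToSheaf (QuotSh.J K S) (Type (u + 1))).obj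
      (coequalizer (yMap s) (yMap t)) ≅ QuotSh.rep K M,
      (presheafToSheaf (QuotSh.J K S) (Type (u + 1))).map (coequalizer.π (yMap s) (yMap t)) ≫
        θ.hom = QuotSh.repMap K q :=
    ⟨h₁.coconePointUniqueUpToIso h₂,
      h₁.comp_coconePointUniqueUpToIso_hom h₂ WalkingParallelPair.one⟩
  have key : coequalizer.π (yMap s) (yMap t) ≫
      toSheafify (QuotSh.J K S) (coequalizer (yMap s) (yMap t)) ≫ θ.hom.hom =
      yMap q ≫ toSheafify (QuotSh.J K S) (yU M) := by
    rw [← Category.assoc, toSheafify_naturality, Category.assoc]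
    have h3 : sheafifyMap (QuotSh.J K S) (coequalizer.π (yMap s) (yMap t)) ≫ θ.hom.hom =
        sheafifyMap (QuotSh.J K S) (yMap q) := congrArg (fun φ => φ.hom) hθ
    rw [h3, toSheafify_naturality]
  have hinj : Function.Injective (θ.hom.hom.app (op T)) := by
    apply Function.LeftInverse.injective (g := θ.inv.hom.app (op T))
    intro y
    calc θ.inv.hom.app (op T) (θ.hom.hom.app (op T) y)
        = ((θ.hom ≫ θ.inv).hom.app (op T)) y := rfl
      _ = y := by rw [θ.hom_inv_id]; rfl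
  apply hinj
  have h4 : ∀ x : (yU U).obj (op T),
      θ.hom.hom.app (op T) ((toSheafify (QuotSh.J K S) (coequalizer (yMap s) (yMap t))).app (op T)
        ((coequalizer.π (yMap s) (yMap t)).app (op T) x)) =
      (toSheafify (QuotSh.J K S) (yU M)).app (op T) ((yMap q).app (op T) x) := by
    intro x
    calc θ.hom.hom.app (op T) ((toSheafify (QuotSh.J K S) (coequalizer (yMap s) (yMap t))).app (op T)
        ((coequalizer.π (yMap s) (yMap t)).app (op T) x))
        = ((coequalizer.π (yMap s) (yMap t) ≫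
            toSheafify (QuotSh.J K S) (coequalizer (yMap s) (yMap t)) ≫ θ.hom.hom).app (op T)) x := rfl
      _ = ((yMap q ≫ toSheafify (QuotSh.J K S) (yU M)).app (op T)) x := by rw [key]
      _ = (toSheafify (QuotSh.J K S) (yU M)).app (op T) ((yMap q).app (op T) x) := rfl
  rw [h4, h4, yMap_app_apply, yMap_app_apply, hab]

lemma isPullback_of_isQuotient [(QuotSh.J K S).Subcanonical] {R U M : Over S} {s t : R ⟶ U}
    [hst : IsEquivalenceRelation s t] {q : U ⟶ M} (hq : QuotSh.IsQuotient K s t q) :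
    IsPullback s t q q := by
  obtain ⟨e⟩ := hst.nonempty_equivalenceRelation
  have w := hq.choose
  refine isPullback_of_exists w (fun f g h1 h2 => e.right_cancellation f g h1 h2) ?_
  intro T a b hab
  have h1 := toSheafify_coeq_eq K hq a b hab
  have h2 := Presheaf.equalizerSieve_mem (QuotSh.J K S)
    (toSheafify (QuotSh.J K S) (coequalizer (yMap s) (yMap t))) _ _ h1
  have hloc : ∀ {T' : Over S} (f : T' ⟶ T),
      (Presheaf.equalizerSieve (F := coequalizer (yMap s) (yMap t)) (X := op T)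
        ((coequalizer.π (yMap s) (yMap t)).app (op T) (ULift.up a))
        ((coequalizer.π (yMap s) (yMap t)).app (op T) (ULift.up b))).arrows f →
      ∃ r : T' ⟶ R, r ≫ s = f ≫ a ∧ r ≫ t = f ≫ b := by
    intro T' f hf
    apply exists_of_coequalizer_eq e
    have na : ∀ c : T ⟶ U, (coequalizer (yMap s) (yMap t)).map f.op
        ((coequalizer.π (yMap s) (yMap t)).app (op T) (ULift.up c)) =
        (coequalizer.π (yMap s) (yMap t)).app (op T') (ULift.up (f ≫ c)) := by
      intro c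
      calc (coequalizer (yMap s) (yMap t)).map f.op
            ((coequalizer.π (yMap s) (yMap t)).app (op T) (ULift.up c))
          = ((coequalizer.π (yMap s) (yMap t)).app (op T) ≫
              (coequalizer (yMap s) (yMap t)).map f.op) (ULift.up c) := rfl
        _ = ((yU U).map f.op ≫ (coequalizer.π (yMap s) (yMap t)).app (op T')) (ULift.up c) := by
            rw [(coequalizer.π (yMap s) (yMap t)).naturality f.op]
        _ = (coequalizer.π (yMap s) (yMap t)).app (op T') (ULift.up (f ≫ c)) := rfl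
    rw [← na a, ← na b]
    exact hf
  have hR : Presieve.IsSheaf (QuotSh.J K S) (yoneda.obj R) :=
    GrothendieckTopology.Subcanonical.isSheaf_of_isRepresentable _
  have hU : Presieve.IsSheaf (QuotSh.J K S) (yoneda.obj U) :=
    GrothendieckTopology.Subcanonical.isSheaf_of_isRepresentable _
  obtain ⟨𝒮, h𝒮⟩ : ∃ 𝒮 : Sieve T, 𝒮 =
      Presheaf.equalizerSieve (F := coequalizer (yMap s) (yMap t)) (X := op T)
        ((coequalizer.π (yMap s) (yMap t)).app (op T) (ULift.up a))
        ((coequalizer.π (yMap s) (yMap t)).app (op T) (ULift.up b)) := ⟨_, rfl⟩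
  rw [← h𝒮] at hloc
  have h2' : 𝒮 ∈ QuotSh.J K S T := h𝒮 ▸ h2
  let fam : Presieve.FamilyOfElements (yoneda.obj R) 𝒮.arrows :=
    fun T' f hf => (hloc f hf).choose
  have hfam1 : ∀ {T' : Over S} (f : T' ⟶ T) (hf : 𝒮.arrows f), fam f hf ≫ s = f ≫ a :=
    fun f hf => (hloc f hf).choose_spec.1
  have hfam2 : ∀ {T' : Over S} (f : T' ⟶ T) (hf : 𝒮.arrows f), fam f hf ≫ t = f ≫ b :=
    fun f hf => (hloc f hf).choose_spec.2
  have hfam : fam.Compatible := by
    rw [Presieve.compatible_iff_sieveCompatible]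
    intro Y Z f g hf
    apply e.right_cancellation
    · rw [hfam1 (g ≫ f) (𝒮.downward_closed hf g)]
      show (g ≫ f) ≫ a = (g ≫ fam f hf) ≫ s
      rw [Category.assoc, Category.assoc, hfam1 f hf]
    · rw [hfam2 (g ≫ f) (𝒮.downward_closed hf g)]
      show (g ≫ f) ≫ b = (g ≫ fam f hf) ≫ t
      rw [Category.assoc, Category.assoc, hfam2 f hf]
  obtain ⟨r, hr⟩ : ∃ r : T ⟶ R, ∀ {T' : Over S} (f : T' ⟶ T) (hf : 𝒮.arrows f),
      f ≫ r = fam f hf :=
    ⟨(hR 𝒮 h2').amalgamate fam hfam, fun f hf => (hR 𝒮 h2').valid_glue hfam f hf⟩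
  refine ⟨r, ?_, ?_⟩
  · apply (hU 𝒮 h2').isSeparatedFor.ext
    intro T' f hf
    show f ≫ r ≫ s = f ≫ a
    rw [← Category.assoc, hr f hf, hfam1 f hf]
  · apply (hU 𝒮 h2').isSeparatedFor.ext
    intro T' f hf
    show f ≫ r ≫ t = f ≫ b
    rw [← Category.assoc, hr f hf, hfam2 f hf]

lemma epi_repMap_of_isQuotient {R U M : Over S} {s t : R ⟶ U} {q : U ⟶ M}
    (hq : QuotSh.IsQuotient K s t q) : Epi (QuotSh.repMap K q) := by
  obtain ⟨w, hiso⟩ := hq
  haveI := hiso
  have h1 : QuotSh.repMap K q = QuotSh.quotπ K s t ≫ QuotSh.quotDesc K q w :=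
    (coequalizer.π_desc _ _).symm
  rw [h1]
  haveI : Epi (QuotSh.quotπ K s t) := by
    unfold QuotSh.quotπ
    exact coequalizer.π_epi
  infer_instance

lemma exists_sieve_of_epi {U M : Over S} {q : U ⟶ M} (hq : Epi (QuotSh.repMap K q)) :
    ∃ 𝒮 ∈ QuotSh.J K S M, ∀ {T : Over S} (f : T ⟶ M), 𝒮.arrows f → ∃ b : T ⟶ U, b ≫ q = f := by
  rw [← Sheaf.isLocallySurjective_iff_epi, repMap_eq,
    Presheaf.isLocallySurjective_presheafToSheaf_map_iff] at hq
  refine ⟨_, Presheaf.imageSieve_mem (QuotSh.J K S) (yMap q)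
    (show (yU M).obj (op M) from ULift.up (𝟙 M)), ?_⟩
  intro T f hf
  obtain ⟨x, hx⟩ := hf
  refine ⟨x.down, ?_⟩
  have h1 : ULift.up (x.down ≫ q) = ULift.up (f ≫ 𝟙 M) := hx
  have h2 := congrArg ULift.down h1
  simpa using h2

lemma generate_mem_of_singleton_mem {U M : Over S} (q : U ⟶ M)
    (hq : Presieve.singleton q.left ∈ K M.left) :
    Sieve.generate (Presieve.singleton q) ∈ QuotSh.J K S M := by
  rw [GrothendieckTopology.mem_over_iff]
  refine K.toGrothendieck.superset_covering ?_ (Precoverage.generate_mem_toGrothendieck hq)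
  intro T g hg
  obtain ⟨W, h, k, hk, rfl⟩ := hg
  cases hk
  rw [Sieve.overEquiv_iff]
  refine ⟨U, Over.homMk h (by simp), q, Presieve.singleton_self q, ?_⟩
  ext
  simp

theorem isQuotient_iff (P : MorphismProperty Scheme.{u}) [P.IsStableUnderBaseChange]
    [P.IsMultiplicative] [IsZariskiLocalAtSource P]
    (hP : P ≤ (@Flat ⊓ @LocallyOfFinitePresentation : MorphismProperty Scheme.{u}))
    [P.DescendsAlong
      (@Surjective ⊓ @Flat ⊓ @LocallyOfFinitePresentation : MorphismProperty Scheme.{u})]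
    [(QuotSh.J (Scheme.precoverage P) S).Subcanonical]
    {R U Y : Over S} (s t : R ⟶ U) [IsEquivalenceRelation s t] (hs : P s.left)
    [Surjective s.left] (q : U ⟶ Y) :
    (IsKernelPair q s t ∧ P q.left ∧ Surjective q.left) ↔
      QuotSh.IsQuotient (Scheme.precoverage P) s t q := by
  constructor
  · rintro ⟨hk, hPq, hsurj⟩
    have hmem : Presieve.singleton q.left ∈ Scheme.precoverage P Y.left := by
      rw [← Presieve.ofArrows_pUnit.{0}]
      exact (q.left.cover (P := P) hPq).mem₀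
    haveI := epi_repMap_of_generate_mem (Scheme.precoverage P) q
      (generate_mem_of_singleton_mem (Scheme.precoverage P) q hmem)
    exact isQuotient_of_isPullback_of_epi (Scheme.precoverage P) hk
  · intro hq
    have hpb : IsPullback s t q q := isPullback_of_isQuotient (Scheme.precoverage P) hq
    obtain ⟨𝒮, h𝒮, hlift⟩ := exists_sieve_of_epi (Scheme.precoverage P)
      (epi_repMap_of_isQuotient (Scheme.precoverage P) hq)
    rw [GrothendieckTopology.mem_over_iff] at h𝒮
    obtain ⟨𝒰, h𝒰⟩ := Scheme.mem_grothendieckTopology_iff.mp h𝒮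
    have hb : ∀ i, ∃ b : 𝒰.X i ⟶ U.left, b ≫ q.left = 𝒰.f i := by
      intro i
      have h1 : (Sieve.overEquiv Y 𝒮) (𝒰.f i) := h𝒰 _ (𝒰.f i) (Presieve.ofArrows.mk i)
      rw [Sieve.overEquiv_iff] at h1
      obtain ⟨b, hb⟩ := hlift _ h1
      exact ⟨b.left, congrArg (fun φ => φ.left) hb⟩
    choose b hb using hb
    obtain ⟨bV, hbV⟩ : ∃ bV : (∐ 𝒰.X) ⟶ U.left, bV = Sigma.desc b := ⟨_, rfl⟩
    have hg : bV ≫ q.left = Sigma.desc 𝒰.f := by
      apply Sigma.hom_ext
      intro i
      rw [hbV, Sigma.ι_desc_assoc, Sigma.ι_desc, hb]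
    have hPg : P (bV ≫ q.left) := by
      rw [hg]
      exact IsZariskiLocalAtSource.sigmaDesc 𝒰.map_prop
    haveI : Surjective (bV ≫ q.left) := by
      rw [hg]
      infer_instance
    have hcov : (@Surjective ⊓ @Flat ⊓ @LocallyOfFinitePresentation : MorphismProperty Scheme.{u})
        (bV ≫ q.left) := ⟨⟨inferInstance, (hP _ hPg).1⟩, (hP _ hPg).2⟩
    have hpbL : IsPullback s.left t.left q.left q.left := hpb.map (Over.forget S)
    have sq := ((IsPullback.of_hasPullback s.left bV).paste_horiz hpbL.flip).flip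
    refine ⟨hpb, ?_, Surjective.of_comp bV q.left⟩
    exact MorphismProperty.of_isPullback_of_descendsAlong (P := P)
      (Q := (@Surjective ⊓ @Flat ⊓ @LocallyOfFinitePresentation : MorphismProperty Scheme.{u}))
      sq hcov (P.pullback_snd _ _ hs)

lemma repMap_comp {V W X : Over S} (g : V ⟶ W) (h : W ⟶ X) :
    QuotSh.repMap K (g ≫ h) = QuotSh.repMap K g ≫ QuotSh.repMap K h := by
  change (repF K).map (g ≫ h) = (repF K).map g ≫ (repF K).map h
  rw [Functor.map_comp]

/-- If `(k₁, k₂)` is the kernel pair of `q`, `h_U ⟶ h_M` is epi and `h_R ⟶ h_{K₀}` is epi, then `q`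
is the quotient of `(s, t) = (δ ≫ k₂, δ ≫ k₁)`. -/
lemma isQuotient_of_epi_of_isPullback {R U M K₀ : Over S} (s t : R ⟶ U) (q : U ⟶ M)
    (k₁ k₂ : K₀ ⟶ U) (δ : R ⟶ K₀) (hδ1 : δ ≫ k₁ = t) (hδ2 : δ ≫ k₂ = s)
    (hpb : IsPullback k₁ k₂ q q) [Epi (QuotSh.repMap K q)] [Epi (QuotSh.repMap K δ)]
    (w : s ≫ q = t ≫ q) : QuotSh.IsQuotient K s t q := by
  have hpb' := isPullback_repMap K hpb
  haveI : IsRegularEpi (QuotSh.repMap K q) := IsRegularEpiCategory.regularEpiOfEpi _
  haveI : EffectiveEpi (QuotSh.repMap K q) := inferInstance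
  have hcol : IsColimit (Cofork.ofπ (QuotSh.repMap K q) hpb'.w) :=
    (EffectiveEpi.getStruct (QuotSh.repMap K q)).isColimitCoforkOfIsPullback hpb'
  have w'' : QuotSh.repMap K s ≫ QuotSh.repMap K q = QuotSh.repMap K t ≫ QuotSh.repMap K q := by
    rw [← repMap_comp, ← repMap_comp, w]
  have hc : ∀ c : Cofork (QuotSh.repMap K s) (QuotSh.repMap K t),
      QuotSh.repMap K k₁ ≫ c.π = QuotSh.repMap K k₂ ≫ c.π := by
    intro c
    rw [← cancel_epi (QuotSh.repMap K δ), ← Category.assoc, ← Category.assoc, ← repMap_comp,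
      ← repMap_comp, hδ1, hδ2]
    exact c.condition.symm
  refine isQuotient_of_isColimit K w w'' ?_
  refine Cofork.IsColimit.mk _ (fun c => hcol.desc (Cofork.ofπ c.π (hc c)))
    (fun c => hcol.fac (Cofork.ofπ c.π (hc c)) WalkingParallelPair.one) ?_
  intro c m hm
  apply Cofork.IsColimit.hom_ext hcol
  have h1 := hcol.fac (Cofork.ofπ c.π (hc c)) WalkingParallelPair.one
  simp only [Cofork.ofπ_pt, Cofork.ofπ_ι_app] at h1
  exact hm.trans h1.symm

lemma flat_codescends :
    RingHom.CodescendsAlong RingHom.Flat RingHom.FaithfullyFlat := by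
  refine .mk _ RingHom.Flat.respectsIso fun R S T _ _ _ _ _ h h' ↦ ?_
  rw [RingHom.flat_algebraMap_iff] at h' ⊢
  rw [RingHom.faithfullyFlat_algebraMap_iff] at h
  exact Module.Flat.of_flat_tensorProduct R T S

instance flat_descends_fpqc :
    MorphismProperty.DescendsAlong @Flat (@Surjective ⊓ @Flat ⊓ @QuasiCompact) :=
  HasRingHomProperty.descendsAlong_flat flat_codescends

end Groth.Agent.Helper18.QuotShLib
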