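import Mathlib
import Groth.Prelude
import Groth.Agent.Lib.Helper18.FibDeg5

set_option autoImplicit false

namespace Groth.Agent.Helper18.RankOneOpenImm

open AlgebraicGeometry CategoryTheory Limits Groth.Agent.Helper18.FibDeg

universe u

/-- Every point of a scheme has a generization which is a maximal point. -/
lemma exists_maximal_generization (S : Scheme.{u}) (s : S) :
    ∃ s' : S, s' ⤳ s ∧ ∀ t : S, t ⤳ s' → t = s' := by
  have hZirr : IsIrreducible (irreducibleComponent s) := isIrreducible_irreducibleComponent
  have hZcl : IsClosed (irreducibleComponent s) := isClosed_irreducibleComponent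
  obtain ⟨s', hs'⟩ := QuasiSober.sober hZirr hZcl
  refine ⟨s', ?_, ?_⟩
  · rw [specializes_iff_mem_closure, hs'.def]
    exact mem_irreducibleComponent
  · intro t ht
    have h1 : irreducibleComponent s ⊆ closure {t} := by
      rw [← hs'.def]
      exact closure_minimal (Set.singleton_subset_iff.mpr ht.mem_closure) isClosed_closure
    have h2 : closure {t} = irreducibleComponent s :=
      (irreducibleComponent_property s).2.2 _
        (isIrreducible_singleton.closure.isPreirreducible) h1
    have ht' : IsGenericPoint t (irreducibleComponent s) := h2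
    exact ht'.eq hs'

variable {T S : Scheme.{u}} (g : T ⟶ S) [LocallyQuasiFinite g]
    [LocallyOfFinitePresentation g] [QuasiCompact g] [IsSeparated g] [Flat g]

lemma one_le_deg_map (t : T) : 1 ≤ deg g (g t) := by
  have hfin : (g ⁻¹' {g t}).Finite := g.finite_preimage_singleton (g t)
  haveI := isFinite_fibre g (g t) hfin
  haveI := subsingleton_specK ↑(S.residueField (g t))
  obtain ⟨z, -, hz⟩ := Scheme.Pullback.exists_preimage_pullback (f := g)
    (g := S.fromSpecResidueField (g t)) t (IsLocalRing.closedPoint ↑(S.residueField (g t)))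
    (Scheme.fromSpecResidueField_apply _ _).symm
  have := Scheme.Hom.one_le_finrank_map (pullback.snd g (S.fromSpecResidueField (g t))) z
  rw [hz] at this
  exact this

lemma deg_eq_zero_of_isEmpty (s : S) (he : IsEmpty ↑(pullback g (S.fromSpecResidueField s))) :
    deg g s = 0 := by
  have hfin : (g ⁻¹' {s}).Finite := g.finite_preimage_singleton s
  haveI := isFinite_fibre g s hfin
  haveI := subsingleton_specK ↑(S.residueField s)
  by_contra hne
  have h1 : 1 ≤ deg g s := Nat.one_le_iff_ne_zero.mpr hne
  have h2 : 1 ≤ (pullback.snd g (S.fromSpecResidueField s)).finrank := by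
    intro y
    rw [Subsingleton.elim y (IsLocalRing.closedPoint ↑(S.residueField s))]
    exact h1
  rw [Scheme.Hom.one_le_finrank_iff_surjective] at h2
  obtain ⟨z, -⟩ := h2.surj (IsLocalRing.closedPoint ↑(S.residueField s))
  exact he.false z

theorem main
    (h : ∀ s : S, (∀ t : S, t ⤳ s → t = s) →
      IsEmpty ↑(pullback g (S.fromSpecResidueField s)) ∨
        IsIso (pullback.snd g (S.fromSpecResidueField s))) :
    IsOpenImmersion g := by
  have hfin : ∀ s, (g ⁻¹' {s}).Finite := fun s => g.finite_preimage_singleton s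
  have hdeg1 : ∀ s, deg g s ≤ 1 := by
    by_contra hcon
    push Not at hcon
    obtain ⟨s, hs⟩ := hcon
    obtain ⟨s', hs's, hmax⟩ := exists_maximal_generization S s
    have hopen : IsOpen {s : S | deg g s ≤ 1}ᶜ := (isClosed_deg_le g hfin 1).isOpen_compl
    have hs'mem : s' ∈ {s : S | deg g s ≤ 1}ᶜ :=
      hs's.mem_open hopen (by simp only [Set.mem_compl_iff, Set.mem_setOf_eq]; omega)
    apply hs'mem
    change deg g s' ≤ 1
    rcases h s' hmax with he | hiso
    · rw [deg_eq_zero_of_isEmpty g s' he]
      exact zero_le_one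
    · unfold deg
      rw [Scheme.Hom.finrank_eq_one_of_isIso]
      rfl
  let V : S.Opens := ⟨{s | HasPiece g s 1}, isOpen_hasPiece g 1⟩
  have hV : ∀ s, s ∈ V ↔ deg g s = 1 := fun s => by
    change HasPiece g s 1 ↔ _
    rw [hasPiece_iff_le_deg g s (hfin s)]
    have := hdeg1 s
    omega
  have hflf : Mor2.IsFinLocFreeOfDeg 1 (pullback.snd g V.ι) :=
    (main_iff g hfin V.ι 1).mpr (fun t => (hV _).mp t.2)
  obtain ⟨⟨hF, hFl, hP⟩, hrk⟩ := hflf
  haveI := hF
  haveI := hFl
  haveI := hP
  haveI : IsIso (pullback.snd g V.ι) := (Scheme.Hom.isIso_iff_finrank_eq _).mpr (funext hrk)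
  have hrange : ∀ t : T, g t ∈ V := by
    intro t
    rw [hV]
    have h1 := one_le_deg_map g t
    have := hdeg1 (g t)
    omega
  haveI : Surjective (pullback.fst g V.ι) := by
    constructor
    intro t
    obtain ⟨z, hz, -⟩ := Scheme.Pullback.exists_preimage_pullback (f := g) (g := V.ι) t
      ⟨g t, hrange t⟩ rfl
    exact ⟨z, hz⟩
  haveI : IsIso (pullback.fst g V.ι) :=
    (isIso_iff_isOpenImmersion_and_surjective _).mpr ⟨inferInstance, inferInstance⟩
  have hg : g = inv (pullback.fst g V.ι) ≫ pullback.snd g V.ι ≫ V.ι := by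
    rw [IsIso.eq_inv_comp, pullback.condition]
  have hoi : IsOpenImmersion (inv (pullback.fst g V.ι) ≫ pullback.snd g V.ι ≫ V.ι) :=
    inferInstance
  rwa [← hg] at hoi

end Groth.Agent.Helper18.RankOneOpenImm
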