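import Groth.Prelude.Def_EtShriek2
import Groth.Prelude.Def_PBC
import Mathlib.AlgebraicGeometry.Sites.EtalePoint
import Mathlib.AlgebraicGeometry.Morphisms.FlatDescent

set_option autoImplicit false
open CategoryTheory CategoryTheory.Limits AlgebraicGeometry Opposite
universe u

namespace Groth.Agent.Helper18.SectSupp

variable {S : Scheme.{u}}

/-- The support of a section is closed. -/
theorem isClosed_sectSupp (F : EtCoh.Ab S) (U : S.Etale) (σ : EtCoh.sect F U) :
    IsClosed (EtShriek.sectSupp F U σ) := by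
  rw [← isOpen_compl_iff]
  have h : (EtShriek.sectSupp F U σ)ᶜ =
      ⋃ (W : S.Etale) (g : W ⟶ U) (_ : F.obj.map g.op σ = 0), Set.range g.left.base := by
    ext x
    simp only [EtShriek.sectSupp, Set.mem_compl_iff, Set.mem_setOf_eq, Set.mem_iUnion,
      Set.mem_range, exists_prop]
    push Not
    constructor
    · rintro ⟨W, g, hw, h0⟩
      exact ⟨W, g, h0, hw⟩
    · rintro ⟨W, g, h0, hw⟩
      exact ⟨W, g, hw, h0⟩
  rw [h]
  refine isOpen_iUnion fun W => isOpen_iUnion fun g => isOpen_iUnion fun _ => ?_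
  exact g.left.isOpenMap.isOpen_range

instance presFilt : PreservesFilteredColimitsOfSize.{u, u} (forget AddCommGrpCat.{u + 1}) :=
  preservesFilteredColimitsOfSize_shrink.{u, u + 1, u, u + 1} _

/-- If the geometric stalk of `F` at `ξ` is nonzero, the image point of `ξ` is the image of a
point in the support of a section. -/
theorem exists_mem_sectSupp {Ω : Type u} [Field Ω] [IsSepClosed Ω] (F : EtCoh.Ab S)
    (ξ : Spec (CommRingCat.of Ω) ⟶ S) (h : ¬ IsZero ((EtCoh.stalk ξ).obj F)) :
    ∃ (U : S.Etale) (σ : EtCoh.sect F U) (x' : U.left),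
      x' ∈ EtShriek.sectSupp F U σ ∧ U.hom x' = ξ default := by
  have hns : ¬ Subsingleton ((EtCoh.stalk ξ).obj F) := fun hs =>
    h (AddCommGrpCat.isZero_of_subsingleton _)
  rw [not_subsingleton_iff_nontrivial] at hns
  obtain ⟨p, hp⟩ := exists_ne (0 : (EtCoh.stalk ξ).obj F)
  obtain ⟨U, u, z, rfl⟩ :=
    (Scheme.pointSmallEtale ξ).toPresheafFiber_jointly_surjective (P := F.obj) p
  obtain ⟨ul, hul⟩ : ∃ ul : Spec (CommRingCat.of Ω) ⟶ U.left, ul = u.left := ⟨u.left, rfl⟩
  have hu : ul ≫ U.hom = ξ := by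
    rw [hul]
    exact Over.w u
  refine ⟨U, z, ul default, ?_, ?_⟩
  · rintro W g ⟨w, hw⟩ h0
    obtain ⟨l, hl₁, hl₂⟩ := Scheme.exists_fac_of_etale_of_isSepClosed g.left ul w hw
    have hg : g.left ≫ U.hom = W.hom := Over.w g.hom
    have hlW : l ≫ W.hom = ξ := by
      rw [← hg, ← Category.assoc, hl₁, hu]
    let y : (Scheme.pointSmallEtale ξ).fiber.obj W := Over.homMk l hlW
    have hy : (Scheme.pointSmallEtale ξ).fiber.map g y = u := by
      apply Over.OverMorphism.ext
      exact hl₁.trans hul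
    apply hp
    have := (Scheme.pointSmallEtale ξ).toPresheafFiber_w_apply g y F.obj z
    rw [hy] at this
    rw [← this, h0, map_zero]
    rfl
  · rw [← Scheme.Hom.comp_apply, hu]

/-- The image of a point in the support of a section lies in the support of the sheaf. -/
theorem mem_supp_of_mem_sectSupp (F : EtCoh.Ab S) (U : S.Etale) (σ : EtCoh.sect F U)
    (x' : U.left) (hx : x' ∈ EtShriek.sectSupp F U σ) : U.hom x' ∈ EtPBC.supp F := by
  let Ω := SeparableClosure (U.left.residueField x')
  let ul : Spec (CommRingCat.of Ω) ⟶ U.left :=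
    Spec.map (CommRingCat.ofHom (algebraMap (U.left.residueField x') Ω)) ≫
      U.left.fromSpecResidueField x'
  have hul : ul default = x' := by
    rw [Scheme.Hom.comp_apply]
    exact Scheme.fromSpecResidueField_apply _ _
  refine ⟨Ω, inferInstance, inferInstance, ul ≫ U.hom, ?_, ?_⟩
  · ext y
    constructor
    · rintro ⟨a, rfl⟩
      rw [Subsingleton.elim a default, Scheme.Hom.comp_apply, hul]
      rfl
    · rintro rfl
      exact ⟨default, by rw [Scheme.Hom.comp_apply, hul]⟩
  · intro hz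
    let u : (Scheme.pointSmallEtale (ul ≫ U.hom)).fiber.obj U := Over.homMk ul rfl
    haveI : Subsingleton ((EtCoh.stalk (ul ≫ U.hom)).obj F) :=
      AddCommGrpCat.subsingleton_of_isZero hz
    have h0 : (Scheme.pointSmallEtale (ul ≫ U.hom)).toPresheafFiber U u F.obj σ =
        (Scheme.pointSmallEtale (ul ≫ U.hom)).toPresheafFiber U u F.obj 0 :=
      Subsingleton.elim (α := ((EtCoh.stalk (ul ≫ U.hom)).obj F)) _ _
    obtain ⟨Y, f, y, hy, hf⟩ :=
      ((Scheme.pointSmallEtale (ul ≫ U.hom)).toPresheafFiber_eq_iff' U u σ 0).mp h0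
    obtain ⟨yl, hyl⟩ : ∃ yl : Spec (CommRingCat.of Ω) ⟶ Y.left, yl = y.left := ⟨y.left, rfl⟩
    refine hx Y f ⟨yl default, ?_⟩ ?_
    · have h1 : yl ≫ f.left = ul := by
        rw [hyl]
        exact congrArg Over.Hom.left hy
      rw [← Scheme.Hom.comp_apply, h1, hul]
    · rw [hf, map_zero]

end Groth.Agent.Helper18.SectSupp
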