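import Groth.Agent.Lib.Helper18.StalkTest
import Groth.Agent.Lib.Helper18.HensSection

/-!
# Abelian étale sheaves on the spectrum of a strictly henselian local ring
-/

set_option autoImplicit false
open CategoryTheory CategoryTheory.Limits AlgebraicGeometry Opposite IsLocalRing
universe u

namespace Groth.Agent.Helper18.StrictHensStalk

open Groth.Agent.Helper18.SectSupp

variable (R : Type u) [CommRing R] [HenselianLocalRing R] [IsSepClosed (ResidueField R)]

/-- Over a strictly henselian local ring, an étale scheme with a point over the closed geometric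
point has a section through that point. -/
theorem exists_section {U : Scheme.{u}} (p : U ⟶ Spec (CommRingCat.of R)) [Etale p]
    (ul : Spec (CommRingCat.of (ResidueField R)) ⟶ U)
    (hul : ul ≫ p = Spec.map (CommRingCat.ofHom (residue R))) :
    ∃ σ : Spec (CommRingCat.of R) ⟶ U, σ ≫ p = 𝟙 _ ∧
      Spec.map (CommRingCat.ofHom (residue R)) ≫ σ = ul := by
  obtain ⟨B, j, hj, hx, -⟩ := Scheme.exists_affine_mem_range_and_range_subset
    (x := ul default) (U := (⊤ : U.Opens)) (by simp)
  have hr : Set.range ul ⊆ Set.range j := by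
    rintro _ ⟨a, rfl⟩
    rw [Subsingleton.elim a default]
    exact hx
  let ul' : Spec (CommRingCat.of (ResidueField R)) ⟶ Spec B := IsOpenImmersion.lift j ul hr
  have hul' : ul' ≫ j = ul := IsOpenImmersion.lift_fac _ _ _
  let φ₀ : CommRingCat.of R ⟶ B := Spec.preimage (j ≫ p)
  have hφ₀ : Spec.map φ₀ = j ≫ p := Spec.map_preimage _
  let θ₀ : B ⟶ CommRingCat.of (ResidueField R) := Spec.preimage ul'
  have hθ₀ : Spec.map θ₀ = ul' := Spec.map_preimage _
  have hcomp : φ₀ ≫ θ₀ = CommRingCat.ofHom (residue R) := by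
    apply Spec.map_injective
    rw [Spec.map_comp, hθ₀, hφ₀, ← Category.assoc, hul', hul]
  haveI : Etale (Spec.map φ₀) := by rw [hφ₀]; infer_instance
  have hφ₀e : φ₀.hom.Etale := (HasRingHomProperty.Spec_iff (P := @Etale)).mp inferInstance
  letI : Algebra R B := φ₀.hom.toAlgebra
  haveI : Algebra.Etale R B := by
    rw [← RingHom.etale_algebraMap, RingHom.algebraMap_toAlgebra]
    exact hφ₀e
  have hθalg : ∀ r : R, θ₀.hom (algebraMap R B r) = residue R r := by
    intro r
    have := congrArg (fun ψ => ψ.hom r) hcomp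
    exact this
  obtain ⟨q, hqdef⟩ : ∃ q : Ideal B, q = RingHom.ker θ₀.hom := ⟨_, rfl⟩
  haveI : q.IsPrime := hqdef ▸ RingHom.ker_isPrime _
  have hq : q.comap (algebraMap R B) = maximalIdeal R := by
    ext r
    rw [Ideal.mem_comap, hqdef, RingHom.mem_ker, hθalg]
    exact (residue_eq_zero_iff r)
  obtain ⟨φ, hφ⟩ := Groth.Agent.Helper18.HensSection.etale_section R B q hq
  have hφalg : φ₀ ≫ CommRingCat.ofHom φ.toRingHom = 𝟙 _ := by
    ext r
    exact φ.commutes r
  have hres : CommRingCat.ofHom φ.toRingHom ≫ CommRingCat.ofHom (residue R) = θ₀ := by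
    ext b
    change residue R (φ b) = θ₀.hom b
    have h1 : b - algebraMap R B (φ b) ∈ q := by
      rw [← hφ, Ideal.mem_comap]
      change φ (b - algebraMap R B (φ b)) ∈ maximalIdeal R
      rw [map_sub, φ.commutes]
      simp
    rw [hqdef, RingHom.mem_ker, map_sub, sub_eq_zero, hθalg] at h1
    exact h1.symm
  refine ⟨Spec.map (CommRingCat.ofHom φ.toRingHom) ≫ j, ?_, ?_⟩
  · rw [Category.assoc, ← hφ₀, ← Spec.map_comp, hφalg, Spec.map_id]
  · rw [← Category.assoc, ← Spec.map_comp, hres, hθ₀, hul']

/-- The closed geometric point of the spectrum of a strictly henselian local ring. -/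
noncomputable abbrev clPt : Spec (CommRingCat.of (ResidueField R)) ⟶ Spec (CommRingCat.of R) :=
  Spec.map (CommRingCat.ofHom (residue R))

/-- The tautological element of the fibre of the terminal étale scheme. -/
noncomputable abbrev clPt₀ :
    (Scheme.pointSmallEtale (clPt R)).fiber.obj (EtCoh.top (Spec (CommRingCat.of R))) :=
  Over.homMk (clPt R) (Category.comp_id _)

/-- Every étale neighbourhood of the closed geometric point is dominated by the identity. -/
theorem exists_top_hom (U : (Spec (CommRingCat.of R)).Etale)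
    (u : (Scheme.pointSmallEtale (clPt R)).fiber.obj U) :
    ∃ σ : EtCoh.top (Spec (CommRingCat.of R)) ⟶ U,
      (Scheme.pointSmallEtale (clPt R)).fiber.map σ (clPt₀ R) = u := by
  obtain ⟨ul, hul⟩ : ∃ ul : Spec (CommRingCat.of (ResidueField R)) ⟶ U.left, ul = u.left :=
    ⟨u.left, rfl⟩
  have hu : ul ≫ U.hom = clPt R := by
    rw [hul]
    exact Over.w u
  haveI : Etale U.hom := U.prop
  obtain ⟨σ, hσ1, hσ2⟩ := exists_section R U.hom ul hu
  refine ⟨MorphismProperty.Over.homMk σ hσ1 trivial, ?_⟩
  apply Over.OverMorphism.ext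
  exact hσ2.trans hul

theorem top_hom_comp {U : (Spec (CommRingCat.of R)).Etale}
    (σ : EtCoh.top (Spec (CommRingCat.of R)) ⟶ U)
    (f : U ⟶ EtCoh.top (Spec (CommRingCat.of R))) : σ ≫ f = 𝟙 _ := by
  apply MorphismProperty.Over.Hom.ext
  have h1 : (σ ≫ f).left ≫ 𝟙 _ = 𝟙 _ := MorphismProperty.Over.w (σ ≫ f)
  rw [Category.comp_id] at h1
  exact h1

/-- Global sections map bijectively onto the stalk at the closed geometric point. -/
theorem bijective_toStalk (F : EtCoh.Ab (Spec (CommRingCat.of R))) :
    Function.Bijective ((Scheme.pointSmallEtale (clPt R)).toPresheafFiber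
      (EtCoh.top (Spec (CommRingCat.of R))) (clPt₀ R) F.obj) := by
  constructor
  · intro s t hst
    obtain ⟨Y, f, y, hy, hf⟩ :=
      ((Scheme.pointSmallEtale (clPt R)).toPresheafFiber_eq_iff' _ _ s t).mp hst
    obtain ⟨σ, -⟩ := exists_top_hom R Y y
    have hσf : σ ≫ f = 𝟙 _ := top_hom_comp R σ f
    have h1 : ∀ z : F.obj.obj (op (EtCoh.top (Spec (CommRingCat.of R)))),
        F.obj.map σ.op (F.obj.map f.op z) = z := by
      intro z
      rw [← ConcreteCategory.comp_apply, ← Functor.map_comp, ← op_comp, hσf, op_id,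
        CategoryTheory.Functor.map_id]
      rfl
    rw [← h1 s, ← h1 t]
    exact congrArg _ hf
  · intro p
    obtain ⟨U, u, z, rfl⟩ :=
      (Scheme.pointSmallEtale (clPt R)).toPresheafFiber_jointly_surjective (P := F.obj) p
    obtain ⟨σ, hσ⟩ := exists_top_hom R U u
    refine ⟨F.obj.map σ.op z, ?_⟩
    have := (Scheme.pointSmallEtale (clPt R)).toPresheafFiber_w_apply σ (clPt₀ R) F.obj z
    rw [hσ] at this
    exact this

/-- The identity is a terminal object of the small étale site. -/
noncomputable def isTerminalTop (X : Scheme.{u}) : IsTerminal (EtCoh.top X) :=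
  IsTerminal.ofUniqueHom
    (fun Y => MorphismProperty.Over.homMk Y.hom (Category.comp_id _) trivial)
    (fun Y m => by
      apply MorphismProperty.Over.Hom.ext
      have h1 : m.left ≫ 𝟙 _ = Y.hom := MorphismProperty.Over.w m
      rw [Category.comp_id] at h1
      exact h1)

/-- An epimorphism of abelian étale sheaves on a strictly henselian local scheme is surjective on
global sections. -/
theorem surjective_of_epi {F G : EtCoh.Ab (Spec (CommRingCat.of R))} (e : F ⟶ G) [Epi e] :
    Function.Surjective (e.hom.app (op (EtCoh.top (Spec (CommRingCat.of R))))) := by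
  intro x
  have hsurj := (Groth.Agent.Helper18.StalkTest.epi_iff e).1 inferInstance
    (ResidueField R) (clPt R)
  obtain ⟨p, hp⟩ := hsurj ((Scheme.pointSmallEtale (clPt R)).toPresheafFiber
      (EtCoh.top (Spec (CommRingCat.of R))) (clPt₀ R) G.obj x)
  obtain ⟨y, rfl⟩ := (bijective_toStalk R F).2 p
  refine ⟨y, (bijective_toStalk R G).1 ?_⟩
  rw [← hp]
  exact ((Scheme.pointSmallEtale (clPt R)).toPresheafFiber_naturality_apply e.hom
    (EtCoh.top (Spec (CommRingCat.of R))) (clPt₀ R) y).symm

/-- The constant sheaf `ℤ` on a strictly henselian local scheme is projective. -/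
theorem projective_const :
    Projective ((constantSheaf (Spec (CommRingCat.of R)).smallEtaleTopology
      AddCommGrpCat.{u + 1}).obj (AddCommGrpCat.of (ULift.{u + 1} ℤ))) := by
  constructor
  intro G F f e _
  let adj := constantSheafAdj (Spec (CommRingCat.of R)).smallEtaleTopology AddCommGrpCat.{u + 1}
    (isTerminalTop (Spec (CommRingCat.of R)))
  let g := adj.homEquiv _ _ f
  obtain ⟨y, hy⟩ := surjective_of_epi R e (g.hom ⟨1⟩)
  let g' : AddCommGrpCat.of (ULift.{u + 1} ℤ) ⟶
      G.obj.obj (op (EtCoh.top (Spec (CommRingCat.of R)))) :=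
    AddCommGrpCat.ofHom (((zmultiplesHom _) y).comp AddEquiv.ulift.toAddMonoidHom)
  refine ⟨(adj.homEquiv _ _).symm g', ?_⟩
  rw [← Adjunction.homEquiv_naturality_right_symm]
  apply (adj.homEquiv _ _).injective
  rw [Equiv.apply_symm_apply]
  change _ = g
  ext n
  obtain ⟨n⟩ := n
  have hn : (⟨n⟩ : ULift.{u + 1} ℤ) = n • ⟨1⟩ := by
    apply ULift.ext
    simp
  rw [hn, map_zsmul, map_zsmul]
  congr 1
  change e.hom.app _ (((zmultiplesHom _) y) (1 : ℤ)) = _
  rw [zmultiplesHom_apply, one_zsmul]
  exact hy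

/-- Étale cohomology of an abelian sheaf on a strictly henselian local scheme vanishes in
positive degrees. -/
theorem subsingleton_H (F : EtCoh.Ab (Spec (CommRingCat.of R))) (p : ℕ) (hp : 1 ≤ p) :
    Subsingleton (EtCoh.H (Spec (CommRingCat.of R)) F p) := by
  obtain ⟨n, rfl⟩ : ∃ n, p = n + 1 := ⟨p - 1, by omega⟩
  haveI := projective_const R
  refine ⟨fun a b => ?_⟩
  rw [CategoryTheory.Abelian.Ext.eq_zero_of_projective a,
    CategoryTheory.Abelian.Ext.eq_zero_of_projective b]

end Groth.Agent.Helper18.StrictHensStalk
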