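import Groth.Agent.Lib.Helper18.StalkSets
import Groth.Agent.Lib.Helper18.StrictHensStalk

/-!
# Sheaves of sets on the étale site of a separably closed field
-/

set_option autoImplicit false
open CategoryTheory CategoryTheory.Limits AlgebraicGeometry Opposite
universe u

namespace Groth.Agent.Helper18.SepClosedPoint

open Groth.Agent.Helper18.StalkSets Groth.Agent.Helper18.StrictHensStalk

variable (k : Type u) [Field k] [IsSepClosed k]

local notation "Xk" => Spec (CommRingCat.of k)

/-- Every point of an étale scheme over a separably closed field is the image of a section. -/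
noncomputable abbrev pt : ↥(EtCoh.top (Xk)).left := (default : ↥(Spec (CommRingCat.of k)))

theorem exists_section_through (U : (Xk).Etale) (x : U.left) :
    ∃ σ : EtCoh.top (Xk) ⟶ U, σ.left (pt k) = x := by
  obtain ⟨l, hl, hx⟩ := Scheme.exists_fac_of_etale_of_isSepClosed U.hom (𝟙 (Xk)) x
    (Subsingleton.elim (α := ↥(Spec (CommRingCat.of k))) _ _)
  exact ⟨MorphismProperty.Over.homMk l hl trivial, hx⟩

/-- The inclusion of the terminal object as a one-object subcategory. -/
noncomputable abbrev G₀ : Discrete PUnit.{1} ⥤ (Xk).Etale := Functor.fromPUnit (EtCoh.top (Xk))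

instance : (G₀ k).Full where
  map_surjective {a b} f := by
    refine ⟨eqToHom (Subsingleton.elim _ _), ?_⟩
    exact (isTerminalTop (Xk)).hom_ext _ _

instance isCoverDense : (G₀ k).IsCoverDense (Xk).smallEtaleTopology where
  is_cover U := by
    refine mem_smallEtaleTopology _ ?_
    intro x
    obtain ⟨σ, hσ⟩ := exists_section_through k U x
    refine ⟨EtCoh.top (Xk), σ, pt k, ?_, hσ⟩
    exact ⟨⟨⟨PUnit.unit⟩, 𝟙 _, σ, Category.id_comp _⟩⟩

/-- Global sections. -/
noncomputable abbrev Γk : EtDesc.Sh (Xk) ⥤ Type (u + 1) :=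
  (sheafSections (Xk).smallEtaleTopology (Type (u + 1))).obj (op (EtCoh.top (Xk)))

theorem faithful : (Γk k).Faithful := by
  constructor
  intro F G a b hab
  apply ObjectProperty.hom_ext
  apply (Functor.IsCoverDense.restrictHomEquivHom (G := G₀ k) (ℱ := F.obj)
    (ℱ' := G)).symm.injective
  apply NatTrans.ext
  funext c
  obtain ⟨⟨⟨⟩⟩⟩ := c
  exact hab

theorem full : (Γk k).Full := by
  constructor
  intro F G φ
  let α : (G₀ k).op ⋙ F.obj ⟶ (G₀ k).op ⋙ G.obj :=
    { app := fun _ => φ
      naturality := by
        intro a b f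
        simp }
  refine ⟨⟨Functor.IsCoverDense.restrictHomEquivHom (G := G₀ k) (ℱ' := G) α⟩, ?_⟩
  have h := Functor.IsCoverDense.sheafHom_restrict_eq (G := G₀ k) (ℱ' := G) α
  exact congrArg (fun m => m.app (op ⟨PUnit.unit⟩)) h

section FunSheaf

variable (X : Scheme.{u}) (S : Type (u + 1))

/-- The presheaf of `S`-valued functions on the points of étale `X`-schemes. -/
noncomputable def funPresheaf : X.Etaleᵒᵖ ⥤ Type (u + 1) where
  obj U := (↥U.unop.left → S)
  map g := ↾fun f v => f (g.unop.left v)
  map_id U := by
    apply ConcreteCategory.hom_ext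
    intro f
    rfl
  map_comp g h := by
    apply ConcreteCategory.hom_ext
    intro f
    funext v
    change f ((h.unop ≫ g.unop).left v) = f (g.unop.left (h.unop.left v))
    rfl

theorem isSheaf_funPresheaf :
    Presheaf.IsSheaf X.smallEtaleTopology (funPresheaf X S) := by
  rw [isSheaf_iff_isSheaf_of_type]
  intro U R hR x hx
  have eX : X.smallEtaleTopology =
      (X.smallPretopology (P := EtCoh.etaleMP) (Q := EtCoh.etaleMP)).toGrothendieck :=
    Scheme.smallGrothendieckTopology_eq_toGrothendieck_smallPretopology X le_rfl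
  rw [eX] at hR
  have hsurj := (Scheme.mem_toGrothendieck_smallPretopology U R).1 hR
  choose V g v hg _ hv using hsurj
  have key : ∀ (W : X.Etale) (h : W ⟶ U) (hh : R h) (w : W.left) (u : U.left),
      h.left w = u → x (g u) (hg u) (v u) = x h hh w := by
    intro W h hh w u hwu
    obtain ⟨z, hz1, hz2⟩ := Scheme.Pullback.exists_preimage_pullback
      (f := (g u).left) (g := h.left) (v u) w ((hv u).trans hwu.symm)
    let Z : X.Etale := Scheme.Etale.mk (pullback.fst (g u).left h.left ≫ (V u).hom)
    let p₁ : Z ⟶ V u := MorphismProperty.Over.homMk (pullback.fst (g u).left h.left) rfl trivial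
    have hw2 : pullback.snd (g u).left h.left ≫ W.hom =
        pullback.fst (g u).left h.left ≫ (V u).hom := by
      have h1 : h.left ≫ U.hom = W.hom := MorphismProperty.Over.w h
      have h2 : (g u).left ≫ U.hom = (V u).hom := MorphismProperty.Over.w (g u)
      rw [← h1, ← h2, ← Category.assoc, ← Category.assoc, pullback.condition]
    let p₂ : Z ⟶ W := MorphismProperty.Over.homMk (pullback.snd (g u).left h.left) hw2 trivial
    have hcomm : p₁ ≫ g u = p₂ ≫ h := by
      apply MorphismProperty.Over.Hom.ext
      exact pullback.condition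
    have hc := hx p₁ p₂ (hg u) hh hcomm
    have hc2 := congrFun hc z
    change x (g u) (hg u) (pullback.fst (g u).left h.left z) =
      x h hh (pullback.snd (g u).left h.left z) at hc2
    rw [hz1, hz2] at hc2
    exact hc2
  refine ⟨fun u => x (g u) (hg u) (v u), ?_, ?_⟩
  · intro W h hh
    funext w
    exact key W h hh w (h.left w) rfl
  · intro t' ht'
    funext u
    have h1 := congrFun (ht' (g u) (hg u)) (v u)
    change t' ((g u).left (v u)) = x (g u) (hg u) (v u) at h1
    rw [hv u] at h1
    exact h1

/-- The sheaf of `S`-valued functions on points. -/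
noncomputable def funSheaf : EtDesc.Sh X := ⟨funPresheaf X S, isSheaf_funPresheaf X S⟩

end FunSheaf

theorem essSurj : (Γk k).EssSurj := by
  constructor
  intro S
  refine ⟨funSheaf (Xk) S, ⟨?_⟩⟩
  exact (Equiv.funUnique ↥(Spec (CommRingCat.of k)) S).toIso

theorem isEquivalence : (Γk k).IsEquivalence :=
  { faithful := faithful k
    full := full k
    essSurj := essSurj k }

end Groth.Agent.Helper18.SepClosedPoint
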