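import Mathlib

set_option autoImplicit false
open CategoryTheory CategoryTheory.Limits
universe w v₁ u₁

namespace Groth.Agent.Helper18.ShfCat

/-- abbreviation: universal effective epimorphisms -/
abbrev UEE (C : Type u₁) [Category.{v₁} C] : MorphismProperty C :=
  MorphismProperty.universally (fun (A B : C) (p : A ⟶ B) => EffectiveEpi p)

section TypeLevel

variable {R X Q : Type w}

theorem type_isKernelPair (p₁ p₂ : R ⟶ X) (π : X ⟶ Q)
    (hinj : ∀ a b, p₁ a = p₁ b → p₂ a = p₂ b → a = b)
    (hπ : ∀ x y, π x = π y ↔ ∃ s, p₁ s = x ∧ p₂ s = y) :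
    IsPullback p₁ p₂ π π := by
  rw [Types.isPullback_iff]
  refine ⟨?_, ?_, ?_⟩
  · ext s
    exact (hπ _ _).mpr ⟨s, rfl, rfl⟩
  · rintro a b ⟨h1, h2⟩
    exact hinj a b h1 h2
  · intro x y h
    exact (hπ x y).mp h

theorem type_isPushout (p₁ p₂ : R ⟶ X) (π : X ⟶ Q)
    (hsurj : Function.Surjective π)
    (hrefl : ∀ x, ∃ s, p₁ s = x ∧ p₂ s = x)
    (hπ : ∀ x y, π x = π y ↔ ∃ s, p₁ s = x ∧ p₂ s = y) :
    IsPushout p₁ p₂ π π := by
  have w : p₁ ≫ π = p₂ ≫ π := by
    ext s
    exact (hπ _ _).mpr ⟨s, rfl, rfl⟩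
  refine ⟨⟨w⟩, ⟨PushoutCocone.IsColimit.mk _ (fun s => ↾(fun q => s.inl (Function.surjInv hsurj q)))
    ?_ ?_ ?_⟩⟩
  · intro s
    ext x
    have h1 : π (Function.surjInv hsurj (π x)) = π x := Function.surjInv_eq hsurj (π x)
    obtain ⟨t, ht1, ht2⟩ := (hπ _ _).mp h1
    obtain ⟨t', ht1', ht2'⟩ := hrefl x
    have c1 := ConcreteCategory.congr_hom s.condition t
    have c2 := ConcreteCategory.congr_hom s.condition t'
    simp only [ConcreteCategory.comp_apply] at c1 c2
    rw [ht1, ht2] at c1
    rw [ht1', ht2'] at c2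
    change s.inl (Function.surjInv hsurj (π x)) = s.inl x
    rw [c1, c2]
  · intro s
    ext x
    have h1 : π (Function.surjInv hsurj (π x)) = π x := Function.surjInv_eq hsurj (π x)
    obtain ⟨t, ht1, ht2⟩ := (hπ _ _).mp h1
    have c1 := ConcreteCategory.congr_hom s.condition t
    simp only [ConcreteCategory.comp_apply] at c1
    rw [ht1, ht2] at c1
    change s.inl (Function.surjInv hsurj (π x)) = s.inr x
    exact c1
  · intro s m hm1 _
    ext q
    have h1 : π (Function.surjInv hsurj q) = q := Function.surjInv_eq hsurj q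
    change m q = s.inl (Function.surjInv hsurj q)
    rw [← hm1]
    change m q = m (π (Function.surjInv hsurj q))
    rw [h1]

end TypeLevel

section Presheaf

variable {C : Type u₁} [Category.{v₁} C] {R X : Cᵒᵖ ⥤ Type w} (p₁ p₂ : R ⟶ X)

/-- the auxiliary presheaf of pairs of sections of `R` with the same two images -/
def pairs : Cᵒᵖ ⥤ Type w where
  obj U := {ab : R.obj U × R.obj U //
    p₁.app U ab.1 = p₁.app U ab.2 ∧ p₂.app U ab.1 = p₂.app U ab.2}
  map {U V} f := ↾(fun ab => ⟨(R.map f ab.1.1, R.map f ab.1.2), by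
    constructor
    · change p₁.app V (R.map f ab.1.1) = p₁.app V (R.map f ab.1.2)
      rw [NatTrans.naturality_apply, NatTrans.naturality_apply, ab.2.1]
    · change p₂.app V (R.map f ab.1.1) = p₂.app V (R.map f ab.1.2)
      rw [NatTrans.naturality_apply, NatTrans.naturality_apply, ab.2.2]⟩)
  map_id U := by
    ext ⟨⟨a, b⟩, h⟩ <;> simp
  map_comp f g := by
    ext ⟨⟨a, b⟩, h⟩ <;> simp

/-- first projection -/
def pairsFst : pairs p₁ p₂ ⟶ R where
  app U := ↾(fun ab => ab.1.1)
  naturality U V f := by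
    ext ab
    rfl

/-- second projection -/
def pairsSnd : pairs p₁ p₂ ⟶ R where
  app U := ↾(fun ab => ab.1.2)
  naturality U V f := by
    ext ab
    rfl

theorem app_injective [JointlyMono₂ p₁ p₂] (U : Cᵒᵖ) (a b : R.obj U)
    (h1 : p₁.app U a = p₁.app U b) (h2 : p₂.app U a = p₂.app U b) : a = b := by
  have key : pairsFst p₁ p₂ = pairsSnd p₁ p₂ :=
    JointlyMono₂.right_cancellation (p₁ := p₁) (p₂ := p₂) (pairsFst p₁ p₂) (pairsSnd p₁ p₂)
      (by
        ext U ab
        exact ab.2.1)
      (by
        ext U ab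
        exact ab.2.2)
  exact ConcreteCategory.congr_hom (congrArg (fun f => f.app U) key) ⟨(a, b), ⟨h1, h2⟩⟩

variable {p₁ p₂}

theorem rel_refl (e : EquivalenceRelation p₁ p₂) (U : Cᵒᵖ) (x : X.obj U) :
    ∃ s, p₁.app U s = x ∧ p₂.app U s = x := by
  refine ⟨e.r.app U x, ?_, ?_⟩
  · exact ConcreteCategory.congr_hom (NatTrans.congr_app e.reflexivity₁ U) x
  · exact ConcreteCategory.congr_hom (NatTrans.congr_app e.reflexivity₂ U) x

theorem rel_symm (e : EquivalenceRelation p₁ p₂) (U : Cᵒᵖ) {x y : X.obj U}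
    (h : ∃ s, p₁.app U s = x ∧ p₂.app U s = y) : ∃ s, p₁.app U s = y ∧ p₂.app U s = x := by
  obtain ⟨s, hs1, hs2⟩ := h
  refine ⟨e.s.app U s, ?_, ?_⟩
  · have := ConcreteCategory.congr_hom (NatTrans.congr_app e.symmetry₁ U) s
    exact this.trans hs2
  · have := ConcreteCategory.congr_hom (NatTrans.congr_app e.symmetry₂ U) s
    exact this.trans hs1

theorem rel_trans (e : EquivalenceRelation p₁ p₂) (U : Cᵒᵖ) {x y z : X.obj U}
    (h1 : ∃ s, p₁.app U s = x ∧ p₂.app U s = y) (h2 : ∃ s, p₁.app U s = y ∧ p₂.app U s = z) :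
    ∃ s, p₁.app U s = x ∧ p₂.app U s = z := by
  obtain ⟨s, hs1, hs2⟩ := h1
  obtain ⟨s', hs1', hs2'⟩ := h2
  have hpb : IsPullback e.c.fst e.c.snd p₂ p₁ := IsPullback.of_isLimit e.isLimit
  obtain ⟨t, ht1, ht2⟩ := Types.exists_of_isPullback (hpb.app U) s s' (hs2.trans hs1'.symm)
  refine ⟨e.t.app U t, ?_, ?_⟩
  · have := ConcreteCategory.congr_hom (NatTrans.congr_app e.transitivity₁ U) t
    refine this.trans ?_
    change p₁.app U (e.c.fst.app U t) = x
    rw [ht1, hs1]
  · have := ConcreteCategory.congr_hom (NatTrans.congr_app e.transitivity₂ U) t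
    refine this.trans ?_
    change p₂.app U (e.c.snd.app U t) = z
    rw [ht2, hs2']

/-- the setoid on sections -/
def setoid (e : EquivalenceRelation p₁ p₂) (U : Cᵒᵖ) : Setoid (X.obj U) where
  r x y := ∃ s, p₁.app U s = x ∧ p₂.app U s = y
  iseqv := ⟨rel_refl e U, rel_symm e U, rel_trans e U⟩

/-- the quotient presheaf -/
def quot (e : EquivalenceRelation p₁ p₂) : Cᵒᵖ ⥤ Type w where
  obj U := Quotient (setoid e U)
  map {U V} f := ↾(Quotient.map (X.map f) (by
    rintro x y ⟨s, hs1, hs2⟩
    exact ⟨R.map f s, by rw [NatTrans.naturality_apply, hs1],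
      by rw [NatTrans.naturality_apply, hs2]⟩))
  map_id U := by
    ext q
    induction q using Quotient.inductionOn with
    | h x => simp
  map_comp f g := by
    ext q
    induction q using Quotient.inductionOn with
    | h x => simp

/-- the quotient map -/
def quotπ (e : EquivalenceRelation p₁ p₂) : X ⟶ quot e where
  app U := ↾(Quotient.mk (setoid e U))
  naturality U V f := by
    ext x
    rfl

theorem quotπ_surjective (e : EquivalenceRelation p₁ p₂) (U : Cᵒᵖ) :
    Function.Surjective ((quotπ e).app U) := by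
  intro q
  induction q using Quotient.inductionOn with
  | h x => exact ⟨x, rfl⟩

theorem quotπ_eq_iff (e : EquivalenceRelation p₁ p₂) (U : Cᵒᵖ) (x y : X.obj U) :
    (quotπ e).app U x = (quotπ e).app U y ↔ ∃ s, p₁.app U s = x ∧ p₂.app U s = y := by
  change Quotient.mk (setoid e U) x = Quotient.mk (setoid e U) y ↔ _
  rw [Quotient.eq]
  rfl

theorem presheaf_uee_of_surjective {F G : Cᵒᵖ ⥤ Type w} (f : F ⟶ G)
    (hf : ∀ U, Function.Surjective (f.app U)) : UEE _ f := by
  intro F' G' i₁ i₂ f' H
  have hsurj : ∀ U, Function.Surjective (f'.app U) := by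
    intro U y'
    obtain ⟨x, hx⟩ := hf U (i₂.app U y')
    obtain ⟨x', hx1, _⟩ := Types.exists_of_isPullback (H.app U) y' x hx.symm
    exact ⟨x', hx1⟩
  have hepi : Epi f' := by
    have : ∀ U, Epi (f'.app U) := fun U => (epi_iff_surjective _).mpr (hsurj U)
    exact NatTrans.epi_of_epi_app f'
  have := IsRegularEpiCategory.regularEpiOfEpi f'
  exact (isRegularEpi_iff_effectiveEpi f').mp this

theorem quot_isKernelPair (e : EquivalenceRelation p₁ p₂) :
    IsKernelPair (quotπ e) p₁ p₂ := by
  have : JointlyMono₂ p₁ p₂ := e.toReflexiveRelation.toJointlyMono₂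
  exact IsPullback.of_forall_isPullback_app (fun U =>
    type_isKernelPair _ _ _ (app_injective p₁ p₂ U) (quotπ_eq_iff e U))

theorem quot_isPushout (e : EquivalenceRelation p₁ p₂) :
    IsPushout p₁ p₂ (quotπ e) (quotπ e) :=
  IsPushout.of_forall_isPushout_app (fun U =>
    type_isPushout _ _ _ (quotπ_surjective e U) (rel_refl e U) (quotπ_eq_iff e U))

/-- every equivalence relation on presheaves of types is universally effective -/
noncomputable def presheafUEER (e : EquivalenceRelation p₁ p₂) :
    UniversallyEffectiveEquivalenceRelation p₁ p₂ where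
  toEquivalenceRelation := e
  B := quot e
  π := quotπ e
  isKernelPair := quot_isKernelPair e
  isPushout := quot_isPushout e
  universally_effectiveEpi_π := presheaf_uee_of_surjective _ (quotπ_surjective e)

end Presheaf

section SheafLevel

variable {C : Type u₁} [Category.{v₁} C] (J : GrothendieckTopology C)

theorem sheaf_epi_of_isPullback [HasSheafify J (Type w)] {X Y X' Y' : Sheaf J (Type w)}
    {f : X ⟶ Y} {f' : X' ⟶ Y'} {i₁ : X' ⟶ X} {i₂ : Y' ⟶ Y} (H : IsPullback f' i₁ i₂ f)
    [hf : Epi f] : Epi f' := by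
  rw [← Sheaf.isLocallySurjective_iff_epi] at hf ⊢
  constructor
  intro U y'
  refine J.superset_covering ?_ (Presheaf.imageSieve_mem J f.hom (i₂.hom.app (Opposite.op U) y'))
  rintro V g ⟨x, hx⟩
  have HV : IsPullback (f'.hom.app (Opposite.op V)) (i₁.hom.app (Opposite.op V))
      (i₂.hom.app (Opposite.op V)) (f.hom.app (Opposite.op V)) :=
    (H.map (sheafToPresheaf J (Type w))).app (Opposite.op V)
  obtain ⟨x', hx1, _⟩ := Types.exists_of_isPullback HV (Y'.obj.map g.op y') x (by
    rw [hx]
    exact NatTrans.naturality_apply i₂.hom g.op y')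
  exact ⟨x', hx1⟩

theorem sheaf_uee_of_epi [HasSheafify J (Type w)] {X Y : Sheaf J (Type w)} (f : X ⟶ Y)
    [Epi f] : UEE _ f := by
  intro X' Y' i₁ i₂ f' H
  have : Epi f' := sheaf_epi_of_isPullback J H
  have := IsRegularEpiCategory.regularEpiOfEpi f'
  exact (isRegularEpi_iff_effectiveEpi f').mp this

end SheafLevel

section SheafQuot

variable {C : Type u₁} [Category.{v₁} C] (J : GrothendieckTopology C) [HasSheafify J (Type w)]
variable {R X : Sheaf J (Type w)} {p₁ p₂ : R ⟶ X}

theorem jointlyMono₂_hom [JointlyMono₂ p₁ p₂] : JointlyMono₂ p₁.hom p₂.hom where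
  right_cancellation Y f g h1 h2 := by
    let adj := sheafificationAdjunction J (Type w)
    have e1 : (adj.homEquiv Y R).symm f ≫ p₁ = (adj.homEquiv Y R).symm g ≫ p₁ := by
      rw [← Adjunction.homEquiv_naturality_right_symm, ← Adjunction.homEquiv_naturality_right_symm]
      exact congrArg _ h1
    have e2 : (adj.homEquiv Y R).symm f ≫ p₂ = (adj.homEquiv Y R).symm g ≫ p₂ := by
      rw [← Adjunction.homEquiv_naturality_right_symm, ← Adjunction.homEquiv_naturality_right_symm]
      exact congrArg _ h2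
    exact (adj.homEquiv Y R).symm.injective
      (JointlyMono₂.right_cancellation (p₁ := p₁) (p₂ := p₂) _ _ e1 e2)

/-- image of an equivalence relation under a pullback-preserving functor -/
noncomputable def mapEquivalenceRelation {C' : Type*} [Category C'] {D' : Type*} [Category D']
    {R' X' : C'} {q₁ q₂ : R' ⟶ X'} (e : EquivalenceRelation q₁ q₂) (F : C' ⥤ D')
    [JointlyMono₂ (F.map q₁) (F.map q₂)] [PreservesLimitsOfShape WalkingCospan F] :
    EquivalenceRelation (F.map q₁) (F.map q₂) where
  toReflexiveRelation := e.toReflexiveRelation.map F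
  s := (e.toSymmetricRelation.map F).s
  symmetry₁ := (e.toSymmetricRelation.map F).symmetry₁
  symmetry₂ := (e.toSymmetricRelation.map F).symmetry₂
  c := (e.toTransitiveRelation.map F).c
  isLimit := (e.toTransitiveRelation.map F).isLimit
  t := (e.toTransitiveRelation.map F).t
  transitivity₁ := (e.toTransitiveRelation.map F).transitivity₁
  transitivity₂ := (e.toTransitiveRelation.map F).transitivity₂

/-- the underlying equivalence relation of presheaves -/
noncomputable def homEquivalenceRelation (e : EquivalenceRelation p₁ p₂) :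
    EquivalenceRelation p₁.hom p₂.hom :=
  letI : JointlyMono₂ p₁ p₂ := e.toReflexiveRelation.toJointlyMono₂
  letI : JointlyMono₂ ((sheafToPresheaf J (Type w)).map p₁) ((sheafToPresheaf J (Type w)).map p₂) :=
    jointlyMono₂_hom J (p₁ := p₁) (p₂ := p₂)
  mapEquivalenceRelation e (sheafToPresheaf J (Type w))

/-- the quotient sheaf -/
noncomputable def sheafQuot (e : EquivalenceRelation p₁ p₂) : Sheaf J (Type w) :=
  (presheafToSheaf J (Type w)).obj (quot (homEquivalenceRelation J e))

/-- the quotient map to the quotient sheaf -/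
noncomputable def sheafQuotπ (e : EquivalenceRelation p₁ p₂) : X ⟶ sheafQuot J e :=
  inv ((sheafificationAdjunction J (Type w)).counit.app X) ≫
    (presheafToSheaf J (Type w)).map (quotπ (homEquivalenceRelation J e))

theorem sheafQuot_isKernelPair (e : EquivalenceRelation p₁ p₂) :
    IsKernelPair (sheafQuotπ J e) p₁ p₂ := by
  have h0 := (quot_isKernelPair (homEquivalenceRelation J e)).map (presheafToSheaf J (Type w))
  refine IsPullback.of_iso h0 (asIso ((sheafificationAdjunction J (Type w)).counit.app R))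
    (asIso ((sheafificationAdjunction J (Type w)).counit.app X))
    (asIso ((sheafificationAdjunction J (Type w)).counit.app X)) (Iso.refl _) ?_ ?_ ?_ ?_
  · exact (sheafificationAdjunction J (Type w)).counit.naturality p₁
  · exact (sheafificationAdjunction J (Type w)).counit.naturality p₂
  · simp only [sheafQuotπ, asIso_hom, Iso.refl_hom, IsIso.hom_inv_id_assoc]
    exact Category.comp_id _
  · simp only [sheafQuotπ, asIso_hom, Iso.refl_hom, IsIso.hom_inv_id_assoc]
    exact Category.comp_id _

theorem sheafQuot_isPushout (e : EquivalenceRelation p₁ p₂) :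
    IsPushout p₁ p₂ (sheafQuotπ J e) (sheafQuotπ J e) := by
  have h0 := (quot_isPushout (homEquivalenceRelation J e)).map (presheafToSheaf J (Type w))
  refine IsPushout.of_iso h0 (asIso ((sheafificationAdjunction J (Type w)).counit.app R))
    (asIso ((sheafificationAdjunction J (Type w)).counit.app X))
    (asIso ((sheafificationAdjunction J (Type w)).counit.app X)) (Iso.refl _) ?_ ?_ ?_ ?_
  · exact (sheafificationAdjunction J (Type w)).counit.naturality p₁
  · exact (sheafificationAdjunction J (Type w)).counit.naturality p₂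
  · simp only [sheafQuotπ, asIso_hom, Iso.refl_hom, IsIso.hom_inv_id_assoc]
    exact Category.comp_id _
  · simp only [sheafQuotπ, asIso_hom, Iso.refl_hom, IsIso.hom_inv_id_assoc]
    exact Category.comp_id _

theorem sheafQuotπ_epi (e : EquivalenceRelation p₁ p₂) : Epi (sheafQuotπ J e) := by
  have h1 : Epi (quotπ (homEquivalenceRelation J e)) := by
    have : ∀ U, Epi ((quotπ (homEquivalenceRelation J e)).app U) := fun U =>
      (epi_iff_surjective _).mpr (quotπ_surjective _ U)
    exact NatTrans.epi_of_epi_app _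
  have h2 : Epi ((presheafToSheaf J (Type w)).map (quotπ (homEquivalenceRelation J e))) :=
    inferInstance
  unfold sheafQuotπ
  exact @epi_comp _ _ _ _ _ _ inferInstance _ h2

/-- every equivalence relation on sheaves of types is universally effective -/
noncomputable def sheafUEER (e : EquivalenceRelation p₁ p₂) :
    UniversallyEffectiveEquivalenceRelation p₁ p₂ where
  toEquivalenceRelation := e
  B := sheafQuot J e
  π := sheafQuotπ J e
  isKernelPair := sheafQuot_isKernelPair J e
  isPushout := sheafQuot_isPushout J e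
  universally_effectiveEpi_π :=
    haveI := sheafQuotπ_epi J e
    sheaf_uee_of_epi J _

end SheafQuot

section Subobj

variable {D : Type u₁} [Category.{v₁} D] [HasPullbacks D]

theorem factors_of_effectiveEpi_comp {T T' B : D} (A : Subobject B) (q : T' ⟶ T)
    [EffectiveEpi q] (t : T ⟶ B) (h : A.Factors (q ≫ t)) : A.Factors t := by
  have hu : A.factorThru (q ≫ t) h ≫ A.arrow = q ≫ t := A.factorThru_arrow _ h
  have hcompat : ∀ {Z : D} (g₁ g₂ : Z ⟶ T'), g₁ ≫ q = g₂ ≫ q →
      g₁ ≫ A.factorThru (q ≫ t) h = g₂ ≫ A.factorThru (q ≫ t) h := by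
    intro Z g₁ g₂ hg
    rw [← cancel_mono A.arrow, Category.assoc, Category.assoc, hu, reassoc_of% hg]
  have hv : q ≫ EffectiveEpi.desc q (A.factorThru (q ≫ t) h) hcompat = A.factorThru (q ≫ t) h :=
    EffectiveEpi.fac q _ _
  have key : EffectiveEpi.desc q (A.factorThru (q ≫ t) h) hcompat ≫ A.arrow = t := by
    rw [← cancel_epi q, ← Category.assoc, hv, hu]
  rw [← key]
  exact Subobject.factors_comp_arrow _

theorem subobject_le_of_pullback_le {X B : D} (π : X ⟶ B) (hπ : UEE D π) (A A' : Subobject B)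
    (h : (Subobject.pullback π).obj A ≤ (Subobject.pullback π).obj A') : A ≤ A' := by
  have hq : EffectiveEpi (Subobject.pullbackπ π A) := hπ _ _ _ (Subobject.isPullback π A)
  have h1 : ((Subobject.pullback π).obj A').Factors ((Subobject.pullback π).obj A).arrow :=
    Subobject.factors_of_le _ h (Subobject.factors_self _)
  rw [pullback_factors_iff, ← (Subobject.isPullback π A).w] at h1
  have h2 := factors_of_effectiveEpi_comp A' _ _ h1
  exact Subobject.le_of_comm (A'.factorThru _ h2) (A'.factorThru_arrow _ h2)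

theorem subobject_pullback_injective {X B : D} (π : X ⟶ B) (hπ : UEE D π) :
    Function.Injective (Subobject.pullback π).obj := by
  intro A A' h
  exact le_antisymm (subobject_le_of_pullback_le π hπ A A' h.le)
    (subobject_le_of_pullback_le π hπ A' A h.ge)

theorem subobject_pullback_range {R X B : D} {p₁ p₂ : R ⟶ X} {π : X ⟶ B}
    (hk : IsKernelPair π p₁ p₂)
    (hfact : ∀ {Y : D} (f : Y ⟶ B), ∃ (A : D) (q : Y ⟶ A) (m : A ⟶ B),
      Mono m ∧ UEE D q ∧ q ≫ m = f) :
    Set.range (Subobject.pullback π).obj =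
      {Y : Subobject X | (Subobject.pullback p₁).obj Y = (Subobject.pullback p₂).obj Y} := by
  apply Set.Subset.antisymm
  · rintro _ ⟨A, rfl⟩
    change (Subobject.pullback p₁).obj ((Subobject.pullback π).obj A) =
      (Subobject.pullback p₂).obj ((Subobject.pullback π).obj A)
    rw [← Subobject.pullback_comp, ← Subobject.pullback_comp, hk.w]
  · intro Y hY
    change (Subobject.pullback p₁).obj Y = (Subobject.pullback p₂).obj Y at hY
    obtain ⟨A0, q, m, hm, hq, hqm⟩ := hfact (Y.arrow ≫ π)
    refine ⟨Subobject.mk m, le_antisymm ?_ ?_⟩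
    · -- π⁻¹A ≤ Y
      have hz : (Subobject.mk m).Factors (((Subobject.pullback π).obj (Subobject.mk m)).arrow ≫ π) :=
        (pullback_factors_iff π _ _).mp (Subobject.factors_self _)
      obtain ⟨u0, hu0⟩ : ∃ u0 : (((Subobject.pullback π).obj (Subobject.mk m) : Subobject X) : D) ⟶ A0,
          u0 ≫ m = ((Subobject.pullback π).obj (Subobject.mk m)).arrow ≫ π :=
        ⟨(Subobject.mk m).factorThru _ hz ≫ (Subobject.underlyingIso m).hom, by
          rw [Category.assoc, Subobject.underlyingIso_hom_comp_eq_mk, Subobject.factorThru_arrow]⟩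
      -- pull back q along u0
      have hw₁ : EffectiveEpi (pullback.fst u0 q) := hq _ _ _ (IsPullback.of_hasPullback u0 q)
      have hcond : (pullback.snd u0 q ≫ Y.arrow) ≫ π =
          (pullback.fst u0 q ≫ ((Subobject.pullback π).obj (Subobject.mk m)).arrow) ≫ π := by
        rw [Category.assoc, Category.assoc, ← hqm, ← hu0, ← Category.assoc, ← Category.assoc,
          pullback.condition]
      have hr1 : hk.lift _ _ hcond ≫ p₁ = pullback.snd u0 q ≫ Y.arrow := hk.lift_fst _ _ hcond
      have hr2 : hk.lift _ _ hcond ≫ p₂ =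
          pullback.fst u0 q ≫ ((Subobject.pullback π).obj (Subobject.mk m)).arrow :=
        hk.lift_snd _ _ hcond
      have f1 : ((Subobject.pullback p₁).obj Y).Factors (hk.lift _ _ hcond) := by
        rw [pullback_factors_iff, hr1]
        exact Subobject.factors_comp_arrow _
      rw [hY, pullback_factors_iff, hr2] at f1
      have f2 := factors_of_effectiveEpi_comp Y _ _ f1
      exact Subobject.le_of_comm (Y.factorThru _ f2) (Y.factorThru_arrow _ f2)
    · -- Y ≤ π⁻¹A
      have : ((Subobject.pullback π).obj (Subobject.mk m)).Factors Y.arrow := by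
        rw [pullback_factors_iff, ← hqm]
        exact ⟨q, rfl⟩
      exact Subobject.le_of_comm (Subobject.factorThru _ _ this) (Subobject.factorThru_arrow _ _ this)

end Subobj

section Restrict

variable {D : Type u₁} [Category.{v₁} D]

theorem isKernelPair_restrict {R X Y B : D} {p₁ p₂ : R ⟶ X} {π : X ⟶ B}
    (hk : IsKernelPair π p₁ p₂) (ι : Y ⟶ X) [HasPullback p₁ ι]
    [HasPullback (pullback.fst p₁ ι ≫ p₂) ι] :
    IsKernelPair (ι ≫ π) (pullback.fst (pullback.fst p₁ ι ≫ p₂) ι ≫ pullback.snd p₁ ι)
      (pullback.snd (pullback.fst p₁ ι ≫ p₂) ι) := by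
  have c1 : pullback.fst p₁ ι ≫ p₁ = pullback.snd p₁ ι ≫ ι := pullback.condition
  have c2 : pullback.fst (pullback.fst p₁ ι ≫ p₂) ι ≫ (pullback.fst p₁ ι ≫ p₂) =
      pullback.snd (pullback.fst p₁ ι ≫ p₂) ι ≫ ι := pullback.condition
  have w : (pullback.fst (pullback.fst p₁ ι ≫ p₂) ι ≫ pullback.snd p₁ ι) ≫ ι ≫ π =
      pullback.snd (pullback.fst p₁ ι ≫ p₂) ι ≫ ι ≫ π := by
    rw [← reassoc_of% c2, Category.assoc, ← reassoc_of% c1, hk.w]
  refine ⟨⟨w⟩, ⟨PullbackCone.IsLimit.mk w
    (fun s => pullback.lift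
      (pullback.lift (hk.lift (s.fst ≫ ι) (s.snd ≫ ι) (by simpa using s.condition)) s.fst
        (hk.lift_fst _ _ _)) s.snd
      (by rw [pullback.lift_fst_assoc]; exact hk.lift_snd _ _ _)) ?_ ?_ ?_⟩⟩
  · intro s
    rw [pullback.lift_fst_assoc, pullback.lift_snd]
  · intro s
    rw [pullback.lift_snd]
  · intro s m hm1 hm2
    apply pullback.hom_ext
    · rw [pullback.lift_fst]
      apply pullback.hom_ext
      · rw [pullback.lift_fst]
        apply hk.hom_ext
        · rw [hk.lift_fst, Category.assoc, Category.assoc, c1, ← hm1, Category.assoc,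
            Category.assoc]
        · rw [hk.lift_snd, Category.assoc, Category.assoc, c2, ← hm2, Category.assoc]
      · rw [pullback.lift_snd, ← hm1, Category.assoc]
    · rw [pullback.lift_snd, hm2]

end Restrict

end Groth.Agent.Helper18.ShfCat
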