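import Mathlib

/-!
# Points with separable residue field in fibres of étale maps to affine space
-/

universe u

open TensorProduct

namespace Groth.Agent.Helper18.SmoothSec

section Quot

/-- A nontrivial finite type algebra over a field which is étale has a quotient field which is
finite separable. -/
lemma exists_quot_etale {k E : Type u} [Field k] [CommRing E] [Algebra k E] [Nontrivial E]
    [Algebra.Etale k E] :
    ∃ (k' : Type u) (_ : Field k') (_ : Algebra k k'), Module.Finite k k' ∧
      Algebra.IsSeparable k k' ∧ ∃ π : E →ₐ[k] k', Function.Surjective π := by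
  obtain ⟨M, hM⟩ := Ideal.exists_maximal E
  haveI := hM
  letI : Field (E ⧸ M) := Ideal.Quotient.field M
  haveI : Algebra.FormallyUnramified k (E ⧸ M) :=
    Algebra.FormallyUnramified.of_surjective (Ideal.Quotient.mkₐ k M)
      Ideal.Quotient.mk_surjective
  haveI : Algebra.FiniteType k (E ⧸ M) :=
    Algebra.FiniteType.of_surjective (Ideal.Quotient.mkₐ k M) Ideal.Quotient.mk_surjective
  haveI : Module.Finite k (E ⧸ M) := finite_of_finite_type_of_isJacobsonRing k (E ⧸ M)
  exact ⟨E ⧸ M, inferInstance, inferInstance, inferInstance,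
    Algebra.FormallyUnramified.isSeparable k (E ⧸ M), Ideal.Quotient.mkₐ k M,
    Ideal.Quotient.mk_surjective⟩

/-- A nontrivial finite type algebra over a finite field has a quotient field which is
finite separable. -/
lemma exists_quot_finite {k E : Type u} [Field k] [Finite k] [CommRing E] [Algebra k E]
    [Nontrivial E] [Algebra.FiniteType k E] :
    ∃ (k' : Type u) (_ : Field k') (_ : Algebra k k'), Module.Finite k k' ∧
      Algebra.IsSeparable k k' ∧ ∃ π : E →ₐ[k] k', Function.Surjective π := by
  obtain ⟨M, hM⟩ := Ideal.exists_maximal E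
  haveI := hM
  letI : Field (E ⧸ M) := Ideal.Quotient.field M
  haveI : Algebra.FiniteType k (E ⧸ M) :=
    Algebra.FiniteType.of_surjective (Ideal.Quotient.mkₐ k M) Ideal.Quotient.mk_surjective
  haveI : Module.Finite k (E ⧸ M) := finite_of_finite_type_of_isJacobsonRing k (E ⧸ M)
  exact ⟨E ⧸ M, inferInstance, inferInstance, inferInstance, inferInstance,
    Ideal.Quotient.mkₐ k M, Ideal.Quotient.mk_surjective⟩

end Quot

section Rational

variable {k : Type u} [Field k] [Infinite k] (n : ℕ)

/-- Over an infinite field, a nonempty open subset of affine space contains a rational point. -/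
lemma exists_rational_point (W : Set (PrimeSpectrum (MvPolynomial (Fin n) k))) (hW : IsOpen W)
    (hne : W.Nonempty) :
    ∃ a : Fin n → k, (⟨RingHom.ker (MvPolynomial.eval a), RingHom.ker_isPrime _⟩ :
      PrimeSpectrum (MvPolynomial (Fin n) k)) ∈ W := by
  obtain ⟨x, hx⟩ := hne
  obtain ⟨_, ⟨h, rfl⟩, hxh, hsub⟩ :=
    PrimeSpectrum.isTopologicalBasis_basic_opens.exists_subset_of_mem_open hx hW
  have hh : h ≠ 0 := by
    rintro rfl
    simp at hxh
  obtain ⟨a, ha⟩ : ∃ a : Fin n → k, MvPolynomial.eval a h ≠ 0 := by
    by_contra hcon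
    push_neg at hcon
    exact hh (MvPolynomial.funext (fun a => by rw [hcon a, map_zero]))
  refine ⟨a, hsub ?_⟩
  change h ∉ RingHom.ker (MvPolynomial.eval a)
  rw [RingHom.mem_ker]
  exact ha

end Rational

end Groth.Agent.Helper18.SmoothSec
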