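import Groth.Agent.Lib.Helper18.SmoothSec1

/-!
# Separable points in the fibres of a map which is étale over affine space
-/

universe u

open TensorProduct

namespace Groth.Agent.Helper18.SmoothSec

theorem exists_sep_point {A B k K : Type u} [CommRing A] [CommRing B] [Field k] [Field K] (n : ℕ)
    [Algebra A B] [Algebra (MvPolynomial (Fin n) A) B]
    [IsScalarTower A (MvPolynomial (Fin n) A) B]
    [Algebra.Etale (MvPolynomial (Fin n) A) B]
    (φk : A →+* k) (θ₀ : B →+* K) (ι : k →+* K)
    (hcomp : θ₀.comp (algebraMap A B) = ι.comp φk) :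
    ∃ (k' : Type u) (_ : Field k') (_ : Algebra k k'), Module.Finite k k' ∧
      Algebra.IsSeparable k k' ∧
      ∃ θ : B →+* k', θ.comp (algebraMap A B) = (algebraMap k k').comp φk := by
  classical
  letI algPPk : Algebra (MvPolynomial (Fin n) A) (MvPolynomial (Fin n) k) :=
    (MvPolynomial.map φk).toAlgebra
  have halg : ∀ p, algebraMap (MvPolynomial (Fin n) A) (MvPolynomial (Fin n) k) p =
      MvPolynomial.map φk p := fun _ => rfl
  -- a map from the fibre ring to `K`
  let a₀ : Fin n → K := fun i => θ₀ (algebraMap (MvPolynomial (Fin n) A) B (MvPolynomial.X i))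
  let fK : MvPolynomial (Fin n) k →+* K := MvPolynomial.eval₂Hom ι a₀
  have hfK : fK.comp (algebraMap (MvPolynomial (Fin n) A) (MvPolynomial (Fin n) k)) =
      θ₀.comp (algebraMap (MvPolynomial (Fin n) A) B) := by
    apply MvPolynomial.ringHom_ext
    · intro a
      simp only [RingHom.comp_apply, halg, MvPolynomial.map_C, fK, MvPolynomial.coe_eval₂Hom,
        MvPolynomial.eval₂_C]
      have h1 : algebraMap (MvPolynomial (Fin n) A) B (MvPolynomial.C a) = algebraMap A B a := by
        rw [IsScalarTower.algebraMap_apply A (MvPolynomial (Fin n) A) B]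
        rfl
      rw [h1]
      exact (congrArg (fun f => f a) hcomp).symm
    · intro i
      simp only [RingHom.comp_apply, halg, MvPolynomial.map_X, fK, MvPolynomial.coe_eval₂Hom,
        MvPolynomial.eval₂_X, a₀]
  letI algPK : Algebra (MvPolynomial (Fin n) A) K :=
    (θ₀.comp (algebraMap (MvPolynomial (Fin n) A) B)).toAlgebra
  let fK' : MvPolynomial (Fin n) k →ₐ[MvPolynomial (Fin n) A] K :=
    { fK with commutes' := fun p => congrArg (fun f => f p) hfK }
  let gK' : B →ₐ[MvPolynomial (Fin n) A] K := { θ₀ with commutes' := fun p => rfl }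
  let Φ : (MvPolynomial (Fin n) k ⊗[MvPolynomial (Fin n) A] B) →ₐ[MvPolynomial (Fin n) A] K :=
    Algebra.TensorProduct.lift fK' gK' (fun _ _ => Commute.all _ _)
  haveI : Nontrivial (MvPolynomial (Fin n) k ⊗[MvPolynomial (Fin n) A] B) :=
    Φ.toRingHom.domain_nontrivial
  let β₀ : B →ₐ[MvPolynomial (Fin n) A] (MvPolynomial (Fin n) k ⊗[MvPolynomial (Fin n) A] B) :=
    Algebra.TensorProduct.includeRight
  have hβ₀ : ∀ a : A, β₀ (algebraMap A B a) =
      algebraMap (MvPolynomial (Fin n) k) (MvPolynomial (Fin n) k ⊗[MvPolynomial (Fin n) A] B)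
        (MvPolynomial.C (φk a)) := by
    intro a
    have h1 : algebraMap A B a = algebraMap (MvPolynomial (Fin n) A) B (MvPolynomial.C a) := by
      rw [IsScalarTower.algebraMap_apply A (MvPolynomial (Fin n) A) B]
      rfl
    rw [h1, β₀.commutes,
      IsScalarTower.algebraMap_apply (MvPolynomial (Fin n) A) (MvPolynomial (Fin n) k)
        (MvPolynomial (Fin n) k ⊗[MvPolynomial (Fin n) A] B), halg, MvPolynomial.map_C]
  rcases finite_or_infinite k with hfin | hinf
  · -- finite field: any closed point works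
    haveI := hfin
    haveI : Algebra.FiniteType k (MvPolynomial (Fin n) k ⊗[MvPolynomial (Fin n) A] B) :=
      Algebra.FiniteType.trans (S := MvPolynomial (Fin n) k) inferInstance inferInstance
    obtain ⟨k', hk'F, hk'A, hfin', hsep, π, -⟩ :=
      exists_quot_finite (k := k) (E := MvPolynomial (Fin n) k ⊗[MvPolynomial (Fin n) A] B)
    refine ⟨k', hk'F, hk'A, hfin', hsep, π.toRingHom.comp β₀.toRingHom, ?_⟩
    ext a
    simp only [RingHom.comp_apply, AlgHom.toRingHom_eq_coe, RingHom.coe_coe]
    rw [hβ₀ a]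
    have h2 : algebraMap (MvPolynomial (Fin n) k)
        (MvPolynomial (Fin n) k ⊗[MvPolynomial (Fin n) A] B) (MvPolynomial.C (φk a)) =
        algebraMap k (MvPolynomial (Fin n) k ⊗[MvPolynomial (Fin n) A] B) (φk a) := by
      rw [IsScalarTower.algebraMap_apply k (MvPolynomial (Fin n) k)
        (MvPolynomial (Fin n) k ⊗[MvPolynomial (Fin n) A] B)]
      rfl
    rw [h2]
    exact π.commutes (φk a)
  · -- infinite field: a rational point in the (open) image
    haveI := hinf
    have hopen : IsOpen (Set.range (PrimeSpectrum.comap (algebraMap (MvPolynomial (Fin n) k)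
        (MvPolynomial (Fin n) k ⊗[MvPolynomial (Fin n) A] B)))) :=
      (PrimeSpectrum.isOpenMap_comap_of_hasGoingDown_of_finitePresentation
        (R := MvPolynomial (Fin n) k)
        (S := MvPolynomial (Fin n) k ⊗[MvPolynomial (Fin n) A] B)).isOpen_range
    have hne : (Set.range (PrimeSpectrum.comap (algebraMap (MvPolynomial (Fin n) k)
        (MvPolynomial (Fin n) k ⊗[MvPolynomial (Fin n) A] B)))).Nonempty := by
      obtain ⟨Q⟩ := (inferInstance : Nonempty (PrimeSpectrum
        (MvPolynomial (Fin n) k ⊗[MvPolynomial (Fin n) A] B)))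
      exact ⟨_, Q, rfl⟩
    obtain ⟨a, Q, hQ⟩ := exists_rational_point n _ hopen hne
    letI algPkk : Algebra (MvPolynomial (Fin n) k) k := (MvPolynomial.eval a).toAlgebra
    have halgk : ∀ p, algebraMap (MvPolynomial (Fin n) k) k p = MvPolynomial.eval a p :=
      fun _ => rfl
    -- the fibre over the rational point is nontrivial
    have hker : ∀ p : MvPolynomial (Fin n) k, MvPolynomial.eval a p = 0 →
        algebraMap (MvPolynomial (Fin n) k)
          ((MvPolynomial (Fin n) k ⊗[MvPolynomial (Fin n) A] B) ⧸ Q.asIdeal) p = 0 := by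
      intro p hp
      have h1 : p ∈ (PrimeSpectrum.comap (algebraMap (MvPolynomial (Fin n) k)
          (MvPolynomial (Fin n) k ⊗[MvPolynomial (Fin n) A] B)) Q).asIdeal := by
        rw [hQ]
        exact RingHom.mem_ker.mpr hp
      rw [IsScalarTower.algebraMap_apply (MvPolynomial (Fin n) k)
        (MvPolynomial (Fin n) k ⊗[MvPolynomial (Fin n) A] B)
        ((MvPolynomial (Fin n) k ⊗[MvPolynomial (Fin n) A] B) ⧸ Q.asIdeal)]
      exact Ideal.Quotient.eq_zero_iff_mem.mpr h1
    let fk : k →ₐ[MvPolynomial (Fin n) k]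
        ((MvPolynomial (Fin n) k ⊗[MvPolynomial (Fin n) A] B) ⧸ Q.asIdeal) :=
      { (algebraMap (MvPolynomial (Fin n) k)
          ((MvPolynomial (Fin n) k ⊗[MvPolynomial (Fin n) A] B) ⧸ Q.asIdeal)).comp
            MvPolynomial.C with
        commutes' := fun p => by
          change algebraMap (MvPolynomial (Fin n) k)
            ((MvPolynomial (Fin n) k ⊗[MvPolynomial (Fin n) A] B) ⧸ Q.asIdeal)
            (MvPolynomial.C (MvPolynomial.eval a p)) = algebraMap _ _ p
          rw [← sub_eq_zero, ← map_sub]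
          apply hker
          rw [map_sub, MvPolynomial.eval_C, sub_self] }
    let gk : (MvPolynomial (Fin n) k ⊗[MvPolynomial (Fin n) A] B) →ₐ[MvPolynomial (Fin n) k]
        ((MvPolynomial (Fin n) k ⊗[MvPolynomial (Fin n) A] B) ⧸ Q.asIdeal) :=
      Ideal.Quotient.mkₐ (MvPolynomial (Fin n) k) Q.asIdeal
    let Ψ : (k ⊗[MvPolynomial (Fin n) k] (MvPolynomial (Fin n) k ⊗[MvPolynomial (Fin n) A] B))
        →ₐ[MvPolynomial (Fin n) k]
        ((MvPolynomial (Fin n) k ⊗[MvPolynomial (Fin n) A] B) ⧸ Q.asIdeal) :=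
      Algebra.TensorProduct.lift fk gk (fun x y => (mul_comm (fk x) (gk y) : _ = _))
    haveI : Nontrivial
        (k ⊗[MvPolynomial (Fin n) k] (MvPolynomial (Fin n) k ⊗[MvPolynomial (Fin n) A] B)) :=
      Ψ.toRingHom.domain_nontrivial
    obtain ⟨k', hk'F, hk'A, hfin', hsep, π, -⟩ := exists_quot_etale (k := k)
      (E := k ⊗[MvPolynomial (Fin n) k] (MvPolynomial (Fin n) k ⊗[MvPolynomial (Fin n) A] B))
    let β₁ : (MvPolynomial (Fin n) k ⊗[MvPolynomial (Fin n) A] B) →ₐ[MvPolynomial (Fin n) k]
        (k ⊗[MvPolynomial (Fin n) k] (MvPolynomial (Fin n) k ⊗[MvPolynomial (Fin n) A] B)) :=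
      Algebra.TensorProduct.includeRight
    refine ⟨k', hk'F, hk'A, hfin', hsep,
      π.toRingHom.comp (β₁.toRingHom.comp β₀.toRingHom), ?_⟩
    ext a'
    simp only [RingHom.comp_apply, AlgHom.toRingHom_eq_coe, RingHom.coe_coe]
    rw [hβ₀ a', β₁.commutes,
      IsScalarTower.algebraMap_apply (MvPolynomial (Fin n) k) k
        (k ⊗[MvPolynomial (Fin n) k] (MvPolynomial (Fin n) k ⊗[MvPolynomial (Fin n) A] B)),
      halgk, MvPolynomial.eval_C]
    exact π.commutes (φk a')

end Groth.Agent.Helper18.SmoothSec
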