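import Groth.Agent.Lib.Helper18.SmoothSec2
import Groth.Agent.Lib.Helper18.EtaleNbhd

/-!
# Slicing an étale-over-affine-space algebra along a section of affine space
-/

universe u

open TensorProduct CategoryTheory AlgebraicGeometry

namespace Groth.Agent.Helper18.SmoothSec

theorem exists_slice {A A₁ B k' : Type u} [CommRing A] [CommRing A₁] [CommRing B] [Field k']
    (n : ℕ) [Algebra A B] [Algebra (MvPolynomial (Fin n) A) B]
    [IsScalarTower A (MvPolynomial (Fin n) A) B] [Algebra.Etale (MvPolynomial (Fin n) A) B]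
    (ρ : A →+* A₁) (a : Fin n → A₁) (ev : A₁ →+* k') (θ : B →+* k')
    (h1 : θ.comp (algebraMap A B) = ev.comp ρ)
    (h2 : ∀ i, θ (algebraMap (MvPolynomial (Fin n) A) B (MvPolynomial.X i)) = ev (a i)) :
    ∃ (A' : Type u) (_ : CommRing A') (j₁ : A₁ →+* A') (j₂ : B →+* A') (Ψ : A' →+* k'),
      j₁.Etale ∧ j₂.comp (algebraMap A B) = j₁.comp ρ ∧ Ψ.comp j₁ = ev := by
  classical
  letI algPA₁ : Algebra (MvPolynomial (Fin n) A) A₁ := (MvPolynomial.eval₂Hom ρ a).toAlgebra
  have halg : ∀ p, algebraMap (MvPolynomial (Fin n) A) A₁ p = MvPolynomial.eval₂Hom ρ a p :=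
    fun _ => rfl
  have hev : ev.comp (algebraMap (MvPolynomial (Fin n) A) A₁) =
      θ.comp (algebraMap (MvPolynomial (Fin n) A) B) := by
    apply MvPolynomial.ringHom_ext
    · intro c
      simp only [RingHom.comp_apply, halg, MvPolynomial.coe_eval₂Hom, MvPolynomial.eval₂_C]
      have h3 : algebraMap (MvPolynomial (Fin n) A) B (MvPolynomial.C c) = algebraMap A B c := by
        rw [IsScalarTower.algebraMap_apply A (MvPolynomial (Fin n) A) B]
        rfl
      rw [h3]
      exact (congrArg (fun f => f c) h1).symm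
    · intro i
      simp only [RingHom.comp_apply, halg, MvPolynomial.coe_eval₂Hom, MvPolynomial.eval₂_X]
      exact (h2 i).symm
  letI algPk' : Algebra (MvPolynomial (Fin n) A) k' :=
    (θ.comp (algebraMap (MvPolynomial (Fin n) A) B)).toAlgebra
  let f₁ : A₁ →ₐ[MvPolynomial (Fin n) A] k' :=
    { ev with commutes' := fun p => congrArg (fun f => f p) hev }
  let f₂ : B →ₐ[MvPolynomial (Fin n) A] k' := { θ with commutes' := fun p => rfl }
  let Ψ : (A₁ ⊗[MvPolynomial (Fin n) A] B) →ₐ[MvPolynomial (Fin n) A] k' :=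
    Algebra.TensorProduct.lift f₁ f₂ (fun _ _ => Commute.all _ _)
  let j₂ : B →ₐ[MvPolynomial (Fin n) A] (A₁ ⊗[MvPolynomial (Fin n) A] B) :=
    Algebra.TensorProduct.includeRight
  refine ⟨A₁ ⊗[MvPolynomial (Fin n) A] B, inferInstance,
    algebraMap A₁ (A₁ ⊗[MvPolynomial (Fin n) A] B), j₂.toRingHom, Ψ.toRingHom, ?_, ?_, ?_⟩
  · rw [RingHom.etale_algebraMap]
    infer_instance
  · ext c
    simp only [RingHom.comp_apply, AlgHom.toRingHom_eq_coe, RingHom.coe_coe]
    have h3 : algebraMap A B c = algebraMap (MvPolynomial (Fin n) A) B (MvPolynomial.C c) := by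
      rw [IsScalarTower.algebraMap_apply A (MvPolynomial (Fin n) A) B]
      rfl
    rw [h3, j₂.commutes,
      IsScalarTower.algebraMap_apply (MvPolynomial (Fin n) A) A₁
        (A₁ ⊗[MvPolynomial (Fin n) A] B), halg]
    simp only [MvPolynomial.coe_eval₂Hom, MvPolynomial.eval₂_C]
  · ext c
    simp only [RingHom.comp_apply, AlgHom.toRingHom_eq_coe, RingHom.coe_coe]
    change Ψ (algebraMap A₁ (A₁ ⊗[MvPolynomial (Fin n) A] B) c) = ev c
    rw [Algebra.TensorProduct.algebraMap_apply, Algebra.TensorProduct.lift_tmul]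
    simp only [Algebra.algebraMap_self, RingHom.id_apply, map_one, mul_one]
    rfl

lemma SpecMap_evaluation_fromSpec (X : Scheme.{u}) {U : X.Opens} (hU : IsAffineOpen U) (x : X)
    (hx : x ∈ U) :
    Spec.map (X.evaluation U x hx) ≫ hU.fromSpec = X.fromSpecResidueField x := by
  rw [← X.germ_residue x hx, Spec.map_comp, Category.assoc]
  change Spec.map (X.residue x) ≫ hU.fromSpecStalk hx = _
  rw [hU.fromSpecStalk_eq_fromSpecStalk hx]
  rfl

/-- Finitely many elements of a residue field are values of sections over a common affine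
open neighbourhood contained in a given open. -/
lemma exists_affine_evaluation_le (S : Scheme.{u}) (s : S) (T : Finset (S.residueField s))
    (W : S.Opens) (hsW : s ∈ W) :
    ∃ (V : S.Opens) (_ : IsAffineOpen V) (hs : s ∈ V), V ≤ W ∧
      ∀ c ∈ T, c ∈ Set.range (S.evaluation V s hs).hom := by
  obtain ⟨V₀, hV₀, hs₀, h₀⟩ := EtaleNbhd.exists_affine_evaluation S s T
  obtain ⟨V, hV, hsV, hle⟩ : ∃ V : S.Opens, IsAffineOpen V ∧ s ∈ V ∧ V ≤ V₀ ⊓ W :=
    (TopologicalSpace.Opens.isBasis_iff_nbhd.mp S.isBasis_affineOpens)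
      (show s ∈ V₀ ⊓ W from ⟨hs₀, hsW⟩)
  refine ⟨V, hV, hsV, hle.trans inf_le_right, fun c hc => ?_⟩
  obtain ⟨b, hb⟩ := h₀ c hc
  refine ⟨S.presheaf.map (homOfLE (hle.trans inf_le_left)).op b, ?_⟩
  rw [EtaleNbhd.evaluation_res]
  exact hb

end Groth.Agent.Helper18.SmoothSec
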