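import Groth.Agent.Lib.Helper18.SmoothSec3

/-!
# Smooth morphisms have sections étale locally on the base
-/

universe u

open TensorProduct CategoryTheory AlgebraicGeometry

namespace Groth.Agent.Helper18.SmoothSec

lemma evaluation_appLE {X S : Scheme.{u}} (g : X ⟶ S) (x : X) (U : S.Opens) (V : X.Opens)
    (e : V ≤ g ⁻¹ᵁ U) (hxV : x ∈ V) (c : Γ(S, U)) :
    (X.evaluation V x hxV).hom ((g.appLE U V e).hom c) =
      (g.residueFieldMap x).hom ((S.evaluation U (g x) (e hxV)).hom c) := by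
  have h1 : (g.appLE U V e).hom c = (X.presheaf.map (homOfLE e).op).hom ((g.app U).hom c) := rfl
  rw [h1]
  have h2 := EtaleNbhd.evaluation_res X x (homOfLE e) hxV ((g.app U).hom c)
  rw [h2]
  exact (Scheme.evaluation_naturality_apply g x (e hxV) c).symm

theorem section_of_point {X S : Scheme.{u}} (f : X ⟶ S) (s : S) (U : S.Opens)
    (hU : IsAffineOpen U) (hsU : s ∈ U) (V : X.Opens) (hV : IsAffineOpen V) (e : V ≤ f ⁻¹ᵁ U)
    (n : ℕ) (g : MvPolynomial (Fin n) Γ(S, U) →+* Γ(X, V))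
    (hgC : g.comp MvPolynomial.C = (f.appLE U V e).hom) (hgE : g.Etale)
    (k' : Type u) [Field k'] [Algebra (S.residueField s) k']
    [FiniteDimensional (S.residueField s) k'] [Algebra.IsSeparable (S.residueField s) k']
    (θ : Γ(X, V) →+* k')
    (hθ : θ.comp (f.appLE U V e).hom =
      (algebraMap (S.residueField s) k').comp (S.evaluation U s hsU).hom) :
    ∃ (S' : Scheme.{u}) (g' : S' ⟶ S) (s' : S'), Etale g' ∧ g' s' = s ∧
      ∃ h : S' ⟶ X, h ≫ f = g' := by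
  classical
  obtain ⟨U₁, g₁, u₁, hu₁, hg₁, hε⟩ := EtaleNbhd.main S s k'
  subst hu₁
  haveI := hg₁
  letI algκ : Algebra (S.residueField (g₁ u₁)) (U₁.residueField u₁) :=
    ((S.residueFieldCongr rfl).inv ≫ g₁.residueFieldMap u₁).hom.toAlgebra
  obtain ⟨ε⟩ := hε
  have halgκ : ∀ y, algebraMap (S.residueField (g₁ u₁)) (U₁.residueField u₁) y =
      (g₁.residueFieldMap u₁).hom y := by
    intro y
    change ((S.residueFieldCongr rfl).inv ≫ g₁.residueFieldMap u₁).hom y = _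
    simp
  let T : Finset (U₁.residueField u₁) :=
    Finset.univ.image (fun i : Fin n => ε (θ (g (MvPolynomial.X i))))
  obtain ⟨V₁, hV₁, hu₁V₁, hle, hT⟩ := exists_affine_evaluation_le U₁ u₁ T (g₁ ⁻¹ᵁ U) hsU
  have hlift : ∀ i : Fin n, ∃ a : Γ(U₁, V₁),
      (U₁.evaluation V₁ u₁ hu₁V₁).hom a = ε (θ (g (MvPolynomial.X i))) :=
    fun i => hT _ (Finset.mem_image_of_mem _ (Finset.mem_univ i))
  choose a ha using hlift
  letI algAB : Algebra Γ(S, U) Γ(X, V) := (f.appLE U V e).hom.toAlgebra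
  letI algPB : Algebra (MvPolynomial (Fin n) Γ(S, U)) Γ(X, V) := g.toAlgebra
  haveI : IsScalarTower Γ(S, U) (MvPolynomial (Fin n) Γ(S, U)) Γ(X, V) :=
    IsScalarTower.of_algebraMap_eq' hgC.symm
  haveI : Algebra.Etale (MvPolynomial (Fin n) Γ(S, U)) Γ(X, V) := hgE
  let ev : Γ(U₁, V₁) →+* k' :=
    (ε.symm : U₁.residueField u₁ →+* k').comp (U₁.evaluation V₁ u₁ hu₁V₁).hom
  have h1 : θ.comp (algebraMap Γ(S, U) Γ(X, V)) = ev.comp (g₁.appLE U V₁ hle).hom := by
    have h0 : algebraMap Γ(S, U) Γ(X, V) = (f.appLE U V e).hom := rfl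
    rw [h0, hθ]
    ext c
    simp only [RingHom.comp_apply, ev]
    rw [evaluation_appLE g₁ u₁ U V₁ hle hu₁V₁ c, ← halgκ]
    exact (ε.symm.commutes _).symm
  have h2 : ∀ i, θ (algebraMap (MvPolynomial (Fin n) Γ(S, U)) Γ(X, V) (MvPolynomial.X i)) =
      ev (a i) := by
    intro i
    simp only [RingHom.comp_apply, ev]
    rw [ha i]
    exact (ε.symm_apply_apply _).symm
  obtain ⟨A', hA', j₁, j₂, Ψ, hj₁, hj, hΨ⟩ :=
    exists_slice n (g₁.appLE U V₁ hle).hom a ev θ h1 h2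
  letI := hA'
  haveI : Etale (Spec.map (CommRingCat.ofHom j₁)) :=
    (HasRingHomProperty.Spec_iff (P := @Etale)).mpr hj₁
  refine ⟨Spec (CommRingCat.of A'),
    Spec.map (CommRingCat.ofHom j₁) ≫ hV₁.fromSpec ≫ g₁,
    Spec.map (CommRingCat.ofHom Ψ) (IsLocalRing.closedPoint k'), inferInstance, ?_,
    Spec.map (CommRingCat.ofHom j₂) ≫ hV.fromSpec, ?_⟩
  · rw [← Scheme.Hom.comp_apply]
    have h3 : Spec.map (CommRingCat.ofHom Ψ) ≫ Spec.map (CommRingCat.ofHom j₁) ≫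
        hV₁.fromSpec ≫ g₁ = Spec.map (CommRingCat.ofHom (ε.symm : U₁.residueField u₁ →+* k')) ≫
          U₁.fromSpecResidueField u₁ ≫ g₁ := by
      rw [← Category.assoc, ← Spec.map_comp, ← CommRingCat.ofHom_comp, hΨ]
      have h4 : CommRingCat.ofHom ev = U₁.evaluation V₁ u₁ hu₁V₁ ≫
          CommRingCat.ofHom (ε.symm : U₁.residueField u₁ →+* k') := rfl
      rw [h4, Spec.map_comp, Category.assoc, ← Category.assoc (Spec.map (U₁.evaluation V₁ u₁ hu₁V₁)),
        SpecMap_evaluation_fromSpec]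
      rfl
    rw [h3, Scheme.Hom.comp_apply, Scheme.Hom.comp_apply, Scheme.fromSpecResidueField_apply]
  · rw [Category.assoc, ← hU.SpecMap_appLE_fromSpec f hV e,
      ← hU.SpecMap_appLE_fromSpec g₁ hV₁ hle, ← Category.assoc, ← Category.assoc,
      ← Spec.map_comp, ← Spec.map_comp]
    congr 2
    ext c
    exact congrArg (fun φ => φ c) hj

theorem main {X S : Scheme.{u}} (f : X ⟶ S) [Smooth f] (s : S) (hs : s ∈ Set.range f) :
    ∃ (S' : Scheme.{u}) (g : S' ⟶ S) (s' : S'), Etale g ∧ g s' = s ∧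
      ∃ h : S' ⟶ X, h ≫ f = g := by
  obtain ⟨x, rfl⟩ := hs
  obtain ⟨U, hU, V, hV, hxV, e, hstd⟩ := Smooth.exists_isStandardSmooth f x
  obtain ⟨n, g, hgC, hgE⟩ := hstd.exists_etale_mvPolynomial
  have hfxU : f x ∈ U := e hxV
  letI algAB : Algebra Γ(S, U) Γ(X, V) := (f.appLE U V e).hom.toAlgebra
  letI algPB : Algebra (MvPolynomial (Fin n) Γ(S, U)) Γ(X, V) := g.toAlgebra
  haveI : IsScalarTower Γ(S, U) (MvPolynomial (Fin n) Γ(S, U)) Γ(X, V) :=
    IsScalarTower.of_algebraMap_eq' hgC.symm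
  haveI : Algebra.Etale (MvPolynomial (Fin n) Γ(S, U)) Γ(X, V) := hgE
  have hcomp : (X.evaluation V x hxV).hom.comp (algebraMap Γ(S, U) Γ(X, V)) =
      (f.residueFieldMap x).hom.comp (S.evaluation U (f x) hfxU).hom := by
    ext c
    exact evaluation_appLE f x U V e hxV c
  obtain ⟨k', hk'F, hk'A, hfin, hsep, θ, hθ⟩ := exists_sep_point n
    (S.evaluation U (f x) hfxU).hom (X.evaluation V x hxV).hom (f.residueFieldMap x).hom hcomp
  exact section_of_point f (f x) U hU hfxU V hV e n g hgC hgE k' θ hθ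

end Groth.Agent.Helper18.SmoothSec
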