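import Groth.Agent.Lib.Helper18.StalkPull
import Groth.Agent.Lib.Helper18.GabberSplit
import Groth.Agent.S0660

/-!
# Geometric stalks of direct images along closed immersions, at points of the closed subscheme
-/

set_option autoImplicit false
open CategoryTheory CategoryTheory.Limits AlgebraicGeometry Opposite
universe u

namespace Groth.Agent.Helper18.StalkClosed

open Groth.Agent.Helper18.StalkPull Groth.Agent.Helper18.SectSupp

/-- General form: the stalk of `i_* G` at `ζ ≫ i` is the stalk of `G` at `ζ` as soon as étale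
neighbourhoods and morphisms between base changes lift étale-locally. -/
theorem stalk_push_iso_of {Z X : Scheme.{u}} (i : Z ⟶ X) {Ω : Type u} [Field Ω]
    [IsSepClosed Ω] (ζ : Spec (CommRingCat.of Ω) ⟶ Z)
    (hL : ∀ (V : Z.Etale) (v : (Scheme.pointSmallEtale ζ).fiber.obj V),
      ∃ (U : X.Etale) (m : (EtCoh.bc i).obj U ⟶ V)
        (w : (Scheme.pointSmallEtale ζ).fiber.obj ((EtCoh.bc i).obj U)),
        (Scheme.pointSmallEtale ζ).fiber.map m w = v)
    (hM : ∀ (T U : X.Etale) (h : (EtCoh.bc i).obj T ⟶ (EtCoh.bc i).obj U),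
      ∃ (W : X.Etale) (a : W ⟶ T) (b : W ⟶ U), IsIso ((EtCoh.bc i).map a) ∧
        (EtCoh.bc i).map a ≫ h = (EtCoh.bc i).map b)
    (G : EtCoh.Ab Z) :
    Nonempty ((EtCoh.stalk (ζ ≫ i)).obj ((EtCoh.push i).obj G) ≅ (EtCoh.stalk ζ).obj G) := by
  let Φ := Scheme.pointSmallEtale (ζ ≫ i)
  let Ψ := Scheme.pointSmallEtale ζ
  let P : X.Etaleᵒᵖ ⥤ AddCommGrpCat.{u + 1} := ((EtCoh.push i).obj G).obj
  let θ : Φ.presheafFiber.obj P ⟶ Ψ.presheafFiber.obj G.obj :=
    Φ.presheafFiberDesc (P := P)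
      (fun U u => Ψ.toPresheafFiber ((EtCoh.bc i).obj U) ((fiberEquiv i ζ U).symm u) G.obj)
      (by
        intro U U' k u
        rw [fiberEquiv_symm_naturality]
        exact Ψ.toPresheafFiber_w ((EtCoh.bc i).map k) _ G.obj)
  have hθ : ∀ (U : X.Etale) (u : Φ.fiber.obj U) (z : P.obj (op U)),
      θ (Φ.toPresheafFiber U u P z) =
        Ψ.toPresheafFiber ((EtCoh.bc i).obj U) ((fiberEquiv i ζ U).symm u) G.obj z := by
    intro U u z
    exact ConcreteCategory.congr_hom (Φ.toPresheafFiber_presheafFiberDesc _ _ U u) z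
  have hbij : Function.Bijective θ := by
    constructor
    · intro p q hpq
      obtain ⟨U, u, z₁, z₂, rfl, rfl⟩ := Φ.toPresheafFiber_jointly_surjective₂ (P := P) p q
      rw [hθ, hθ] at hpq
      obtain ⟨V, g, v, hv, hg⟩ := (Ψ.toPresheafFiber_eq_iff' _ _ z₁ z₂).mp hpq
      obtain ⟨T, m, w, hw⟩ := hL V v
      obtain ⟨W, a, b, ha, hab⟩ := hM T U (m ≫ g)
      let wW : Ψ.fiber.obj ((EtCoh.bc i).obj W) := Ψ.fiber.map (inv ((EtCoh.bc i).map a)) w
      have hc : ∀ {A B C : Z.Etale} (f : A ⟶ B) (g : B ⟶ C) (x : Ψ.fiber.obj A),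
          Ψ.fiber.map (f ≫ g) x = Ψ.fiber.map g (Ψ.fiber.map f x) := by
        intro A B C f g x
        rw [Functor.map_comp]
        rfl
      have h1 : Ψ.fiber.map ((EtCoh.bc i).map b) wW = (fiberEquiv i ζ U).symm u := by
        rw [← hab, ← hv, ← hw]
        change Ψ.fiber.map ((EtCoh.bc i).map a ≫ m ≫ g)
          (Ψ.fiber.map (inv ((EtCoh.bc i).map a)) w) = _
        rw [← hc, IsIso.inv_hom_id_assoc, hc]
      let uW : Φ.fiber.obj W := fiberEquiv i ζ W wW
      have h2 : Φ.fiber.map b uW = u := by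
        rw [← fiberEquiv_naturality, h1, Equiv.apply_symm_apply]
      have e1 := Φ.toPresheafFiber_w_apply b uW P z₁
      have e2 := Φ.toPresheafFiber_w_apply b uW P z₂
      rw [h2] at e1 e2
      rw [← e1, ← e2]
      congr 1
      change G.obj.map ((EtCoh.bc i).map b).op z₁ = G.obj.map ((EtCoh.bc i).map b).op z₂
      rw [← hab, op_comp, op_comp, Functor.map_comp, Functor.map_comp]
      simp only [ConcreteCategory.comp_apply]
      exact congrArg (fun t => (G.obj.map ((EtCoh.bc i).map a).op) ((G.obj.map m.op) t)) hg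
    · intro q
      obtain ⟨V, v, z, rfl⟩ := Ψ.toPresheafFiber_jointly_surjective (P := G.obj) q
      obtain ⟨T, m, w, hw⟩ := hL V v
      refine ⟨Φ.toPresheafFiber T (fiberEquiv i ζ T w) P (G.obj.map m.op z), ?_⟩
      rw [hθ, Equiv.symm_apply_apply]
      have := Ψ.toPresheafFiber_w_apply m w G.obj z
      rw [hw] at this
      exact this
  haveI : IsIso θ := (ConcreteCategory.isIso_iff_bijective θ).2 hbij
  have e : Φ.presheafFiber.obj P ≅ Ψ.presheafFiber.obj G.obj := asIso θ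
  exact ⟨e⟩



variable {Z X : Scheme.{u}} (i : Z ⟶ X) [IsClosedImmersion i] {Ω : Type u} [Field Ω]
  [IsSepClosed Ω] (ζ : Spec (CommRingCat.of Ω) ⟶ Z)

/-- Every étale neighbourhood of a geometric point of `Z` is refined by the base change of an
étale neighbourhood in `X`. -/
theorem exists_nbhd_lift (V : Z.Etale) (v : (Scheme.pointSmallEtale ζ).fiber.obj V) :
    ∃ (U : X.Etale) (m : (EtCoh.bc i).obj U ⟶ V)
      (w : (Scheme.pointSmallEtale ζ).fiber.obj ((EtCoh.bc i).obj U)),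
      (Scheme.pointSmallEtale ζ).fiber.map m w = v := by
  obtain ⟨vl, hvl⟩ : ∃ vl : Spec (CommRingCat.of Ω) ⟶ V.left, vl = v.left := ⟨v.left, rfl⟩
  have hv : vl ≫ V.hom = ζ := by
    rw [hvl]
    exact Over.w v
  haveI : Etale V.hom := V.prop
  obtain ⟨T, t, ht, h, hh, hoi, hx⟩ :=
    Groth.Agent.Helper18.GabberSplit.exists_local_lift i V.hom (vl default)
  let U : X.Etale := MorphismProperty.Over.mk ⊤ t ht
  let m : (EtCoh.bc i).obj U ⟶ V := MorphismProperty.Over.homMk h hh trivial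
  have hr : Set.range vl ⊆ Set.range h := by
    rintro _ ⟨a, rfl⟩
    rw [Subsingleton.elim a default]
    exact hx
  let l : Spec (CommRingCat.of Ω) ⟶ pullback t i := IsOpenImmersion.lift h vl hr
  have hl : l ≫ h = vl := IsOpenImmersion.lift_fac _ _ _
  have hlζ : l ≫ pullback.snd t i = ζ := by
    rw [← hh, ← Category.assoc, hl, hv]
  let w : (Scheme.pointSmallEtale ζ).fiber.obj ((EtCoh.bc i).obj U) := Over.homMk l hlζ
  refine ⟨U, m, w, ?_⟩
  apply Over.OverMorphism.ext
  exact hl.trans hvl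

/-- The stalk of `i_* G` at `ζ ≫ i` is the stalk of `G` at `ζ`. -/
theorem stalk_push_iso (G : EtCoh.Ab Z) :
    Nonempty ((EtCoh.stalk (ζ ≫ i)).obj ((EtCoh.push i).obj G) ≅ (EtCoh.stalk ζ).obj G) :=
  stalk_push_iso_of i ζ (exists_nbhd_lift i ζ) (Groth.Agent.S0660.result i) G

end Groth.Agent.Helper18.StalkClosed
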