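import Groth.Agent.Lib.Helper18.StalkTest
import Mathlib.CategoryTheory.Sites.Point.Comap
import Mathlib.CategoryTheory.Sites.Point.Category

/-!
# Geometric stalks of inverse images
-/

set_option autoImplicit false
open CategoryTheory CategoryTheory.Limits AlgebraicGeometry Opposite
universe u v w

namespace Groth.Agent.Helper18.StalkPull

theorem initiallySmall_of_iso {C : Type v} [Category.{w} C] {F₁ F₂ : C ⥤ Type u} (e : F₁ ≅ F₂)
    [InitiallySmall.{u} F₁.Elements] : InitiallySmall.{u} F₂.Elements := by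
  haveI : (CategoryOfElements.map e.hom).Faithful :=
    ⟨fun {t₁ t₂} k k' h => by
      ext
      exact congrArg (fun m => m.1) h⟩
  haveI : (CategoryOfElements.map e.hom).Full :=
    ⟨fun {t₁ t₂} k => ⟨⟨k.1, by
      have h1 := k.2
      have h2 := NatTrans.naturality_apply e.hom k.1 t₁.2
      have hinj : Function.Injective (e.hom.app t₂.1) := by
        intro a b hab
        have := congrArg (e.inv.app t₂.1) hab
        simpa using this
      apply hinj
      exact h2.trans h1⟩, by
      ext
      rfl⟩⟩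
  haveI : (CategoryOfElements.map e.hom).EssSurj :=
    ⟨fun t => ⟨⟨t.1, e.inv.app t.1 t.2⟩, ⟨eqToIso (by
      cases t with
      | mk X y =>
        simp [CategoryOfElements.map])⟩⟩⟩
  haveI : (CategoryOfElements.map e.hom).IsEquivalence := {}
  exact initiallySmall_of_initial_of_initiallySmall (CategoryOfElements.map e.hom)

variable {X Y : Scheme.{u}} (f : X ⟶ Y) {Ω : Type u} [Field Ω] [IsSepClosed Ω]
  (ξ : Spec (CommRingCat.of Ω) ⟶ X)

theorem bc_hom (V : Y.Etale) : ((EtCoh.bc f).obj V).hom = pullback.snd V.hom f := rfl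

/-- Geometric points of `V ×_Y X` over `ξ` are geometric points of `V` over `ξ ≫ f`. -/
noncomputable def fiberEquiv (V : Y.Etale) :
    (Scheme.pointSmallEtale ξ).fiber.obj ((EtCoh.bc f).obj V) ≃
      (Scheme.pointSmallEtale (ξ ≫ f)).fiber.obj V where
  toFun u := Over.homMk (show Spec (CommRingCat.of Ω) ⟶ V.left from
      (show Spec (CommRingCat.of Ω) ⟶ pullback V.hom f from u.left) ≫ pullback.fst V.hom f) (by
        have h1 : (show Spec (CommRingCat.of Ω) ⟶ pullback V.hom f from u.left) ≫
            pullback.snd V.hom f = ξ := Over.w u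
        change ((show Spec (CommRingCat.of Ω) ⟶ pullback V.hom f from u.left) ≫
          pullback.fst V.hom f) ≫ V.hom = ξ ≫ f
        rw [Category.assoc, pullback.condition, ← Category.assoc, h1])
  invFun v := Over.homMk (show Spec (CommRingCat.of Ω) ⟶ ((EtCoh.bc f).obj V).left from
      pullback.lift (show Spec (CommRingCat.of Ω) ⟶ V.left from v.left) ξ (Over.w v)) (by
        change pullback.lift (show Spec (CommRingCat.of Ω) ⟶ V.left from v.left) ξ (Over.w v) ≫
          pullback.snd V.hom f = ξ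
        exact pullback.lift_snd _ _ _)
  left_inv u := by
    apply Over.OverMorphism.ext
    change pullback.lift _ ξ _ = (show Spec (CommRingCat.of Ω) ⟶ pullback V.hom f from u.left)
    have h1 : (show Spec (CommRingCat.of Ω) ⟶ pullback V.hom f from u.left) ≫
        pullback.snd V.hom f = ξ := Over.w u
    apply pullback.hom_ext
    · rw [pullback.lift_fst]
      rfl
    · rw [pullback.lift_snd, h1]
  right_inv v := by
    apply Over.OverMorphism.ext
    change pullback.lift (show Spec (CommRingCat.of Ω) ⟶ V.left from v.left) ξ (Over.w v) ≫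
      pullback.fst V.hom f = v.left
    exact pullback.lift_fst _ _ _

theorem fiberEquiv_naturality {V V' : Y.Etale} (g : V ⟶ V')
    (u : (Scheme.pointSmallEtale ξ).fiber.obj ((EtCoh.bc f).obj V)) :
    fiberEquiv f ξ V' ((Scheme.pointSmallEtale ξ).fiber.map ((EtCoh.bc f).map g) u) =
      (Scheme.pointSmallEtale (ξ ≫ f)).fiber.map g (fiberEquiv f ξ V u) := by
  apply Over.OverMorphism.ext
  have h1 : ((EtCoh.bc f).map g).left ≫ pullback.fst V'.hom f =
      pullback.fst V.hom f ≫ g.left := by
    dsimp [EtCoh.bc]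
    exact pullback.lift_fst _ _ _
  exact (Category.assoc _ _ _).trans ((congrArg (fun m =>
    (show Spec (CommRingCat.of Ω) ⟶ pullback V.hom f from u.left) ≫ m) h1).trans
      (Category.assoc _ _ _).symm)

/-- The fibre functor of `ξ` composed with base change is the fibre functor of `ξ ≫ f`. -/
noncomputable def fiberIso :
    EtCoh.bc f ⋙ (Scheme.pointSmallEtale ξ).fiber ≅ (Scheme.pointSmallEtale (ξ ≫ f)).fiber :=
  NatIso.ofComponents (fun V => (fiberEquiv f ξ V).toIso) (by
    intro V V' g
    ext u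
    exact fiberEquiv_naturality f ξ g u)

theorem fiberEquiv_symm_naturality {V V' : Y.Etale} (g : V ⟶ V')
    (u : (Scheme.pointSmallEtale (ξ ≫ f)).fiber.obj V) :
    (fiberEquiv f ξ V').symm ((Scheme.pointSmallEtale (ξ ≫ f)).fiber.map g u) =
      (Scheme.pointSmallEtale ξ).fiber.map ((EtCoh.bc f).map g) ((fiberEquiv f ξ V).symm u) := by
  apply (fiberEquiv f ξ V').injective
  rw [Equiv.apply_symm_apply, fiberEquiv_naturality, Equiv.apply_symm_apply]

instance initiallySmall_comap :
    InitiallySmall.{u} (EtCoh.bc f ⋙ (Scheme.pointSmallEtale ξ).fiber).Elements :=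
  initiallySmall_of_iso (fiberIso f ξ).symm

/-- The stalk of the inverse image at `ξ` is the stalk at `ξ ≫ f`. -/
theorem stalk_pull_iso (G : EtCoh.Ab Y) :
    Nonempty ((EtCoh.stalk ξ).obj ((EtCoh.pull f).obj G) ≅ (EtCoh.stalk (ξ ≫ f)).obj G) := by
  let Φ := Scheme.pointSmallEtale ξ
  let Ψ := Scheme.pointSmallEtale (ξ ≫ f)
  let Φ' := Φ.comap (EtCoh.bc f) (EtCoh.coverPreserving_bc f)
  let e1 := (Φ.sheafFiberComapIso (EtCoh.bc f) (EtCoh.coverPreserving_bc f)
    AddCommGrpCat.{u + 1}).app G
  let α : Φ' ⟶ Ψ := ⟨(fiberIso f ξ).inv⟩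
  let β : Ψ ⟶ Φ' := ⟨(fiberIso f ξ).hom⟩
  have hαβ : α ≫ β = 𝟙 Φ' := by
    apply GrothendieckTopology.Point.hom_ext
    exact (fiberIso f ξ).hom_inv_id
  have hβα : β ≫ α = 𝟙 Ψ := by
    apply GrothendieckTopology.Point.hom_ext
    exact (fiberIso f ξ).inv_hom_id
  let e2 : Ψ.sheafFiber.obj G ≅ Φ'.sheafFiber.obj G :=
    { hom := (GrothendieckTopology.Point.Hom.sheafFiber α (A := AddCommGrpCat.{u + 1})).app G
      inv := (GrothendieckTopology.Point.Hom.sheafFiber β (A := AddCommGrpCat.{u + 1})).app G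
      hom_inv_id := by
        rw [← NatTrans.comp_app, ← GrothendieckTopology.Point.Hom.sheafFiber_comp, hβα,
          GrothendieckTopology.Point.Hom.sheafFiber_id]
        rfl
      inv_hom_id := by
        rw [← NatTrans.comp_app, ← GrothendieckTopology.Point.Hom.sheafFiber_comp, hαβ,
          GrothendieckTopology.Point.Hom.sheafFiber_id]
        rfl }
  exact ⟨e1.symm ≪≫ e2.symm⟩

section General

universe v' u'

variable (A : Type u') [Category.{v'} A] [HasProducts.{u} A] [HasColimitsOfSize.{u, u} A]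
  [((EtCoh.bc f).sheafPushforwardContinuous A Y.smallEtaleTopology
    X.smallEtaleTopology).IsRightAdjoint]

/-- The stalk of the inverse image at `ξ` is the stalk at `ξ ≫ f`, naturally, for sheaves with
values in any suitable category. -/
noncomputable def stalkPullNatIso :
    (EtCoh.bc f).sheafPullback A Y.smallEtaleTopology X.smallEtaleTopology ⋙
      (Scheme.pointSmallEtale ξ).sheafFiber ≅ (Scheme.pointSmallEtale (ξ ≫ f)).sheafFiber := by
  let Φ := Scheme.pointSmallEtale ξ
  let Ψ := Scheme.pointSmallEtale (ξ ≫ f)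
  let Φ' := Φ.comap (EtCoh.bc f) (EtCoh.coverPreserving_bc f)
  let e1 := Φ.sheafFiberComapIso (EtCoh.bc f) (EtCoh.coverPreserving_bc f) A
  let α : Φ' ⟶ Ψ := ⟨(fiberIso f ξ).inv⟩
  let β : Ψ ⟶ Φ' := ⟨(fiberIso f ξ).hom⟩
  have hαβ : α ≫ β = 𝟙 Φ' := by
    apply GrothendieckTopology.Point.hom_ext
    exact (fiberIso f ξ).hom_inv_id
  have hβα : β ≫ α = 𝟙 Ψ := by
    apply GrothendieckTopology.Point.hom_ext
    exact (fiberIso f ξ).inv_hom_id
  let e2 : Ψ.sheafFiber (A := A) ≅ Φ'.sheafFiber :=
    { hom := GrothendieckTopology.Point.Hom.sheafFiber α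
      inv := GrothendieckTopology.Point.Hom.sheafFiber β
      hom_inv_id := by
        rw [← GrothendieckTopology.Point.Hom.sheafFiber_comp, hβα,
          GrothendieckTopology.Point.Hom.sheafFiber_id]
      inv_hom_id := by
        rw [← GrothendieckTopology.Point.Hom.sheafFiber_comp, hαβ,
          GrothendieckTopology.Point.Hom.sheafFiber_id] }
  exact e1.symm ≪≫ e2.symm

end General

end Groth.Agent.Helper18.StalkPull
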