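import Groth.Agent.Lib.Helper18.StalkTest

/-!
# The locus where a sheaf of rings on the small étale site has a nonzero geometric stalk
-/

set_option autoImplicit false
open CategoryTheory CategoryTheory.Limits AlgebraicGeometry Opposite
universe u

namespace Groth.Agent.Helper18.StalkRing

open Groth.Agent.Helper18.StalkTest

variable {S : Scheme.{u}}

theorem isClosed_nontrivial (O : Sheaf S.smallEtaleTopology CommRingCat.{u}) :
    IsClosed {s : ↥S | ∃ (Ω : Type u) (_ : Field Ω) (_ : IsSepClosed Ω)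
      (ξ : Spec (CommRingCat.of Ω) ⟶ S),
      ξ.base default = s ∧ Nontrivial ↑((Scheme.pointSmallEtale ξ).presheafFiber.obj O.obj)} := by
  rw [← isOpen_compl_iff, isOpen_iff_forall_mem_open]
  intro s hs
  obtain ⟨Ω₀, _, _, ξ₀, hξ₀⟩ := exists_geom_point S s
  have hsub : Subsingleton ↑((Scheme.pointSmallEtale ξ₀).presheafFiber.obj O.obj) := by
    by_contra hns
    rw [not_subsingleton_iff_nontrivial] at hns
    exact hs ⟨Ω₀, inferInstance, inferInstance, ξ₀, hξ₀, hns⟩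
  let T : S.Etale := EtCoh.top S
  let t₀ : (Scheme.pointSmallEtale ξ₀).fiber.obj T := Over.homMk ξ₀ (Category.comp_id _)
  have h10 : (Scheme.pointSmallEtale ξ₀).toPresheafFiber T t₀ O.obj (1 : O.obj.obj (op T)) =
      (Scheme.pointSmallEtale ξ₀).toPresheafFiber T t₀ O.obj (0 : O.obj.obj (op T)) :=
    Subsingleton.elim _ _
  obtain ⟨Y, f, y, hy, hf⟩ :=
    ((Scheme.pointSmallEtale ξ₀).toPresheafFiber_eq_iff' (P := O.obj) T t₀ _ _).mp h10
  have hY : (1 : O.obj.obj (op Y)) = 0 := by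
    have e1 : (O.obj.map f.op).hom (1 : O.obj.obj (op T)) = 1 := map_one _
    have e0 : (O.obj.map f.op).hom (0 : O.obj.obj (op T)) = 0 := map_zero _
    rw [← e1, ← e0]
    exact hf
  obtain ⟨yl, hyl⟩ : ∃ yl : Spec (CommRingCat.of Ω₀) ⟶ Y.left, yl = y.left := ⟨y.left, rfl⟩
  have hyξ : yl ≫ Y.hom = ξ₀ := by
    rw [hyl]
    exact Over.w y
  haveI : Etale Y.hom := Y.prop
  refine ⟨Set.range Y.hom, ?_, Y.hom.isOpenMap.isOpen_range, ⟨yl default, ?_⟩⟩
  · rintro _ ⟨y', rfl⟩ ⟨Ω, _, _, ξ, hξ, hnt⟩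
    obtain ⟨l, hl, -⟩ := Scheme.exists_fac_of_etale_of_isSepClosed Y.hom ξ y' hξ.symm
    let y'' : (Scheme.pointSmallEtale ξ).fiber.obj Y := Over.homMk l hl
    have h1 : ((Scheme.pointSmallEtale ξ).toPresheafFiber Y y'' O.obj).hom (1 : O.obj.obj (op Y)) =
        1 := map_one _
    have h0 : ((Scheme.pointSmallEtale ξ).toPresheafFiber Y y'' O.obj).hom (0 : O.obj.obj (op Y)) =
        0 := map_zero _
    rw [hY, h0] at h1
    exact zero_ne_one h1
  · rw [← Scheme.Hom.comp_apply, hyξ]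
    exact hξ₀

end Groth.Agent.Helper18.StalkRing
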