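import Groth.Agent.Lib.Helper18.SectSupp

/-!
# Testing exactness of abelian étale sheaves on geometric stalks
-/

set_option autoImplicit false
open CategoryTheory CategoryTheory.Limits AlgebraicGeometry Opposite
universe u

namespace Groth.Agent.Helper18.StalkTest

variable {X : Scheme.{u}}

instance ab5 : AB5OfSize.{u, u} AddCommGrpCat.{u + 1} :=
  AB5OfSize_of_univLE.{u, u, u + 1, u + 1} _

/-- Two sections which agree étale-locally around every point are equal. -/
theorem eq_of_locally_eq (F : EtCoh.Ab X) (U : X.Etale) (s t : EtCoh.sect F U)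
    (h : ∀ x : U.left, ∃ (W : X.Etale) (g : W ⟶ U) (w : W.left),
      g.left w = x ∧ F.obj.map g.op s = F.obj.map g.op t) : s = t := by
  have hsep : Presieve.IsSeparated X.smallEtaleTopology (F.obj ⋙ forget AddCommGrpCat.{u + 1}) :=
    Presieve.IsSheaf.isSeparated ((isSheaf_iff_isSheaf_of_type _ _).1
      ((Presheaf.isSheaf_iff_isSheaf_forget X.smallEtaleTopology F.obj
        (forget AddCommGrpCat.{u + 1})).1 F.property))
  have key : ∀ R : Sieve U, (∀ x : U.left, ∃ (Y : X.Etale) (f : Y ⟶ U) (y : Y.left),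
      R f ∧ EtCoh.etaleMP f.left ∧ f.left y = x) → R ∈ X.smallEtaleTopology U := by
    intro R hR
    have eX : X.smallEtaleTopology =
        (X.smallPretopology (P := EtCoh.etaleMP) (Q := EtCoh.etaleMP)).toGrothendieck :=
      Scheme.smallGrothendieckTopology_eq_toGrothendieck_smallPretopology X le_rfl
    rw [eX]
    exact (Scheme.mem_toGrothendieck_smallPretopology U _).2 hR
  have hmem : Presheaf.equalizerSieve (F := F.obj) (X := op U) s t ∈ X.smallEtaleTopology U := by
    refine key _ ?_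
    intro x
    obtain ⟨W, g, w, hw, hg⟩ := h x
    exact ⟨W, g, w, hg, inferInstanceAs (Etale g.left), hw⟩
  exact (hsep _ hmem).ext (fun _ _ hf => hf)

/-- A geometric point above a given point of a scheme. -/
theorem exists_geom_point (U : Scheme.{u}) (x : U) :
    ∃ (Ω : Type u) (_ : Field Ω) (_ : IsSepClosed Ω) (ul : Spec (CommRingCat.of Ω) ⟶ U),
      ul default = x := by
  refine ⟨SeparableClosure (U.residueField x), inferInstance, inferInstance,
    Spec.map (CommRingCat.ofHom (algebraMap (U.residueField x) _)) ≫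
      U.fromSpecResidueField x, ?_⟩
  rw [Scheme.Hom.comp_apply]
  exact Scheme.fromSpecResidueField_apply _ _

/-- Sections with the same germ at a geometric point agree on an étale neighbourhood. -/
theorem locally_eq_of_germ_eq {Ω : Type u} [Field Ω] [IsSepClosed Ω] (F : EtCoh.Ab X)
    (U : X.Etale) (ul : Spec (CommRingCat.of Ω) ⟶ U.left) (s t : EtCoh.sect F U)
    (h : (Scheme.pointSmallEtale (ul ≫ U.hom)).toPresheafFiber U (Over.homMk ul rfl) F.obj s =
      (Scheme.pointSmallEtale (ul ≫ U.hom)).toPresheafFiber U (Over.homMk ul rfl) F.obj t) :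
    ∃ (W : X.Etale) (g : W ⟶ U) (w : W.left),
      g.left w = ul default ∧ F.obj.map g.op s = F.obj.map g.op t := by
  obtain ⟨Y, f, y, hy, hf⟩ :=
    ((Scheme.pointSmallEtale (ul ≫ U.hom)).toPresheafFiber_eq_iff' U (Over.homMk ul rfl) s t).mp h
  obtain ⟨yl, hyl⟩ : ∃ yl : Spec (CommRingCat.of Ω) ⟶ Y.left, yl = y.left := ⟨y.left, rfl⟩
  refine ⟨Y, f, yl default, ?_, hf⟩
  have h1 : yl ≫ f.left = ul := by
    rw [hyl]
    exact congrArg Over.Hom.left hy
  rw [← Scheme.Hom.comp_apply, h1]

/-- An abelian étale sheaf all of whose geometric stalks vanish is zero. -/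
theorem isZero_of_stalks (K : EtCoh.Ab X)
    (h : ∀ (Ω : Type u) [Field Ω] [IsSepClosed Ω] (ξ : Spec (CommRingCat.of Ω) ⟶ X),
      IsZero ((EtCoh.stalk ξ).obj K)) : IsZero K := by
  have hs : ∀ (U : X.Etale) (s : EtCoh.sect K U), s = 0 := by
    intro U s
    apply eq_of_locally_eq
    intro x
    obtain ⟨Ω, _, _, ul, hul⟩ := exists_geom_point U.left x
    haveI : Subsingleton ((EtCoh.stalk (ul ≫ U.hom)).obj K) :=
      AddCommGrpCat.subsingleton_of_isZero (h Ω (ul ≫ U.hom))
    obtain ⟨W, g, w, hw, hg⟩ := locally_eq_of_germ_eq K U ul s 0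
      (Subsingleton.elim (α := ((EtCoh.stalk (ul ≫ U.hom)).obj K)) _ _)
    exact ⟨W, g, w, hw.trans hul, hg⟩
  rw [IsZero.iff_id_eq_zero]
  ext U s
  exact hs U.unop s

/-- Exactness of a short complex of abelian étale sheaves is tested on geometric stalks. -/
theorem exact_iff (S : ShortComplex (EtCoh.Ab X)) :
    S.Exact ↔ ∀ (Ω : Type u) [Field Ω] [IsSepClosed Ω] (ξ : Spec (CommRingCat.of Ω) ⟶ X),
      (S.map (EtCoh.stalk ξ)).Exact := by
  constructor
  · intro hS Ω _ _ ξ
    exact hS.map (EtCoh.stalk ξ)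
  · intro h
    rw [ShortComplex.exact_iff_isZero_homology]
    apply isZero_of_stalks
    intro Ω _ _ ξ
    have := (ShortComplex.exact_iff_isZero_homology _).1 (h Ω ξ)
    exact IsZero.of_iso this (S.mapHomologyIso (EtCoh.stalk ξ)).symm

/-- Monomorphisms of abelian étale sheaves are tested on geometric stalks. -/
theorem mono_iff {F G : EtCoh.Ab X} (a : F ⟶ G) :
    Mono a ↔ ∀ (Ω : Type u) [Field Ω] [IsSepClosed Ω] (ξ : Spec (CommRingCat.of Ω) ⟶ X),
      Function.Injective ((EtCoh.stalk ξ).map a) := by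
  have e1 : Mono a ↔ (ShortComplex.mk (0 : F ⟶ F) a zero_comp).Exact :=
    (ShortComplex.exact_iff_mono (ShortComplex.mk (0 : F ⟶ F) a zero_comp) rfl).symm
  rw [e1, exact_iff]
  refine forall_congr' fun Ω => forall_congr' fun _ => forall_congr' fun _ =>
    forall_congr' fun ξ => ?_
  rw [← AddCommGrpCat.mono_iff_injective]
  exact ShortComplex.exact_iff_mono _ ((EtCoh.stalk ξ).map_zero _ _)

/-- Epimorphisms of abelian étale sheaves are tested on geometric stalks. -/
theorem epi_iff {F G : EtCoh.Ab X} (a : F ⟶ G) :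
    Epi a ↔ ∀ (Ω : Type u) [Field Ω] [IsSepClosed Ω] (ξ : Spec (CommRingCat.of Ω) ⟶ X),
      Function.Surjective ((EtCoh.stalk ξ).map a) := by
  have e1 : Epi a ↔ (ShortComplex.mk a (0 : G ⟶ G) comp_zero).Exact :=
    (ShortComplex.exact_iff_epi (ShortComplex.mk a (0 : G ⟶ G) comp_zero) rfl).symm
  rw [e1, exact_iff]
  refine forall_congr' fun Ω => forall_congr' fun _ => forall_congr' fun _ =>
    forall_congr' fun ξ => ?_
  rw [← AddCommGrpCat.epi_iff_surjective]
  exact ShortComplex.exact_iff_epi _ ((EtCoh.stalk ξ).map_zero _ _)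

end Groth.Agent.Helper18.StalkTest
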