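import Groth.Agent.Lib.Helper18.StrictHensStalk
import Groth.Prelude.Def_SGA4b

/-!
# Étale sheaves of sets on the spectrum of a strictly henselian local ring
-/

set_option autoImplicit false
open CategoryTheory CategoryTheory.Limits AlgebraicGeometry Opposite IsLocalRing
universe u

namespace Groth.Agent.Helper18.StrictHensStalk

variable (R : Type u) [CommRing R] [HenselianLocalRing R] [IsSepClosed (ResidueField R)]

/-- Global sections of a sheaf of sets map bijectively onto the stalk at the closed geometric
point. -/
theorem bijective_toStalk_sets (F : EtDesc.Sh (Spec (CommRingCat.of R))) :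
    Function.Bijective ((Scheme.pointSmallEtale (clPt R)).toPresheafFiber (A := Type (u + 1))
      (EtCoh.top (Spec (CommRingCat.of R))) (clPt₀ R) F.obj) := by
  constructor
  · intro s t hst
    obtain ⟨Y, f, y, hy, hf⟩ :=
      ((Scheme.pointSmallEtale (clPt R)).toPresheafFiber_eq_iff' (P := F.obj) _ _ s t).mp hst
    obtain ⟨σ, -⟩ := exists_top_hom R Y y
    have hσf : σ ≫ f = 𝟙 _ := top_hom_comp R σ f
    have h1 : ∀ z : F.obj.obj (op (EtCoh.top (Spec (CommRingCat.of R)))),
        F.obj.map σ.op (F.obj.map f.op z) = z := by
      intro z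
      rw [← ConcreteCategory.comp_apply, ← Functor.map_comp, ← op_comp, hσf, op_id,
        CategoryTheory.Functor.map_id]
      rfl
    rw [← h1 s, ← h1 t]
    exact congrArg _ hf
  · intro p
    obtain ⟨U, u, z, rfl⟩ :=
      (Scheme.pointSmallEtale (clPt R)).toPresheafFiber_jointly_surjective (P := F.obj) p
    obtain ⟨σ, hσ⟩ := exists_top_hom R U u
    refine ⟨F.obj.map σ.op z, ?_⟩
    have := (Scheme.pointSmallEtale (clPt R)).toPresheafFiber_w_apply σ (clPt₀ R) F.obj z
    rw [hσ] at this
    exact this

end Groth.Agent.Helper18.StrictHensStalk
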