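import Groth.Agent.Lib.Helper18.StrictHensStalkSets
import Groth.Agent.Lib.Helper18.StalkSets
import Groth.Prelude.Def_Hens2
import Groth.Prelude.Def_Hensel

/-!
# The fibre functor at a strict localisation
-/

set_option autoImplicit false
open CategoryTheory CategoryTheory.Limits AlgebraicGeometry Opposite
universe u

namespace Groth.Agent.Helper18.StrictLocFibre

open Groth.Agent.Helper18.StrictHensStalk Groth.Agent.Helper18.StalkPull

theorem main (X : Scheme.{u}) (x : X)
    (R : Type u) [CommRing R] [IsLocalRing R] [Algebra (X.presheaf.stalk x) R]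
    [IsLocalHom (algebraMap (X.presheaf.stalk x) R)]
    [Hensel.IsStrictHenselization (X.presheaf.stalk x) R]
    [IsSepClosed (IsLocalRing.ResidueField R)] :
    Nonempty ((Scheme.pointSmallEtale (Hens2.geomPt X x R)).sheafFiber (A := Type (u + 1)) ≅
      EtDesc.pullSh (Hens2.specOf X x R) ⋙
        (sheafSections (Spec (CommRingCat.of R)).smallEtaleTopology (Type (u + 1))).obj
          (op (EtCoh.top (Spec (CommRingCat.of R))))) := by
  haveI : HenselianLocalRing R :=
    Hensel.IsStrictHenselization.henselian (R := X.presheaf.stalk x) (S := R)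
  have e1 := (stalkPullNatIso (Hens2.specOf X x R) (clPt R) (Type (u + 1))).symm
  let τ : (sheafSections (Spec (CommRingCat.of R)).smallEtaleTopology (Type (u + 1))).obj
      (op (EtCoh.top (Spec (CommRingCat.of R)))) ⟶
        (Scheme.pointSmallEtale (clPt R)).sheafFiber (A := Type (u + 1)) :=
    Functor.whiskerLeft (sheafToPresheaf _ _)
      ((Scheme.pointSmallEtale (clPt R)).toPresheafFiberNatTrans
        (EtCoh.top (Spec (CommRingCat.of R))) (clPt₀ R))
  haveI : ∀ G, IsIso (τ.app G) := by
    intro G
    rw [isIso_iff_bijective]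
    exact bijective_toStalk_sets R G
  haveI : IsIso τ := NatIso.isIso_of_isIso_app τ
  exact ⟨e1 ≪≫ Functor.isoWhiskerLeft (EtDesc.pullSh (Hens2.specOf X x R)) (asIso τ).symm⟩

end Groth.Agent.Helper18.StrictLocFibre
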