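import Mathlib

set_option autoImplicit false

namespace Groth.Agent.Helper18.TotSplit

open Polynomial

universe u

/-- A finite free `R`-algebra generated by roots `x i` of monic polynomials `P i`, with the
universal property of `R[x₁,…,xₙ]/(P₁(x₁),…,Pₙ(xₙ))`. -/
structure RootAlg (R : Type u) [CommRing R] (n : ℕ) (P : Fin n → R[X]) where
  C : Type u
  [cr : CommRing C]
  [alg : Algebra R C]
  x : Fin n → C
  free : Module.Free R C
  fin : Module.Finite R C
  root : ∀ i, aeval (x i) (P i) = 0
  lift : ∀ (B : Type u) [CommRing B] [Algebra R B] (b : Fin n → B),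
    (∀ i, aeval (b i) (P i) = 0) → ∃ π : C →ₐ[R] B, ∀ i, π (x i) = b i
  ext : ∀ (D : Type u) [CommRing D] (ξ₁ ξ₂ : C →+* D),
    ξ₁.comp (algebraMap R C) = ξ₂.comp (algebraMap R C) → (∀ i, ξ₁ (x i) = ξ₂ (x i)) → ξ₁ = ξ₂

attribute [instance] RootAlg.cr RootAlg.alg

theorem exists_rootAlg (R : Type u) [CommRing R] :
    ∀ (n : ℕ) (P : Fin n → R[X]), (∀ i, (P i).Monic) → Nonempty (RootAlg R n P) := by
  intro n
  induction n with
  | zero =>
    intro P _
    exact ⟨{ C := R, x := Fin.elim0, free := inferInstance, fin := inferInstance,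
             root := fun i => i.elim0,
             lift := fun B _ _ b _ => ⟨Algebra.ofId R B, fun i => i.elim0⟩,
             ext := fun D _ ξ₁ ξ₂ h _ => RingHom.ext fun r => RingHom.congr_fun h r }⟩
  | succ n ih =>
    intro P hP
    obtain ⟨A⟩ := ih (fun i => P i.succ) (fun i => hP i.succ)
    let Q : A.C[X] := (P 0).map (algebraMap R A.C)
    have hQ : Q.Monic := (hP 0).map _
    haveI := A.free
    haveI := A.fin
    haveI : Module.Free A.C (AdjoinRoot Q) := hQ.free_adjoinRoot
    haveI : Module.Finite A.C (AdjoinRoot Q) := hQ.finite_adjoinRoot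
    refine ⟨{ C := AdjoinRoot Q
              x := Fin.cons (AdjoinRoot.root Q) (fun i => algebraMap A.C (AdjoinRoot Q) (A.x i))
              free := Module.Free.trans (S := A.C)
              fin := Module.Finite.trans A.C _
              root := ?_, lift := ?_, ext := ?_ }⟩
    · intro i
      refine Fin.cases ?_ (fun i => ?_) i
      · show aeval (AdjoinRoot.root Q) (P 0) = 0
        have h : aeval (AdjoinRoot.root Q) (P 0) = aeval (AdjoinRoot.root Q) Q :=
          (aeval_map_algebraMap A.C _ (P 0)).symm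
        rw [h, AdjoinRoot.aeval_eq, AdjoinRoot.mk_self]
      · show aeval (algebraMap A.C (AdjoinRoot Q) (A.x i)) (P i.succ) = 0
        rw [aeval_algebraMap_apply, A.root i, map_zero]
    · intro B _ _ b hb
      obtain ⟨π₁, hπ₁⟩ := A.lift B (fun i => b i.succ) (fun i => hb i.succ)
      have h0 : Q.eval₂ (π₁ : A.C →+* B) (b 0) = 0 := by
        rw [Polynomial.eval₂_map]
        have h1 : (π₁ : A.C →+* B).comp (algebraMap R A.C) = algebraMap R B :=
          π₁.comp_algebraMap
        rw [h1]
        exact hb 0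
      refine ⟨AdjoinRoot.liftAlgHom Q π₁ (b 0) h0, fun i => ?_⟩
      refine Fin.cases ?_ (fun i => ?_) i
      · show AdjoinRoot.liftAlgHom Q π₁ (b 0) h0 (AdjoinRoot.root Q) = b 0
        exact AdjoinRoot.liftAlgHom_root _ _ _ _
      · show AdjoinRoot.liftAlgHom Q π₁ (b 0) h0 (algebraMap A.C (AdjoinRoot Q) (A.x i)) =
          b i.succ
        rw [← hπ₁ i]
        exact AdjoinRoot.liftAlgHom_of _ _ _ _ _
    · intro D _ ξ₁ ξ₂ h0 hx
      have h1 : ξ₁.comp (algebraMap A.C (AdjoinRoot Q)) =
          ξ₂.comp (algebraMap A.C (AdjoinRoot Q)) := by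
        apply A.ext D
        · rw [RingHom.comp_assoc, RingHom.comp_assoc, ← IsScalarTower.algebraMap_eq]
          exact h0
        · intro i
          exact hx i.succ
      exact AdjoinRoot.ringHom_ext h1 (hx 0)

theorem exists_split : ∀ (n : ℕ) (R : Type u) [CommRing R] (P : Fin n → R[X]),
    (∀ i, (P i).Monic) →
    ∃ (R' : Type u) (_ : CommRing R') (_ : Algebra R R'), Module.Free R R' ∧ Module.Finite R R' ∧
      (Nontrivial R → Nontrivial R') ∧ ∀ i, ((P i).map (algebraMap R R')).Splits := by
  intro n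
  induction n with
  | zero =>
    intro R _ P _
    exact ⟨R, inferInstance, inferInstance, inferInstance, inferInstance, id, fun i => i.elim0⟩
  | succ n ih =>
    intro R _ P hP
    rcases subsingleton_or_nontrivial R with hR | hR
    · refine ⟨R, inferInstance, inferInstance, inferInstance, inferInstance, id, fun i => ?_⟩
      haveI : Subsingleton R[X] := Polynomial.subsingleton_iff_subsingleton.mpr hR
      have h : (P i).map (algebraMap R R) = 0 := Subsingleton.elim _ _
      rw [h]; exact Splits.zero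
    · obtain ⟨S₁, _, _, _, _, _, hS₁⟩ := (hP 0).exists_splits_map
      obtain ⟨R', instR', algR', hfree, hfin, hnt, hsp⟩ :=
        ih S₁ (fun i => (P i.succ).map (algebraMap R S₁)) (fun i => (hP i.succ).map _)
      letI := instR'
      letI := algR'
      letI : Algebra R R' := ((algebraMap S₁ R').comp (algebraMap R S₁)).toAlgebra
      haveI : IsScalarTower R S₁ R' := IsScalarTower.of_algebraMap_eq (fun r => rfl)
      haveI := hfree
      haveI := hfin
      refine ⟨R', inferInstance, inferInstance, Module.Free.trans (S := S₁),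
        Module.Finite.trans S₁ R', fun _ => hnt inferInstance, fun i => ?_⟩
      refine Fin.cases ?_ (fun i => ?_) i
      · rw [IsScalarTower.algebraMap_eq R S₁ R', ← Polynomial.map_map]
        exact hS₁.map _
      · rw [IsScalarTower.algebraMap_eq R S₁ R', ← Polynomial.map_map]
        exact hsp i

theorem main_alg (R : Type u) [CommRing R] (B : Type u) [CommRing B] [Algebra R B]
    [Module.Finite R B] :
    ∃ (C₀ : Type u) (_ : CommRing C₀) (_ : Algebra R C₀) (R' : Type u) (_ : CommRing R')
      (_ : Algebra R R'),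
      Module.Free R C₀ ∧ Module.Finite R C₀ ∧ Module.Free R R' ∧ Module.Finite R R' ∧
      (Nontrivial R → Nontrivial R') ∧
      ∃ (π : C₀ →ₐ[R] B), Function.Surjective π ∧
      ∃ (m : ℕ) (σ : Fin m → (C₀ →ₐ[R] R')),
        ∀ (K : Type u) [Field K] (ρ' : R' →+* K) (ξ : C₀ →+* K),
          ξ.comp (algebraMap R C₀) = ρ'.comp (algebraMap R R') →
          ∃ j, ξ = ρ'.comp (σ j : C₀ →+* R') := by
  classical
  obtain ⟨s, hs⟩ := (Module.Finite.fg_top : (⊤ : Submodule R B).FG)
  let n := s.card
  let b : Fin n → B := fun i => (s.equivFin.symm i : B)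
  have hbspan : Submodule.span R (Set.range b) = ⊤ := by
    have h : Set.range b = (s : Set B) := by
      ext y
      constructor
      · rintro ⟨i, rfl⟩
        exact (s.equivFin.symm i).2
      · intro hy
        exact ⟨s.equivFin ⟨y, hy⟩, by simp [b]⟩
    rw [h, hs]
  haveI : Algebra.IsIntegral R B := Algebra.IsIntegral.of_finite R B
  let P : Fin n → R[X] := fun i => minpoly R (b i)
  have hP : ∀ i, (P i).Monic := fun i => minpoly.monic (Algebra.IsIntegral.isIntegral _)
  obtain ⟨A⟩ := exists_rootAlg R n P hP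
  obtain ⟨R', instR', algR', hfree, hfin, hnt, hsp⟩ := exists_split n R P hP
  letI := instR'
  letI := algR'
  obtain ⟨π, hπ⟩ := A.lift B b (fun i => minpoly.aeval R (b i))
  have hπsurj : Function.Surjective π := by
    have h : LinearMap.range π.toLinearMap = ⊤ := by
      rw [eq_top_iff, ← hbspan, Submodule.span_le]
      rintro _ ⟨i, rfl⟩
      exact ⟨A.x i, hπ i⟩
    exact LinearMap.range_eq_top.mp h
  have hroots : ∀ i, ∃ ms : Multiset R',
      (P i).map (algebraMap R R') = (ms.map (fun r => X - C r)).prod := by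
    intro i
    obtain ⟨ms, hms⟩ := Polynomial.splits_iff_exists_multiset.mp (hsp i)
    refine ⟨ms, ?_⟩
    rw [((hP i).map (algebraMap R R')).leadingCoeff, C_1, one_mul] at hms
    exact hms
  choose ms hms using hroots
  let J := (i : Fin n) → {r : R' // r ∈ (ms i).toFinset}
  have hσ : ∀ j : J, ∃ σ : A.C →ₐ[R] R', ∀ i, σ (A.x i) = (j i : R') := by
    intro j
    apply A.lift R' (fun i => (j i : R'))
    intro i
    rw [← Polynomial.eval_map_algebraMap, hms i, Polynomial.eval_multiset_prod]
    apply Multiset.prod_eq_zero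
    rw [Multiset.mem_map]
    refine ⟨X - C (j i : R'),
      Multiset.mem_map.mpr ⟨j i, Multiset.mem_toFinset.mp (j i).2, rfl⟩, by simp⟩
  choose σ hσ' using hσ
  refine ⟨A.C, inferInstance, inferInstance, R', instR', algR', A.free, A.fin, hfree, hfin, hnt,
    π, hπsurj, Fintype.card J, fun t => σ ((Fintype.equivFin J).symm t), ?_⟩
  intro K _ ρ' ξ hcompat
  have hroot : ∀ i, ∃ r : {r : R' // r ∈ (ms i).toFinset}, ξ (A.x i) = ρ' r := by
    intro i
    have h1 : Polynomial.eval₂ (ξ.comp (algebraMap R A.C)) (ξ (A.x i)) (P i) = 0 := by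
      rw [← Polynomial.hom_eval₂]
      have h2 := A.root i
      rw [Polynomial.aeval_def] at h2
      rw [h2, map_zero]
    rw [hcompat, ← Polynomial.eval₂_map, hms i, Polynomial.eval₂_multiset_prod,
      Multiset.prod_eq_zero_iff, Multiset.mem_map] at h1
    obtain ⟨q, hq, hq0⟩ := h1
    rw [Multiset.mem_map] at hq
    obtain ⟨r, hr, rfl⟩ := hq
    refine ⟨⟨r, Multiset.mem_toFinset.mpr hr⟩, ?_⟩
    simp only [eval₂_sub, eval₂_X, eval₂_C] at hq0
    exact sub_eq_zero.mp hq0
  choose jr hjr using hroot
  refine ⟨Fintype.equivFin J jr, ?_⟩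
  simp only [Equiv.symm_apply_apply]
  apply A.ext K
  · rw [hcompat, RingHom.comp_assoc]
    congr 1
    exact ((σ jr).comp_algebraMap).symm
  · intro i
    rw [hjr i]
    show ρ' (jr i) = ρ' (σ jr (A.x i))
    rw [hσ' jr i]

end Groth.Agent.Helper18.TotSplit
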