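import Mathlib
import Groth.Prelude.Def_Mor2
import Groth.Agent.Lib.Helper18.TotSplit

set_option autoImplicit false

namespace Groth.Agent.Helper18.TotSplitSch

open AlgebraicGeometry CategoryTheory Limits

universe u

/-- `Spec` of a finite free ring map is finite locally free. -/
lemma isFinLocFree_SpecMap (R S : Type u) [CommRing R] [CommRing S] [Algebra R S]
    [Module.Free R S] [Module.Finite R S] :
    Mor2.IsFinLocFree (Spec.map (CommRingCat.ofHom (algebraMap R S))) := by
  refine ⟨?_, ?_, ?_⟩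
  · rw [IsFinite.SpecMap_iff]
    show (algebraMap R S).Finite
    exact RingHom.finite_algebraMap.mpr inferInstance
  · rw [HasRingHomProperty.Spec_iff (P := @Flat)]
    show (algebraMap R S).Flat
    exact RingHom.flat_algebraMap_iff.mpr inferInstance
  · rw [HasRingHomProperty.Spec_iff (P := @LocallyOfFinitePresentation)]
    show (algebraMap R S).FinitePresentation
    rw [RingHom.finitePresentation_algebraMap]
    haveI : Module.FinitePresentation R S := Module.finitePresentation_of_projective R S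
    infer_instance

lemma isFinLocFree_comp_iso {X Y Z : Scheme.{u}} (f : X ⟶ Y) (g : Y ⟶ Z) [IsIso g]
    (hf : Mor2.IsFinLocFree f) : Mor2.IsFinLocFree (f ≫ g) := by
  obtain ⟨h1, h2, h3⟩ := hf
  exact ⟨inferInstance, inferInstance, inferInstance⟩

lemma isFinLocFree_pullback_snd {X Y Z : Scheme.{u}} (f : X ⟶ Z) (g : Y ⟶ Z)
    (hf : Mor2.IsFinLocFree f) : Mor2.IsFinLocFree (pullback.snd f g) := by
  obtain ⟨h1, h2, h3⟩ := hf
  exact ⟨inferInstance, inferInstance, inferInstance⟩

theorem main {X Y : Scheme.{u}} [IsAffine X] (f : Y ⟶ X) [IsFinite f] :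
    ∃ (X' : Scheme.{u}) (b : X' ⟶ X) (Z' : Scheme.{u}) (c : Z' ⟶ X') (i : pullback f b ⟶ Z'),
      Mor2.IsFinLocFree b ∧ Surjective b ∧ Mor2.IsFinLocFree c ∧ IsClosedImmersion i ∧
      i ≫ c = pullback.snd f b ∧
      ∃ (m : ℕ) (Zj : Fin m → Scheme.{u}) (ιj : ∀ j, Zj j ⟶ Z'),
        (∀ j, IsClosedImmersion (ιj j)) ∧ (∀ j, IsIso (ιj j ≫ c)) ∧
        (⋃ j, Set.range (ιj j).base) = Set.univ := by
  haveI : IsAffine Y := isAffine_of_isAffineHom f
  letI : Algebra Γ(X, ⊤) Γ(Y, ⊤) := f.appTop.hom.toAlgebra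
  haveI : Module.Finite Γ(X, ⊤) Γ(Y, ⊤) := f.finite_appTop
  obtain ⟨C₀, instC, algC, R', instR', algR', hCfree, hCfin, hRfree, hRfin, hnt, π, hπ, m, σ, hσ⟩ :=
    TotSplit.main_alg Γ(X, ⊤) Γ(Y, ⊤)
  letI := instC
  letI := algC
  letI := instR'
  letI := algR'
  haveI := hCfree
  haveI := hCfin
  haveI := hRfree
  haveI := hRfin
  let tX : Spec (CommRingCat.of C₀) ⟶ X :=
    Spec.map (CommRingCat.ofHom (algebraMap Γ(X, ⊤) C₀)) ≫ X.isoSpec.inv
  let b : Spec (CommRingCat.of R') ⟶ X :=
    Spec.map (CommRingCat.ofHom (algebraMap Γ(X, ⊤) R')) ≫ X.isoSpec.inv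
  let j : Y ⟶ Spec (CommRingCat.of C₀) :=
    Y.isoSpec.hom ≫ Spec.map (CommRingCat.ofHom π.toRingHom)
  have hj : j ≫ tX = f := by
    have h1 : CommRingCat.ofHom (algebraMap Γ(X, ⊤) C₀) ≫ CommRingCat.ofHom π.toRingHom =
        f.appTop := by
      ext r
      exact π.commutes r
    simp only [j, tX, Category.assoc]
    rw [← Spec.map_comp_assoc, h1, Scheme.isoSpec_hom_naturality_assoc, Iso.hom_inv_id,
      Category.comp_id]
  have hb : Mor2.IsFinLocFree b :=
    isFinLocFree_comp_iso _ _ (isFinLocFree_SpecMap Γ(X, ⊤) R')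
  have htX : Mor2.IsFinLocFree tX :=
    isFinLocFree_comp_iso _ _ (isFinLocFree_SpecMap Γ(X, ⊤) C₀)
  haveI : Surjective (Spec.map (CommRingCat.ofHom (algebraMap Γ(X, ⊤) R'))) := by
    constructor
    rcases subsingleton_or_nontrivial Γ(X, ⊤) with hR | hR
    · intro x
      exact ((not_nontrivial_iff_subsingleton.mpr hR) (x : PrimeSpectrum Γ(X, ⊤)).nontrivial).elim
    · haveI := hnt hR
      haveI : Module.FaithfullyFlat Γ(X, ⊤) R' := inferInstance
      exact PrimeSpectrum.comap_surjective_of_faithfullyFlat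
  have hbsurj : Surjective b := inferInstance
  haveI hjcl : IsClosedImmersion j := by
    haveI : IsClosedImmersion (Spec.map (CommRingCat.ofHom π.toRingHom)) :=
      IsClosedImmersion.spec_of_surjective _ hπ
    infer_instance
  have e₁ : f = j ≫ tX := hj.symm
  have e₂ : b = 𝟙 _ ≫ b := (Category.id_comp b).symm
  let i : pullback f b ⟶ pullback tX b :=
    pullback.map f b tX b j (𝟙 _) (𝟙 _) ((Category.comp_id _).trans e₁)
      ((Category.comp_id _).trans e₂)
  have hicl : IsClosedImmersion i :=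
    MorphismProperty.pullbackMap (P := @IsClosedImmersion) hjcl
      (inferInstance : IsClosedImmersion (𝟙 (Spec (CommRingCat.of R')))) e₁ e₂
  have hic : i ≫ pullback.snd tX b = pullback.snd f b :=
    (pullback.lift_snd _ _ _).trans (Category.comp_id _)
  have hc : Mor2.IsFinLocFree (pullback.snd tX b) := isFinLocFree_pullback_snd tX b htX
  -- the sections
  have hsec : ∀ t : Fin m, ∃ ι : Spec (CommRingCat.of R') ⟶ pullback tX b,
      ι ≫ pullback.fst tX b = Spec.map (CommRingCat.ofHom (σ t).toRingHom) ∧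
      ι ≫ pullback.snd tX b = 𝟙 _ := by
    intro t
    have hs : Spec.map (CommRingCat.ofHom (σ t).toRingHom) ≫ tX = 𝟙 _ ≫ b := by
      have h1 : CommRingCat.ofHom (algebraMap Γ(X, ⊤) C₀) ≫ CommRingCat.ofHom (σ t).toRingHom =
          CommRingCat.ofHom (algebraMap Γ(X, ⊤) R') := by
        ext r
        exact (σ t).commutes r
      simp only [tX, b, Category.id_comp]
      rw [← Spec.map_comp_assoc, h1]
    exact ⟨pullback.lift _ _ hs, pullback.lift_fst _ _ hs, pullback.lift_snd _ _ hs⟩
  choose ι hι1 hι2 using hsec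
  refine ⟨Spec (CommRingCat.of R'), b, pullback tX b, pullback.snd tX b, i, hb, hbsurj, hc, hicl,
    hic, m, fun _ => Spec (CommRingCat.of R'), ι, ?_, ?_, ?_⟩
  · intro t
    haveI : IsClosedImmersion (ι t ≫ pullback.snd tX b) := by
      rw [hι2 t]; infer_instance
    haveI : IsSeparated (pullback.snd tX b) := by
      obtain ⟨h1, -, -⟩ := hc
      infer_instance
    exact IsClosedImmersion.of_comp (ι t) (pullback.snd tX b)
  · intro t
    rw [hι2 t]; infer_instance
  · rw [Set.eq_univ_iff_forall]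
    intro z
    rw [Set.mem_iUnion]
    let zK : Spec ((pullback tX b).residueField z) ⟶ pullback tX b :=
      (pullback tX b).fromSpecResidueField z
    let ρc : CommRingCat.of R' ⟶ (pullback tX b).residueField z :=
      Spec.preimage (zK ≫ pullback.snd tX b)
    let ξc : CommRingCat.of C₀ ⟶ (pullback tX b).residueField z :=
      Spec.preimage (zK ≫ pullback.fst tX b)
    have hρ : Spec.map ρc = zK ≫ pullback.snd tX b := Spec.map_preimage _
    have hξ : Spec.map ξc = zK ≫ pullback.fst tX b := Spec.map_preimage _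
    have hcompat : ξc.hom.comp (algebraMap Γ(X, ⊤) C₀) = ρc.hom.comp (algebraMap Γ(X, ⊤) R') := by
      have h1 : Spec.map (CommRingCat.ofHom (algebraMap Γ(X, ⊤) C₀) ≫ ξc) =
          Spec.map (CommRingCat.ofHom (algebraMap Γ(X, ⊤) R') ≫ ρc) := by
        rw [Spec.map_comp, Spec.map_comp, hξ, hρ, ← cancel_mono X.isoSpec.inv]
        simp only [Category.assoc]
        exact congrArg (zK ≫ ·) (pullback.condition (f := tX) (g := b))
      exact congrArg CommRingCat.Hom.hom (Spec.map_injective h1)
    obtain ⟨t, ht⟩ := hσ ((pullback tX b).residueField z) ρc.hom ξc.hom hcompat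
    have hz : zK = (zK ≫ pullback.snd tX b) ≫ ι t := by
      apply pullback.hom_ext
      · rw [Category.assoc, hι1 t, ← hξ, ← hρ, ← Spec.map_comp]
        congr 1
        ext x
        exact RingHom.congr_fun ht x
      · rw [Category.assoc, hι2 t, Category.comp_id]
    refine ⟨t, ?_⟩
    have hpt : zK.base default = z := Scheme.fromSpecResidueField_apply z _
    rw [← hpt, hz]
    exact ⟨(zK ≫ pullback.snd tX b).base default, rfl⟩

end Groth.Agent.Helper18.TotSplitSch
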