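import Mathlib

/-!
# Universally open ⇔ open after base change to all affine `n`-spaces

Helper library for S1373 / S4780.
-/

set_option autoImplicit false
universe u

open CategoryTheory Limits AlgebraicGeometry TopologicalSpace

namespace Groth.Agent.Helper18.UnivOpenAff

/-- Hypothesis: all maps `𝔸ⁿ_X ⟶ 𝔸ⁿ_Y` are open. -/
def H {X Y : Scheme.{u}} (f : X ⟶ Y) : Prop :=
  ∀ n : ℕ, IsOpenMap (AffineSpace.map (ULift.{u} (Fin n)) f)

lemma comm_apply {A B C D : Scheme.{u}} {a : A ⟶ B} {b : B ⟶ D} {c : A ⟶ C} {d : C ⟶ D}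
    (h : a ≫ b = c ≫ d) (x : A) : b (a x) = d (c x) := by
  have : (a ≫ b) x = (c ≫ d) x := by rw [h]
  rwa [Scheme.Hom.comp_apply, Scheme.Hom.comp_apply] at this

lemma isOpenMap_comp {A B C : Scheme.{u}} (a : A ⟶ B) (b : B ⟶ C)
    (ha : IsOpenMap a) (hb : IsOpenMap b) : IsOpenMap (a ≫ b) := by
  intro O hO
  have : (a ≫ b) '' O = b '' (a '' O) := by
    ext y
    constructor
    · rintro ⟨x, hx, rfl⟩
      exact ⟨a x, ⟨x, hx, rfl⟩, (Scheme.Hom.comp_apply a b x).symm⟩
    · rintro ⟨_, ⟨x, hx, rfl⟩, rfl⟩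
      exact ⟨x, hx, Scheme.Hom.comp_apply a b x⟩
  rw [this]
  exact hb _ (ha _ hO)

lemma isOpenMap_of_isIso {A B : Scheme.{u}} (a : A ⟶ B) [IsIso a] : IsOpenMap a :=
  a.isOpenEmbedding.isOpenMap

/-- Base change of an open map along a closed immersion is open. -/
lemma isOpenMap_of_isPullback_of_isClosedImmersion {P X Y T : Scheme.{u}} {t : P ⟶ X}
    {p : P ⟶ T} {F : X ⟶ Y} {h : T ⟶ Y} (sq : IsPullback t p F h) (hF : IsOpenMap F)
    [IsClosedImmersion h] : IsOpenMap p := by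
  have ht : IsClosedImmersion t :=
    MorphismProperty.of_isPullback (P := @IsClosedImmersion) sq.flip inferInstance
  intro O hO
  obtain ⟨s, hs, rfl⟩ := (t.isClosedEmbedding.isInducing.isOpen_iff).mp hO
  have := Scheme.image_preimage_eq_of_isPullback sq s
  rw [this]
  exact (hF s hs).preimage h.continuous

instance isOpenImmersion_map (n : Type u) {S T : Scheme.{u}} (j : S ⟶ T) [IsOpenImmersion j] :
    IsOpenImmersion (AffineSpace.map n j) :=
  MorphismProperty.of_isPullback (P := @IsOpenImmersion) (AffineSpace.isPullback_map j).flip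
    inferInstance

lemma isOpenMap_of_comp_openImmersion {A B C : Scheme.{u}} (a : A ⟶ B) (b : B ⟶ C)
    [IsOpenImmersion b] (h : IsOpenMap (a ≫ b)) : IsOpenMap a := by
  intro O hO
  have : a '' O = b ⁻¹' ((a ≫ b) '' O) := by
    ext y
    constructor
    · rintro ⟨x, hx, rfl⟩
      exact ⟨x, hx, Scheme.Hom.comp_apply a b x⟩
    · rintro ⟨x, hx, hxy⟩
      exact ⟨x, hx, b.isOpenEmbedding.injective ((Scheme.Hom.comp_apply a b x).symm.trans hxy)⟩
  rw [this]
  exact (h O hO).preimage b.continuous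

lemma H_snd {X Y U : Scheme.{u}} (f : X ⟶ Y) (hf : H f) (j : U ⟶ Y) [IsOpenImmersion j] :
    H (pullback.snd f j) := by
  intro n
  apply isOpenMap_of_comp_openImmersion _ (AffineSpace.map _ j)
  rw [← AffineSpace.map_comp, ← pullback.condition, AffineSpace.map_comp]
  exact isOpenMap_comp _ _ (AffineSpace.map _ (pullback.fst f j)).isOpenEmbedding.isOpenMap (hf n)

lemma isOpenMap_of_map {I : Type u} {X Y : Scheme.{u}} (f : X ⟶ Y)
    (h : IsOpenMap (AffineSpace.map I f)) : IsOpenMap f := by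
  intro O hO
  have hs : Function.Surjective (𝔸(I; X) ↘ X) :=
    (inferInstance : Surjective (𝔸(I; X) ↘ X)).surj
  have : f '' O = (𝔸(I; Y) ↘ Y) '' ((AffineSpace.map I f) '' ((𝔸(I; X) ↘ X) ⁻¹' O)) := by
    ext y
    constructor
    · rintro ⟨x, hx, rfl⟩
      obtain ⟨z, rfl⟩ := hs x
      exact ⟨AffineSpace.map I f z, ⟨z, hx, rfl⟩, comm_apply (AffineSpace.map_over f) z⟩
    · rintro ⟨_, ⟨z, hz, rfl⟩, rfl⟩
      exact ⟨(𝔸(I; X) ↘ X) z, hz, (comm_apply (AffineSpace.map_over f) z).symm⟩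
  rw [this]
  exact AffineSpace.isOpenMap_over Y _ (h _ (hO.preimage (Scheme.Hom.continuous _)))

lemma reindex_comp' {n₁ n₂ n₃ : Type u} (i : n₁ → n₂) (j : n₂ → n₃) (S : Scheme.{u}) :
    AffineSpace.reindex j S ≫ AffineSpace.reindex i S = AffineSpace.reindex (j ∘ i) S := by
  apply AffineSpace.hom_ext
  · simp
  · intro k
    rw [Scheme.Hom.comp_appTop, CommRingCat.comp_apply, AffineSpace.reindex_appTop_coord,
      AffineSpace.reindex_appTop_coord, AffineSpace.reindex_appTop_coord]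
    rfl

instance isIso_reindex_equiv {I J : Type u} (σ : J ≃ I) (S : Scheme.{u}) :
    IsIso (AffineSpace.reindex (σ : J → I) S) :=
  ⟨AffineSpace.reindex (σ.symm : I → J) S, by
    rw [reindex_comp', Equiv.self_comp_symm, AffineSpace.reindex_id], by
    rw [reindex_comp', Equiv.symm_comp_self, AffineSpace.reindex_id]⟩

lemma isOpenMap_map_of_equiv {I J : Type u} (σ : J ≃ I) {S T : Scheme.{u}} (f : S ⟶ T)
    (h : IsOpenMap (AffineSpace.map I f)) : IsOpenMap (AffineSpace.map J f) := by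
  have e : AffineSpace.map J f = AffineSpace.reindex (σ.symm : I → J) S ≫
      AffineSpace.map I f ≫ AffineSpace.reindex (σ : J → I) T := by
    rw [AffineSpace.map_reindex, ← Category.assoc, reindex_comp', Equiv.symm_comp_self,
      AffineSpace.reindex_id, Category.id_comp]
  rw [e]
  exact isOpenMap_comp _ _ (isOpenMap_of_isIso _) (isOpenMap_comp _ _ h (isOpenMap_of_isIso _))

lemma isPullback_reindex_map {I₀ I : Type u} (ι : I₀ → I) {W Y : Scheme.{u}} (g : W ⟶ Y) :
    IsPullback (AffineSpace.reindex ι W) (AffineSpace.map I g) (AffineSpace.map I₀ g)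
      (AffineSpace.reindex ι Y) := by
  have s : IsPullback (AffineSpace.map I g) (AffineSpace.reindex ι W ≫ 𝔸(I₀; W) ↘ W)
      (AffineSpace.reindex ι Y ≫ 𝔸(I₀; Y) ↘ Y) g := by
    rw [AffineSpace.reindex_over, AffineSpace.reindex_over]
    exact AffineSpace.isPullback_map g
  exact (IsPullback.of_bot s (AffineSpace.map_reindex ι g) (AffineSpace.isPullback_map g)).flip

/-- The canonical map `Γ(S)[n] → Γ(𝔸ⁿ_S)`. -/
noncomputable def Φ (n : Type u) (S : Scheme.{u}) : MvPolynomial n Γ(S, ⊤) →+* Γ(𝔸(n; S), ⊤) :=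
  MvPolynomial.eval₂Hom ((𝔸(n; S) ↘ S).appTop).hom (AffineSpace.coord S)

lemma Φ_surjective (n : Type u) (S : Scheme.{u}) [IsAffine S] : Function.Surjective (Φ n S) := by
  intro γ
  have h1 := AffineSpace.isoOfIsAffine_hom_appTop (n := n) S
  have : IsIso (AffineSpace.isoOfIsAffine n S).hom.appTop :=
    inferInstanceAs (IsIso ((AffineSpace.isoOfIsAffine n S).hom.app ⊤))
  have h2 : Function.Bijective (AffineSpace.isoOfIsAffine n S).hom.appTop.hom :=
    ConcreteCategory.bijective_of_isIso _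
  obtain ⟨y, rfl⟩ := h2.2 γ
  refine ⟨(Scheme.ΓSpecIso _).hom.hom y, ?_⟩
  rw [h1]
  rfl

lemma reindex_appTop_Φ {I₀ I : Type u} (ι : I₀ → I) (S : Scheme.{u})
    (p : MvPolynomial I₀ Γ(S, ⊤)) :
    (AffineSpace.reindex ι S).appTop.hom (Φ I₀ S p) = Φ I S (MvPolynomial.rename ι p) := by
  have key : ((AffineSpace.reindex ι S).appTop.hom.comp (Φ I₀ S)) =
      (Φ I S).comp (MvPolynomial.rename ι).toRingHom := by
    apply MvPolynomial.ringHom_ext
    · intro a
      have h := congrArg (fun φ => φ.appTop) (AffineSpace.reindex_over ι S)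
      simp only [Scheme.Hom.comp_appTop] at h
      have h' := congrArg (fun φ => φ.hom a) h
      simp only [Φ, RingHom.comp_apply, MvPolynomial.coe_eval₂Hom, MvPolynomial.eval₂_C,
        AlgHom.toRingHom_eq_coe, RingHom.coe_coe, MvPolynomial.rename_C]
      exact h'
    · intro i
      simp only [Φ, RingHom.comp_apply, MvPolynomial.coe_eval₂Hom, MvPolynomial.eval₂_X,
        AlgHom.toRingHom_eq_coe, RingHom.coe_coe, MvPolynomial.rename_X]
      exact AffineSpace.reindex_appTop_coord ι S i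
  exact congrArg (fun φ => φ p) key

/-- Affine source: openness for finite index sets implies openness for all index sets. -/
lemma isOpenMap_map_of_isAffine {W Y : Scheme.{u}} [IsAffine W] (g : W ⟶ Y) (hg : H g)
    (I : Type u) : IsOpenMap (AffineSpace.map I g) := by
  intro O hO
  rw [isOpen_iff_forall_mem_open]
  rintro _ ⟨x, hxO, rfl⟩
  obtain ⟨_, ⟨_, ⟨γ, rfl⟩, rfl⟩, hxγ, hγO⟩ :=
    (isBasis_basicOpen 𝔸(I; W)).exists_subset_of_mem_open hxO hO
  obtain ⟨p, rfl⟩ := Φ_surjective I W γ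
  obtain ⟨s, q, rfl⟩ := MvPolynomial.exists_finset_rename p
  have hpre : (AffineSpace.reindex (Subtype.val : s → I) W) ⁻¹ᵁ
      (𝔸(s; W).basicOpen (Φ s W q)) =
        𝔸(I; W).basicOpen (Φ I W (MvPolynomial.rename Subtype.val q)) := by
    rw [Scheme.preimage_basicOpen_top]
    congr 1
    exact reindex_appTop_Φ _ W q
  have sq := isPullback_reindex_map (Subtype.val : s → I) g
  have hopen : IsOpenMap (AffineSpace.map s g) :=
    isOpenMap_map_of_equiv ((Fintype.equivFin s).trans Equiv.ulift.symm) g (hg (Fintype.card s))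
  have himg := Scheme.image_preimage_eq_of_isPullback sq
    (𝔸(s; W).basicOpen (Φ s W q) : Set 𝔸(s; W))
  have hpre' : (AffineSpace.reindex (Subtype.val : s → I) W) ⁻¹'
      (𝔸(s; W).basicOpen (Φ s W q) : Set 𝔸(s; W)) =
        (𝔸(I; W).basicOpen (Φ I W (MvPolynomial.rename Subtype.val q)) : Set 𝔸(I; W)) :=
    congrArg (fun U : 𝔸(I; W).Opens => (U : Set 𝔸(I; W))) hpre
  refine ⟨(AffineSpace.map I g) '' ((AffineSpace.reindex (Subtype.val : s → I) W) ⁻¹'
      (𝔸(s; W).basicOpen (Φ s W q) : Set 𝔸(s; W))), Set.image_mono ?_, ?_, ⟨x, ?_, rfl⟩⟩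
  · rw [hpre']; exact hγO
  · rw [himg]
    exact (hopen _ (𝔸(s; W).basicOpen (Φ s W q)).isOpen).preimage (Scheme.Hom.continuous _)
  · rw [hpre']; exact hxγ

/-- General source. -/
lemma isOpenMap_map_of_H {X Y : Scheme.{u}} (f : X ⟶ Y) (hf : H f) (I : Type u) :
    IsOpenMap (AffineSpace.map I f) := by
  intro O hO
  rw [isOpen_iff_forall_mem_open]
  rintro _ ⟨x, hxO, rfl⟩
  obtain ⟨w, hw⟩ := X.affineCover.covers ((𝔸(I; X) ↘ X) x)
  obtain ⟨z, hz1, -⟩ := Scheme.exists_preimage_of_isPullback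
    (AffineSpace.isPullback_map (n := I) (X.affineCover.f (X.affineCover.idx ((𝔸(I; X) ↘ X) x))))
    x w hw.symm
  have hg : H (X.affineCover.f (X.affineCover.idx ((𝔸(I; X) ↘ X) x)) ≫ f) := by
    intro n
    rw [AffineSpace.map_comp]
    exact isOpenMap_comp _ _ (AffineSpace.map _ _).isOpenEmbedding.isOpenMap (hf n)
  have hmap := isOpenMap_map_of_isAffine _ hg I
  refine ⟨(AffineSpace.map I (X.affineCover.f (X.affineCover.idx ((𝔸(I; X) ↘ X) x)) ≫ f)) ''
    ((AffineSpace.map I (X.affineCover.f (X.affineCover.idx ((𝔸(I; X) ↘ X) x)))) ⁻¹' O), ?_,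
    hmap _ (hO.preimage (Scheme.Hom.continuous _)), ⟨z, ?_, ?_⟩⟩
  · rintro _ ⟨z', hz', rfl⟩
    refine ⟨AffineSpace.map I _ z', hz', ?_⟩
    rw [AffineSpace.map_comp, Scheme.Hom.comp_apply]
  · show AffineSpace.map I _ z ∈ O
    rw [hz1]; exact hxO
  · rw [AffineSpace.map_comp, Scheme.Hom.comp_apply, hz1]

lemma aux {X Y T V : Scheme.{u}} [IsAffine Y] [IsAffine V] (f : X ⟶ Y) (hf : H f)
    (g : T ⟶ Y) (v : V ⟶ T) : IsOpenMap (pullback.snd (pullback.fst g f) v) := by
  let h : V ⟶ 𝔸(Γ(V, ⊤); Y) := AffineSpace.homOfVector (v ≫ g) (fun b => b)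
  have : IsClosedImmersion h := by
    apply IsClosedImmersion.of_surjective_of_isAffine
    intro b
    exact ⟨AffineSpace.coord Y b, AffineSpace.homOfVector_appTop_coord _ _ b⟩
  have big : IsPullback (pullback.fst (pullback.fst g f) v ≫ pullback.snd g f)
      (pullback.snd (pullback.fst g f) v) f (v ≫ g) :=
    (IsPullback.of_hasPullback (pullback.fst g f) v).paste_horiz
      (IsPullback.of_hasPullback g f).flip
  have big' : IsPullback (pullback.fst (pullback.fst g f) v ≫ pullback.snd g f)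
      (pullback.snd (pullback.fst g f) v) f (h ≫ 𝔸(Γ(V, ⊤); Y) ↘ Y) := by
    rw [AffineSpace.homOfVector_over]; exact big
  exact isOpenMap_of_isPullback_of_isClosedImmersion
    (IsPullback.of_right' big' (AffineSpace.isPullback_map f).flip)
    (isOpenMap_map_of_H f hf _)

lemma universallyOpen_of_H_of_isAffine {X Y : Scheme.{u}} [IsAffine Y] (f : X ⟶ Y) (hf : H f) :
    UniversallyOpen f := by
  refine ⟨MorphismProperty.universally_mk' _ _ fun {T} g _ => ?_⟩
  rw [IsZariskiLocalAtTarget.iff_of_openCover (P := topologically @IsOpenMap) T.affineCover]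
  intro i
  dsimp only [Scheme.Cover.pullbackHom]
  exact aux f hf g (T.affineCover.f i)

theorem universallyOpen_of_H {X Y : Scheme.{u}} (f : X ⟶ Y) (hf : H f) : UniversallyOpen f := by
  rw [IsZariskiLocalAtTarget.iff_of_openCover (P := @UniversallyOpen) Y.affineCover]
  intro i
  dsimp only [Scheme.Cover.pullbackHom]
  exact universallyOpen_of_H_of_isAffine _ (H_snd f hf _)

theorem H_of_universallyOpen {X Y : Scheme.{u}} (f : X ⟶ Y) [hU : UniversallyOpen f] : H f :=
  fun _ => hU.universally_isOpenMap _ _ _ (AffineSpace.isPullback_map f)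

theorem H_of_pullback_snd {X Y : Scheme.{u}} (f : X ⟶ Y)
    (h : ∀ n : ℕ, 0 < n → IsOpenMap (pullback.snd f (𝔸(ULift.{u} (Fin n); Y) ↘ Y))) : H f := by
  have key : ∀ n : ℕ, 0 < n → IsOpenMap (AffineSpace.map (ULift.{u} (Fin n)) f) := by
    intro n hn
    have e := (AffineSpace.isPullback_map (n := ULift.{u} (Fin n)) f).flip.isoPullback_hom_snd
    rw [← e]
    exact isOpenMap_comp _ _ (isOpenMap_of_isIso _) (h n hn)
  intro n
  rcases Nat.eq_zero_or_pos n with rfl | hn
  · have hf : IsOpenMap f := isOpenMap_of_map f (key 1 Nat.one_pos)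
    have e : AffineSpace.map (ULift.{u} (Fin 0)) f = (𝔸(ULift.{u} (Fin 0); X) ↘ X) ≫ f ≫
        inv (𝔸(ULift.{u} (Fin 0); Y) ↘ Y) := by
      rw [← Category.assoc, IsIso.eq_comp_inv, AffineSpace.map_over]
    rw [e]
    exact isOpenMap_comp _ _ (isOpenMap_of_isIso _) (isOpenMap_comp _ _ hf (isOpenMap_of_isIso _))
  · exact key n hn

end Groth.Agent.Helper18.UnivOpenAff
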