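import Mathlib
import Groth.Agent.Lib.Helper18.UnivOpenAff
import Groth.Agent.S4450

/-!
# DVR criterion for universal openness (EGA IV 14.5.8-style)
-/

set_option autoImplicit false
universe u

open CategoryTheory Limits AlgebraicGeometry TopologicalSpace

namespace Groth.Agent.Helper18.UnivOpenDVR

open Groth.Agent.Helper18.UnivOpenAff

/-- For an open map `Spec B → Spec A` with `A` a domain, minimal primes of `B` lie over `0`. -/
lemma comap_eq_bot_of_isOpenMap {A B : Type*} [CommRing A] [IsDomain A] [CommRing B]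
    (φ : A →+* B) (hopen : IsOpenMap (PrimeSpectrum.comap φ)) (q : PrimeSpectrum B)
    (hq : q.asIdeal ∈ minimalPrimes B) : (PrimeSpectrum.comap φ q).asIdeal = ⊥ := by
  rw [eq_bot_iff]
  intro a ha
  rw [Ideal.mem_bot]
  by_contra ha0
  have haq : φ a ∈ q.asIdeal := ha
  have hmem : φ a ∈ ⋃ p ∈ (⊥ : Ideal B).minimalPrimes, (p : Set B) := Set.mem_biUnion hq haq
  rw [Ideal.iUnion_minimalPrimes] at hmem
  obtain ⟨y, hy, hxy⟩ := hmem
  rw [Ideal.radical_eq_sInf, Ideal.mem_sInf] at hy
  push_neg at hy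
  obtain ⟨J, ⟨-, hJ⟩, hyJ⟩ := hy
  have hO : IsOpen (PrimeSpectrum.comap φ '' (PrimeSpectrum.basicOpen y : Set (PrimeSpectrum B))) :=
    hopen _ (PrimeSpectrum.basicOpen y).isOpen
  have hmem0 : PrimeSpectrum.comap φ ⟨J, hJ⟩ ∈
      PrimeSpectrum.comap φ '' (PrimeSpectrum.basicOpen y : Set (PrimeSpectrum B)) :=
    ⟨⟨J, hJ⟩, hyJ, rfl⟩
  have hspec : (⟨⊥, Ideal.isPrime_bot⟩ : PrimeSpectrum A) ⤳ PrimeSpectrum.comap φ ⟨J, hJ⟩ :=
    (PrimeSpectrum.le_iff_specializes _ _).mp bot_le
  obtain ⟨p, hp, hpe⟩ := hO.stableUnderGeneralization hspec hmem0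
  have hyp : y ∉ p.asIdeal := hp
  have h1 : φ a * y ∈ p.asIdeal :=
    (p.isPrime.radical_le_iff.mpr bot_le) hxy
  have h2 : φ a ∈ p.asIdeal := (p.isPrime.mem_or_mem h1).resolve_right hyp
  have h3 : a ∈ (PrimeSpectrum.comap φ p).asIdeal := h2
  rw [hpe] at h3
  exact ha0 h3

theorem dense_of_universallyOpen {X Y : Scheme.{u}} (f : X ⟶ Y) [UniversallyOpen f]
    (A : Type u) [CommRing A] [IsDomain A] (g : Spec (CommRingCat.of A) ⟶ Y)
    (Z : Set ↥(pullback f g)) (hZ : Z ∈ irreducibleComponents ↥(pullback f g)) :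
    Dense ((pullback.snd f g).base '' Z) := by
  have hZirr : IsIrreducible Z := hZ.1
  have hZcl : IsClosed Z := isClosed_of_mem_irreducibleComponents Z hZ
  have hw : IsGenericPoint hZirr.genericPoint Z := hZirr.isGenericPoint_genericPoint hZcl
  have hmax : ∀ w' : ↥(pullback f g), w' ⤳ hZirr.genericPoint → w' = hZirr.genericPoint := by
    intro w' hw'
    have h1 : Z ≤ closure {w'} := by
      rw [← hw.def]; exact hw'.closure_subset
    have h2 : closure {w'} ≤ Z := hZ.2 (isIrreducible_singleton.closure) h1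
    have h3 : w' ∈ Z := h2 (subset_closure rfl)
    have h4 : hZirr.genericPoint ⤳ w' := by
      rw [specializes_iff_mem_closure, hw.def]; exact h3
    exact (hw'.antisymm h4).eq
  obtain ⟨R, j, hj, ⟨q, hq⟩, -⟩ := Scheme.exists_affine_mem_range_and_range_subset
    (X := pullback f g) (x := hZirr.genericPoint) (U := ⊤) trivial
  haveI := hj
  obtain ⟨φ, hφ⟩ := Spec.map_surjective (j ≫ pullback.snd f g)
  have hopen : IsOpenMap (PrimeSpectrum.comap φ.hom) := by
    have : IsOpenMap (Spec.map φ) := by rw [hφ]; exact (j ≫ pullback.snd f g).isOpenMap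
    exact this
  have hqmin : (q : PrimeSpectrum R).asIdeal ∈ minimalPrimes R := by
    rw [minimalPrimes_eq_minimals]
    refine ⟨(q : PrimeSpectrum R).isPrime, fun p hp hpq => ?_⟩
    have h1 : (⟨p, hp⟩ : PrimeSpectrum R) ⤳ q := (PrimeSpectrum.le_iff_specializes _ _).mp hpq
    have h2 : j ⟨p, hp⟩ ⤳ hZirr.genericPoint := hq ▸ h1.map j.continuous
    have h3 := hmax _ h2
    have h4 : (⟨p, hp⟩ : PrimeSpectrum R) = q :=
      j.isOpenEmbedding.injective (h3.trans hq.symm)
    rw [← h4]
  have key := comap_eq_bot_of_isOpenMap φ.hom hopen q hqmin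
  have hη : closure ({(pullback.snd f g) hZirr.genericPoint} :
      Set (Spec (CommRingCat.of A))) = Set.univ := by
    have e : (pullback.snd f g) hZirr.genericPoint =
        (PrimeSpectrum.comap φ.hom q : PrimeSpectrum A) := by
      rw [← hq, ← Scheme.Hom.comp_apply, ← hφ]; rfl
    rw [e]
    have hc : closure ({PrimeSpectrum.comap φ.hom (q : PrimeSpectrum R)} :
        Set (PrimeSpectrum A)) = Set.univ := by
      rw [PrimeSpectrum.closure_singleton, key, PrimeSpectrum.zeroLocus_bot]
    exact hc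
  intro x
  have hsub : closure {(pullback.snd f g) hZirr.genericPoint} ⊆
      closure ((pullback.snd f g).base '' Z) := closure_mono (by
    rintro _ rfl; exact ⟨hZirr.genericPoint, hw.mem, rfl⟩)
  exact hsub (hη ▸ Set.mem_univ x)

theorem universallyOpen_of_dvr {X Y : Scheme.{u}} [IsLocallyNoetherian Y] (f : X ⟶ Y)
    [LocallyOfFiniteType f]
    (h : ∀ (A : Type u) [CommRing A] [IsDomain A] [IsDiscreteValuationRing A]
      (g : Spec (CommRingCat.of A) ⟶ Y),
        ∀ Z ∈ irreducibleComponents (↥(pullback f g) : Type u),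
          Dense ((pullback.snd f g).base '' Z)) :
    UniversallyOpen f := by
  apply universallyOpen_of_H
  intro n
  have sq := AffineSpace.isPullback_map (n := ULift.{u} (Fin n)) f
  haveI : IsLocallyNoetherian (𝔸(ULift.{u} (Fin n); Y) : Scheme.{u}) :=
    LocallyOfFiniteType.isLocallyNoetherian (𝔸(ULift.{u} (Fin n); Y) ↘ Y)
  haveI : LocallyOfFiniteType (AffineSpace.map (ULift.{u} (Fin n)) f) :=
    MorphismProperty.of_isPullback (P := @LocallyOfFiniteType) sq.flip inferInstance
  apply isOpenMap_of_generalizingMap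
  intro x' y'' hy
  by_cases hne : (AffineSpace.map (ULift.{u} (Fin n)) f) x' = y''
  · exact ⟨x', specializes_rfl, hne⟩
  obtain ⟨V, hh, hV, hcl, hcomp⟩ := Groth.Agent.S4450.result
    (𝟙 (𝔸(ULift.{u} (Fin n); Y) : Scheme.{u})) y''
    ((AffineSpace.map (ULift.{u} (Fin n)) f) x') hy hne
  haveI := hV
  let g : Spec (CommRingCat.of V) ⟶ Y := hh ≫ (𝔸(ULift.{u} (Fin n); Y) ↘ Y)
  have hdense := h V g
  obtain ⟨l, hl⟩ : ∃ l : pullback f g ⟶ 𝔸(ULift.{u} (Fin n); X),
      IsPullback l (pullback.snd f g) (AffineSpace.map (ULift.{u} (Fin n)) f) hh :=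
    ⟨_, IsPullback.of_right' (IsPullback.of_hasPullback f g) sq.flip⟩
  obtain ⟨o, ho1, ho2⟩ := Scheme.exists_preimage_of_isPullback hl x'
    (IsLocalRing.closedPoint V) hcl.symm
  have hWmem : irreducibleComponent o ∈ irreducibleComponents (↥(pullback f g)) :=
    irreducibleComponent_mem_irreducibleComponents o
  have hWirr : IsIrreducible (irreducibleComponent o) := isIrreducible_irreducibleComponent
  have hWcl : IsClosed (irreducibleComponent o) := isClosed_irreducibleComponent
  have hw : IsGenericPoint hWirr.genericPoint (irreducibleComponent o) :=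
    hWirr.isGenericPoint_genericPoint hWcl
  have hwo : hWirr.genericPoint ⤳ o := by
    rw [specializes_iff_mem_closure, hw.def]
    exact mem_irreducibleComponent
  have hd : Dense ((pullback.snd f g).base '' (irreducibleComponent o)) :=
    hdense _ hWmem
  have hsw : closure ({(pullback.snd f g) hWirr.genericPoint} :
      Set (Spec (CommRingCat.of V))) = Set.univ := by
    apply Set.eq_univ_of_univ_subset
    rw [← hd.closure_eq]
    apply closure_minimal _ isClosed_closure
    rintro _ ⟨a, ha, rfl⟩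
    have hwa : hWirr.genericPoint ⤳ a := by
      rw [specializes_iff_mem_closure, hw.def]; exact ha
    exact (hwa.map (pullback.snd f g).continuous).mem_closure
  -- the generic point of `Spec V`
  let pt : Spec (CommRingCat.of ((𝔸(ULift.{u} (Fin n); Y) : Scheme.{u}).residueField y'')) :=
    (⟨⊥, Ideal.isPrime_bot⟩ : PrimeSpectrum _)
  let ηP : PrimeSpectrum V := ⟨⊥, Ideal.isPrime_bot⟩
  have hηcl : closure ({ηP} : Set (PrimeSpectrum V)) = Set.univ := by
    rw [PrimeSpectrum.closure_singleton, PrimeSpectrum.zeroLocus_bot]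
  have hpt : (Spec.map (CommRingCat.ofHom V.subtype)) pt = ηP := by
    apply PrimeSpectrum.ext
    change Ideal.comap V.subtype (⊥ : Ideal _) = ⊥
    exact Ideal.comap_bot_of_injective _ (fun a b hab => Subtype.ext hab)
  have hηy : hh ηP = y'' := by
    have e1 : (Spec.map (CommRingCat.ofHom V.subtype) ≫ hh) pt = hh ηP := by
      rw [Scheme.Hom.comp_apply, hpt]
    rw [← e1, hcomp, Scheme.Hom.comp_apply, Scheme.fromSpecResidueField_apply]
    rfl
  have hsz : (pullback.snd f g) hWirr.genericPoint = ηP := by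
    have h1 : IsGenericPoint ((pullback.snd f g) hWirr.genericPoint)
      (Set.univ : Set (Spec (CommRingCat.of V))) := hsw
    have h2 : IsGenericPoint (α := Spec (CommRingCat.of V)) ηP
      (Set.univ : Set (Spec (CommRingCat.of V))) := hηcl
    exact h1.eq h2
  refine ⟨l hWirr.genericPoint, ho1 ▸ hwo.map l.continuous, ?_⟩
  rw [comm_apply hl.w hWirr.genericPoint, hsz, hηy]

theorem main {X Y : Scheme.{u}} [IsLocallyNoetherian Y] (f : X ⟶ Y)
    [LocallyOfFiniteType f] :
    UniversallyOpen f ↔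
      ∀ (A : Type u) [CommRing A] [IsDomain A] [IsDiscreteValuationRing A]
        (g : Spec (CommRingCat.of A) ⟶ Y),
        ∀ Z ∈ irreducibleComponents (↥(pullback f g) : Type u),
          Dense ((pullback.snd f g).base '' Z) := by
  constructor
  · intro hU A _ _ _ g Z hZ
    exact dense_of_universallyOpen f A g Z hZ
  · intro h
    exact universallyOpen_of_dvr f h

end Groth.Agent.Helper18.UnivOpenDVR
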