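import Mathlib
import Groth.Agent.Lib.Helper18.UnivOpenAff

/-!
# Universal openness of a finite morphism via the generic linear form

For `B = ∑ A b_i`, `Spec B → Spec A` is universally open iff the image of `D(∑ x_i b_i)` in
`Spec A[x_1..x_d]` is open.
-/

set_option autoImplicit false
universe u

open CategoryTheory Limits AlgebraicGeometry

namespace Groth.Agent.Helper18.UnivOpenFin

open Groth.Agent.Helper18.UnivOpenAff

variable {A B : Type u} [CommRing A] [CommRing B] [Algebra A B]

lemma exists_decomp {d : ℕ} (b : Fin d → B) (hb : Submodule.span A (Set.range b) = ⊤)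
    {σ : Type*} (g : MvPolynomial σ B) :
    ∃ gi : Fin d → MvPolynomial σ A,
      g = ∑ i, MvPolynomial.map (algebraMap A B) (gi i) * MvPolynomial.C (b i) := by
  refine MvPolynomial.induction_on' g ?_ ?_
  · intro u c
    have hc : c ∈ Submodule.span A (Set.range b) := by rw [hb]; trivial
    obtain ⟨a, ha⟩ := (Submodule.mem_span_range_iff_exists_fun A).mp hc
    refine ⟨fun i => MvPolynomial.monomial u (a i), ?_⟩
    have h1 : ∀ i, MvPolynomial.map (algebraMap A B) (MvPolynomial.monomial u (a i)) *
        MvPolynomial.C (b i) = MvPolynomial.monomial u (a i • b i) := by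
      intro i
      rw [MvPolynomial.map_monomial, mul_comm, MvPolynomial.C_mul_monomial, Algebra.smul_def,
        mul_comm]
    simp only [h1]
    rw [← map_sum, ha]
  · rintro p q ⟨gp, hgp⟩ ⟨gq, hgq⟩
    refine ⟨fun i => gp i + gq i, ?_⟩
    simp only [map_add, add_mul, Finset.sum_add_distrib]
    rw [← hgp, ← hgq]

lemma isOpenMap_comap_map_of_equiv {σ τ : Type*} (e : σ ≃ τ)
    (h : IsOpenMap (PrimeSpectrum.comap
      (MvPolynomial.map (σ := σ) (algebraMap A B)))) :
    IsOpenMap (PrimeSpectrum.comap (MvPolynomial.map (σ := τ) (algebraMap A B))) := by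
  let rA : MvPolynomial τ A →+* MvPolynomial σ A :=
    (MvPolynomial.rename e.symm : MvPolynomial τ A →ₐ[A] MvPolynomial σ A).toRingHom
  let rB : MvPolynomial σ B →+* MvPolynomial τ B :=
    (MvPolynomial.rename e : MvPolynomial σ B →ₐ[B] MvPolynomial τ B).toRingHom
  have hrA : Function.Bijective rA :=
    ⟨MvPolynomial.rename_injective _ e.symm.injective,
      MvPolynomial.rename_surjective _ e.symm.surjective⟩
  have hrB : Function.Bijective rB :=
    ⟨MvPolynomial.rename_injective _ e.injective, MvPolynomial.rename_surjective _ e.surjective⟩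
  have key : MvPolynomial.map (σ := τ) (algebraMap A B) =
      rB.comp ((MvPolynomial.map (σ := σ) (algebraMap A B)).comp rA) := by
    apply MvPolynomial.ringHom_ext
    · intro a
      simp [rA, rB]
    · intro i
      simp [rA, rB]
  rw [key]
  have h1 : PrimeSpectrum.comap (rB.comp ((MvPolynomial.map (σ := σ) (algebraMap A B)).comp rA))
      = PrimeSpectrum.comap rA ∘ (PrimeSpectrum.comap (MvPolynomial.map (σ := σ) (algebraMap A B))
        ∘ PrimeSpectrum.comap rB) := rfl
  rw [h1]
  exact (PrimeSpectrum.isHomeomorph_comap_of_bijective hrA).isOpenMap.comp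
    (h.comp (PrimeSpectrum.isHomeomorph_comap_of_bijective hrB).isOpenMap)

attribute [local instance] MvPolynomial.algebraMvPolynomial in
theorem isOpenMap_comap_map_of_isOpen_image {d : ℕ} (b : Fin d → B)
    (hb : Submodule.span A (Set.range b) = ⊤)
    (hopen : IsOpen (PrimeSpectrum.comap (MvPolynomial.map (σ := Fin d) (algebraMap A B)) ''
        (PrimeSpectrum.basicOpen (∑ i : Fin d, MvPolynomial.X i * MvPolynomial.C (b i)) :
          Set (PrimeSpectrum (MvPolynomial (Fin d) B)))))
    (σ : Type u) :
    IsOpenMap (PrimeSpectrum.comap (MvPolynomial.map (σ := σ) (algebraMap A B))) := by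
  classical
  rw [PrimeSpectrum.isTopologicalBasis_basic_opens.isOpenMap_iff]
  rintro _ ⟨g, rfl⟩
  obtain ⟨gi, hgi⟩ := exists_decomp b hb g
  let ψ : MvPolynomial (Fin d) A →ₐ[A] MvPolynomial σ A := MvPolynomial.aeval gi
  let ψB : MvPolynomial (Fin d) B →ₐ[B] MvPolynomial σ B :=
    MvPolynomial.aeval (fun i => MvPolynomial.map (algebraMap A B) (gi i))
  have hψh : ψB (∑ i : Fin d, MvPolynomial.X i * MvPolynomial.C (b i)) = g := by
    rw [hgi]
    simp [ψB, MvPolynomial.algebraMap_eq]
  have hsq : (ψB : MvPolynomial (Fin d) B →+* MvPolynomial σ B).comp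
        (MvPolynomial.map (algebraMap A B)) =
      (MvPolynomial.map (algebraMap A B)).comp
        (ψ : MvPolynomial (Fin d) A →+* MvPolynomial σ A) := by
    apply MvPolynomial.ringHom_ext
    · intro a
      simp [ψ, ψB, MvPolynomial.algebraMap_eq]
    · intro i
      simp [ψ, ψB]
  have hpo : IsPushout (CommRingCat.ofHom (ψ : MvPolynomial (Fin d) A →+* MvPolynomial σ A))
      (CommRingCat.ofHom (MvPolynomial.map (σ := Fin d) (algebraMap A B)))
      (CommRingCat.ofHom (MvPolynomial.map (σ := σ) (algebraMap A B)))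
      (CommRingCat.ofHom (ψB : MvPolynomial (Fin d) B →+* MvPolynomial σ B)) := by
    have t := CommRingCat.isPushout_of_isPushout A (MvPolynomial (Fin d) A) B
      (MvPolynomial (Fin d) B)
    have s := CommRingCat.isPushout_of_isPushout A (MvPolynomial σ A) B (MvPolynomial σ B)
    have e1 : CommRingCat.ofHom (algebraMap A (MvPolynomial (Fin d) A)) ≫
        CommRingCat.ofHom (ψ : MvPolynomial (Fin d) A →+* MvPolynomial σ A) =
        CommRingCat.ofHom (algebraMap A (MvPolynomial σ A)) := by
      rw [← CommRingCat.ofHom_comp]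
      congr 1
      exact ψ.comp_algebraMap
    have e2 : CommRingCat.ofHom (algebraMap B (MvPolynomial (Fin d) B)) ≫
        CommRingCat.ofHom (ψB : MvPolynomial (Fin d) B →+* MvPolynomial σ B) =
        CommRingCat.ofHom (algebraMap B (MvPolynomial σ B)) := by
      rw [← CommRingCat.ofHom_comp]
      congr 1
      exact ψB.comp_algebraMap
    rw [← e1, ← e2] at s
    refine IsPushout.of_left s ?_ t
    rw [← CommRingCat.ofHom_comp, ← CommRingCat.ofHom_comp]
    congr 1
    exact hsq.symm
  have hpb := (isPullback_SpecMap_of_isPushout _ _ _ _ hpo).flip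
  have himg := Scheme.image_preimage_eq_of_isPullback hpb
    (PrimeSpectrum.basicOpen (∑ i : Fin d, MvPolynomial.X i * MvPolynomial.C (b i)) :
          Set (PrimeSpectrum (MvPolynomial (Fin d) B)))
  have himg' : PrimeSpectrum.comap (MvPolynomial.map (σ := σ) (algebraMap A B)) ''
      (PrimeSpectrum.comap (ψB : MvPolynomial (Fin d) B →+* MvPolynomial σ B) ⁻¹'
        (PrimeSpectrum.basicOpen (∑ i : Fin d, MvPolynomial.X i * MvPolynomial.C (b i)) :
          Set (PrimeSpectrum (MvPolynomial (Fin d) B)))) =
      PrimeSpectrum.comap (ψ : MvPolynomial (Fin d) A →+* MvPolynomial σ A) ⁻¹'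
        (PrimeSpectrum.comap (MvPolynomial.map (σ := Fin d) (algebraMap A B)) ''
          (PrimeSpectrum.basicOpen (∑ i : Fin d, MvPolynomial.X i * MvPolynomial.C (b i)) :
            Set (PrimeSpectrum (MvPolynomial (Fin d) B)))) := himg
  have hpre : (PrimeSpectrum.basicOpen g : Set (PrimeSpectrum (MvPolynomial σ B))) =
      PrimeSpectrum.comap (ψB : MvPolynomial (Fin d) B →+* MvPolynomial σ B) ⁻¹'
        (PrimeSpectrum.basicOpen (∑ i : Fin d, MvPolynomial.X i * MvPolynomial.C (b i)) :
          Set (PrimeSpectrum (MvPolynomial (Fin d) B))) := by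
    ext P
    simp only [Set.mem_preimage, SetLike.mem_coe, PrimeSpectrum.mem_basicOpen,
      PrimeSpectrum.comap_asIdeal, Ideal.mem_comap]
    rw [← hψh]
    rfl
  change IsOpen (PrimeSpectrum.comap (MvPolynomial.map (σ := σ) (algebraMap A B)) ''
    (PrimeSpectrum.basicOpen g : Set (PrimeSpectrum (MvPolynomial σ B))))
  rw [hpre, himg']
  exact hopen.preimage (PrimeSpectrum.continuous_comap _)

/-- Scheme-level / ring-level dictionary for `AffineSpace.map` over affine bases. -/
lemma isOpenMap_affineSpace_map_iff (n : Type u) :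
    IsOpenMap (AffineSpace.map n (Spec.map (CommRingCat.ofHom (algebraMap A B)))) ↔
      IsOpenMap (PrimeSpectrum.comap (MvPolynomial.map (σ := n) (algebraMap A B))) := by
  have e := AffineSpace.map_SpecMap (n := n) (CommRingCat.ofHom (algebraMap A B))
  constructor
  · intro h
    have h2 : IsOpenMap (Spec.map (CommRingCat.ofHom
        (MvPolynomial.map (σ := n) (CommRingCat.ofHom (algebraMap A B)).hom))) := by
      have e' : Spec.map (CommRingCat.ofHom
          (MvPolynomial.map (σ := n) (CommRingCat.ofHom (algebraMap A B)).hom)) =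
          (AffineSpace.SpecIso n (CommRingCat.of B)).inv ≫
            AffineSpace.map n (Spec.map (CommRingCat.ofHom (algebraMap A B))) ≫
              (AffineSpace.SpecIso n (CommRingCat.of A)).hom := by
        rw [e]
        simp
      rw [e']
      exact isOpenMap_comp _ _ (isOpenMap_of_isIso _)
        (isOpenMap_comp _ _ h (isOpenMap_of_isIso _))
    exact h2
  · intro h
    rw [e]
    have h2 : IsOpenMap (Spec.map (CommRingCat.ofHom
        (MvPolynomial.map (σ := n) (CommRingCat.ofHom (algebraMap A B)).hom))) := h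
    exact isOpenMap_comp _ _ (isOpenMap_of_isIso _)
      (isOpenMap_comp _ _ h2 (isOpenMap_of_isIso _))

theorem main {d : ℕ} (b : Fin d → B) (hb : Submodule.span A (Set.range b) = ⊤) :
    UniversallyOpen (Spec.map (CommRingCat.ofHom (algebraMap A B))) ↔
      IsOpen (PrimeSpectrum.comap (MvPolynomial.map (σ := Fin d) (algebraMap A B)) ''
        (PrimeSpectrum.basicOpen (∑ i : Fin d, MvPolynomial.X i * MvPolynomial.C (b i)) :
          Set (PrimeSpectrum (MvPolynomial (Fin d) B)))) := by
  constructor
  · intro hU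
    have h1 := H_of_universallyOpen (Spec.map (CommRingCat.ofHom (algebraMap A B))) d
    rw [isOpenMap_affineSpace_map_iff] at h1
    have h2 := isOpenMap_comap_map_of_equiv (A := A) (B := B) (Equiv.ulift.{u} (α := Fin d)) h1
    exact h2 _ (PrimeSpectrum.basicOpen _).isOpen
  · intro hopen
    apply universallyOpen_of_H
    intro n
    rw [isOpenMap_affineSpace_map_iff]
    exact isOpenMap_comap_map_of_isOpen_image b hb hopen _

end Groth.Agent.Helper18.UnivOpenFin
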