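import Mathlib
import Groth.Agent.Lib.Helper18.UnivOpenAff

/-!
# A dominance criterion for universal openness (EGA IV 14.4-style)
-/

set_option autoImplicit false
universe u

open CategoryTheory Limits AlgebraicGeometry TopologicalSpace

namespace Groth.Agent.Helper18.UnivOpenIrr

open Groth.Agent.Helper18.UnivOpenAff

theorem main {X Y : Scheme.{u}} (f : X ⟶ Y) [LocallyOfFinitePresentation f]
    (h : ∀ (Y' : Scheme.{u}) (g : Y' ⟶ Y) [IrreducibleSpace Y'] [LocallyOfFiniteType g]
      [QuasiCompact g],
      ∀ Z ∈ irreducibleComponents (↥(pullback f g) : Type u),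
        Dense ((pullback.snd f g).base '' Z)) :
    UniversallyOpen f := by
  apply universallyOpen_of_H
  intro n
  have sq := AffineSpace.isPullback_map (n := ULift.{u} (Fin n)) f
  haveI : LocallyOfFinitePresentation (AffineSpace.map (ULift.{u} (Fin n)) f) :=
    MorphismProperty.of_isPullback (P := @LocallyOfFinitePresentation) sq.flip inferInstance
  apply isOpenMap_of_generalizingMap
  intro x' y'' hy
  let C : Closeds (𝔸(ULift.{u} (Fin n); Y) : Scheme.{u}) := ⟨closure {y''}, isClosed_closure⟩
  let J := Scheme.IdealSheafData.vanishingIdeal C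
  let Z : Scheme.{u} := J.subscheme
  let ι : Z ⟶ 𝔸(ULift.{u} (Fin n); Y) := J.subschemeι
  have hrange : Set.range ι = closure {y''} := by
    rw [Scheme.IdealSheafData.range_subschemeι, Scheme.IdealSheafData.coe_support_vanishingIdeal]
    rfl
  obtain ⟨z₀, hz₀⟩ : ∃ z₀ : Z, ι z₀ = y'' := by
    have : y'' ∈ Set.range ι := by rw [hrange]; exact subset_closure rfl
    exact this
  have hemb : Topology.IsEmbedding ι := ι.isEmbedding
  have hcl : closure ({z₀} : Set Z) = Set.univ := by
    rw [hemb.isInducing.closure_eq_preimage_closure_image, Set.image_singleton, hz₀, ← hrange]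
    exact Set.preimage_range _
  haveI : IrreducibleSpace Z := by
    rw [irreducibleSpace_def]
    have h0 : IsIrreducible (closure ({z₀} : Set Z)) := isIrreducible_singleton.closure
    rw [hcl] at h0
    exact h0
  let g : Z ⟶ Y := ι ≫ (𝔸(ULift.{u} (Fin n); Y) ↘ Y)
  haveI : LocallyOfFiniteType g :=
    inferInstanceAs (LocallyOfFiniteType (ι ≫ (𝔸(ULift.{u} (Fin n); Y) ↘ Y)))
  haveI : QuasiCompact g :=
    inferInstanceAs (QuasiCompact (ι ≫ (𝔸(ULift.{u} (Fin n); Y) ↘ Y)))
  have hdense := h Z g
  obtain ⟨l, hl⟩ : ∃ l : pullback f g ⟶ 𝔸(ULift.{u} (Fin n); X),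
      IsPullback l (pullback.snd f g) (AffineSpace.map (ULift.{u} (Fin n)) f) ι :=
    ⟨_, IsPullback.of_right' (IsPullback.of_hasPullback f g) sq.flip⟩
  have hx'mem : (AffineSpace.map (ULift.{u} (Fin n)) f) x' ∈ Set.range ι := by
    rw [hrange]; exact hy.mem_closure
  obtain ⟨z, hz⟩ := hx'mem
  obtain ⟨o, ho1, ho2⟩ := Scheme.exists_preimage_of_isPullback hl x' z hz.symm
  have hWmem : irreducibleComponent o ∈ irreducibleComponents (↥(pullback f g)) :=
    irreducibleComponent_mem_irreducibleComponents o
  have hWirr : IsIrreducible (irreducibleComponent o) := isIrreducible_irreducibleComponent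
  have hWcl : IsClosed (irreducibleComponent o) := isClosed_irreducibleComponent
  have hw : IsGenericPoint hWirr.genericPoint (irreducibleComponent o) :=
    hWirr.isGenericPoint_genericPoint hWcl
  have hwo : hWirr.genericPoint ⤳ o := by
    rw [specializes_iff_mem_closure, hw.def]
    exact mem_irreducibleComponent
  have hd : Dense ((pullback.snd f g).base '' (irreducibleComponent o)) :=
    hdense _ hWmem
  have hsw : closure ({(pullback.snd f g) hWirr.genericPoint} : Set Z) = Set.univ := by
    apply Set.eq_univ_of_univ_subset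
    rw [← hd.closure_eq]
    apply closure_minimal _ isClosed_closure
    rintro _ ⟨a, ha, rfl⟩
    have hwa : hWirr.genericPoint ⤳ a := by
      rw [specializes_iff_mem_closure, hw.def]; exact ha
    exact (hwa.map (pullback.snd f g).continuous).mem_closure
  have hsz : (pullback.snd f g) hWirr.genericPoint = z₀ := by
    have h1 : IsGenericPoint ((pullback.snd f g) hWirr.genericPoint) (Set.univ : Set Z) := hsw
    have h2 : IsGenericPoint z₀ (Set.univ : Set Z) := hcl
    exact h1.eq h2
  refine ⟨l hWirr.genericPoint, ho1 ▸ hwo.map l.continuous, ?_⟩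
  rw [comm_apply hl.w hWirr.genericPoint, hsz, hz₀]

end Groth.Agent.Helper18.UnivOpenIrr
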