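import Mathlib

set_option autoImplicit false

namespace Groth.Agent.Helper18.UnramField

open AlgebraicGeometry CategoryTheory Limits

universe u

variable (k : Type u) [Field k] {X : Scheme.{u}} (f : X ⟶ Spec (CommRingCat.of k))

/-- The structure map `k → Γ(X, U)` of a `k`-scheme. -/
noncomputable def phi (U : X.Opens) : k →+* Γ(X, U) :=
  ((Scheme.ΓSpecIso (CommRingCat.of k)).inv ≫ f.appLE ⊤ U le_top).hom

lemma SpecMap_phi (U : X.Opens) (hU : IsAffineOpen U) :
    hU.fromSpec ≫ f = Spec.map (CommRingCat.ofHom (phi k f U)) := by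
  have h := IsAffineOpen.SpecMap_appLE_fromSpec f
    (isAffineOpen_top (Spec (CommRingCat.of k))) hU le_top
  rw [← h, IsAffineOpen.fromSpec_top, Scheme.isoSpec_Spec_inv, ← Spec.map_comp]
  rfl

lemma phi_props (hunr : FormallyUnramified f) (hlft : LocallyOfFiniteType f) (U : X.Opens)
    (hU : IsAffineOpen U) :
    letI := (phi k f U).toAlgebra
    Algebra.FormallyUnramified k Γ(X, U) ∧ Algebra.FiniteType k Γ(X, U) := by
  letI := (phi k f U).toAlgebra
  have h1 : (f.appLE ⊤ U le_top).hom.FormallyUnramified :=
    FormallyUnramified.formallyUnramified_appLE f (isAffineOpen_top _) hU le_top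
  have h2 : (f.appLE ⊤ U le_top).hom.FiniteType :=
    HasRingHomProperty.appLE @LocallyOfFiniteType f hlft ⟨⊤, isAffineOpen_top _⟩ ⟨U, hU⟩ le_top
  have hiso : Function.Surjective (Scheme.ΓSpecIso (CommRingCat.of k)).inv.hom :=
    (Scheme.ΓSpecIso (CommRingCat.of k)).commRingCatIsoToRingEquiv.symm.surjective
  constructor
  · rw [← RingHom.formallyUnramified_algebraMap]
    exact (RingHom.FormallyUnramified.of_surjective hiso).comp h1
  · rw [← RingHom.finiteType_algebraMap]
    exact h2.comp (RingHom.FiniteType.of_surjective _ hiso)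

theorem main :
    (FormallyUnramified f ∧ LocallyOfFiniteType f) ↔
      ∃ (ι : Type u) (K : ι → Type u) (_ : ∀ i, Field (K i)) (_ : ∀ i, Algebra k (K i)),
        (∀ i, FiniteDimensional k (K i) ∧ Algebra.IsSeparable k (K i)) ∧
        ∃ e : X ≅ ∐ (fun i => Spec (CommRingCat.of (K i))),
          e.hom ≫ Sigma.desc (fun i => Spec.map (CommRingCat.ofHom (algebraMap k (K i)))) = f := by
  constructor
  · rintro ⟨hunr, hlft⟩
    have hfin : ∀ (U : X.Opens) (hU : IsAffineOpen U),
        letI := (phi k f U).toAlgebra
        Module.Finite k Γ(X, U) := by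
      intro U hU
      letI := (phi k f U).toAlgebra
      obtain ⟨h1, h2⟩ := phi_props k f hunr hlft U hU
      haveI := h1; haveI := h2
      exact Algebra.FormallyUnramified.finite_of_free k Γ(X, U)
    haveI : IsLocallyArtinian X := ⟨fun U => by
      letI := (phi k f U.1).toAlgebra
      haveI := hfin U.1 U.2
      exact IsArtinianRing.of_finite k Γ(X, U.1)⟩
    haveI : DiscreteTopology X := inferInstance
    let U : X → X.Opens := fun x => ⟨{x}, isOpen_discrete _⟩
    have hUaff : ∀ x, IsAffineOpen (U x) := by
      intro x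
      haveI : Subsingleton ↥(U x).toScheme := ⟨fun a b => Subtype.ext (a.2.trans b.2.symm)⟩
      show IsAffine (U x).toScheme
      infer_instance
    have hrange : ∀ x, Set.range (hUaff x).fromSpec = {x} := fun x => (hUaff x).range_fromSpec
    have hfield : ∀ x, IsField Γ(X, U x) := by
      intro x
      letI := (phi k f (U x)).toAlgebra
      obtain ⟨h1, h2⟩ := phi_props k f hunr hlft (U x) (hUaff x)
      haveI := h1; haveI := h2
      haveI := hfin (U x) (hUaff x)
      haveI : IsArtinianRing Γ(X, U x) := IsArtinianRing.of_finite k _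
      haveI : IsReduced Γ(X, U x) := Algebra.FormallyUnramified.isReduced_of_field k _
      have hinj : Function.Injective (hUaff x).fromSpec :=
        (hUaff x).fromSpec.isOpenEmbedding.injective
      have hsub : ∀ p q : Spec Γ(X, U x), p = q := by
        intro p q
        apply hinj
        have hp : (hUaff x).fromSpec p ∈ ({x} : Set X) := by rw [← hrange x]; exact ⟨p, rfl⟩
        have hq : (hUaff x).fromSpec q ∈ ({x} : Set X) := by rw [← hrange x]; exact ⟨q, rfl⟩
        exact hp.trans hq.symm
      obtain ⟨p₀, -⟩ : x ∈ Set.range (hUaff x).fromSpec := by rw [hrange x]; rfl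
      haveI : Nontrivial Γ(X, U x) := (p₀ : PrimeSpectrum Γ(X, U x)).nontrivial
      haveI : Subsingleton (MaximalSpectrum Γ(X, U x)) := ⟨fun m m' => by
        have := hsub (⟨m.asIdeal, m.isMaximal.isPrime⟩ : PrimeSpectrum Γ(X, U x))
          (⟨m'.asIdeal, m'.isMaximal.isPrime⟩ : PrimeSpectrum Γ(X, U x))
        exact MaximalSpectrum.ext (congrArg PrimeSpectrum.asIdeal this)⟩
      haveI : IsLocalRing Γ(X, U x) := .of_singleton_maximalSpectrum
      exact IsArtinianRing.isField_of_isReduced_of_isLocalRing _
    let K : X → Type u := fun x => Γ(X, U x)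
    letI instF : ∀ x, Field (K x) := fun x => (hfield x).toField
    letI instA : ∀ x, Algebra k (K x) := fun x => RingHom.toAlgebra (phi k f (U x))
    refine ⟨X, K, instF, instA, ?_, ?_⟩
    · intro x
      obtain ⟨h1, h2⟩ := phi_props k f hunr hlft (U x) (hUaff x)
      have h3 := hfin (U x) (hUaff x)
      haveI : Algebra.FormallyUnramified k (K x) := h1
      haveI : Algebra.FiniteType k (K x) := h2
      exact ⟨h3, Algebra.FormallyUnramified.isSeparable k (K x)⟩
    · let β : ∀ x : X, Spec (CommRingCat.of (K x)) ⟶ X := fun x => (hUaff x).fromSpec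
      have hβ : ∀ x, β x ≫ f = Spec.map (CommRingCat.ofHom (algebraMap k (K x))) :=
        fun x => SpecMap_phi k f (U x) (hUaff x)
      haveI : ∀ x, IsOpenImmersion (β x) :=
        fun x => inferInstanceAs (IsOpenImmersion (hUaff x).fromSpec)
      have hrange' : ∀ x, Set.range (β x) = {x} := hrange
      haveI : IsOpenImmersion (Sigma.desc β) := isOpenImmersion_sigmaDesc _ β (by
        intro x y hxy
        show Disjoint (Set.range (β x)) (Set.range (β y))
        rw [hrange', hrange']
        exact Set.disjoint_singleton.mpr hxy)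
      haveI : Surjective (Sigma.desc β) := ⟨fun x => by
        obtain ⟨p, hp⟩ : x ∈ Set.range (β x) := by rw [hrange']; rfl
        refine ⟨(Sigma.ι (fun x => Spec (CommRingCat.of (K x))) x).base p, ?_⟩
        have h := congrArg (fun q => q.base p) (Sigma.ι_desc β x)
        exact h.trans hp⟩
      haveI : IsIso (Sigma.desc β) :=
        (isIso_iff_isOpenImmersion_and_surjective _).mpr ⟨inferInstance, inferInstance⟩
      refine ⟨(asIso (Sigma.desc β)).symm, ?_⟩
      show inv (Sigma.desc β) ≫ _ = f
      rw [IsIso.inv_comp_eq]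
      apply Sigma.hom_ext
      intro x
      rw [Sigma.ι_desc, Sigma.ι_desc_assoc]
      exact (hβ x).symm
  · rintro ⟨ι, K, instF, instA, hK, e, rfl⟩
    have h1 : ∀ i, FormallyUnramified (Spec.map (CommRingCat.ofHom (algebraMap k (K i)))) := by
      intro i
      haveI := (hK i).2
      rw [HasRingHomProperty.Spec_iff (P := @FormallyUnramified)]
      show (algebraMap k (K i)).FormallyUnramified
      rw [RingHom.formallyUnramified_algebraMap]
      exact Algebra.FormallyUnramified.of_isSeparable k (K i)
    have h2 : ∀ i, LocallyOfFiniteType (Spec.map (CommRingCat.ofHom (algebraMap k (K i)))) := by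
      intro i
      haveI := (hK i).1
      rw [HasRingHomProperty.Spec_iff (P := @LocallyOfFiniteType)]
      show (algebraMap k (K i)).FiniteType
      rw [RingHom.finiteType_algebraMap]
      infer_instance
    have h3 : FormallyUnramified
        (Sigma.desc fun i => Spec.map (CommRingCat.ofHom (algebraMap k (K i)))) :=
      IsZariskiLocalAtSource.sigmaDesc h1
    have h4 : LocallyOfFiniteType
        (Sigma.desc fun i => Spec.map (CommRingCat.ofHom (algebraMap k (K i)))) :=
      IsZariskiLocalAtSource.sigmaDesc h2
    exact ⟨(MorphismProperty.cancel_left_of_respectsIso (P := @FormallyUnramified) e.hom _).mpr h3,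
      (MorphismProperty.cancel_left_of_respectsIso (P := @LocallyOfFiniteType) e.hom _).mpr h4⟩

end Groth.Agent.Helper18.UnramField
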