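import Mathlib
import Groth.Prelude.Def_FlatCA

set_option autoImplicit false
universe u v

namespace Groth.Agent.Helper18

open Submodule

/-- Key lemma: if `p` is minimal over `I` and `x ∈ p` then `s * x ^ n ∈ I` for some `s ∉ p`. -/
theorem exists_mul_pow_mem_of_mem_minimalPrimes {R : Type u} [CommRing R] {I p : Ideal R}
    (hp : p ∈ I.minimalPrimes) {x : R} (hx : x ∈ p) : ∃ s ∉ p, ∃ n : ℕ, s * x ^ n ∈ I := by
  have hpp : p.IsPrime := hp.1.1
  by_contra hcon
  push_neg at hcon
  have hdisj : Disjoint (I : Set R) ((p.primeCompl ⊔ Submonoid.powers x : Submonoid R) : Set R) := by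
    rw [Set.disjoint_left]
    intro z hzI hzT
    obtain ⟨s, hs, t, ⟨n, rfl⟩, rfl⟩ := Submonoid.mem_sup.mp hzT
    exact hcon s hs n hzI
  obtain ⟨q, hq, hIq, hqT⟩ := Ideal.exists_le_prime_disjoint I _ hdisj
  have hqp : q ≤ p := by
    intro y hy
    by_contra hyp
    exact Set.disjoint_left.mp hqT hy (Submonoid.mem_sup_left hyp)
  have hpq : p ≤ q := hp.2 ⟨hq, hIq⟩ hqp
  exact Set.disjoint_left.mp hqT (hpq hx) (Submonoid.mem_sup_right (Submonoid.mem_powers x))

/-- If `p` is minimal over `I` and `I ≤ J ≤ p` then `p` is minimal over `J`. -/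
theorem mem_minimalPrimes_of_le_of_le {R : Type u} [CommRing R] {I J p : Ideal R}
    (hp : p ∈ I.minimalPrimes) (hIJ : I ≤ J) (hJp : J ≤ p) : p ∈ J.minimalPrimes :=
  ⟨⟨hp.1.1, hJp⟩, fun _ hq hqp => hp.2 ⟨hq.1, hIJ.trans hq.2⟩ hqp⟩

/-- existence of a weakly associated prime containing the annihilator of a nonzero element -/
theorem exists_mem_weakAss_of_ne_zero {R : Type u} [CommRing R] {M : Type v} [AddCommGroup M]
    [Module R M] {m : M} (hm : m ≠ 0) :
    ∃ p ∈ FlatCA.weakAss R M, p ∈ (Submodule.span R {m}).annihilator.minimalPrimes := by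
  have hne : (Submodule.span R {m}).annihilator ≠ ⊤ := by
    intro h
    have : (1 : R) ∈ (Submodule.span R {m}).annihilator := by rw [h]; trivial
    rw [Submodule.mem_annihilator_span_singleton, one_smul] at this
    exact hm this
  obtain ⟨p, hp⟩ := Ideal.nonempty_minimalPrimes hne
  exact ⟨p, ⟨m, hp⟩, hp⟩

/-- vanishing of an element of a localized module -/
theorem localizedModule_mk_eq_zero_iff {R : Type u} [CommRing R] (S : Submonoid R) {M : Type v}
    [AddCommGroup M] [Module R M] (m : M) (s : S) :
    LocalizedModule.mk m s = 0 ↔ ∃ u : S, (u : R) • m = 0 := by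
  rw [← LocalizedModule.zero_mk (1 : S), LocalizedModule.mk_eq]
  constructor
  · rintro ⟨u, hu⟩
    refine ⟨u, ?_⟩
    have : u • m = 0 := by simpa using hu
    exact this
  · rintro ⟨u, hu⟩
    refine ⟨u, ?_⟩
    have : u • m = 0 := hu
    simp [this]

/-- the annihilator in `R` of an element of the localized module -/
theorem mem_ann_localizedModule_mk_iff {R : Type u} [CommRing R] (S : Submonoid R) {M : Type v}
    [AddCommGroup M] [Module R M] (m : M) (s : S) (r : R) :
    r ∈ (Submodule.span R {LocalizedModule.mk m s}).annihilator ↔ ∃ u : S, ((u : R) * r) • m = 0 := by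
  rw [Submodule.mem_annihilator_span_singleton, LocalizedModule.smul'_mk,
    localizedModule_mk_eq_zero_iff]
  simp only [mul_smul]

/-- if `S` acts regularly on `M`, annihilators in `R` do not change under localization -/
theorem ann_localizedModule_mk_of_regular {R : Type u} [CommRing R] (S : Submonoid R) {M : Type v}
    [AddCommGroup M] [Module R M] (hS : ∀ s ∈ S, IsSMulRegular M s) (m : M) (s : S) :
    (Submodule.span R {LocalizedModule.mk m s}).annihilator = (Submodule.span R {m}).annihilator := by
  ext r
  rw [mem_ann_localizedModule_mk_iff, Submodule.mem_annihilator_span_singleton]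
  constructor
  · rintro ⟨u, hu⟩
    rw [mul_smul] at hu
    exact (hS u u.2).right_eq_zero_of_smul hu
  · intro h
    exact ⟨1, by simpa using h⟩

/-- the annihilator in `S⁻¹R` of an element of the localized module is the extension of the
annihilator of the numerator -/
theorem ann_localization_mk {R : Type u} [CommRing R] (S : Submonoid R) {M : Type v}
    [AddCommGroup M] [Module R M] (m : M) (s : S) :
    (Submodule.span (Localization S) {LocalizedModule.mk m s}).annihilator =
      Ideal.map (algebraMap R (Localization S)) (Submodule.span R {m}).annihilator := by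
  apply le_antisymm
  · intro z hz
    obtain ⟨⟨a, t⟩, rfl⟩ := IsLocalization.mk'_surjective S z
    change IsLocalization.mk' (Localization S) a t ∈ _ at hz
    rw [Submodule.mem_annihilator_span_singleton, ← Localization.mk_eq_mk',
      LocalizedModule.mk_smul_mk, localizedModule_mk_eq_zero_iff] at hz
    obtain ⟨u, hu⟩ := hz
    have h1 : (u : R) * a ∈ (Submodule.span R {m}).annihilator := by
      rw [Submodule.mem_annihilator_span_singleton, mul_smul]; exact hu
    have h2 : IsLocalization.mk' (Localization S) a t =
        IsLocalization.mk' (Localization S) (1 : R) (u * t) *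
          algebraMap R (Localization S) ((u : R) * a) := by
      rw [mul_comm, IsLocalization.mul_mk'_eq_mk'_of_mul, mul_one, IsLocalization.mk'_eq_iff_eq]
      simp only [Submonoid.coe_mul]
      ring_nf
    change IsLocalization.mk' (Localization S) a t ∈ _
    rw [h2]
    exact Ideal.mul_mem_left _ _ (Ideal.mem_map_of_mem _ h1)
  · rw [Ideal.map_le_iff_le_comap]
    intro a ha
    rw [Submodule.mem_annihilator_span_singleton] at ha
    rw [Ideal.mem_comap, Submodule.mem_annihilator_span_singleton, algebraMap_smul,
      LocalizedModule.smul'_mk, ha, LocalizedModule.zero_mk]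

end Groth.Agent.Helper18
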