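import Mathlib
import Groth.Prelude.Def_MoreMor
import Groth.Agent.Lib.Helper18.WeightingBC

set_option autoImplicit false

namespace Groth.Agent.Helper18.Weighting

open AlgebraicGeometry CategoryTheory Limits IsLocalRing

universe u

lemma finSepDegree_comp {K L M : Type u} [Field K] [Field L] [Field M]
    (a : K →+* L) (e : L →+* M) (he : e.Finite) :
    @Field.finSepDegree K M _ _ (e.comp a).toAlgebra =
      @Field.finSepDegree K L _ _ a.toAlgebra * @Field.finSepDegree L M _ _ e.toAlgebra := by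
  letI := a.toAlgebra
  letI := e.toAlgebra
  letI := (e.comp a).toAlgebra
  haveI : IsScalarTower K L M := IsScalarTower.of_algebraMap_eq (fun x => rfl)
  haveI : Module.Finite L M := he
  haveI : Algebra.IsAlgebraic L M := Algebra.IsAlgebraic.of_finite L M
  exact (Field.finSepDegree_mul_finSepDegree_of_isAlgebraic K L M).symm

lemma sdeg_tower {U V Z : Scheme.{u}} (ρ : U ⟶ V) (σ : V ⟶ Z) [LocallyOfFiniteType ρ]
    [LocallyQuasiFinite ρ] (x : U) :
    sdeg (ρ ≫ σ) x = sdeg σ (ρ x) * sdeg ρ x := by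
  unfold sdeg
  rw [Scheme.residueFieldMap_comp ρ σ x]
  have hfin := EtLoc.finite_residueFieldMap_of_quasiFiniteAt ρ x (ρ.quasiFiniteAt x)
  exact finSepDegree_comp (σ.residueFieldMap (ρ x)).hom (ρ.residueFieldMap x).hom hfin

lemma fibreIntegral_tower {U V Z : Scheme.{u}} (ρ : U ⟶ V) (σ : V ⟶ Z)
    [LocallyOfFiniteType ρ] [LocallyQuasiFinite ρ] (a : U → ℤ) (b : V → ℤ) (n : Z)
    (hσ : (σ ⁻¹' {n}).Finite) (hρ : ∀ v, (ρ ⁻¹' {v}).Finite) :
    MoreMor.fibreIntegral (ρ ≫ σ) (fun x => a x * b (ρ x)) n =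
      MoreMor.fibreIntegral σ (fun v => b v * MoreMor.fibreIntegral ρ a v) n := by
  classical
  have hU : ((ρ ≫ σ) ⁻¹' {n}).Finite := by
    have : (ρ ≫ σ) ⁻¹' {n} = ⋃ v ∈ σ ⁻¹' {n}, ρ ⁻¹' {v} := by
      ext x
      simp only [Set.mem_preimage, Set.mem_singleton_iff, Set.mem_iUnion, exists_prop]
      constructor
      · intro h
        exact ⟨ρ x, h, rfl⟩
      · rintro ⟨v, hv, hx⟩
        rw [← hv, ← hx]
        rfl
    rw [this]
    exact hσ.biUnion (fun v _ => hρ v)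
  rw [fibreIntegral_eq_sum _ _ n hU, fibreIntegral_eq_sum _ _ n hσ]
  have hmaps : ∀ x ∈ hU.toFinset, ρ x ∈ hσ.toFinset := by
    intro x hx
    simp only [Set.Finite.mem_toFinset, Set.mem_preimage, Set.mem_singleton_iff] at hx ⊢
    exact hx
  rw [← Finset.sum_fiberwise_of_maps_to hmaps]
  refine Finset.sum_congr rfl fun v hv => ?_
  have hv' : σ v = n := by
    simpa only [Set.Finite.mem_toFinset, Set.mem_preimage, Set.mem_singleton_iff] using hv
  rw [fibreIntegral_eq_sum ρ a v (hρ v)]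
  have hset : hU.toFinset.filter (fun x => ρ x = v) = (hρ v).toFinset := by
    ext x
    simp only [Finset.mem_filter, Set.Finite.mem_toFinset, Set.mem_preimage,
      Set.mem_singleton_iff]
    constructor
    · exact fun h => h.2
    · intro h
      refine ⟨?_, h⟩
      show σ (ρ x) = n
      rw [h, hv']
  rw [hset, Finset.mul_sum, Finset.sum_mul]
  refine Finset.sum_congr rfl fun x hx => ?_
  have hx' : ρ x = v := by
    simpa only [Set.Finite.mem_toFinset, Set.mem_preimage, Set.mem_singleton_iff] using hx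
  rw [sdeg_tower, hx']
  push_cast
  ring

/-- The canonical map `X ×_Z Z' ⟶ Y ×_Z Z'`. -/
noncomputable def kappa {X Y Z Z' : Scheme.{u}} (f : X ⟶ Y) (g : Y ⟶ Z) (γ : Z' ⟶ Z) :
    pullback (f ≫ g) γ ⟶ pullback g γ :=
  pullback.lift (pullback.fst (f ≫ g) γ ≫ f) (pullback.snd (f ≫ g) γ)
    (by rw [Category.assoc, pullback.condition])

lemma kappa_fst {X Y Z Z' : Scheme.{u}} (f : X ⟶ Y) (g : Y ⟶ Z) (γ : Z' ⟶ Z) :
    kappa f g γ ≫ pullback.fst g γ = pullback.fst (f ≫ g) γ ≫ f := pullback.lift_fst _ _ _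

lemma kappa_snd {X Y Z Z' : Scheme.{u}} (f : X ⟶ Y) (g : Y ⟶ Z) (γ : Z' ⟶ Z) :
    kappa f g γ ≫ pullback.snd g γ = pullback.snd (f ≫ g) γ := pullback.lift_snd _ _ _

lemma isPullback_kappa {X Y Z Z' : Scheme.{u}} (f : X ⟶ Y) (g : Y ⟶ Z) (γ : Z' ⟶ Z) :
    IsPullback (pullback.fst (f ≫ g) γ) (kappa f g γ) f (pullback.fst g γ) := by
  refine IsPullback.of_bot ?_ (kappa_fst f g γ).symm (IsPullback.of_hasPullback g γ)
  rw [kappa_snd]
  exact IsPullback.of_hasPullback (f ≫ g) γ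

theorem comp_final {X Y Z : Scheme.{u}} (f : X ⟶ Y) (g : Y ⟶ Z) [LocallyQuasiFinite f]
    [LocallyOfFiniteType f] (wf : X → ℤ) (wg : Y → ℤ) (hf : MoreMor.IsWeighting f wf)
    (hg : MoreMor.IsWeighting g wg)
    {Z₁ : Scheme.{u}} (b : Z₁ ⟶ Z) [Etale b] (T : (pullback g b).Opens)
    [IsFinite (T.ι ≫ pullback.snd g b)]
    {Z' U : Scheme.{u}} (β : Z' ⟶ Z₁) (π : U ⟶ Z') [IsFinite π] (p : U ⟶ X)
    (comm : p ≫ f ≫ g = π ≫ β ≫ b) [IsOpenImmersion (pullback.lift p π comm)]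
    (z' : Z') (c : U ⟶ pullback g b) (hc1 : c ≫ pullback.fst g b = p ≫ f)
    (hc2 : c ≫ pullback.snd g b = π ≫ β) (hcT : ∀ x, c x ∈ T)
    (hTuniq : ∀ t t' : ↑(pullback g b), t ∈ T → t' ∈ T → pullback.snd g b t = β z' →
      pullback.snd g b t' = β z' → t = t')
    (hTs : ∀ t : ↑(pullback g b), t ∈ T → pullback.snd g b t = β z' →
      sdeg (pullback.snd g b) t = 1) :
    LocConstAt (MoreMor.fibreIntegral π (fun x => wf (p x) * wg (f (p x)))) z' := by
  classical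
  obtain ⟨V', jT, q, hjT, hjTq, hqfin, hrange, hlc, huq⟩ := tpiece g wg hg b T β
  haveI := hjT
  haveI := hqfin
  have hψcomm : (p ≫ f) ≫ g = π ≫ β ≫ b := by rw [Category.assoc]; exact comm
  have hψ1 : pullback.lift (p ≫ f) π hψcomm ≫ pullback.fst g (β ≫ b) = p ≫ f :=
    pullback.lift_fst _ _ _
  have hψ2 : pullback.lift (p ≫ f) π hψcomm ≫ pullback.snd g (β ≫ b) = π :=
    pullback.lift_snd _ _ _
  have hψc : pullback.lift (p ≫ f) π hψcomm ≫ EtLoc.qmap g b β = c := by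
    apply pullback.hom_ext
    · rw [Category.assoc, EtLoc.qmap_fst, hψ1, hc1]
    · rw [Category.assoc, EtLoc.qmap_snd, ← Category.assoc, hψ2, hc2]
  have hψrange : Set.range (pullback.lift (p ≫ f) π hψcomm) ⊆ Set.range jT := by
    rintro _ ⟨x, rfl⟩
    rw [hrange]
    show EtLoc.qmap g b β (pullback.lift (p ≫ f) π hψcomm x) ∈ (T : Set ↑(pullback g b))
    rw [← Scheme.Hom.comp_apply, hψc]
    exact hcT x
  obtain ⟨ρ, hρ⟩ : ∃ ρ : U ⟶ V', ρ ≫ jT = pullback.lift (p ≫ f) π hψcomm :=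
    ⟨IsOpenImmersion.lift jT _ hψrange, IsOpenImmersion.lift_fac _ _ _⟩
  have hρq : ρ ≫ q = π := by rw [← hjTq, ← Category.assoc, hρ, hψ2]
  haveI : IsFinite (ρ ≫ q) := by rw [hρq]; infer_instance
  haveI : IsFinite ρ := IsFinite.of_comp ρ q
  have commV : p ≫ f = ρ ≫ jT ≫ pullback.fst g (β ≫ b) := by
    rw [← Category.assoc, hρ, hψ1]
  -- the open immersion into `X ×_Y V'`
  have hι₁comm : pullback.fst f (jT ≫ pullback.fst g (β ≫ b)) ≫ f ≫ g =
      (pullback.snd f (jT ≫ pullback.fst g (β ≫ b)) ≫ q) ≫ β ≫ b := by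
    rw [← Category.assoc, pullback.condition]
    simp only [Category.assoc]
    rw [pullback.condition, ← hjTq]
    simp only [Category.assoc]
  have hsqι : IsPullback
      (pullback.lift (pullback.fst f (jT ≫ pullback.fst g (β ≫ b)))
        (pullback.snd f (jT ≫ pullback.fst g (β ≫ b)) ≫ q) hι₁comm)
      (pullback.snd f (jT ≫ pullback.fst g (β ≫ b))) (kappa f g (β ≫ b)) jT := by
    refine IsPullback.of_right ?_ ?_ (isPullback_kappa f g (β ≫ b))
    · rw [pullback.lift_fst]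
      exact IsPullback.of_hasPullback f (jT ≫ pullback.fst g (β ≫ b))
    · apply pullback.hom_ext
      · rw [Category.assoc, kappa_fst, pullback.lift_fst_assoc, Category.assoc,
          pullback.condition]
      · rw [Category.assoc, kappa_snd, pullback.lift_snd, Category.assoc, hjTq]
  haveI hι₁open : IsOpenImmersion
      (pullback.lift (pullback.fst f (jT ≫ pullback.fst g (β ≫ b)))
        (pullback.snd f (jT ≫ pullback.fst g (β ≫ b)) ≫ q) hι₁comm) :=
    MorphismProperty.of_isPullback (P := @IsOpenImmersion) hsqι.flip inferInstance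
  haveI : IsOpenImmersion (pullback.lift p ρ commV) := by
    have hcomp : pullback.lift p ρ commV ≫
        pullback.lift (pullback.fst f (jT ≫ pullback.fst g (β ≫ b)))
          (pullback.snd f (jT ≫ pullback.fst g (β ≫ b)) ≫ q) hι₁comm =
        pullback.lift p π comm := by
      apply pullback.hom_ext
      · rw [Category.assoc, pullback.lift_fst, pullback.lift_fst, pullback.lift_fst]
      · rw [Category.assoc, pullback.lift_snd, pullback.lift_snd_assoc, pullback.lift_snd, hρq]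
    have h1 : IsOpenImmersion (pullback.lift p ρ commV ≫
        pullback.lift (pullback.fst f (jT ≫ pullback.fst g (β ≫ b)))
          (pullback.snd f (jT ≫ pullback.fst g (β ≫ b)) ≫ q) hι₁comm) := by
      rw [hcomp]; infer_instance
    exact MorphismProperty.of_postcomp (W := @IsOpenImmersion) (W' := @IsOpenImmersion) _ _
      hι₁open h1
  have hφ : ∀ y, LocConstAt (MoreMor.fibreIntegral ρ (fun x => wf (p x))) y := fun y =>
    locConst_of_adm f wf hf (jT ≫ pullback.fst g (β ≫ b)) ρ p commV y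
  by_cases hne : ∃ x, π x = z'
  swap
  · exact locConstAt_of_empty_fibre π _ z' (fun x hx => hne ⟨x, hx⟩)
  obtain ⟨u₀, hu₀⟩ := hne
  have hy₀ : q (ρ u₀) = z' := by rw [← Scheme.Hom.comp_apply, hρq, hu₀]
  have hV'uniq : ∀ y, q y = z' → y = ρ u₀ := fun y hy => huq z' hTuniq hTs y (ρ u₀) hy hy₀
  obtain ⟨Nφ, hNφo, hNφy, hNφc⟩ := hφ (ρ u₀)
  have hfinq : ∀ n, (q ⁻¹' {n}).Finite := fun n => q.finite_preimage_singleton n
  have hfinρ : ∀ v, (ρ ⁻¹' {v}).Finite := fun v => ρ.finite_preimage_singleton v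
  obtain ⟨NΨ, hNΨo, hNΨz, hNΨc⟩ := (IsLocallyConstant.iff_exists_open _).mp hlc z'
  have hz2 : z' ∈ (q '' Nφᶜ)ᶜ := by
    rintro ⟨y, hy, hyz⟩
    apply hy
    rw [hV'uniq y hyz]
    exact hNφy
  have hFub : ∀ n, MoreMor.fibreIntegral π (fun x => wf (p x) * wg (f (p x))) n =
      MoreMor.fibreIntegral q (fun v => wg (pullback.fst g (β ≫ b) (jT v)) *
        MoreMor.fibreIntegral ρ (fun x => wf (p x)) v) n := by
    intro n
    have h1 := fibreIntegral_tower ρ q (fun x => wf (p x))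
      (fun v => wg (pullback.fst g (β ≫ b) (jT v))) n (hfinq n) hfinρ
    rw [← h1]
    have hfun : (fun x => wf (p x) * wg (f (p x))) =
        fun x => wf (p x) * wg (pullback.fst g (β ≫ b) (jT (ρ x))) := by
      funext x
      have h2 : (p ≫ f) x = (ρ ≫ jT ≫ pullback.fst g (β ≫ b)) x := by rw [commV]
      exact congrArg (fun y => wf (p x) * wg y) h2
    rw [hfun]
    exact congrArg (fun m => MoreMor.fibreIntegral m
      (fun x => wf (p x) * wg (pullback.fst g (β ≫ b) (jT (ρ x)))) n) hρq.symm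
  have hconst : ∀ n ∈ (q '' Nφᶜ)ᶜ,
      MoreMor.fibreIntegral q (fun v => wg (pullback.fst g (β ≫ b) (jT v)) *
        MoreMor.fibreIntegral ρ (fun x => wf (p x)) v) n =
      MoreMor.fibreIntegral ρ (fun x => wf (p x)) (ρ u₀) *
        MoreMor.fibreIntegral q (fun v => wg (pullback.fst g (β ≫ b) (jT v))) n := by
    intro n hn
    rw [fibreIntegral_eq_sum q _ n (hfinq n), fibreIntegral_eq_sum q _ n (hfinq n),
      Finset.mul_sum]
    refine Finset.sum_congr rfl fun v hv => ?_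
    have hv' : q v = n := by
      simpa only [Set.Finite.mem_toFinset, Set.mem_preimage, Set.mem_singleton_iff] using hv
    have hvN : v ∈ Nφ := by
      by_contra hcon
      exact hn ⟨v, hcon, hv'⟩
    rw [hNφc v hvN]
    ring
  refine ⟨(q '' Nφᶜ)ᶜ ∩ NΨ, ?_, ⟨hz2, hNΨz⟩, ?_⟩
  · exact ((q.isClosedMap _ hNφo.isClosed_compl).isOpen_compl).inter hNΨo
  · rintro n ⟨hn1, hn2⟩
    rw [hFub n, hFub z', hconst n hn1, hconst z' hz2, hNΨc n hn2]

theorem comp_final_shrink {X Y Z : Scheme.{u}} (f : X ⟶ Y) (g : Y ⟶ Z) [LocallyQuasiFinite f]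
    [LocallyOfFiniteType f] (wf : X → ℤ) (wg : Y → ℤ) (hf : MoreMor.IsWeighting f wf)
    (hg : MoreMor.IsWeighting g wg)
    {Z₁ : Scheme.{u}} (b : Z₁ ⟶ Z) [Etale b] (T : (pullback g b).Opens)
    [IsFinite (T.ι ≫ pullback.snd g b)]
    {Z' U : Scheme.{u}} (β : Z' ⟶ Z₁) (π : U ⟶ Z') [IsFinite π] (p : U ⟶ X)
    (comm : p ≫ f ≫ g = π ≫ β ≫ b) [IsOpenImmersion (pullback.lift p π comm)]
    (z' : Z') (c : U ⟶ pullback g b) (hc1 : c ≫ pullback.fst g b = p ≫ f)
    (hc2 : c ≫ pullback.snd g b = π ≫ β) (hcT : ∀ x, π x = z' → c x ∈ T)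
    (hTuniq : ∀ t t' : ↑(pullback g b), t ∈ T → t' ∈ T → pullback.snd g b t = β z' →
      pullback.snd g b t' = β z' → t = t')
    (hTs : ∀ t : ↑(pullback g b), t ∈ T → pullback.snd g b t = β z' →
      sdeg (pullback.snd g b) t = 1) :
    LocConstAt (MoreMor.fibreIntegral π (fun x => wf (p x) * wg (f (p x)))) z' := by
  have hZcl : IsClosed ((c ⁻¹' (T : Set ↑(pullback g b)))ᶜ : Set U) :=
    (T.isOpen.preimage c.continuous).isClosed_compl
  let N₁ : Z'.Opens := ⟨(π '' (c ⁻¹' (T : Set ↑(pullback g b)))ᶜ)ᶜ,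
    (π.isClosedMap _ hZcl).isOpen_compl⟩
  have hz'N : z' ∈ N₁ := by
    rintro ⟨x, hx, hxz⟩
    exact hx (hcT x hxz)
  have key : LocConstAt (MoreMor.fibreIntegral π (fun x => wf (p x) * wg (f (p x))))
      (N₁.ι ⟨z', hz'N⟩) := by
    apply locConstAt_of_baseChange π _ N₁.ι N₁.ι.isOpenEmbedding.isOpenMap ⟨z', hz'N⟩
    have comm1 : (pullback.fst π N₁.ι ≫ p) ≫ f ≫ g = pullback.snd π N₁.ι ≫ N₁.ι ≫ β ≫ b := by
      rw [Category.assoc, comm, ← Category.assoc, pullback.condition, Category.assoc]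
    haveI hopen1 := adm_baseChange (f ≫ g) (β ≫ b) π p comm N₁.ι comm1
    have hγ : N₁.ι ≫ β ≫ b = (N₁.ι ≫ β) ≫ b := (Category.assoc _ _ _).symm
    have comm1' : (pullback.fst π N₁.ι ≫ p) ≫ f ≫ g =
        pullback.snd π N₁.ι ≫ (N₁.ι ≫ β) ≫ b := by
      rw [comm1, hγ]
    haveI hopen1' := adm_congr (f ≫ g) hγ (pullback.snd π N₁.ι) (pullback.fst π N₁.ι ≫ p)
      comm1 comm1'
    refine comp_final f g wf wg hf hg b T (N₁.ι ≫ β) (pullback.snd π N₁.ι)
      (pullback.fst π N₁.ι ≫ p) comm1' ⟨z', hz'N⟩ (pullback.fst π N₁.ι ≫ c) ?_ ?_ ?_ hTuniq hTs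
    · rw [Category.assoc, hc1, Category.assoc]
    · rw [Category.assoc, hc2, ← Category.assoc, pullback.condition, Category.assoc]
    · intro x
      by_contra hcon
      have h1 : π (pullback.fst π N₁.ι x) ∈ N₁ := by
        rw [← Scheme.Hom.comp_apply, pullback.condition]
        exact (pullback.snd π N₁.ι x).2
      exact h1 ⟨pullback.fst π N₁.ι x, hcon, rfl⟩
  exact key

theorem etale_local_structure'' {X Y : Scheme.{u}} (f : X ⟶ Y) [LocallyQuasiFinite f]
    [LocallyOfFiniteType f] [IsSeparated f] (hfin : ∀ y : Y, (f ⁻¹' {y}).Finite) (y₀ : Y) :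
    ∃ (V : Scheme.{u}) (g : V ⟶ Y) (v₀ : V), Etale g ∧ g v₀ = y₀ ∧
      ∃ (K : Type) (_ : Fintype K) (O : K → (pullback f g).Opens),
        (∀ k, IsFinite ((O k).ι ≫ pullback.snd f g)) ∧
        (∀ k l, k ≠ l → ∀ p, p ∈ O k → p ∈ O l → False) ∧
        (∀ p : ↑(pullback f g), pullback.snd f g p = v₀ → ∃ k, p ∈ O k) ∧
        (∀ k (p p' : ↑(pullback f g)), p ∈ O k → p' ∈ O k → pullback.snd f g p = v₀ →
          pullback.snd f g p' = v₀ → p = p') ∧
        (∀ k (p : ↑(pullback f g)), p ∈ O k → pullback.snd f g p = v₀ →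
          sdeg (pullback.snd f g) p = 1) := by
  classical
  haveI : Finite {x : X // f x = y₀} := (hfin y₀).to_subtype
  obtain ⟨n, ⟨e⟩⟩ := Finite.exists_equiv_fin {x : X // f x = y₀}
  let x : Fin n → X := fun i => (e.symm i).1
  have hx : ∀ i, f (x i) = y₀ := fun i => (e.symm i).2
  have hxinj : Function.Injective x := fun i i' h => e.symm.injective (Subtype.ext h)
  have hxsurj : ∀ z : X, f z = y₀ → ∃ i, z = x i := fun z hz => ⟨e ⟨z, hz⟩, by simp [x]⟩
  obtain ⟨V, g, v₀, hg, hgv, m, O₀, pt, hprop, hinj, hall⟩ :=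
    EtLoc.pi_core f y₀ x hx (fun i => f.quasiFiniteAt (x i))
  haveI := hg
  refine ⟨V, g, v₀, hg, hgv, (Σ i : Fin n, Fin (m i)), inferInstance, ?_⟩
  let A : (Σ i : Fin n, Fin (m i)) → (pullback f g).Opens := fun k => O₀ k.1 k.2
  let q : (Σ i : Fin n, Fin (m i)) → ↑(pullback f g) := fun k => pt k.1 k.2
  have hqA : ∀ k, q k ∈ A k := fun k => (hprop k.1 k.2).1
  have hAfin : ∀ k, IsFinite ((A k).ι ≫ pullback.snd f g) := fun k => (hprop k.1 k.2).2.1
  have hqv : ∀ k, pullback.snd f g (q k) = v₀ := fun k => (hprop k.1 k.2).2.2.1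
  have huniq : ∀ k (p : ↑(pullback f g)), p ∈ A k → pullback.snd f g p = v₀ → p = q k :=
    fun k => (hprop k.1 k.2).2.2.2.1
  have hqx : ∀ k, pullback.fst f g (q k) = x k.1 := fun k => (hprop k.1 k.2).2.2.2.2.2
  have hqs : ∀ k, sdeg (pullback.snd f g) (q k) = 1 := fun k =>
    sdeg_eq_one _ _ (hprop k.1 k.2).2.2.2.2.1.2
  have hqinj : Function.Injective q := by
    rintro ⟨i, j⟩ ⟨i', j'⟩ h
    have h1 : i = i' := hxinj (by rw [← hqx ⟨i, j⟩, ← hqx ⟨i', j'⟩, h])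
    subst h1
    have h2 : j = j' := hinj i h
    subst h2
    rfl
  have hqnot : ∀ k l, k ≠ l → q k ∉ A l := fun k l hkl hmem =>
    hkl (hqinj (huniq l (q k) hmem (hqv k)))
  have hAcl : ∀ k, IsClosed (A k : Set ↑(pullback f g)) := fun k => by
    haveI := hAfin k
    exact isClosed_of_isFinite_opens (pullback.snd f g) (A k)
  have hBcl : ∀ k : (Σ i : Fin n, Fin (m i)),
      IsClosed (⋃ l ∈ {l | l ≠ k}, (A l : Set ↑(pullback f g))) := fun k =>
    Set.Finite.isClosed_biUnion (Set.toFinite _) (fun l _ => hAcl l)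
  let O : (Σ i : Fin n, Fin (m i)) → (pullback f g).Opens := fun k =>
    A k ⊓ ⟨(⋃ l ∈ {l | l ≠ k}, (A l : Set ↑(pullback f g)))ᶜ, (hBcl k).isOpen_compl⟩
  have hOmem : ∀ k p, p ∈ O k ↔ p ∈ A k ∧ ∀ l, l ≠ k → p ∉ A l := by
    intro k p
    change (p ∈ A k ∧ p ∈ (⋃ l ∈ {l | l ≠ k}, (A l : Set ↑(pullback f g)))ᶜ) ↔ _
    simp
  refine ⟨O, ?_, ?_, ?_, ?_, ?_⟩
  · intro k
    haveI := hAfin k
    refine isFinite_of_le_of_isClosed (pullback.snd f g) (A k) (O k) inf_le_left ?_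
    have : (O k : Set ↑(pullback f g)) =
        (A k : Set _) ∩ (⋃ l ∈ {l | l ≠ k}, (A l : Set ↑(pullback f g)))ᶜ := rfl
    rw [this]
    exact (hAcl k).inter (isOpen_biUnion (fun l _ => (A l).isOpen)).isClosed_compl
  · intro k l hkl p hpk hpl
    exact ((hOmem l p).mp hpl).2 k hkl ((hOmem k p).mp hpk).1
  · intro p hp
    have h1 : f (pullback.fst f g p) = y₀ := by
      rw [← Scheme.Hom.comp_apply, pullback.condition, Scheme.Hom.comp_apply, hp, hgv]
    obtain ⟨i, hi⟩ := hxsurj _ h1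
    obtain ⟨j, hj⟩ := hall p i hp hi
    refine ⟨⟨i, j⟩, (hOmem _ p).mpr ⟨?_, ?_⟩⟩
    · rw [hj]; exact hqA ⟨i, j⟩
    · intro l hl; rw [hj]; exact hqnot ⟨i, j⟩ l (Ne.symm hl)
  · intro k p p' hp hp' hpv hpv'
    rw [huniq k p ((hOmem k p).mp hp).1 hpv, huniq k p' ((hOmem k p').mp hp').1 hpv']
  · intro k p hp hpv
    rw [huniq k p ((hOmem k p).mp hp).1 hpv]
    exact hqs k

theorem locConst_comp_single {X Y Z : Scheme.{u}} (f : X ⟶ Y) (g : Y ⟶ Z)
    [LocallyQuasiFinite f] [LocallyOfFiniteType f] [LocallyQuasiFinite g]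
    [LocallyOfFiniteType g] (wf : X → ℤ) (wg : Y → ℤ) (hf : MoreMor.IsWeighting f wf)
    (hg : MoreMor.IsWeighting g wg)
    {Z' U : Scheme.{u}} (γ : Z' ⟶ Z) (π : U ⟶ Z') [IsFinite π] (p : U ⟶ X)
    (comm : p ≫ f ≫ g = π ≫ γ) [IsOpenImmersion (pullback.lift p π comm)]
    (z' : Z') (u₀ : U) (hu₀ : π u₀ = z') (huniq : ∀ x, π x = z' → x = u₀)
    (hs : sdeg π u₀ = 1) :
    LocConstAt (MoreMor.fibreIntegral π (fun x => wf (p x) * wg (f (p x)))) z' := by
  classical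
  have hgy : ∀ _ : Fin 1, g (f (p u₀)) = γ z' := fun _ => by
    have h1 : (p ≫ f ≫ g) u₀ = (π ≫ γ) u₀ := by rw [comm]
    rw [Scheme.Hom.comp_apply (π) γ, hu₀] at h1
    exact h1
  obtain ⟨Z₁, b, z₁, hb, hbz, m, T, tpt, hprop, hinj, hall⟩ :=
    EtLoc.pi_core g (γ z') (fun _ : Fin 1 => f (p u₀)) hgy (fun _ => g.quasiFiniteAt _)
  haveI := hb
  obtain ⟨z₃, hz₃1, hz₃2⟩ :=
    Scheme.Pullback.exists_preimage_pullback (f := γ) (g := b) z' z₁ hbz.symm
  rw [← hz₃1]
  apply locConstAt_of_baseChange π _ (pullback.fst γ b) (pullback.fst γ b).isOpenMap z₃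
  have comm1 : (pullback.fst π (pullback.fst γ b) ≫ p) ≫ f ≫ g =
      pullback.snd π (pullback.fst γ b) ≫ pullback.fst γ b ≫ γ := by
    rw [Category.assoc, comm, ← Category.assoc, pullback.condition, Category.assoc]
  haveI hopen1 := adm_baseChange (f ≫ g) γ π p comm (pullback.fst γ b) comm1
  have hγ : pullback.fst γ b ≫ γ = pullback.snd γ b ≫ b := pullback.condition
  have comm1' : (pullback.fst π (pullback.fst γ b) ≫ p) ≫ f ≫ g =
      pullback.snd π (pullback.fst γ b) ≫ pullback.snd γ b ≫ b := by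
    rw [comm1, hγ]
  haveI hopen1' := adm_congr (f ≫ g) hγ (pullback.snd π (pullback.fst γ b))
    (pullback.fst π (pullback.fst γ b) ≫ p) comm1 comm1'
  have huniq₃ : ∀ x x' : ↑(pullback π (pullback.fst γ b)),
      pullback.snd π (pullback.fst γ b) x = z₃ → pullback.snd π (pullback.fst γ b) x' = z₃ →
      x = x' :=
    unique_point_baseChange π (pullback.snd π (pullback.fst γ b))
      (pullback.fst π (pullback.fst γ b)) (pullback.fst γ b)
      (IsPullback.of_hasPullback π (pullback.fst γ b)) z₃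
      (fun z z' hz hz' => by rw [huniq z (hz.trans hz₃1), huniq z' (hz'.trans hz₃1)])
      (fun z hz => by rw [huniq z (hz.trans hz₃1)]; exact hs)
  have hccomm : ((pullback.fst π (pullback.fst γ b) ≫ p) ≫ f) ≫ g =
      (pullback.snd π (pullback.fst γ b) ≫ pullback.snd γ b) ≫ b := by
    rw [Category.assoc, comm1', Category.assoc]
  have hc1 : pullback.lift ((pullback.fst π (pullback.fst γ b) ≫ p) ≫ f)
      (pullback.snd π (pullback.fst γ b) ≫ pullback.snd γ b) hccomm ≫ pullback.fst g b =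
      (pullback.fst π (pullback.fst γ b) ≫ p) ≫ f := pullback.lift_fst _ _ _
  have hc2 : pullback.lift ((pullback.fst π (pullback.fst γ b) ≫ p) ≫ f)
      (pullback.snd π (pullback.fst γ b) ≫ pullback.snd γ b) hccomm ≫ pullback.snd g b =
      pullback.snd π (pullback.fst γ b) ≫ pullback.snd γ b := pullback.lift_snd _ _ _
  obtain ⟨u₃, hu₃1, hu₃2⟩ :=
    Scheme.Pullback.exists_preimage_pullback (f := π) (g := pullback.fst γ b) u₀ z₃
      (hu₀.trans hz₃1.symm)
  have hcsnd : pullback.snd g b (pullback.lift ((pullback.fst π (pullback.fst γ b) ≫ p) ≫ f)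
      (pullback.snd π (pullback.fst γ b) ≫ pullback.snd γ b) hccomm u₃) = z₁ := by
    rw [← Scheme.Hom.comp_apply, hc2, Scheme.Hom.comp_apply, hu₃2, hz₃2]
  have hcfst : pullback.fst g b (pullback.lift ((pullback.fst π (pullback.fst γ b) ≫ p) ≫ f)
      (pullback.snd π (pullback.fst γ b) ≫ pullback.snd γ b) hccomm u₃) = f (p u₀) := by
    rw [← Scheme.Hom.comp_apply, hc1, ← hu₃1]
    rfl
  obtain ⟨j, hj⟩ := hall _ 0 hcsnd hcfst
  haveI : IsFinite ((T 0 j).ι ≫ pullback.snd g b) := (hprop 0 j).2.1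
  refine comp_final_shrink f g wf wg hf hg b (T 0 j) (pullback.snd γ b)
    (pullback.snd π (pullback.fst γ b)) (pullback.fst π (pullback.fst γ b) ≫ p) comm1' z₃
    _ hc1 hc2 ?_ ?_ ?_
  · intro x hx
    rw [huniq₃ x u₃ hx hu₃2, hj]
    exact (hprop 0 j).1
  · intro t t' ht ht' h1 h2
    rw [(hprop 0 j).2.2.2.1 t ht (h1.trans hz₃2), (hprop 0 j).2.2.2.1 t' ht' (h2.trans hz₃2)]
  · intro t ht h1
    rw [(hprop 0 j).2.2.2.1 t ht (h1.trans hz₃2)]
    exact sdeg_eq_one _ _ (hprop 0 j).2.2.2.2.1.2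

theorem locConst_comp {X Y Z : Scheme.{u}} (f : X ⟶ Y) (g : Y ⟶ Z)
    [LocallyQuasiFinite f] [LocallyOfFiniteType f] [LocallyQuasiFinite g]
    [LocallyOfFiniteType g] (wf : X → ℤ) (wg : Y → ℤ) (hf : MoreMor.IsWeighting f wf)
    (hg : MoreMor.IsWeighting g wg)
    {Z' U : Scheme.{u}} (γ : Z' ⟶ Z) (π : U ⟶ Z') [IsFinite π] (p : U ⟶ X)
    (comm : p ≫ f ≫ g = π ≫ γ) [IsOpenImmersion (pullback.lift p π comm)] (z' : Z') :
    LocConstAt (MoreMor.fibreIntegral π (fun x => wf (p x) * wg (f (p x)))) z' := by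
  classical
  obtain ⟨Z₂, α₂, z₂, hα₂, hα₂z, K, hK, O, hOfin, hOdisj, hOcov, hOuniq, hOs⟩ :=
    etale_local_structure'' π (fun n => π.finite_preimage_singleton n) z'
  haveI := hα₂
  rw [← hα₂z]
  apply locConstAt_of_baseChange π _ α₂ α₂.isOpenMap z₂
  have comm2 : (pullback.fst π α₂ ≫ p) ≫ f ≫ g = pullback.snd π α₂ ≫ α₂ ≫ γ := by
    rw [Category.assoc, comm, ← Category.assoc, pullback.condition, Category.assoc]
  haveI hopen2 := adm_baseChange (f ≫ g) γ π p comm α₂ comm2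
  apply locConstAt_of_pieces (pullback.snd π α₂) _ z₂ O hOdisj hOcov
  intro k
  haveI := hOfin k
  by_cases hne : ∃ x, x ∈ O k ∧ pullback.snd π α₂ x = z₂
  swap
  · apply locConstAt_of_empty_fibre
    rintro ⟨x, hx⟩ hxv
    exact hne ⟨x, hx, hxv⟩
  obtain ⟨u₀, hu₀O, hu₀z⟩ := hne
  have comm3 : ((O k).ι ≫ pullback.fst π α₂ ≫ p) ≫ f ≫ g =
      ((O k).ι ≫ pullback.snd π α₂) ≫ α₂ ≫ γ := by
    rw [Category.assoc, comm2, Category.assoc]
  haveI hopen3 := adm_restrict (f ≫ g) (α₂ ≫ γ) (pullback.snd π α₂)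
    (pullback.fst π α₂ ≫ p) comm2 (O k) comm3
  refine locConst_comp_single f g wf wg hf hg (α₂ ≫ γ) ((O k).ι ≫ pullback.snd π α₂)
    ((O k).ι ≫ pullback.fst π α₂ ≫ p) comm3 z₂ ⟨u₀, hu₀O⟩ hu₀z ?_ ?_
  · intro x hx
    apply Subtype.ext
    exact hOuniq k x.1 u₀ x.2 hu₀O hx hu₀z
  · rw [sdeg_comp_of_isOpenImmersion]
    exact hOs k u₀ hu₀O hu₀z

/-- Composition of weightings (S1422). -/
theorem weighting_comp {X Y Z : Scheme.{u}} (f : X ⟶ Y) (g : Y ⟶ Z)
    [LocallyQuasiFinite f] [LocallyOfFiniteType f] [LocallyQuasiFinite g]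
    [LocallyOfFiniteType g] (wf : X → ℤ) (wg : Y → ℤ) (hf : MoreMor.IsWeighting f wf)
    (hg : MoreMor.IsWeighting g wg) :
    MoreMor.IsWeighting (f ≫ g) (fun x => wf x * wg (f x)) := by
  intro W a _ U hU
  haveI := hU
  rw [IsLocallyConstant.iff_exists_open]
  intro w₀
  have comm : (U.ι ≫ pullback.fst (f ≫ g) a) ≫ f ≫ g = (U.ι ≫ pullback.snd (f ≫ g) a) ≫ a := by
    rw [Category.assoc, pullback.condition, Category.assoc]
  haveI : IsOpenImmersion (pullback.lift (U.ι ≫ pullback.fst (f ≫ g) a)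
      (U.ι ≫ pullback.snd (f ≫ g) a) comm) := by
    have : pullback.lift (U.ι ≫ pullback.fst (f ≫ g) a) (U.ι ≫ pullback.snd (f ≫ g) a) comm =
        U.ι := by
      apply pullback.hom_ext
      · rw [pullback.lift_fst]
      · rw [pullback.lift_snd]
    rw [this]
    infer_instance
  exact locConst_comp f g wf wg hf hg a (U.ι ≫ pullback.snd (f ≫ g) a)
    (U.ι ≫ pullback.fst (f ≫ g) a) comm w₀

end Groth.Agent.Helper18.Weighting
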