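import Mathlib
import Groth.Prelude.Def_MoreMor
import Groth.Agent.Lib.Helper18.WeightingCons

set_option autoImplicit false

namespace Groth.Agent.Helper18.Weighting

open AlgebraicGeometry CategoryTheory Limits IsLocalRing Topology

universe u

/-- Sum over opens which are disjoint and covering on the fibre over `v` only. -/
lemma sum_fibreIntegral_opens_eq' {U V : Scheme.{u}} (π : U ⟶ V) (w : U → ℤ)
    {K : Type*} [Fintype K] (O : K → U.Opens) (v : V)
    (hdisj : ∀ k l, k ≠ l → ∀ p, π p = v → p ∈ O k → p ∈ O l → False)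
    (hfin : (π ⁻¹' {v}).Finite) (hcov : ∀ p, π p = v → ∃ k, p ∈ O k) :
    ∑ k, MoreMor.fibreIntegral ((O k).ι ≫ π) (fun z => w ((O k).ι z)) v =
      MoreMor.fibreIntegral π w v := by
  classical
  rw [fibreIntegral_eq_sum π w v hfin]
  simp_rw [fibreIntegral_opens π w _ v hfin]
  rw [← Finset.sum_biUnion]
  · refine Finset.sum_congr ?_ (fun _ _ => rfl)
    ext p
    simp only [Finset.mem_biUnion, Finset.mem_filter, Finset.mem_univ, true_and,
      Set.Finite.mem_toFinset, Set.mem_preimage, Set.mem_singleton_iff]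
    constructor
    · rintro ⟨k, hk1, _⟩
      exact hk1
    · intro hp
      obtain ⟨k, hk⟩ := hcov p hp
      exact ⟨k, hp, hk⟩
  · intro k _ l _ hkl
    rw [Function.onFun, Finset.disjoint_left]
    intro p hp hp'
    simp only [Finset.mem_filter, Set.Finite.mem_toFinset, Set.mem_preimage,
      Set.mem_singleton_iff] at hp hp'
    exact hdisj k l hkl p hp.1 hp.2 hp'.2

theorem exists_constructible_nbhd_integral {X Y : Scheme.{u}} [IsAffine Y] (f : X ⟶ Y)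
    [LocallyQuasiFinite f] [LocallyOfFinitePresentation f] [QuasiCompact f] [QuasiSeparated f]
    (w : X → ℤ) (hw : MoreMor.IsWeighting f w) (y₀ : Y) :
    ∃ C : Set Y, IsConstructible C ∧ y₀ ∈ C ∧
      ∀ y ∈ C, MoreMor.fibreIntegral f w y = MoreMor.fibreIntegral f w y₀ := by
  classical
  have hfin : ∀ y : Y, (f ⁻¹' {y}).Finite := fun y => f.finite_preimage_singleton y
  haveI : Finite {x : X // f x = y₀} := (hfin y₀).to_subtype
  obtain ⟨n, ⟨e⟩⟩ := Finite.exists_equiv_fin {x : X // f x = y₀}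
  let x : Fin n → X := fun i => (e.symm i).1
  have hx : ∀ i, f (x i) = y₀ := fun i => (e.symm i).2
  have hxinj : Function.Injective x := fun i i' h => e.symm.injective (Subtype.ext h)
  have hxsurj : ∀ z : X, f z = y₀ → ∃ i, z = x i := fun z hz => ⟨e ⟨z, hz⟩, by simp [x]⟩
  obtain ⟨V₁, b, v₁, hb, hbv, m, O₀, pt, hprop, hinj, hall⟩ :=
    EtLoc.pi_core f y₀ x hx (fun i => f.quasiFiniteAt (x i))
  haveI := hb
  let A : (Σ i : Fin n, Fin (m i)) → (pullback f b).Opens := fun k => O₀ k.1 k.2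
  let q : (Σ i : Fin n, Fin (m i)) → ↑(pullback f b) := fun k => pt k.1 k.2
  have hqA : ∀ k, q k ∈ A k := fun k => (hprop k.1 k.2).1
  have hAfin : ∀ k, IsFinite ((A k).ι ≫ pullback.snd f b) := fun k => (hprop k.1 k.2).2.1
  have hqv : ∀ k, pullback.snd f b (q k) = v₁ := fun k => (hprop k.1 k.2).2.2.1
  have huniq : ∀ k (p : ↑(pullback f b)), p ∈ A k → pullback.snd f b p = v₁ → p = q k :=
    fun k => (hprop k.1 k.2).2.2.2.1
  have hqx : ∀ k, pullback.fst f b (q k) = x k.1 := fun k => (hprop k.1 k.2).2.2.2.2.2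
  have hqinj : Function.Injective q := by
    rintro ⟨i, j⟩ ⟨i', j'⟩ h
    have h1 : i = i' := hxinj (by rw [← hqx ⟨i, j⟩, ← hqx ⟨i', j'⟩, h])
    subst h1
    have h2 : j = j' := hinj i h
    subst h2
    rfl
  -- affine open neighbourhood of v₁
  obtain ⟨_, ⟨(V₀ : V₁.Opens), hV₀, rfl⟩, hv₁V₀, -⟩ :=
    V₁.isBasis_affineOpens.exists_subset_of_mem_open (Set.mem_univ v₁) isOpen_univ
  have hV₀' : IsAffineOpen V₀ := hV₀
  haveI : IsAffine (V₀ : Scheme) := hV₀'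
  haveI : QuasiSeparatedSpace ↑(pullback f (V₀.ι ≫ b)) :=
    quasiSeparatedSpace_of_quasiSeparated (pullback.snd f (V₀.ι ≫ b))
  have hpb : IsPullback (pullback.fst f (V₀.ι ≫ b)) (pullback.snd f (V₀.ι ≫ b)) f (V₀.ι ≫ b) :=
    IsPullback.of_hasPullback f (V₀.ι ≫ b)
  have hfin' : ∀ v : ↥(V₀ : Scheme.{u}), ((pullback.snd f (V₀.ι ≫ b)) ⁻¹' {v}).Finite :=
    finite_fibre_baseChange f hfin _ _ _ hpb
  have hbc : ∀ v : ↥(V₀ : Scheme.{u}), MoreMor.fibreIntegral (pullback.snd f (V₀.ι ≫ b))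
      (w ∘ ⇑(pullback.fst f (V₀.ι ≫ b))) v = MoreMor.fibreIntegral f w ((V₀.ι ≫ b) v) :=
    fun v => fibreIntegral_baseChange f hfin _ _ _ hpb w v
  -- the pieces
  let O : (Σ i : Fin n, Fin (m i)) → (pullback f (V₀.ι ≫ b)).Opens :=
    fun k => EtLoc.qmap f b V₀.ι ⁻¹ᵁ A k
  have hOfin : ∀ k, IsFinite ((O k).ι ≫ pullback.snd f (V₀.ι ≫ b)) := fun k =>
    MorphismProperty.of_isPullback (P := @IsFinite)
      ((isPullback_morphismRestrict (EtLoc.qmap f b V₀.ι) (A k)).paste_vert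
        (EtLoc.isPullback_qmap f b V₀.ι)) (hAfin k)
  have hb₀v : (V₀.ι ≫ b) (⟨v₁, hv₁V₀⟩ : ↥(V₀ : Scheme.{u})) = y₀ := hbv
  have hQsnd : ∀ p : ↑(pullback f (V₀.ι ≫ b)),
      pullback.snd f (V₀.ι ≫ b) p = (⟨v₁, hv₁V₀⟩ : ↥(V₀ : Scheme.{u})) →
      pullback.snd f b (EtLoc.qmap f b V₀.ι p) = v₁ := by
    intro p hp
    rw [EtLoc.qmap_snd_apply, hp]
    rfl
  have hF1 : ∀ p : ↑(pullback f (V₀.ι ≫ b)),
      pullback.snd f (V₀.ι ≫ b) p = (⟨v₁, hv₁V₀⟩ : ↥(V₀ : Scheme.{u})) → ∃ k, p ∈ O k := by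
    intro p hp
    have h1 := hQsnd p hp
    have h2 : f (pullback.fst f b (EtLoc.qmap f b V₀.ι p)) = y₀ := by
      rw [← Scheme.Hom.comp_apply, pullback.condition, Scheme.Hom.comp_apply, h1, hbv]
    obtain ⟨i, hi⟩ := hxsurj _ h2
    obtain ⟨j, hj⟩ := hall (EtLoc.qmap f b V₀.ι p) i h1 hi
    refine ⟨⟨i, j⟩, ?_⟩
    show EtLoc.qmap f b V₀.ι p ∈ A ⟨i, j⟩
    rw [hj]
    exact hqA ⟨i, j⟩
  have hF2 : ∀ k l (p : ↑(pullback f (V₀.ι ≫ b))),
      pullback.snd f (V₀.ι ≫ b) p = (⟨v₁, hv₁V₀⟩ : ↥(V₀ : Scheme.{u})) → p ∈ O k → p ∈ O l → k = l := by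
    intro k l p hp hk hl
    have h1 := hQsnd p hp
    have ek := huniq k (EtLoc.qmap f b V₀.ι p) hk h1
    have el := huniq l (EtLoc.qmap f b V₀.ι p) hl h1
    exact hqinj (ek.symm.trans el)
  -- constructibility of the pieces
  have hOaff : ∀ k, IsAffineOpen (O k) := fun k => by
    haveI := hOfin k
    exact isAffine_of_isAffineHom ((O k).ι ≫ pullback.snd f (V₀.ι ≫ b))
  have hOcpt : ∀ k, IsCompact (O k : Set ↑(pullback f (V₀.ι ≫ b))) := fun k => (hOaff k).isCompact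
  have hOcons : ∀ k, IsConstructible (O k : Set ↑(pullback f (V₀.ι ≫ b))) :=
    fun k => (hOcpt k).isConstructible (O k).isOpen
  let D : (Σ i : Fin n, Fin (m i)) → (Σ i : Fin n, Fin (m i)) → Set ↑(pullback f (V₀.ι ≫ b)) :=
    fun k l => if k = l then ∅ else (O k : Set ↑(pullback f (V₀.ι ≫ b))) ∩ (O l : Set _)
  have hD : ∀ k l, IsConstructible (D k l) := by
    intro k l
    by_cases hkl : k = l
    · simp only [D, if_pos hkl]
      exact IsConstructible.empty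
    · simp only [D, if_neg hkl]
      exact ((hOcpt k).inter_of_isOpen (hOcpt l) (O k).isOpen (O l).isOpen).isConstructible
        ((O k).isOpen.inter (O l).isOpen)
  let B : Set ↑(pullback f (V₀.ι ≫ b)) :=
    (⋃ k, (O k : Set ↑(pullback f (V₀.ι ≫ b))))ᶜ ∪ ⋃ k, ⋃ l, D k l
  have hB : IsConstructible B :=
    (IsConstructible.iUnion hOcons).compl.union
      (IsConstructible.iUnion fun k => IsConstructible.iUnion fun l => hD k l)
  have hv₀B : (⟨v₁, hv₁V₀⟩ : ↥(V₀ : Scheme.{u})) ∉ (pullback.snd f (V₀.ι ≫ b)) '' B := by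
    rintro ⟨p, hpB, hp⟩
    rcases hpB with hpB | hpB
    · obtain ⟨k, hk⟩ := hF1 p hp
      exact hpB (Set.mem_iUnion.mpr ⟨k, hk⟩)
    · obtain ⟨k, hk⟩ := Set.mem_iUnion.mp hpB
      obtain ⟨l, hl⟩ := Set.mem_iUnion.mp hk
      by_cases hkl : k = l
      · simp only [D, if_pos hkl] at hl
        exact hl
      · simp only [D, if_neg hkl] at hl
        exact hkl (hF2 k l p hp hl.1 hl.2)
  -- the locally constant pieces
  let Φ : (Σ i : Fin n, Fin (m i)) → ↥(V₀ : Scheme.{u}) → ℤ := fun k =>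
    MoreMor.fibreIntegral ((O k).ι ≫ pullback.snd f (V₀.ι ≫ b))
      (fun u => w (pullback.fst f (V₀.ι ≫ b) ((O k).ι u)))
  have hΦ : ∀ k, IsLocallyConstant (Φ k) := fun k => hw V₀ (V₀.ι ≫ b) (O k) (hOfin k)
  let N : Set ↥(V₀ : Scheme.{u}) := ⋂ k, (Φ k ⁻¹' {Φ k (⟨v₁, hv₁V₀⟩ : ↥(V₀ : Scheme.{u}))})
  have hN : IsConstructible N := IsConstructible.iInter fun k =>
    ((hΦ k).isClopen_fiber _).1.isCompact.isConstructible ((hΦ k).isClopen_fiber _).2
  have hC' : IsConstructible (N ∩ ((pullback.snd f (V₀.ι ≫ b)) '' B)ᶜ) :=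
    hN.inter (Scheme.Hom.isConstructible_image (pullback.snd f (V₀.ι ≫ b)) hB).compl
  have hsum : ∀ v : ↥(V₀ : Scheme.{u}), v ∉ (pullback.snd f (V₀.ι ≫ b)) '' B →
      ∑ k, Φ k v = MoreMor.fibreIntegral (pullback.snd f (V₀.ι ≫ b))
        (w ∘ ⇑(pullback.fst f (V₀.ι ≫ b))) v := by
    intro v hv
    refine sum_fibreIntegral_opens_eq' (pullback.snd f (V₀.ι ≫ b))
      (w ∘ ⇑(pullback.fst f (V₀.ι ≫ b))) O v ?_ (hfin' v) ?_
    · intro k l hkl p hp hk hl
      apply hv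
      refine ⟨p, Or.inr (Set.mem_iUnion.mpr ⟨k, Set.mem_iUnion.mpr ⟨l, ?_⟩⟩), hp⟩
      simp only [D, if_neg hkl]
      exact ⟨hk, hl⟩
    · intro p hp
      by_contra hcon
      apply hv
      refine ⟨p, Or.inl ?_, hp⟩
      intro hmem
      obtain ⟨k, hk⟩ := Set.mem_iUnion.mp hmem
      exact hcon ⟨k, hk⟩
  haveI : IsAffineHom (V₀.ι ≫ b) := isAffineHom_of_isAffine _
  refine ⟨(V₀.ι ≫ b) '' (N ∩ ((pullback.snd f (V₀.ι ≫ b)) '' B)ᶜ),
    Scheme.Hom.isConstructible_image (V₀.ι ≫ b) hC', ?_, ?_⟩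
  · refine ⟨⟨v₁, hv₁V₀⟩, ⟨?_, hv₀B⟩, hb₀v⟩
    exact Set.mem_iInter.mpr (fun k => rfl)
  · rintro _ ⟨v, ⟨hvN, hvB⟩, rfl⟩
    rw [← hb₀v, ← hbc v, ← hbc, ← hsum v hvB, ← hsum _ hv₀B]
    refine Finset.sum_congr rfl (fun k _ => ?_)
    exact Set.mem_iInter.mp hvN k

/-- Level sets of the fibre integral of a weighting over an affine base are constructible. -/
theorem isConstructible_levelSet_integral {X Y : Scheme.{u}} [IsAffine Y] (f : X ⟶ Y)
    [LocallyQuasiFinite f] [LocallyOfFinitePresentation f] [QuasiCompact f] [QuasiSeparated f]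
    (w : X → ℤ) (hw : MoreMor.IsWeighting f w) (n : ℤ) :
    IsConstructible {y : Y | MoreMor.fibreIntegral f w y = n} := by
  apply ConsTop.isConstructible_of_forall_exists
  intro a
  obtain ⟨C, hC, haC, hCw⟩ := exists_constructible_nbhd_integral f w hw a
  refine ⟨C, hC, haC, ?_, ?_⟩
  · intro ha z hz
    show MoreMor.fibreIntegral f w z = n
    rw [hCw z hz]
    exact ha
  · intro ha z hz hzn
    apply ha
    show MoreMor.fibreIntegral f w a = n
    rw [← hCw z hz]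
    exact hzn

/-- Level sets of the fibre integral of a weighting are locally constructible (S1424). -/
theorem isLocallyConstructible_levelSet_integral {X Y : Scheme.{u}} (f : X ⟶ Y)
    [LocallyQuasiFinite f] [LocallyOfFinitePresentation f] [QuasiCompact f] [QuasiSeparated f]
    (w : X → ℤ) (hw : MoreMor.IsWeighting f w) (n : ℤ) :
    IsLocallyConstructible {y : Y | MoreMor.fibreIntegral f w y = n} := by
  intro y
  obtain ⟨_, ⟨(Y₀ : Y.Opens), hY₀, rfl⟩, hyY₀, -⟩ :=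
    Y.isBasis_affineOpens.exists_subset_of_mem_open (Set.mem_univ y) isOpen_univ
  have hY₀' : IsAffineOpen Y₀ := hY₀
  haveI : IsAffine (Y₀ : Scheme) := hY₀'
  have hpb : IsPullback (f ⁻¹ᵁ Y₀).ι (f ∣_ Y₀) f Y₀.ι := (isPullback_morphismRestrict f Y₀).flip
  haveI : LocallyQuasiFinite (f ∣_ Y₀) :=
    MorphismProperty.of_isPullback (P := @LocallyQuasiFinite) hpb inferInstance
  haveI : LocallyOfFinitePresentation (f ∣_ Y₀) :=
    MorphismProperty.of_isPullback (P := @LocallyOfFinitePresentation) hpb inferInstance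
  haveI : QuasiCompact (f ∣_ Y₀) :=
    MorphismProperty.of_isPullback (P := @QuasiCompact) hpb inferInstance
  haveI : QuasiSeparated (f ∣_ Y₀) :=
    MorphismProperty.of_isPullback (P := @QuasiSeparated) hpb inferInstance
  have hfin : ∀ y : Y, (f ⁻¹' {y}).Finite := fun y => f.finite_preimage_singleton y
  have hw₀ := weighting_baseChange f w hw (f ∣_ Y₀) (f ⁻¹ᵁ Y₀).ι Y₀.ι hpb
  have hc := isConstructible_levelSet_integral (f ∣_ Y₀) (w ∘ ⇑(f ⁻¹ᵁ Y₀).ι) hw₀ n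
  have hbc : ∀ z : ↥(Y₀ : Scheme.{u}), MoreMor.fibreIntegral (f ∣_ Y₀) (w ∘ ⇑(f ⁻¹ᵁ Y₀).ι) z =
      MoreMor.fibreIntegral f w (Y₀.ι z) :=
    fun z => fibreIntegral_baseChange f hfin _ _ _ hpb w z
  have hset : {z : ↥(Y₀ : Scheme.{u}) | MoreMor.fibreIntegral f w (Y₀.ι z) = n} =
      {z | MoreMor.fibreIntegral (f ∣_ Y₀) (w ∘ ⇑(f ⁻¹ᵁ Y₀).ι) z = n} := by
    ext z
    show (_ = n) ↔ (_ = n)
    rw [hbc z]
  have hc' : IsConstructible {z : ↥(Y₀ : Scheme.{u}) | MoreMor.fibreIntegral f w (Y₀.ι z) = n} := by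
    rw [hset]
    exact hc
  exact ⟨(Y₀ : Set Y), Y₀.isOpen.mem_nhds hyY₀, Y₀.isOpen, hc'⟩

end Groth.Agent.Helper18.Weighting
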