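import Mathlib
import Groth.Prelude
import Groth.Agent.Lib.Helper26.LocSpread
import Groth.Agent.Lib.Helper18.EtLoc10

set_option autoImplicit false

namespace Groth.Agent.Helper18.ZarTriv

open AlgebraicGeometry CategoryTheory Limits IsLocalRing

universe u

/-- An etale algebra over `A` has a point with values in the local ring `A_p` through any prime
over `p`, when `A_p` is an algebraically closed field. -/
lemma exists_point_of_etale (A : Type u) [CommRing A] (p : Ideal A) [p.IsPrime]
    (K : Type u) [Field K] [Algebra A K] [IsLocalization.AtPrime K p] [IsAlgClosed K]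
    (B : Type u) [CommRing B] [Algebra A B] [Algebra.Etale A B]
    (q : Ideal B) [q.IsPrime] (hq : q.comap (algebraMap A B) = p) :
    ∃ θ : B →ₐ[A] K, RingHom.ker θ.toRingHom = q := by
  have hunits : ∀ y : p.primeCompl, IsUnit (algebraMap A (Localization.AtPrime q) y) := by
    intro y
    rw [IsScalarTower.algebraMap_apply A B (Localization.AtPrime q)]
    have hy : algebraMap A B y ∈ q.primeCompl := by
      intro hmem
      exact y.2 (hq ▸ hmem)
    exact IsLocalization.map_units (Localization.AtPrime q) (⟨algebraMap A B y, hy⟩ : q.primeCompl)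
  letI algK : Algebra K (Localization.AtPrime q) :=
    (IsLocalization.lift (M := p.primeCompl) (S := K) hunits).toAlgebra
  haveI : IsScalarTower A K (Localization.AtPrime q) :=
    IsScalarTower.of_algebraMap_eq (fun a => (IsLocalization.lift_eq hunits a).symm)
  haveI : Algebra.FormallyUnramified B (Localization.AtPrime q) :=
    Algebra.FormallyUnramified.of_isLocalization q.primeCompl
  haveI : Algebra.FormallyUnramified A (Localization.AtPrime q) :=
    Algebra.FormallyUnramified.comp A B _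
  haveI : Algebra.FormallyUnramified K (Localization.AtPrime q) :=
    Algebra.FormallyUnramified.of_restrictScalars A K _
  haveI : Algebra.EssFiniteType A (Localization.AtPrime q) := Algebra.EssFiniteType.comp A B _
  haveI : Algebra.EssFiniteType K (Localization.AtPrime q) := Algebra.EssFiniteType.of_comp A K _
  have hbij := Algebra.FormallyUnramified.bijective_of_isAlgClosed_of_isLocalRing K
    (Localization.AtPrime q)
  let e : K ≃+* Localization.AtPrime q := RingEquiv.ofBijective (algebraMap K _) hbij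
  have he : ∀ c, e c = algebraMap K _ c := fun c => rfl
  refine ⟨{ toRingHom := e.symm.toRingHom.comp (algebraMap B (Localization.AtPrime q)),
            commutes' := ?_ }, ?_⟩
  · intro a
    show e.symm (algebraMap B _ (algebraMap A B a)) = algebraMap A K a
    rw [← IsScalarTower.algebraMap_apply,
      IsScalarTower.algebraMap_apply A K (Localization.AtPrime q), ← he]
    exact e.symm_apply_apply _
  · ext b
    rw [RingHom.mem_ker]
    show e.symm (algebraMap B _ b) = 0 ↔ b ∈ q
    rw [map_eq_zero_iff _ e.symm.injective]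
    constructor
    · intro h0
      rw [← IsLocalization.AtPrime.to_map_mem_maximal_iff (Localization.AtPrime q) q, h0]
      exact zero_mem _
    · intro hb
      have h1 := (IsLocalization.AtPrime.to_map_mem_maximal_iff (Localization.AtPrime q) q b).mpr hb
      by_contra hne
      have hu : IsUnit (e.symm (algebraMap B _ b)) :=
        isUnit_iff_ne_zero.mpr (fun h => hne ((map_eq_zero_iff _ e.symm.injective).mp h))
      have hu' : IsUnit (e (e.symm (algebraMap B (Localization.AtPrime q) b))) := hu.map e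
      rw [e.apply_symm_apply] at hu'
      exact h1 hu'

open Groth.Agent.Helper26.LocSpread in
/-- Spreading out the point of `exists_point_of_etale` to a principal localization. -/
lemma exists_away_point (A : Type u) [CommRing A] (p : Ideal A) [p.IsPrime]
    (K : Type u) [Field K] [Algebra A K] [IsLocalization.AtPrime K p] [IsAlgClosed K]
    (B : Type u) [CommRing B] [Algebra A B] [Algebra.Etale A B]
    (q : Ideal B) [q.IsPrime] (hq : q.comap (algebraMap A B) = p) :
    ∃ (a : A) (_ : a ∉ p) (φ : B →ₐ[A] Localization.Away a) (P' : Ideal (Localization.Away a)),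
      P'.IsPrime ∧ P'.comap (algebraMap A (Localization.Away a)) = p ∧
        P'.comap φ.toRingHom = q := by
  obtain ⟨θ, hθ⟩ := exists_point_of_etale A p K B q hq
  let ε : K ≃ₐ[A] Localization.AtPrime p :=
    IsLocalization.algEquiv p.primeCompl K (Localization.AtPrime p)
  obtain ⟨a, ha, φ, hφ⟩ := exists_lift A p B ((ε : K →ₐ[A] Localization.AtPrime p).comp θ)
  refine ⟨a, ha, φ, (maximalIdeal (Localization.AtPrime p)).comap (toAt A p a ha).toRingHom,
    Ideal.comap_isPrime _ _, ?_, ?_⟩
  · rw [Ideal.comap_comap]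
    have : (toAt A p a ha).toRingHom.comp (algebraMap A (Localization.Away a)) =
        algebraMap A (Localization.AtPrime p) := by
      ext c
      exact (toAt A p a ha).commutes c
    rw [this]
    exact IsLocalization.AtPrime.comap_maximalIdeal (Localization.AtPrime p) p
  · ext b
    rw [Ideal.mem_comap, Ideal.mem_comap, ← hθ, RingHom.mem_ker]
    have h1 : (toAt A p a ha).toRingHom (φ.toRingHom b) = ε (θ b) :=
      DFunLike.congr_fun hφ b
    rw [h1, IsLocalRing.mem_maximalIdeal, mem_nonunits_iff]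
    have h2 : IsUnit (ε (θ b)) ↔ IsUnit (θ b) := MulEquiv.isUnit_map ε.toMulEquiv
    rw [h2, isUnit_iff_ne_zero, not_not]
    rfl

/-- Etale morphisms to a scheme whose local rings are algebraically closed fields are
Zariski-locally trivial. -/
theorem main (X Y : Scheme.{u}) (hX : ∀ x : X, IsField (X.presheaf.stalk x))
    (hX' : ∀ x : X, IsAlgClosed (X.residueField x))
    (f : Y ⟶ X) [Etale f] (y : Y) :
    ∃ (V : X.Opens) (s : (V : Scheme.{u}) ⟶ Y), f y ∈ V ∧ s ≫ f = V.ι ∧ y ∈ Set.range s := by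
  obtain ⟨_, ⟨U₀, (hU₀ : IsAffineOpen U₀), rfl⟩, hxU₀, -⟩ :=
    X.isBasis_affineOpens.exists_subset_of_mem_open (Set.mem_univ (f y)) isOpen_univ
  obtain ⟨_, ⟨W₀, (hW₀ : IsAffineOpen W₀), rfl⟩, hyW₀, hWU⟩ :=
    Y.isBasis_affineOpens.exists_subset_of_mem_open (show y ∈ (f ⁻¹ᵁ U₀ : Set Y) from hxU₀)
      (f ⁻¹ᵁ U₀).2
  have e : W₀ ≤ f ⁻¹ᵁ U₀ := hWU
  letI algAB : Algebra Γ(X, U₀) Γ(Y, W₀) := (f.appLE U₀ W₀ e).hom.toAlgebra
  haveI : Algebra.Etale Γ(X, U₀) Γ(Y, W₀) := Etale.etale_appLE f hU₀ hW₀ e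
  -- the primes
  have hsq := IsAffineOpen.SpecMap_appLE_fromSpec f hU₀ hW₀ e
  have hq : (hW₀.primeIdealOf ⟨y, hyW₀⟩).asIdeal.comap (algebraMap Γ(X, U₀) Γ(Y, W₀)) =
      (hU₀.primeIdealOf ⟨f y, hxU₀⟩).asIdeal := by
    have h1 : hU₀.fromSpec ((Spec.map (f.appLE U₀ W₀ e)) (hW₀.primeIdealOf ⟨y, hyW₀⟩)) =
        hU₀.fromSpec (hU₀.primeIdealOf ⟨f y, hxU₀⟩) := by
      rw [← Scheme.Hom.comp_apply, hsq, Scheme.Hom.comp_apply, hW₀.fromSpec_primeIdealOf,
        hU₀.fromSpec_primeIdealOf]
    have h2 := hU₀.fromSpec.injective h1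
    exact congrArg PrimeSpectrum.asIdeal h2
  -- the field K
  letI algAK : Algebra Γ(X, U₀) (X.residueField (f y)) :=
    (X.evaluation U₀ (f y) hxU₀).hom.toAlgebra
  haveI := hX' (f y)
  haveI hloc : IsLocalization.AtPrime (X.residueField (f y))
      (hU₀.primeIdealOf ⟨f y, hxU₀⟩).asIdeal := by
    letI := TopCat.Presheaf.algebra_section_stalk X.presheaf (⟨f y, hxU₀⟩ : U₀)
    haveI := hU₀.isLocalization_stalk ⟨f y, hxU₀⟩
    have hbij : Function.Bijective (X.residue (f y)).hom := by
      refine ⟨?_, IsLocalRing.residue_surjective⟩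
      rw [RingHom.injective_iff_ker_eq_bot]
      have h1 : RingHom.ker (X.residue (f y)).hom =
          IsLocalRing.maximalIdeal (X.presheaf.stalk (f y)) := IsLocalRing.ker_residue
      rw [h1]
      exact IsLocalRing.isField_iff_maximalIdeal_eq.mp (hX (f y))
    let ε : X.presheaf.stalk (f y) ≃ₐ[Γ(X, U₀)] X.residueField (f y) :=
      AlgEquiv.ofBijective
        { toRingHom := (X.residue (f y)).hom
          commutes' := fun _ => rfl } hbij
    exact IsLocalization.isLocalization_of_algEquiv _ ε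
  obtain ⟨a, ha, φ, P', hP', hP'p, hP'q⟩ := exists_away_point Γ(X, U₀)
    (hU₀.primeIdealOf ⟨f y, hxU₀⟩).asIdeal (X.residueField (f y)) Γ(Y, W₀)
    (hW₀.primeIdealOf ⟨y, hyW₀⟩).asIdeal hq
  -- the open immersion
  haveI : IsOpenImmersion
      (Spec.map (CommRingCat.ofHom (algebraMap Γ(X, U₀) (Localization.Away a)))) :=
    IsOpenImmersion.of_isLocalization a
  have hjP' : (Spec.map (CommRingCat.ofHom (algebraMap Γ(X, U₀) (Localization.Away a))) ≫
      hU₀.fromSpec) ⟨P', hP'⟩ = f y := by
    rw [Scheme.Hom.comp_apply]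
    have : (Spec.map (CommRingCat.ofHom (algebraMap Γ(X, U₀) (Localization.Away a))))
        ⟨P', hP'⟩ = hU₀.primeIdealOf ⟨f y, hxU₀⟩ := PrimeSpectrum.ext hP'p
    rw [this, hU₀.fromSpec_primeIdealOf]
  refine ⟨(Spec.map (CommRingCat.ofHom (algebraMap Γ(X, U₀) (Localization.Away a))) ≫
      hU₀.fromSpec).opensRange,
    (Spec.map (CommRingCat.ofHom (algebraMap Γ(X, U₀) (Localization.Away a))) ≫
      hU₀.fromSpec).isoOpensRange.inv ≫ Spec.map (CommRingCat.ofHom φ.toRingHom) ≫
      hW₀.fromSpec, ⟨⟨P', hP'⟩, hjP'⟩, ?_, ?_⟩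
  · rw [Category.assoc, Category.assoc, ← hsq, ← Category.assoc (Spec.map _), ← Spec.map_comp]
    have : f.appLE U₀ W₀ e ≫ CommRingCat.ofHom φ.toRingHom =
        CommRingCat.ofHom (algebraMap Γ(X, U₀) (Localization.Away a)) := by
      ext c
      exact φ.commutes c
    rw [this, Scheme.Hom.isoOpensRange_inv_comp]
  · refine ⟨(Spec.map (CommRingCat.ofHom (algebraMap Γ(X, U₀) (Localization.Away a))) ≫
      hU₀.fromSpec).isoOpensRange.hom ⟨P', hP'⟩, ?_⟩
    change ((Spec.map (CommRingCat.ofHom (algebraMap Γ(X, U₀) (Localization.Away a))) ≫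
      hU₀.fromSpec).isoOpensRange.inv ≫ Spec.map (CommRingCat.ofHom φ.toRingHom) ≫
      hW₀.fromSpec) ((Spec.map (CommRingCat.ofHom (algebraMap Γ(X, U₀) (Localization.Away a))) ≫
      hU₀.fromSpec).isoOpensRange.hom ⟨P', hP'⟩) = y
    rw [← Scheme.Hom.comp_apply, Iso.hom_inv_id_assoc, Scheme.Hom.comp_apply]
    have : (Spec.map (CommRingCat.ofHom φ.toRingHom)) ⟨P', hP'⟩ =
        hW₀.primeIdealOf ⟨y, hyW₀⟩ := PrimeSpectrum.ext hP'q
    rw [this, hW₀.fromSpec_primeIdealOf]

end Groth.Agent.Helper18.ZarTriv
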